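import Cfsg.Agent.H46.SKit
import Cfsg.Agent.H44.KiA

/-!
# Centralisers in a polycyclic `2`-group, and the Sylow facts
-/

set_option autoImplicit false

namespace Cfsg.Agent.H76.S95Kit

open Subgroup Cfsg.Agent.H44 Cfsg.Agent.H44.Ki Cfsg.Agent.H59 Cfsg.Agent.H46.S95 Cfsg.Agent.H46.WR
open Cfsg.Agent.H43 hiding allL allL_iff anyL anyL_iff
open scoped commutatorElement

section
variable {G : Type*} [Group G] {ν : ℕ → G} {q nq : List ℕ → List ℕ → Bool} {k : ℕ}

/-- A test for the inequality of two words. -/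
def Nrc (ν : ℕ → G) (nq : List ℕ → List ℕ → Bool) : Prop :=
  ∀ l r, nq l r = true → ev ν l ≠ ev ν r

/-- The word `x` fails to commute with a test word of level `j`. -/
noncomputable def deadB (nq : List ℕ → List ℕ → Bool) (lv : List (List (List ℕ))) (j : ℕ)
    (x : List ℕ) : Bool := anyL (fun s => nq (x ++ s) (s ++ x)) (nth [] lv j)

/-- The search through the cosets; the surviving normal forms satisfy `p`. -/
noncomputable def treeB (nq : List ℕ → List ℕ → Bool) (lv : List (List (List ℕ)))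
    (p : List ℕ → Bool) (j : ℕ) : List ℕ → Bool :=
  Nat.rec (motive := fun _ => List ℕ → Bool) (fun x => bO (deadB nq lv 0 x) (p x))
    (fun j ih x => bO (deadB nq lv (j + 1) x) (bA (ih x) (ih (x ++ [j + 1])))) j

/-- The test words of level `j` commute with the letters up to `j`. -/
noncomputable def levB (q : List ℕ → List ℕ → Bool) (lv : List (List (List ℕ))) (k : ℕ) : Bool :=
  allL (fun j => allL (fun s => allL (fun l => q (l :: s) (s ++ [l])) (List.range' 1 j)) (nth [] lv j))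
    (List.range (k + 1))

theorem tree_spec (hq : Orc ν q) (hn : Nrc ν nq) (h : Pc ν k) {lv : List (List (List ℕ))}
    {p : List ℕ → Bool} (h1 : levB q lv k = true) {y : G}
    (hy : ∀ j, ∀ s ∈ nth [] lv j, y * ev ν s = ev ν s * y) :
    ∀ j ≤ k, ∀ x, treeB nq lv p j x = true → (ev ν x)⁻¹ * y ∈ gen ν j →
      ∃ r, p r = true ∧ y = ev ν r := by
  have d : ∀ j ≤ k, ∀ x, deadB nq lv j x = true → (ev ν x)⁻¹ * y ∉ gen ν j := fun j hj x e m => by
    obtain ⟨s, hs, e⟩ := anyL_iff.1 e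
    have c : gen ν j ≤ centralizer {ev ν s} := gen_le.2 fun l l1 l2 => by
      have := hq _ _ (allL_iff.1 (allL_iff.1 (allL_iff.1 h1 j (List.mem_range.2 (by omega))) s hs) l
        (List.mem_range'_1.2 ⟨l1, by omega⟩))
      rwa [ev_cons, ev_append, ev_single, ← mem_centralizer_singleton_iff] at this
    have := mul_mem (mem_centralizer_singleton_iff.2 (hy j s hs)) (inv_mem (c m))
    rw [mul_inv_rev, mul_inv_cancel_left, inv_inv, mem_centralizer_singleton_iff] at this
    exact hn _ _ e (by rwa [ev_append, ev_append])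
  intro j
  induction j with
  | zero =>
    intro hj x e m
    rcases bO_iff.1 (show bO (deadB nq lv 0 x) (p x) = true from e) with e | e
    · exact absurd m (d 0 hj x e)
    · rw [gen_zero, mem_bot, inv_mul_eq_one] at m
      exact ⟨x, e, m.symm⟩
  | succ j ih =>
    intro hj x e m
    rcases bO_iff.1 (show bO (deadB nq lv (j + 1) x)
      (bA (treeB nq lv p j x) (treeB nq lv p j (x ++ [j + 1]))) = true from e) with e | e
    · exact absurd m (d _ hj x e)
    · obtain ⟨e1, e2⟩ := bA_iff.1 e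
      rcases h.two j hj _ m with m | m
      · exact ih (by omega) x e1 m
      · exact ih (by omega) _ e2 (by rwa [ev_append, ev_single, mul_inv_rev, mul_assoc])

theorem cen_tree (hq : Orc ν q) (hn : Nrc ν nq) (h : Pc ν k) {lv : List (List (List ℕ))}
    {p : List ℕ → Bool} (h1 : levB q lv k = true) (h2 : treeB nq lv p k [] = true) {y : G}
    (hm : y ∈ gen ν k) (hy : ∀ j, ∀ s ∈ nth [] lv j, y * ev ν s = ev ν s * y) :
    ∃ r, p r = true ∧ y = ev ν r :=
  tree_spec hq hn h h1 hy k le_rfl [] h2 (by rwa [ev_nil, inv_one, one_mul])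

theorem mem_of_nth {α : Type} {lv : List (List α)} {j : ℕ} {s : α} (h : s ∈ nth [] lv j) :
    s ∈ lv.flatten := by
  induction lv generalizing j with
  | nil => cases j <;> exact h
  | cons a l ih =>
    rw [List.flatten_cons]
    cases j with
    | zero => exact List.mem_append_left _ h
    | succ j => exact List.mem_append_right _ (ih h)

/-- `c` is the commutator of `a` and `b`. -/
noncomputable def cmB (q : List ℕ → List ℕ → Bool) (k : ℕ) (c : List ℕ × List ℕ × List ℕ) : Bool :=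
  lettersIn k c.2.1 && lettersIn k c.2.2 && q (c.1 ++ c.2.2 ++ c.2.1) (c.2.1 ++ c.2.2)

theorem eq_comm_of (hq : Orc ν q) {c a b : List ℕ} (h : q (c ++ b ++ a) (a ++ b) = true) :
    ev ν c = ⁅ev ν a, ev ν b⁆ := by
  have := hq _ _ h
  rw [ev_append, ev_append, ev_append] at this
  rw [commutatorElement_def, ← this]; group

/-- A letter is a commutator in its own centraliser. -/
theorem mem_comm_cent (hq : Orc ν q) {x : ℕ} (a b : List ℕ)
    (h : (q (x :: b ++ a) (a ++ b) && q (a ++ [x]) (x :: a) && q (b ++ [x]) (x :: b)) = true) :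
    ν x ∈ ⁅centralizer {ν x}, centralizer {ν x}⁆ := by
  simp only [Bool.and_eq_true] at h
  have c : ∀ w, q (w ++ [x]) (x :: w) = true → ev ν w ∈ centralizer {ν x} := fun w e => by
    have := hq _ _ e
    rwa [ev_append, ev_single, ev_cons, ← mem_centralizer_singleton_iff] at this
  have := commutator_mem_commutator (c a h.1.2) (c b h.2)
  rwa [← eq_comm_of hq (c := [x]) h.1.1, ev_single] at this

/-- `w.1` is a product of the listed commutators. -/
noncomputable def prB (q : List ℕ → List ℕ → Bool) (CS : List (List ℕ)) (w : List ℕ × List ℕ) : Bool :=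
  q w.1 (w.2.flatMap (nth [] CS))

theorem mem_der (hq : Orc ν q) {CS : List (List ℕ × List ℕ × List ℕ)} {PR : List (List ℕ × List ℕ)}
    (h1 : allL (cmB q k) CS = true) (h2 : allL (prB q (CS.map Prod.fst)) PR = true) {w : List ℕ}
    (hw : w ∈ PR.map Prod.fst) : ev ν w ∈ ⁅gen ν k, gen ν k⁆ := by
  obtain ⟨u, hu, rfl⟩ := List.mem_map.1 hw
  have h3 : ∀ c ∈ CS.map Prod.fst, ev ν c ∈ ⁅gen ν k, gen ν k⁆ := fun c hc => by
    obtain ⟨d, hd, rfl⟩ := List.mem_map.1 hc
    have := allL_iff.1 h1 d hd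
    simp only [cmB, Bool.and_eq_true] at this
    rw [eq_comm_of hq this.2]
    exact commutator_mem_commutator (ev_gen ν this.1.1) (ev_gen ν this.1.2)
  have h4 : ∀ (L : List (List ℕ)), (∀ c ∈ L, ev ν c ∈ ⁅gen ν k, gen ν k⁆) → ∀ i,
      ev ν (nth [] L i) ∈ ⁅gen ν k, gen ν k⁆ := fun L hL i => by
    induction L generalizing i with
    | nil => cases i <;> exact one_mem _
    | cons a l ih =>
      cases i with
      | zero => exact hL a List.mem_cons_self
      | succ i => exact ih (fun c hc => hL c (List.mem_cons_of_mem _ hc)) i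
  rw [hq _ _ (allL_iff.1 h2 u hu), ev_flatMap]
  exact ev_mem fun x _ => h4 _ h3 x

/-- The check for `SylOk`. -/
noncomputable def okB (q nq : List ℕ → List ℕ → Bool) (k : ℕ) (CS : List (List ℕ × List ℕ × List ℕ))
    (PR : List (List ℕ × List ℕ)) (lv lz : List (List (List ℕ))) (z : List ℕ) : Bool :=
  allL (cmB q k) CS && allL (prB q (CS.map Prod.fst)) PR && lv.flatten.all (PR.map Prod.fst).contains &&
    levB q lv k && treeB nq lv (PR.map Prod.fst).contains k [] && lz.flatten.all (lettersIn k) &&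
    levB q lz k && treeB nq lz [[], z].contains k []

theorem sylOk_cert (hq : Orc ν q) (hn : Nrc ν nq) (h : Pc ν k) (CS : List (List ℕ × List ℕ × List ℕ))
    (PR : List (List ℕ × List ℕ)) (lv lz : List (List (List ℕ))) (z : List ℕ)
    (e : okB q nq k CS PR lv lz z = true) : SylOk (gen ν k) := by
  simp only [okB, Bool.and_eq_true] at e
  obtain ⟨⟨⟨⟨⟨⟨⟨e1, e2⟩, e3⟩, e4⟩, e5⟩, e6⟩, e7⟩, e8⟩ := e
  have h3 : gen ν k ⊓ centralizer (⁅gen ν k, gen ν k⁆ : Subgroup G) ≤ ⁅gen ν k, gen ν k⁆ := fun y hy => by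
    obtain ⟨r, hr, rfl⟩ := cen_tree hq hn h e4 e5 hy.1 fun j s hs => (hy.2 _ (mem_der hq e1 e2
      (List.contains_iff_mem.1 (List.all_eq_true.1 e3 s (mem_of_nth hs))))).symm
    exact mem_der hq e1 e2 (List.contains_iff_mem.1 hr)
  refine ⟨⟨ev ν z, fun y hy y1 _ => ?_⟩, fun y hy => h3 ⟨hy.1,
    centralizer_le (SetLike.coe_subset_coe.2 (commutator_le_self _)) hy.2⟩, h3⟩
  obtain ⟨r, hr, rfl⟩ := cen_tree hq hn h e7 e8 hy.1 fun j s hs =>
    (hy.2 _ (ev_gen ν (List.all_eq_true.1 e6 s (mem_of_nth hs)))).symm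
  simp only [List.contains_iff_mem, List.mem_cons, List.not_mem_nil, or_false] at hr
  rcases hr with rfl | rfl
  exacts [absurd rfl y1, rfl]

theorem sylOk_equiv {T : Subgroup G} (f : G ≃* G) (h : SylOk T) : SylOk (T.map f.toMonoidHom) := by
  have c : ∀ (H : Subgroup G) x, x ∈ T.map f.toMonoidHom ⊓ centralizer (H.map f.toMonoidHom : Subgroup G) →
      ∃ y ∈ T ⊓ centralizer (H : Set G), f y = x := by
    rintro H _ ⟨⟨y, hy, rfl⟩, hc⟩
    exact ⟨y, ⟨hy, fun g hg => f.injective (by simpa using hc _ ⟨g, hg, rfl⟩)⟩, rfl⟩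
  obtain ⟨⟨z, h1⟩, h2, h3⟩ := h
  refine ⟨⟨f z, fun x hx x1 x2 => ?_⟩, fun x hx => ?_, fun x hx => ?_⟩
  · obtain ⟨y, hy, rfl⟩ := c T x hx
    rw [h1 y hy (fun e => x1 (by rw [e, map_one])) (f.injective (by rw [map_mul, x2, map_one]))]
  · obtain ⟨y, hy, rfl⟩ := c T x hx
    rw [← map_commutator]
    exact ⟨y, h2 hy, rfl⟩
  · rw [← map_commutator] at hx ⊢
    obtain ⟨y, hy, rfl⟩ := c _ x hx
    exact ⟨y, h3 hy, rfl⟩

theorem nrc {D : MD} {Γ : Subgroup (Equiv.Perm (Fin D.n))} {ν : ℕ → Γ} (h : D.Ok Γ.subtype ν) :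
    Nrc ν D.neW := fun _ _ => h.ne

end

variable {Γ : Type} [Group Γ] [Finite Γ]

theorem sylF_of {T : Subgroup Γ} {k : ℕ} (hT : Nat.card T = 2 ^ k) (hG : ¬ 2 ^ (k + 1) ∣ Nat.card Γ)
    (ok : SylOk T) : SylF Γ (2 ^ k) := by
  have := Fact.mk Nat.prime_two
  have h1 : IsPGroup 2 T := IsPGroup.of_card hT
  have h2 : ¬ 2 ∣ T.index := fun h => hG (by
    rw [← T.card_mul_index, hT, pow_succ]; exact mul_dvd_mul_left _ h)
  have key : ∀ P : Subgroup Γ, IsPGroup 2 P → ∃ g : Γ, P ≤ T.map (MulAut.conj g).toMonoidHom := fun P hP => by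
    obtain ⟨S, hS⟩ := hP.exists_le_sylow
    obtain ⟨g, hg⟩ := MulAction.exists_smul_eq Γ (h1.toSylow h2) S
    exact ⟨g, hS.trans (by rw [← hg]; rfl)⟩
  have cd : ∀ g : Γ, Nat.card (T.map (MulAut.conj g).toMonoidHom) = 2 ^ k := fun g => by
    rw [card_map_of_injective (MulAut.conj g).injective, hT]
  refine ⟨fun P hP => ?_, fun P hP e => ?_, T, h1, hT⟩ <;> obtain ⟨g, hg⟩ := key P hP
  · exact cd g ▸ card_le_of_le hg
  · rw [eq_of_le_of_card_ge hg (by rw [cd, e])]
    exact sylOk_equiv _ ok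

theorem card_Cz {a b : Γ} (h : IsConj a b) : Nat.card (Cz a) = Nat.card (Cz b) := by
  obtain ⟨g, rfl⟩ := isConj_iff.1 h
  refine Nat.card_congr ((MulAut.conj g).toEquiv.subtypeEquiv fun x => ?_)
  simp only [mem_centralizer_singleton_iff]
  rw [← (MulAut.conj g).injective.eq_iff, map_mul, map_mul]; rfl

theorem innF_of {z b : Γ} (h : Cls z b) {k : ℕ} (hz : 2 ^ k ∣ Nat.card (Cz z))
    (hb : 2 ^ k ∣ Nat.card (Cz b)) : InnF Γ (2 ^ k) := fun a ha => by
  have := Fact.mk Nat.prime_two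
  have h1 : 2 ^ k ∣ Nat.card (Cz a) := by
    by_cases e : a = 1
    · exact hz.trans (card_dvd_of_le fun x _ => by simp [e, mem_centralizer_singleton_iff])
    · exact (h a ha e).elim (fun c => card_Cz c ▸ hz) fun c => card_Cz c ▸ hb
  obtain ⟨P, hP⟩ := Sylow.exists_subgroup_card_pow_prime 2 h1
  have h2 : Nat.card (P.map (Cz a).subtype) = 2 ^ k := by
    rw [card_map_of_injective (subtype_injective _), hP]
  exact ⟨_, map_subtype_le P, IsPGroup.of_card h2, h2.ge⟩

omit [Finite Γ] in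
theorem cm_of {z b : Γ} (h : Cls z b) (hz : z ∈ ⁅Cz z, Cz z⁆) (hb : b ∈ ⁅Cz b, Cz b⁆) (a : Γ)
    (ha : a * a = 1) : a ∈ ⁅Cz a, Cz a⁆ := by
  have c : ∀ x : Γ, x ∈ ⁅Cz x, Cz x⁆ → IsConj x a → a ∈ ⁅Cz a, Cz a⁆ := fun x hx e => by
    obtain ⟨g, rfl⟩ := isConj_iff.1 e
    have m : (Cz x).map (MulAut.conj g).toMonoidHom ≤ Cz (g * x * g⁻¹) := by
      rintro _ ⟨y, hy, rfl⟩
      have := congrArg (MulAut.conj g) (mem_centralizer_singleton_iff.1 hy)
      rw [map_mul, map_mul] at this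
      exact mem_centralizer_singleton_iff.2 this
    refine commutator_mono m m ?_
    rw [← map_commutator]
    exact ⟨x, hx, rfl⟩
  by_cases e : a = 1
  · exact e ▸ one_mem _
  · exact (h a ha e).elim (c z hz) (c b hb)

end Cfsg.Agent.H76.S95Kit
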