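import Cfsg.Agent.H17.KnDef2

/-!
# Groups with a 2-local subgroup of type `E16 : GL(4, 2)`: the Sylow subgroup in case II
-/

set_option autoImplicit false
set_option maxRecDepth 100000

namespace Cfsg.Agent.H76.KnC2b

open Equiv Subgroup Cfsg.Agent.H63 Cfsg.Agent.H17.Kn
open Cfsg.Agent.H11.A16 hiding z2
open Cfsg.Agent.H89.Rec (Syl)

universe u

/-! ### The model -/

theorem ut_mem (K : Subgroup N2) (c : Fin 5 → Fin 5 → ZMod 2)
    (h : ∀ i j, i < j → c i j = 0 ∨ xe i j ∈ K) : ut c ∈ K := by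
  have k : ∀ i j, i < j → xc (c i j) i j ∈ K := fun i j e => by
    unfold xc
    split_ifs with h0
    · exact one_mem _
    · exact (h i j e).resolve_left h0
  unfold ut
  repeat' apply mul_mem
  all_goals exact k _ _ (by decide)

theorem xe_T0 : ∀ i j, i < j → xe i j ∈ T0 := by decide +kernel

theorem z2_T0 : z2 ∈ T0 := by decide +kernel

/-- The positions of the generators of `UU`. -/
def PU (p : Fin 5 × Fin 5) : Prop := p.1 < p.2 ∧ p ≠ (0, 1) ∧ p ≠ (3, 4)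

instance (p : Fin 5 × Fin 5) : Decidable (PU p) := inferInstanceAs (Decidable (_ ∧ _))

theorem xe_UU : ∀ p, PU p → xe p.1 p.2 ∈ UU := by decide +kernel

theorem UU_le : UU ≤ T0 := fun _ h => h.1.1

theorem en_UU {u : N2} (h : u ∈ UU) : en u 0 1 = 0 ∧ en u 3 4 = 0 := by
  constructor
  · have h1 : u.f 1 = u.f 0 := h.1.2.2 0
    change 0 + u.f 1 + (0 + u.f 0) = 0
    rw [h1]
    generalize u.f 0 = a
    revert a; decide
  · have h1 : (u.σ 0).1 / 4 = 0 := h.2 0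
    change bit (u.σ 0) 2 = 0
    revert h1
    generalize u.σ 0 = a
    revert a; decide

theorem UU_gen (m1 : Mod1) (K : Subgroup N2) (h : ∀ p, PU p → xe p.1 p.2 ∈ K) : UU ≤ K :=
  fun u hu => by
    rw [m1.nf u (UU_le hu)]
    refine ut_mem K _ fun i j e => ?_
    by_cases h1 : (i, j) = (0, 1)
    · obtain ⟨rfl, rfl⟩ := Prod.mk.inj h1
      exact Or.inl (en_UU hu).1
    by_cases h2 : (i, j) = (3, 4)
    · obtain ⟨rfl, rfl⟩ := Prod.mk.inj h2
      exact Or.inl (en_UU hu).2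
    exact Or.inr (h (i, j) ⟨e, h1, h2⟩)

theorem mem_UU {u : N2} (h : u ∈ T0) (h1 : u * xe 1 4 = xe 1 4 * u) (h2 : u * xe 0 3 = xe 0 3 * u) :
    u ∈ UU := by
  refine ⟨⟨h, fun p => congrArg (fun a : N2 => a.σ p) h1, fun p => ?_⟩, fun p => ?_⟩
  · have : 0 + u.f (x 1 p) = u.f p + 0 := congrArg (fun a : N2 => a.f p) h1
    simpa using this
  · have : bit p 2 + u.f p = u.f p + bit (u.σ p) 2 := congrArg (fun a : N2 => a.f p) h2
    change (u.σ p).1 / 4 = p.1 / 4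
    revert this
    generalize u.σ p = q
    generalize u.f p = a
    revert p q a; decide

theorem fin8 : ∀ a b c d e f g h : ZMod 2, ∀ u, u = xc a 0 4 * xc b 1 4 * xc c 2 4 * xc 0 3 4 *
    xc d 0 3 * xc e 1 3 * xc f 2 3 * xc g 0 2 * xc h 1 2 * xc 0 0 1 → Commute u (xe 2 3) →
    Commute u (xe 1 2) → gm u * u ≠ xe 1 3 * z2 := by
  intro a b c d e f g h u hu
  subst hu
  revert a b c d e f g h
  decide +kernel

theorem ne_sq (m1 : Mod1) {u : N2} (h : u ∈ UU) (h1 : Commute u (xe 2 3)) (h2 : Commute u (xe 1 2)) :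
    gm u * u ≠ xe 1 3 * z2 := by
  have e := m1.nf u (UU_le h)
  unfold ut at e
  rw [(en_UU h).1, (en_UU h).2] at e
  exact fin8 _ _ _ _ _ _ _ _ u e h1 h2

/-- The exchange of the first two rows. -/
def pA (p : Fin 5 × Fin 5) : Fin 5 × Fin 5 := (![1, 0, 2, 3, 4] p.1, p.2)
/-- The reflection. -/
def pB (p : Fin 5 × Fin 5) : Fin 5 × Fin 5 := (4 - p.2, 4 - p.1)

theorem s12_xe : ∀ p, PU p → s12 * pm2 (xe p.1 p.2) * s12⁻¹ = pm2 (xe (pA p).1 (pA p).2) := by
  decide +kernel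

theorem card7 : ∀ i j : Fin 5, j.1 = i.1 + 1 →
    Fintype.card {p : Fin 5 × Fin 5 // p.1 < p.2 ∧ Commute (xe p.1 p.2) (xe i j)} = 7 := by
  decide +kernel

/-! ### The group `TT` -/

variable {G : Type u} [Group G] {J : N2 → G} {φ : G → Perm Ω} {t : G}

/-- The preimage of a subgroup under `u ↦ g (J u) g⁻¹`. -/
def pre (h : Em J T0) (g : G) (K : Subgroup G) : Subgroup N2 :=
  (K.comap ((MulAut.conj g).toMonoidHom.comp h.hom)).map T0.subtype

theorem mem_pre (h : Em J T0) {g : G} {K : Subgroup G} {u : N2} (hu : u ∈ T0) :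
    u ∈ pre h g K ↔ g * J u * g⁻¹ ∈ K :=
  ⟨fun ⟨_, a, b⟩ => b ▸ a, fun a => ⟨⟨u, hu⟩, a, rfl⟩⟩

theorem nrm [Finite G] (h : Em J T0) {X : Subgroup N2} (hX : X ≤ T0) {g : G}
    (k : ∀ u ∈ X, g * J u * g⁻¹ ∈ im J X) : g ∈ N[im J X] :=
  mem_normalizer_fintype fun a ha => by
    obtain ⟨u, hu, rfl⟩ := (h.mono hX).mem.1 ha
    exact k u hu

theorem tsq (h : Tg J φ t) : ∃ s ∈ T0, t * t = J s :=
  h.sq.elim (fun e => ⟨1, one_mem _, e.trans h.em.one.symm⟩) fun e => ⟨z2, z2_T0, e⟩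

theorem tmul (h : Tg J φ t) {u : N2} (hu : u ∈ T0) : t * J u = J (gm u) * t :=
  mul_inv_eq_iff_eq_mul.1 (h.act u hu)

theorem mem_TT (m3 : Mod3) (h : Tg J φ t) {g : G} (hg : g ∈ TT J t) :
    ∃ u ∈ T0, g = J u ∨ g = J u * t := by
  obtain ⟨s, hs, e⟩ := tsq h
  have gmm := m3.gma.mem
  let K : Subgroup G :=
    { carrier := {g | ∃ u ∈ T0, g = J u ∨ g = J u * t}
      one_mem' := ⟨1, one_mem _, Or.inl h.em.one.symm⟩
      mul_mem' := by
        rintro a b ⟨u, hu, rfl | rfl⟩ ⟨v, hv, rfl | rfl⟩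
        · exact ⟨_, mul_mem hu hv, Or.inl (h.em.mul u hu v hv).symm⟩
        · exact ⟨_, mul_mem hu hv, Or.inr (by rw [h.em.mul u hu v hv, mul_assoc])⟩
        · exact ⟨_, mul_mem hu (gmm v hv), Or.inr (by
            rw [h.em.mul u hu _ (gmm v hv), mul_assoc, tmul h hv, mul_assoc])⟩
        · exact ⟨_, mul_mem (mul_mem hu (gmm v hv)) hs, Or.inl (by
            rw [h.em.mul _ (mul_mem hu (gmm v hv)) s hs, h.em.mul u hu _ (gmm v hv), ← e, mul_assoc,
              ← mul_assoc t, tmul h hv]; group)⟩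
      inv_mem' := by
        rintro a ⟨u, hu, rfl | rfl⟩
        · exact ⟨_, inv_mem hu, Or.inl (h.em.inv hu).symm⟩
        · refine ⟨_, mul_mem (inv_mem hs) (gmm _ (inv_mem hu)), Or.inr ?_⟩
          rw [h.em.mul _ (inv_mem hs) _ (gmm _ (inv_mem hu)), mul_assoc, ← tmul h (inv_mem hu),
            h.em.inv hs, h.em.inv hu, ← e]
          group }
  have : TT J t ≤ K := sup_le (im_le fun u hu => ⟨u, hu, Or.inl rfl⟩)
    (zpowers_le.2 ⟨1, one_mem _, Or.inr (by rw [h.em.one, one_mul])⟩)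
  exact this hg

theorem J_TT {u : N2} (hu : u ∈ T0) : J u ∈ TT J t := mem_sup_left (mem_im hu)

theorem t_TT : t ∈ TT J t := mem_sup_right (mem_zpowers t)

theorem out_sq (m3 : Mod3) (h : Tg J φ t) {u : N2} (hu : u ∈ T0) :
    J u * t * (J u * t) = J (u * gm u) * (t * t) := by
  rw [h.em.mul u hu _ (m3.gma.mem u hu), mul_assoc, ← mul_assoc t, tmul h hu]; group

theorem two_TT (m1 : Mod1) (m3 : Mod3) (h : Tg J φ t) : IsPGroup 2 (TT J t) := by
  have h0 : IsPGroup 2 (im J T0) := h.em.two (IsPGroup.of_card (n := 10) m1.cT0)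
  obtain ⟨s, hs, e⟩ := tsq h
  rintro ⟨g, hg⟩
  obtain ⟨u, hu, rfl | rfl⟩ := mem_TT m3 h hg
  · obtain ⟨k, hk⟩ := h0 ⟨J u, mem_im hu⟩
    exact ⟨k, Subtype.ext (congrArg Subtype.val hk :)⟩
  · obtain ⟨k, hk⟩ := h0 ⟨J (u * gm u) * J s,
      mul_mem (mem_im (mul_mem hu (m3.gma.mem u hu))) (mem_im hs)⟩
    refine ⟨k + 1, Subtype.ext ?_⟩
    have hk' : (J (u * gm u) * J s) ^ 2 ^ k = 1 := congrArg Subtype.val hk
    change (J u * t) ^ 2 ^ (k + 1) = 1
    rw [pow_succ', pow_mul, pow_two, out_sq m3 h hu, e, hk']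

theorem not_out (m1 : Mod1) (m3 : Mod3) (h : Tg J φ t) {n : G} (hn : n ∈ N[TT J t]) {i j : Fin 5}
    (ij : j.1 = i.1 + 1) : n * J (xe i j) * n⁻¹ ∈ im J T0 := by
  have lt : i < j := by rw [Fin.lt_def]; omega
  have hx := xe_T0 i j lt
  have x2 : xe i j * xe i j = 1 := by revert i j; decide +kernel
  obtain ⟨y, hy, e | e⟩ := mem_TT m3 h ((mem_normalizer_iff.1 hn _).1 (J_TT hx))
  · exact e ▸ mem_im hy
  exfalso
  have gy := mul_mem hy (m3.gma.mem y hy)
  have e1 : J (y * gm y) * (t * t) = 1 := by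
    rw [← out_sq m3 h hy, ← e, conj_mul, ← h.em.mul _ hx _ hx, x2, h.em.one, mul_one, mul_inv_cancel]
  have t2 : t * t = 1 := h.sq.resolve_right fun k => m3.gmz y hy (by
    rw [k, ← h.em.mul _ gy _ z2_T0, ← h.em.one] at e1
    have := h.em.inj _ (mul_mem gy z2_T0) _ (one_mem _) e1
    rw [eq_inv_of_mul_eq_one_left this]
    decide +kernel)
  rw [t2, mul_one, ← h.em.one] at e1
  obtain ⟨c, hc, rfl⟩ := m3.gmc y hy (h.em.inj _ gy _ (one_mem _) e1)
  have e2 : (J c)⁻¹ * n * J (xe i j) * ((J c)⁻¹ * n)⁻¹ = t := by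
    have gc := m3.gma.mem c hc
    rw [h.em.mul _ hc _ (inv_mem gc), h.em.inv gc, ← h.act c hc] at e
    calc _ = (J c)⁻¹ * (n * J (xe i j) * n⁻¹) * J c := by group
      _ = t := by rw [e]; group
  have hm : (J c)⁻¹ * n ∈ N[TT J t] := mul_mem (inv_mem (le_normalizer (J_TT hc))) hn
  generalize (J c)⁻¹ * n = m at e2 hm
  let D := {p : Fin 5 × Fin 5 // p.1 < p.2 ∧ Commute (xe p.1 p.2) (xe i j)}
  let cf : (D → ZMod 2) → Fin 5 → Fin 5 → ZMod 2 := fun k a b =>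
    if e : a < b ∧ Commute (xe a b) (xe i j) then k ⟨(a, b), e⟩ else 0
  let F : Bool × ZMod 2 × ZMod 2 × ZMod 2 × ZMod 2 → G := fun q =>
    J (zp q.2.1 * xc q.2.2.1 1 3 * (xc q.2.2.2.1 0 3 * xc q.2.2.2.1 1 4) *
      (xc q.2.2.2.2 0 1 * xc q.2.2.2.2 3 4)) * bif q.1 then t else 1
  have key : ∀ k : D → ZMod 2, ∃ q, m * J (ut (cf k)) * m⁻¹ = F q := fun k => by
    have h1 : ut (cf k) ∈ C1[xe i j] := ut_mem _ _ fun a b e => by
      by_cases e' : Commute (xe a b) (xe i j)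
      · exact Or.inr (mem_centralizer_singleton_iff.2 e'.eq)
      · exact Or.inl (dif_neg fun k => e' k.2)
    have hu := m1.utm (cf k)
    have h2 : t * (m * J (ut (cf k)) * m⁻¹) = m * J (ut (cf k)) * m⁻¹ * t := by
      rw [← e2, conj_mul, conj_mul, ← h.em.mul _ hx _ hu, ← h.em.mul _ hu _ hx,
        mem_centralizer_singleton_iff.1 h1]
    obtain ⟨u, hu', e3⟩ := mem_TT m3 h ((mem_normalizer_iff.1 hm _).1 (J_TT hu))
    have h3 : gm u = u := by
      refine h.em.inj _ (m3.gma.mem u hu') _ hu' (mul_right_cancel (b := t) ?_)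
      rw [← tmul h hu']
      rcases e3 with e3 | e3 <;> rw [e3] at h2
      · exact h2
      · exact mul_right_cancel (b := t) (by rw [mul_assoc, h2])
    obtain ⟨a, b, c, e, rfl⟩ := (m3.gmf u hu').1 h3
    rcases e3 with e3 | e3
    · exact ⟨(false, a, b, c, e), e3.trans (mul_one _).symm⟩
    · exact ⟨(true, a, b, c, e), e3⟩
  choose q hq using key
  have inj : Function.Injective q := fun k k' e => by
    have h1 : J (ut (cf k)) = J (ut (cf k')) := by
      have := hq k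
      rw [e, ← hq k'] at this
      simpa using this
    have h2 := h.em.inj _ (m1.utm _) _ (m1.utm _) h1
    funext p
    have h3 := m1.enu (cf k) p.1.1 p.1.2 p.2.1
    rw [h2, m1.enu _ _ _ p.2.1] at h3
    simpa only [cf, dif_pos p.2] using h3.symm
  have := Fintype.card_le_of_injective q inj
  rw [Fintype.card_fun, card7 i j ij] at this
  simp at this

theorem c2b (hB : Base.{u}) (hq : QchStmt) : C2bStmt.{u} := by
  intro G _ _ J φ t h
  have m1 := hB.m1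
  have m2 := hB.m2
  have m3 := hB.m3
  have kit := hB.kit J φ h.toKi
  by_contra hS
  obtain ⟨S, S2, le, -, n, nS, nT, hn⟩ := hB.gen.up (TT J t) ⊤ (two_TT m1 m3 h) le_top hS
  have k : ∀ i j : Fin 5, j.1 = i.1 + 1 → xe i j ∈ pre h.em n (im J T0) := fun i j e =>
    (mem_pre h.em (xe_T0 i j (by rw [Fin.lt_def]; omega))).2 (not_out m1 m3 h hn e)
  have n0 : n ∈ N[im J T0] := nrm h.em le_rfl fun u hu => (mem_pre h.em hu).1
    (m2.gT0 _ (k 0 1 rfl) (k 1 2 rfl) (k 2 3 rfl) (k 3 4 rfl) hu)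
  obtain ⟨α, hα, a⟩ := h.em.au n0
  have QT : QQ ≤ T0 := m2.le.2.1
  have nQ : n ∈ N[im J QQ] := nrm h.em QT fun u hu => by
    rw [a u (QT hu)]; exact mem_im (hq α hα u hu)
  have l0 : im J T0 ≤ TT J t := le_sup_left
  rcases h.nq n nQ with k | k
  · exact nT (l0 (kit.nT2 S S2 (l0.trans le) n nS k))
  · have k1 : t * n ∈ NA J := kit.mna _ fun b hb => by
      obtain ⟨c, hc, r⟩ := k b hb
      exact ⟨gm c, m3.gmA.2 c hc, r.trans (h.act c (QT (m2.le.2.2.2.2.1 hc)))⟩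
    have k2 := l0 (kit.nT2 S S2 (l0.trans le) _ (mul_mem (le t_TT) nS) k1)
    exact nT (by simpa using mul_mem (inv_mem t_TT) k2)

/-- `g` permutes the generators of `UU` as `π` does. -/
def Ac (J : N2 → G) (g : G) (π : Fin 5 × Fin 5 → Fin 5 × Fin 5) : Prop :=
  ∀ p, PU p → PU (π p) ∧ R J g (xe p.1 p.2) (xe (π p).1 (π p).2)

theorem Ac.mul {g g' : G} {π π' : Fin 5 × Fin 5 → Fin 5 × Fin 5} (h : Ac J g π) (h' : Ac J g' π') :
    Ac J (g * g') (π ∘ π') := fun p hp =>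
  ⟨(h _ (h' p hp).1).1, (h' p hp).2.trans (h _ (h' p hp).1).2⟩

theorem Ac.inv {g : G} {π : Fin 5 × Fin 5 → Fin 5 × Fin 5} (h : Ac J g π) (e : ∀ p, π (π p) = p) :
    Ac J g⁻¹ π := fun p hp => ⟨(h p hp).1, by
  have := (h _ (h p hp).1).2.symm
  rwa [e] at this⟩

theorem c2s (hB : Base.{u}) : C2sStmt.{u} := by
  intro G _ _ J φ t h hS
  have m1 := hB.m1
  have m2 := hB.m2
  have m3 := hB.m3
  have kit := hB.kit J φ h.toKi
  refine h.sq.resolve_right fun tz => ?_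
  obtain ⟨s, -, -, hs⟩ := kit.real UU UU UU_le UU_le s12 hB.af.s m2.s12m.2.2.2.2
  have pa : ∀ p, PU p → PU (pA p) := by decide
  have pb : ∀ p, PU p → PU (pB p) := by decide
  have pid : ∀ p, PU p →
      ((((((pA ∘ pB) ∘ pA) ∘ pB) ∘ pB) ∘ ((pB ∘ pA) ∘ pB) ∘ pA) ∘ pB) p = p := by decide +kernel
  have pz : ∀ p, PU p → xe 1 3 * z2 * xe p.1 p.2 * (xe 1 3 * z2)⁻¹ = xe p.1 p.2 := by decide +kernel
  have A : Ac J s pA := fun p hp => ⟨pa p hp, hs _ (xe_UU p hp) _ (xe_UU _ (pa p hp)) (s12_xe p hp)⟩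
  have B : Ac J t pB := fun p hp => ⟨pb p hp, by
    have := h.act _ (xe_T0 _ _ hp.1)
    rwa [m3.gmx _ _ hp.1] at this⟩
  have A' := A.inv (by decide)
  have B' := B.inv (by decide)
  have W := ((A.mul B).mul A).mul B'
  have W' := ((B.mul A').mul B').mul A'
  have wz : s * t * s * t⁻¹ * J z2 * (s * t * s * t⁻¹)⁻¹ = J (xe 1 3) := (W (0, 4) (by decide)).2
  have e0 : t * s⁻¹ * t⁻¹ * s⁻¹ = (s * t * s * t⁻¹)⁻¹ := by group
  rw [e0] at W'
  generalize s * t * s * t⁻¹ = w at W W' wz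
  have cen : ∀ g, (∀ p, PU p → g * J (xe p.1 p.2) * g⁻¹ = J (xe p.1 p.2)) → g ∈ C[im J UU] := by
    intro g hg
    have h1 : UU ≤ pre h.em 1 C1[g] := UU_gen m1 _ fun p hp => (mem_pre h.em (xe_T0 _ _ hp.1)).2 (by
      rw [one_mul, inv_one, mul_one, mem_centralizer_singleton_iff]
      exact (mul_inv_eq_iff_eq_mul.1 (hg p hp)).symm)
    have h2 : im J UU ≤ C1[g] := im_le fun u hu => by
      simpa using (mem_pre h.em (UU_le hu)).1 (h1 hu)
    exact mem_centralizer_iff.2 fun a ha => mem_centralizer_singleton_iff.1 (h2 ha)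
  have cC : w * t * w⁻¹ * t⁻¹ ∈ C[im J UU] := cen _ fun p hp => by
    have := ((((W.mul B).mul W').mul B') p hp).2
    rwa [pid p hp] at this
  have e1 : w * t * w⁻¹ * t⁻¹ * (t * (w * t * w⁻¹ * t⁻¹) * t⁻¹) = J (xe 1 3 * z2) := by
    have zz : (J z2)⁻¹ = J z2 := by
      rw [← h.em.inv z2_T0, show z2⁻¹ = z2 by decide +kernel]
    rw [h.em.mul _ (xe_T0 1 3 (by decide)) _ z2_T0, ← wz]
    nth_rewrite 2 [← zz]
    rw [← tz]; group
  generalize w * t * w⁻¹ * t⁻¹ = c at cC e1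
  have nU : TT J t ≤ N[im J UU] := sup_le
    (im_le fun m hm => nrm h.em UU_le fun u hu => by
      rw [h.em.self hm (UU_le hu)]
      exact mem_im (((m2.nrm m).2.2.2.2.2 hm).2.2 u hu))
    (zpowers_le.2 (nrm h.em UU_le fun u hu => (mem_pre h.em (UU_le hu)).1 (UU_gen m1 _
      (fun p hp => (mem_pre h.em (xe_T0 _ _ hp.1)).2 (by
        rw [(B p hp).2]; exact mem_im (xe_UU _ (pb p hp)))) hu)))
  have nC : TT J t ≤ N[C[im J UU]] := fun g hg => mem_normalizer_fintype fun a ha =>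
    mem_centralizer_iff.2 fun b hb => by
      have := mem_centralizer_iff.1 ha _ ((mem_normalizer_iff.1 (inv_mem (nU hg)) b).1 hb)
      calc b * (g * a * g⁻¹) = g * (g⁻¹ * b * g⁻¹⁻¹ * a) * g⁻¹ := by group
        _ = _ := by rw [this]; group
  obtain ⟨S, S2, le, -, -, hZ⟩ := hB.gen.ovs C[im J UU] (TT J t) hS.grp nC
  have eS : S = TT J t := by
    have := hS.toSylow.is_maximal' (Q := S.subgroupOf ⊤) S2.comap_subtype fun a ha => le ha
    refine le_antisymm (fun a ha => ?_) le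
    have h1 : (⟨a, mem_top a⟩ : (⊤ : Subgroup G)) ∈ S.subgroupOf ⊤ := ha
    rw [this] at h1
    exact h1
  rw [eS] at hZ
  have zU : ∀ a ∈ TT J t ⊓ C[im J UU], ∃ u ∈ UU, a = J u ∧ ∀ v ∈ UU, Commute u v := by
    intro a ha
    obtain ⟨u, hu, rfl | rfl⟩ := mem_TT m3 h ha.1
    · have k : ∀ v ∈ UU, u * v = v * u := fun v hv =>
        h.em.inj _ (mul_mem hu (UU_le hv)) _ (mul_mem (UU_le hv) hu) (by
          rw [h.em.mul _ hu _ (UU_le hv), h.em.mul _ (UU_le hv) _ hu,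
            mem_centralizer_iff.1 ha.2 _ (mem_im hv)])
      exact ⟨u, mem_UU hu (k _ (xe_UU (1, 4) (by decide))) (k _ (xe_UU (0, 3) (by decide))), rfl, k⟩
    · exfalso
      have x12 := xe_T0 1 2 (by decide)
      have x23 := xe_T0 2 3 (by decide)
      have k := mem_centralizer_iff.1 ha.2 _ (mem_im (J := J) (xe_UU (1, 2) (by decide)))
      rw [mul_assoc, tmul h x12, m3.gmx 1 2 (by decide), ← mul_assoc, ← mul_assoc, mul_left_inj,
        ← h.em.mul _ x12 _ hu, show (4 - 2 : Fin 5) = 2 from rfl, show (4 - 1 : Fin 5) = 3 from rfl,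
        ← h.em.mul _ hu _ x23] at k
      have k1 := h.em.inj _ (mul_mem x12 hu) _ (mul_mem hu x23) k
      have k2 := ((m2.nrm u⁻¹).2.2.2.2.2 (inv_mem hu)).1 (xe 1 2) (by decide +kernel)
      rw [inv_inv, mul_assoc, k1, inv_mul_cancel_left] at k2
      exact absurd k2 (by decide +kernel)
  have zU' : J (xe 1 3 * z2) ∈ im J UU := mem_im (by decide +kernel)
  have e2 : t * c * t⁻¹ * c = J (xe 1 3 * z2) := by
    have := mem_centralizer_iff.1 cC _ zU'
    calc _ = c⁻¹ * (c * (t * c * t⁻¹) * c) := by group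
      _ = _ := by rw [e1, this, inv_mul_cancel_left]
  obtain ⟨c0, h0, e3⟩ := hB.gen.csq C[im J UU] _ t c hZ (fun a ha b hb => by
      obtain ⟨u, hu, rfl, -⟩ := zU a ha
      exact mem_centralizer_iff.1 hb _ (mem_im hu)) (nC t_TT) (by
      rw [e2]
      refine ⟨J_TT (by decide +kernel), cen _ fun p hp => ?_⟩
      rw [h.em.self (by decide +kernel) (xe_T0 _ _ hp.1), pz p hp]) cC
  obtain ⟨u, hu, rfl, k⟩ := zU c0 h0
  have u0 := UU_le hu
  rw [e2, h.act u u0, ← h.em.mul _ (m3.gma.mem u u0) _ u0] at e3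
  exact ne_sq m1 hu (k _ (xe_UU (2, 3) (by decide))) (k _ (xe_UU (1, 2) (by decide)))
    (h.em.inj _ (mul_mem (m3.gma.mem u u0) u0) _ (by decide +kernel) e3)

end Cfsg.Agent.H76.KnC2b
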