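import Mathlib
import Cfsg.Agent.H72.ASRA
import Cfsg.Agent.S1910
import Cfsg.Agent.H52.Rel
import Cfsg.Agent.H1.Card

/-! A standard subgroup and a conjugate of its centralizer (project AS, PRE): generic part. -/

set_option autoImplicit false

namespace Cfsg.Agent.H76.AsPre

open Cfsg Subgroup Cfsg.Agent.H8
open scoped Pointwise commutatorElement

universe u

local instance factTwoPre : Fact (Nat.Prime 2) := ⟨Nat.prime_two⟩

variable {G : Type u} [Group G]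

/-- What is used about `A`, `K = C(A)`, `N = N(A)`. -/
structure Std (A K N : Subgroup G) : Prop where
  comm : ∀ a ∈ A, ∀ k ∈ K, a * k = k * a
  disj : ∀ a ∈ A, a ∈ K → a = 1
  te : ∀ s ∈ K, s ≠ 1 → s * s = 1 → ∀ c, c * s * c⁻¹ ∈ K → c ∈ N
  nA : ∀ n ∈ N, ∀ a ∈ A, n * a * n⁻¹ ∈ A
  nK : ∀ n ∈ N, ∀ a ∈ K, n * a * n⁻¹ ∈ K
  out : ∀ m ∈ N, ∀ n ∈ N, ∃ a ∈ A, ∃ k ∈ K, ⁅m, n⁆ = a * k

theorem Std.conj {A K N : Subgroup G} (h : Std A K N) (g : G) :
    Std (MulAut.conj g • A) (MulAut.conj g • K) (MulAut.conj g • N) where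
  comm a ha k hk := by
    have := h.comm _ (mem_conj_smul.1 ha) _ (mem_conj_smul.1 hk)
    calc a * k = g * (g⁻¹ * a * g * (g⁻¹ * k * g)) * g⁻¹ := by group
      _ = k * a := by rw [this]; group
  disj a ha hk := by
    have := h.disj _ (mem_conj_smul.1 ha) (mem_conj_smul.1 hk)
    calc a = g * (g⁻¹ * a * g) * g⁻¹ := by group
      _ = 1 := by rw [this]; group
  te s hs h1 h2 c hc := by
    refine mem_conj_smul.2 (h.te _ (mem_conj_smul.1 hs) (fun e => h1 ?_) ?_ _ ?_)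
    · calc s = g * (g⁻¹ * s * g) * g⁻¹ := by group
        _ = 1 := by rw [e]; group
    · calc g⁻¹ * s * g * (g⁻¹ * s * g) = g⁻¹ * (s * s) * g := by group
        _ = 1 := by rw [h2]; group
    · convert mem_conj_smul.1 hc using 1; group
  nA n hn a ha := by
    refine mem_conj_smul.2 ?_
    convert h.nA _ (mem_conj_smul.1 hn) _ (mem_conj_smul.1 ha) using 1; group
  nK n hn a ha := by
    refine mem_conj_smul.2 ?_
    convert h.nK _ (mem_conj_smul.1 hn) _ (mem_conj_smul.1 ha) using 1; group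
  out m hm n hn := by
    obtain ⟨a, ha, k, hk, e⟩ := h.out _ (mem_conj_smul.1 hm) _ (mem_conj_smul.1 hn)
    refine ⟨_, conj_mem_conj_smul.2 ha, _, conj_mem_conj_smul.2 hk, ?_⟩
    rw [commutatorElement_def] at e ⊢
    calc m * n * m⁻¹ * n⁻¹
        = g * (g⁻¹ * m * g * (g⁻¹ * n * g) * (g⁻¹ * m * g)⁻¹ * (g⁻¹ * n * g)⁻¹) * g⁻¹ := by group
      _ = _ := by rw [e]; group

theorem two_zpowers {k : G} (h : k * k = 1) : IsPGroup 2 (zpowers k) := by
  rintro ⟨_, n, rfl⟩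
  refine ⟨1, Subtype.ext ?_⟩
  show (k ^ n) ^ 2 ^ 1 = 1
  rw [pow_one, ← zpow_natCast, ← zpow_mul, mul_comm, zpow_mul, zpow_natCast, pow_two, h, one_zpow]

theorem mem_syl {T K : Subgroup G} (hT : IsSylowIn 2 T K) {k : G} (hk : k ∈ K) (h2 : k * k = 1)
    (hn : k ∈ normalizer (T : Set G)) : k ∈ T :=
  hT.le_of_le_normalizer' (two_zpowers h2) (zpowers_le.2 hk) (zpowers_le.2 hn) (mem_zpowers k)

theorem norm_of_comm {T : Subgroup G} {k : G} (h : ∀ t ∈ T, k * t = t * k) :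
    k ∈ normalizer (T : Set G) :=
  centralizer_le_normalizer _ (mem_centralizer_iff.2 fun t ht => (h t ht).symm)

theorem comm_of_sq {T : Subgroup G} (h : ∀ t ∈ T, t * t = 1) {s t : G} (hs : s ∈ T) (ht : t ∈ T) :
    s * t = t * s := by
  have e := h _ (mul_mem hs ht)
  calc s * t = (s * s) * (s * t) * (t * t) := by rw [h s hs, h t ht]; group
    _ = s * (s * s) * (t * t) * t := by group
    _ = s * t := by rw [h s hs, h t ht]; group
    _ = (t * t) * (s * t) * (s * s) := by rw [h s hs, h t ht]; group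
    _ = t * (t * s * (t * s)) * s := by group
    _ = t * s := by rw [h _ (mul_mem ht hs)]; group

theorem Std.sq {A K N : Subgroup G} (h : Std A K N) {a k : G} (ha : a ∈ A) (hk : k ∈ K)
    (e : a * k * (a * k) = 1) : a * a = 1 ∧ k * k = 1 := by
  have e1 : a * a * (k * k) = 1 := by
    calc a * a * (k * k) = a * (a * k) * k := by simp only [mul_assoc]
      _ = a * k * (a * k) := by nth_rewrite 1 [h.comm a ha k hk]; simp only [mul_assoc]
      _ = 1 := e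
  have e2 : a * a = 1 := h.disj _ (mul_mem ha ha) (by
    rw [eq_inv_of_mul_eq_one_left e1]; exact inv_mem (mul_mem hk hk))
  exact ⟨e2, by rwa [e2, one_mul] at e1⟩

/-- A perfect group generated by involutions and centralizing an elementary Sylow subgroup of
`K` lies in `A`. -/
theorem Std.lp {A K N : Subgroup G} (h : Std A K N) {T C : Subgroup G} (hT : IsSylowIn 2 T K)
    (h1 : ∃ t ∈ T, t ≠ 1) (h2 : ∀ t ∈ T, t * t = 1) (hC : ⁅C, C⁆ = C)
    (hgen : ∀ H : Subgroup G, (∀ c ∈ C, c * c = 1 → c ∈ H) → C ≤ H)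
    (hCT : ∀ c ∈ C, ∀ t ∈ T, c * t = t * c) : C ≤ A := by
  obtain ⟨t, ht, t1⟩ := h1
  have hN : C ≤ N := fun c hc => h.te t (hT.le ht) t1 (h2 t ht) c (by
    rw [hCT c hc t ht, mul_inv_cancel_right]; exact hT.le ht)
  have hAK : ⁅A, K⁆ = ⊥ := H52.commutator_eq_bot_iff_forall.2 h.comm
  have hAT : ⁅A, T⁆ = ⊥ := H52.commutator_eq_bot_iff_forall.2 fun a ha k hk =>
    h.comm a ha k (hT.le hk)
  have h3 : C ≤ A ⊔ K := by
    rw [← hC]
    refine commutator_le.2 fun m hm n hn => ?_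
    obtain ⟨a, ha, k, hk, e⟩ := h.out m (hN hm) n (hN hn)
    rw [e]; exact mul_mem (mem_sup_left ha) (mem_sup_right hk)
  have h4 : C ≤ A ⊔ T := hgen _ fun c hc c2 => by
    obtain ⟨a, ha, k, hk, rfl⟩ := (H52.mem_sup_of_commutator_eq_bot hAK).1 (h3 hc)
    refine mul_mem (mem_sup_left ha) (mem_sup_right (mem_syl hT hk (h.sq ha hk c2).2
      (norm_of_comm fun s hs => ?_)))
    have e := hCT _ hc s hs
    rw [← mul_assoc, ← h.comm a ha s (hT.le hs), mul_assoc, mul_assoc] at e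
    exact mul_left_cancel e
  have h5 : ⁅T, T⁆ = ⊥ := H52.commutator_eq_bot_iff_forall.2 fun a ha b hb => comm_of_sq h2 ha hb
  calc C = ⁅C, C⁆ := hC.symm
    _ ≤ ⁅A ⊔ T, A ⊔ T⁆ := commutator_mono h4 h4
    _ = ⁅A, A⁆ := by rw [H52.commutator_sup_sup_of_commute hAT, h5, sup_bot_eq]
    _ ≤ A := commutator_le_self A

/-- A fixed-point-free involution inverts. -/
theorem fpf_inv [Finite G] {H : Subgroup G} {z : G} (hz : z * z = 1)
    (hn : ∀ j ∈ H, z * j * z⁻¹ ∈ H) (hf : ∀ j ∈ H, j * z = z * j → j = 1) :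
    ∀ j ∈ H, z * j * z⁻¹ = j⁻¹ := by
  let φ : H → H := fun j => ⟨(j : G)⁻¹ * (z * j * z⁻¹), mul_mem (inv_mem j.2) (hn _ j.2)⟩
  have hφ : Function.Injective φ := fun a b e => by
    have e1 : (a : G)⁻¹ * (z * a * z⁻¹) = (b : G)⁻¹ * (z * b * z⁻¹) := congrArg Subtype.val e
    have e2 := hf (b * a⁻¹) (mul_mem b.2 (inv_mem a.2)) (by
      calc (b : G) * (a : G)⁻¹ * z = b * ((a : G)⁻¹ * (z * a * z⁻¹)) * z * (a : G)⁻¹ := by group
        _ = z * ((b : G) * (a : G)⁻¹) := by rw [e1]; group)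
    exact Subtype.ext (mul_inv_eq_one.1 e2).symm
  intro j hj
  obtain ⟨a, ha⟩ := Finite.surjective_of_injective hφ ⟨j, hj⟩
  have e : (a : G)⁻¹ * (z * a * z⁻¹) = j := congrArg Subtype.val ha
  have hz' : z⁻¹ = z := inv_eq_of_mul_eq_one_right hz
  rw [← e]
  calc z * ((a : G)⁻¹ * (z * a * z⁻¹)) * z⁻¹ = z * (a : G)⁻¹ * z * a * (z * z)⁻¹ := by group
    _ = z * (a : G)⁻¹ * z⁻¹ * a := by rw [hz, hz']; group
    _ = _ := by group

/-- The four-group `Z`, its centralizer `C1` in `A` and the perfect group `C0`. -/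
structure Ty (A K N Z C0 C1 : Subgroup G) : Prop where
  C1A : C1 ≤ A
  ZC : Z ≤ C1
  C01 : C0 ≤ C1
  cen : ∀ z ∈ Z, z ≠ 1 → ∀ a ∈ A, a ∈ C1 ↔ a * z = z * a
  sq : ∀ z ∈ Z, z * z = 1
  four : ∃ x ∈ Z, ∃ y ∈ Z, x ≠ 1 ∧ y ≠ 1 ∧ x * y ≠ 1
  card : Nat.card Z ≤ 4
  perf : ⁅C0, C0⁆ = C0
  gen : ∀ H : Subgroup G, (∀ c ∈ C0, c * c = 1 → c ∈ H) → C0 ≤ H
  cc : ∀ n ∈ N, (∀ c ∈ C0, n * c = c * n) → (∃ m : ℕ, n ^ 2 ^ m = 1) →
    ∃ z ∈ Z, ∃ k ∈ K, n = z * k

theorem Ty.le {A K N Z C0 C1 K' N' A' : Subgroup G} (h : Std A K N) (h' : Std A' K' N')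
    (hZ : Ty A K N Z C0 C1) {a k : G} (ha : a ∈ Z) (a1 : a ≠ 1) (hk : k ∈ K) (hu : a * k ∈ K')
    (u2 : a * k * (a * k) = 1) : C1 ≤ N' := fun c hc => by
  have aA := hZ.C1A (hZ.ZC ha)
  refine h'.te _ hu (fun e => a1 (h.disj a aA ?_)) u2 c ?_
  · rw [eq_inv_of_mul_eq_one_left e]; exact inv_mem hk
  · rw [← mul_assoc, (hZ.cen a ha a1 c (hZ.C1A hc)).1 hc, mul_assoc a, h.comm c (hZ.C1A hc) k hk,
      ← mul_assoc, mul_inv_cancel_right]
    exact hu

/-- Step 3: a Sylow subgroup of `K' ∩ N` centralizes `C0`. -/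
theorem step3 [Finite G] {A K N Z C0 C1 K' N' A' T : Subgroup G} (h : Std A K N)
    (h' : Std A' K' N') (hAN : A ≤ N) (hZ : Ty A K N Z C0 C1) {a k : G} (ha : a ∈ Z) (a1 : a ≠ 1)
    (hk : k ∈ K) (u2 : a * k * (a * k) = 1) (hT : IsSylowIn 2 T (K' ⊓ N)) (hu : a * k ∈ T)
    (hJ : ∀ x ∈ C1, x ∈ K' → x ∈ Z) : ∀ c ∈ C0, ∀ t ∈ T, c * t = t * c := by
  have hC := hZ.le h h' ha a1 hk (hT.le hu).1 u2
  have hK'N : ∀ x ∈ K', ∀ y ∈ K', x * y * x⁻¹ ∈ K' := fun x hx y hy =>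
    mul_mem (mul_mem hx hy) (inv_mem hx)
  have c1 : ∀ c ∈ C1, ∀ t ∈ T, ⁅c, t⁆ ∈ A ⊓ K' := fun c hc t ht => by
    refine mem_inf.2 ⟨?_, K'.mul_mem (h'.nK c (hC hc) t (hT.le ht).1) (K'.inv_mem (hT.le ht).1)⟩
    have := mul_mem (hZ.C1A hc) (h.nA t (hT.le ht).2 _ (inv_mem (hZ.C1A hc)))
    rw [commutatorElement_def]
    convert this using 1; group
  have c2 : ∀ c ∈ C1, ∀ t ∈ T, ⁅c, t⁆ ∈ Z := by
    by_cases hj : ∃ j ∈ A ⊓ K', j ∈ C1 ∧ j ≠ 1
    · obtain ⟨j, hj, jC, j1⟩ := hj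
      have hn : K' ⊓ N ≤ normalizer ((A ⊓ K' : Subgroup G) : Set G) := fun x hx =>
        mem_normalizer_fintype fun y hy => ⟨h.nA x hx.2 y hy.1, hK'N x hx.1 y hy.2⟩
      have hS := hT.inf_of_le_normalizer hn
      have hne : T ⊓ (A ⊓ K') ≠ ⊥ := fun e => by
        have := hS.card_le (two_zpowers (hZ.sq j (hJ j jC hj.2)))
          (zpowers_le.2 ⟨⟨hj.2, hAN hj.1⟩, hj⟩)
        rw [e, card_bot, Nat.card_zpowers] at this
        exact j1 (orderOf_eq_one_iff.1 (le_antisymm this (orderOf_pos j)))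
      obtain ⟨s, hs, sc, s2⟩ := H52.exists_orderOf_eq_prime_mem_centralizer (p := 2)
        hS.isPGroup hT.isPGroup (H52.le_normalizer_inf le_normalizer (hT.le.trans hn)) hne
      have s1 : s ≠ 1 := fun e => by rw [e, orderOf_one] at s2; omega
      have sC : s ∈ C1 := (hZ.cen a ha a1 s hs.2.1).2 (by
        have e := mem_centralizer_iff.1 sc _ hu
        rw [mul_assoc, ← h.comm s hs.2.1 k hk, ← mul_assoc, ← mul_assoc] at e
        exact (mul_right_cancel e).symm)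
      have sZ := hJ s sC hs.2.2
      intro c hc t ht
      refine hJ _ ?_ (c1 c hc t ht).2
      have : t * c⁻¹ * t⁻¹ ∈ C1 := by
        refine (hZ.cen s sZ s1 _ (h.nA t (hT.le ht).2 _ (inv_mem (hZ.C1A hc)))).2 ?_
        have e1 := mem_centralizer_iff.1 sc _ ht
        have e2 := mem_centralizer_iff.1 sc _ (inv_mem ht)
        have e3 := (hZ.cen s sZ s1 _ (inv_mem (hZ.C1A hc))).1 (inv_mem hc)
        rw [mul_assoc, e2, ← mul_assoc, mul_assoc t, e3, ← mul_assoc, e1]; group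
      rw [commutatorElement_def]
      convert mul_mem hc this using 1; group
    · push Not at hj
      have inv : ∀ z ∈ Z, z ≠ 1 → ∀ j ∈ A ⊓ K', z * j * z⁻¹ = j⁻¹ := fun z hz z1 =>
        fpf_inv (hZ.sq z hz) (fun j hj => ⟨A.mul_mem (A.mul_mem (hZ.C1A (hZ.ZC hz)) hj.1)
          (A.inv_mem (hZ.C1A (hZ.ZC hz))), h'.nK z (hC (hZ.ZC hz)) j hj.2⟩)
          fun j hj' e => hj j hj' ((hZ.cen z hz z1 j hj'.1).2 e)
      obtain ⟨x, hx, y, hy, x1, y1, xy⟩ := hZ.four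
      intro c hc t ht
      have hj' := c1 c hc t ht
      rw [hj _ hj' ((hZ.cen _ (mul_mem hx hy) xy _ hj'.1).2 ?_)]
      · exact one_mem _
      · have e1 := inv y hy y1 _ hj'
        have e2 := inv x hx x1 _ (inv_mem hj')
        rw [inv_inv, ← e1] at e2
        generalize ⁅c, t⁆ = w at e2 ⊢
        calc w * (x * y) = x * (y * w * y⁻¹) * x⁻¹ * (x * y) := by rw [e2]
          _ = _ := by group
  have c3 : ⁅⁅C0, T⁆, C0⁆ = ⊥ := by
    refine le_bot_iff.1 ((commutator_mono (commutator_le.2 fun c hc t ht =>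
      c2 c (hZ.C01 hc) t ht) le_rfl).trans (le_of_eq ?_))
    refine H52.commutator_eq_bot_iff_forall.2 fun z hz c hc => ?_
    by_cases z1 : z = 1
    · rw [z1, one_mul, mul_one]
    · exact ((hZ.cen z hz z1 c (hZ.C1A (hZ.C01 hc))).1 (hZ.C01 hc)).symm
  have c4 := commutator_commutator_eq_bot_of_rotate c3 (by rwa [commutator_comm T])
  rw [hZ.perf] at c4
  exact H52.commutator_eq_bot_iff_forall.1 c4

/-- Steps 2–4. -/
theorem core [Finite G] {A K N Z C0 C1 : Subgroup G} (h : Std A K N)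
    (hte : IsTightlyEmbedded K) (hN : N = normalizer (K : Set G)) (hAN : A ≤ N)
    (hZ : Ty A K N Z C0 C1) {g a k : G} (ha : a ∈ Z) (a1 : a ≠ 1) (hk : k ∈ K)
    (u2 : a * k * (a * k) = 1) (hu : a * k ∈ MulAut.conj g • K)
    (hJ : ∀ x ∈ C1, x ∈ MulAut.conj g • K → x ∈ Z) :
    ∃ R T : Subgroup G, IsSylowIn 2 R K ∧ IsSylowIn 2 T (MulAut.conj g • K) ∧ a * k ∈ T ∧
      k ∈ R ∧ (∀ t ∈ T, ∃ z ∈ Z, ∃ r ∈ R, t = z * r) ∧ (∀ r ∈ R, r * r = 1) ∧ Nat.card R ≤ 4 ∧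
      C0 ≤ MulAut.conj g • A := by
  have h' := h.conj g
  set K' := MulAut.conj g • K with hK'
  have ZA : Z ≤ A := hZ.ZC.trans hZ.C1A
  have hKN : K ≤ N := hN ▸ le_normalizer
  have uK : a * k ∉ K := fun e => a1 (h.disj a (ZA ha) ((K.mul_mem_cancel_right hk).1 e))
  have hg : g ∉ normalizer (K : Set G) := fun e => uK (by
    rwa [hK', mem_normalizer_iff_conj_smul_eq.1 e] at hu)
  have uN : a * k ∈ K' ⊓ N := ⟨hu, mul_mem (hAN (ZA ha)) (hKN hk)⟩
  obtain ⟨T, hT, huT⟩ := exists_isSylowIn_ge (two_zpowers u2) (zpowers_le.2 uN)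
  have huT' : a * k ∈ T := huT (mem_zpowers _)
  have hCT := step3 h h' hAN hZ ha a1 hk u2 hT huT' hJ
  have u1 : a * k ≠ 1 := fun e => uK (e ▸ one_mem K)
  have hT1 : T ≠ ⊥ := fun e => u1 (mem_bot.1 (e ▸ huT'))
  obtain ⟨S, hS, hTS⟩ := exists_isSylowIn_ge (H := K ⊔ T) hT.isPGroup le_sup_right
  have hTN : T ≤ normalizer (K : Set G) := hN ▸ hT.le.trans inf_le_right
  obtain ⟨hTK, -, -, -, ⟨φ⟩⟩ := S1910.result K hte g hg T hT1
    (by rw [map_conj_eq_smul, ← hN]; exact hT.le)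
    ⟨hT.isPGroup, by rw [map_conj_eq_smul, ← hN]; exact hT.not_dvd⟩ S hTS hS.le
    ⟨hS.isPGroup, hS.not_dvd⟩
  have hR : IsSylowIn 2 (S ⊓ K) K := by
    have := hS.inf_of_le_normalizer (sup_le le_normalizer hTN)
    rwa [inf_eq_right.mpr (le_sup_left : K ≤ K ⊔ T)] at this
  set R := S ⊓ K with hRdef
  set T0 := S ⊓ normalizer (T : Set G) ⊓ K with hT0
  have TK1 : ∀ t ∈ T, t ∈ K → t = 1 := fun t ht hk => mem_bot.1 (hTK ▸ mem_inf.2 ⟨ht, hk⟩)
  have hcc : ∀ t ∈ T, ∃ z ∈ Z, ∃ r ∈ K, t = z * r := fun t ht =>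
    hZ.cc t (hT.le ht).2 (fun c hc => (hCT c hc t ht).symm) (by
      obtain ⟨m, hm⟩ := hT.isPGroup ⟨t, ht⟩
      exact ⟨m, congrArg Subtype.val hm⟩)
  have Tsq : ∀ t ∈ T, t * t = 1 := fun t ht => by
    obtain ⟨z, hz, r, hr, rfl⟩ := hcc t ht
    have e : z * r * (z * r) = r * r := by
      rw [mul_assoc, ← mul_assoc r, ← h.comm z (ZA hz) r hr, ← mul_assoc, ← mul_assoc, hZ.sq z hz,
        one_mul]
    exact TK1 _ (mul_mem ht ht) (e ▸ mul_mem hr hr)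
  have memR : ∀ z ∈ A, ∀ r ∈ K, z * r ∈ T → r ∈ R := fun z hz r hr ht => by
    refine mem_syl hR hr (h.sq hz hr (Tsq _ ht)).2 ?_
    have e1 : z * r ∈ normalizer (R : Set G) :=
      H52.le_normalizer_inf (hTS.trans le_normalizer) hTN ht
    have e2 : z ∈ normalizer (R : Set G) := norm_of_comm fun x hx => h.comm z hz x hx.2
    exact (mul_mem_cancel_left e2).1 e1
  have hcc' : ∀ t ∈ T, ∃ z ∈ Z, ∃ r ∈ R, t = z * r := fun t ht => by
    obtain ⟨z, hz, r, hr, rfl⟩ := hcc t ht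
    exact ⟨z, hz, r, memR z (ZA hz) r hr ht, rfl⟩
  have Zc : ∀ z ∈ Z, ∀ w ∈ Z, z * w = w * z := fun z hz w hw => comm_of_sq hZ.sq hz hw
  -- `R` centralizes a nontrivial element of `T`
  have hex : ∃ t ∈ T, t ≠ 1 ∧ ∀ y ∈ R, y * t = t * y := by
    by_cases hA : ∃ t ∈ T, t ≠ 1 ∧ t ∈ A
    · obtain ⟨t, ht, t1, tA⟩ := hA
      exact ⟨t, ht, t1, fun y hy => (h.comm t tA y hy.2).symm⟩
    push Not at hA
    choose! zz hzz rr hrr e using hcc'
    have rT0 : ∀ t ∈ T, rr t ∈ T0 := fun t ht => by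
      refine ⟨⟨(hrr t ht).1, norm_of_comm fun s hs => ?_⟩, (hrr t ht).2⟩
      have e1 : zz t * s = s * zz t := by
        rw [e s hs, ← mul_assoc, Zc _ (hzz t ht) _ (hzz s hs), mul_assoc,
          h.comm _ (ZA (hzz t ht)) _ (hrr s hs).2, mul_assoc]
      have e2 := comm_of_sq Tsq ht hs
      rw [e t ht, mul_assoc, ← mul_assoc s, ← e1, mul_assoc] at e2
      exact mul_left_cancel e2
    let ψ : T → T0 := fun t => ⟨rr t, rT0 t t.2⟩
    have hψ : Function.Injective ψ := fun s t e1 => by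
      have e2 : rr s = rr t := congrArg Subtype.val e1
      by_contra hne
      refine hA ((s : G) * (t : G)⁻¹) (mul_mem s.2 (inv_mem t.2))
        (fun e3 => hne (Subtype.ext (mul_inv_eq_one.1 e3))) ?_
      have : (s : G) * (t : G)⁻¹ = zz s * (zz t)⁻¹ := by
        conv_lhs => rw [e s s.2, e t t.2, e2]
        group
      rw [this]; exact mul_mem (ZA (hzz s s.2)) (inv_mem (ZA (hzz t t.2)))
    have hsurj := ((Nat.bijective_iff_injective_and_card ψ).2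
      ⟨hψ, (Nat.card_congr φ.toEquiv).symm⟩).2
    have hR1 : R ≠ ⊥ := fun e1 => by
      refine hA _ huT' u1 ?_
      have e2 : rr (a * k) ∈ (⊥ : Subgroup G) := e1 ▸ hrr _ huT'
      rw [e _ huT', mem_bot.1 e2, mul_one]
      exact ZA (hzz _ huT')
    obtain ⟨z0, hz0, zc, z2⟩ := H52.exists_orderOf_eq_prime_mem_centralizer (p := 2)
      hR.isPGroup hR.isPGroup le_normalizer hR1
    have zT0 : z0 ∈ T0 := by
      refine ⟨⟨hz0.1, norm_of_comm fun s hs => ?_⟩, hz0.2⟩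
      rw [e s hs, ← mul_assoc, ← h.comm _ (ZA (hzz s hs)) _ hz0.2, mul_assoc, mul_assoc,
        mem_centralizer_iff.1 zc _ (hrr s hs)]
    obtain ⟨t, ht⟩ := hsurj ⟨z0, zT0⟩
    have e1 : rr t = z0 := congrArg Subtype.val ht
    have e2 : (t : G) = zz t * z0 := e1 ▸ e t t.2
    refine ⟨t, t.2, fun e3 => ?_, fun y hy => ?_⟩
    · have : z0 = 1 := h.disj z0 (by
        rw [e3] at e2
        rw [eq_inv_of_mul_eq_one_right e2.symm]
        exact inv_mem (ZA (hzz 1 (one_mem _)))) hz0.2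
      rw [this, orderOf_one] at z2; omega
    · rw [e2, ← mul_assoc, ← h.comm _ (ZA (hzz t t.2)) _ hy.2, mul_assoc, mul_assoc,
        mem_centralizer_iff.1 zc _ hy]
  obtain ⟨t, ht, t1, tc⟩ := hex
  have hSK : S ⊓ K' = T := hT.eq_of_le (hS.isPGroup.to_le inf_le_left)
    (fun x hx => ⟨hx.2, sup_le hKN (hT.le.trans inf_le_right) (hS.le hx.1)⟩)
    (le_inf hTS (hT.le.trans inf_le_left))
  have hRT : R = T0 := by
    refine le_antisymm (fun y hy => ⟨⟨hy.1, mem_normalizer_fintype fun s hs => ?_⟩, hy.2⟩)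
      fun y hy => ⟨hy.1.1, hy.2⟩
    have yN := h'.te t (hT.le ht).1 t1 (Tsq t ht) y (by
      rw [tc y hy, mul_inv_cancel_right]; exact (hT.le ht).1)
    have : y * s * y⁻¹ ∈ S ⊓ K' := ⟨S.mul_mem (S.mul_mem hy.1 (hTS hs)) (S.inv_mem hy.1),
      h'.nK y yN s (hT.le hs).1⟩
    rwa [hSK] at this
  have hcard : Nat.card R = Nat.card T := by rw [hRT]; exact Nat.card_congr φ.toEquiv
  have hT' : IsSylowIn 2 T K' := (hR.conj_smul g).of_card_ge hT.isPGroup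
    (hT.le.trans inf_le_left) (by rw [card_conj_smul, hcard])
  refine ⟨R, T, hR, hT', huT', memR a (ZA ha) k hk huT', hcc', fun r hr => ?_, ?_,
    h'.lp hT' ⟨t, ht, t1⟩ Tsq hZ.perf hZ.gen hCT⟩
  · have hr' : r ∈ T0 := hRT ▸ hr
    have e : φ (⟨r, hr'⟩ * ⟨r, hr'⟩) = φ 1 := by
      rw [map_mul, map_one]; exact Subtype.ext (Tsq _ (φ ⟨r, hr'⟩).2)
    exact congrArg Subtype.val (φ.injective e)
  · rw [hcard]
    refine le_trans ?_ hZ.card
    choose! zz hzz rr hrr e using hcc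
    refine Nat.card_le_card_of_injective (fun t : T => (⟨zz t, hzz t t.2⟩ : Z)) fun s t e1 => ?_
    have e2 : zz s = zz t := congrArg Subtype.val e1
    have : (s : G)⁻¹ * t = (rr s)⁻¹ * rr t := by
      conv_lhs => rw [e s s.2, e t t.2, e2]
      group
    exact Subtype.ext (inv_mul_eq_one.1 (TK1 _ (mul_mem (inv_mem s.2) t.2)
      (this ▸ mul_mem (inv_mem (hrr s s.2)) (hrr t t.2))))

end Cfsg.Agent.H76.AsPre
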