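import Cfsg.Agent.H42.ASDefs

/-!
# `QBStmt`: the element `κ` normalizes the extraspecial group
-/

set_option autoImplicit false

namespace Cfsg.Agent.H76.AsQB

open Cfsg Subgroup Cfsg.Agent.H30 QuadraticMap Module Cfsg.Agent.H42.AS

section Geo

variable {V : Type*} [AddCommGroup V] [Module (ZMod 2) V] [FiniteDimensional (ZMod 2) V]
  {Q : QuadraticForm (ZMod 2) V} (hQ : (polarBilin Q).Nondegenerate)

theorem z2 {a : ZMod 2} (h : a ≠ 0) : a = 1 := by revert a; decide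

omit [FiniteDimensional (ZMod 2) V] in
theorem pself (x : V) : polar Q x x = 0 := by
  rw [polar_self, two_smul]; generalize Q x = a; revert a; decide

include hQ

theorem exists_pair {W : Submodule (ZMod 2) V}
    (h : finrank (ZMod 2) V < 2 * finrank (ZMod 2) W) : ∃ x ∈ W, ∃ y ∈ W, polar Q x y = 1 := by
  by_contra H
  push Not at H
  have h1 := Submodule.finrank_mono (show W ≤ perp Q W from fun x hx => mem_perp.2 fun y hy => by
    by_contra h0; exact H y hy x hx (z2 h0))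
  have := finrank_add_finrank_perp hQ W
  omega

theorem exists_ker (g : O Q) {W : Submodule (ZMod 2) V}
    (h : 2 * finrank (ZMod 2) W < finrank (ZMod 2) V) :
    ∃ φ ∈ kerDS hQ, ∀ x, g.1 x ∈ W → φ.1 x = g.1 x := by
  have h2 : (2 : ZMod 2) = 0 := rfl
  rcases Int.units_eq_one_or (dickson hQ g) with h1 | h1
  · exact ⟨g, (mem_kerDS_of_two_eq_zero hQ h2).2 h1, fun _ _ => rfl⟩
  have := finrank_add_finrank_perp hQ W
  obtain ⟨x, hx, y, hy, hxy⟩ := exists_pair hQ (W := perp Q W) (by omega)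
  obtain ⟨t, ht, h0⟩ : ∃ t ∈ perp Q W, Q t ≠ 0 := by
    by_contra H
    push Not at H
    rw [polar, H x hx, H y hy, H _ (add_mem hx hy)] at hxy
    exact absurd hxy (by decide)
  refine ⟨refl Q t * g, (mem_kerDS_of_two_eq_zero hQ h2).2
    (by rw [map_mul, h1, dickson_refl hQ h0]; simp), fun x hx => ?_⟩
  rw [O_mul_apply, refl_apply, mem_perp.1 ht _ hx]; simp

theorem exists_dual {p p' : V} (h0 : p ≠ 0) (hne : p ≠ p') :
    ∃ x, polar Q p x = 1 ∧ polar Q p' x = 0 := by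
  by_contra H
  push Not at H
  have : p ∈ perp Q (perp Q (ZMod 2 ∙ p')) := mem_perp'.2 fun x hx => by
    by_contra h; exact H x (z2 h) (mem_perp_singleton.1 hx)
  rw [perp_perp hQ, Submodule.mem_span_singleton] at this
  obtain ⟨a, ha⟩ := this
  by_cases h : a = 0
  · exact h0 (by rw [← ha, h, zero_smul])
  · exact hne (by rw [← ha, z2 h, one_smul])

theorem perp_le (h8 : finrank (ZMod 2) V = 8) {p p' : V} (hp : Q p = 0) (hp' : Q p' = 0)
    (hpp : polar Q p p' = 0) {J : Submodule (ZMod 2) V}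
    (hJ : ∀ φ ∈ kerDS hQ, φ.1 p = p → φ.1 p' = p' → ∀ x ∈ J, φ.1 x ∈ J) {w : V} (hw : w ∈ J)
    (hl : w ∉ Submodule.span (ZMod 2) {p, p'}) : perp Q (Submodule.span (ZMod 2) {p, p'}) ≤ J := by
  set l := Submodule.span (ZMod 2) {p, p'} with hl'
  have mp : p ∈ l := Submodule.subset_span (by simp)
  have mp' : p' ∈ l := Submodule.subset_span (by simp)
  have d1 : finrank (ZMod 2) l ≤ 2 := by
    classical
    have := (finrank_span_finset_le_card (R := ZMod 2) {p, p'}).trans Finset.card_le_two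
    rwa [Finset.coe_pair] at this
  have d2 := finrank_add_finrank_perp hQ l
  have key : ∀ s ∈ perp Q l, Q s = 0 → polar Q w s = 1 → perp Q l ⊓ perp Q (ZMod 2 ∙ s) ≤ J := by
    intro s hs h0 h1
    have k : ∀ n ∈ perp Q l ⊓ perp Q (ZMod 2 ∙ s), n - (polar Q w n + Q n) • s ∈ J := fun n hn => by
      have := sub_mem (hJ _ (eich_mem_kerDS hQ s n)
        (eich_apply_of_orth (mem_perp.1 hs _ mp) (mem_perp.1 hn.1 _ mp))
        (eich_apply_of_orth (mem_perp.1 hs _ mp') (mem_perp.1 hn.1 _ mp')) w hw) hw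
      rw [eich_apply h0 (mem_perp_singleton.1 hn.2), h1] at this
      convert this using 1
      module
    have d3 := finrank_inf_perp_singleton (Q := Q) (perp Q l) s
    obtain ⟨n, hn, n', hn', e⟩ := exists_pair hQ (W := perp Q l ⊓ perp Q (ZMod 2 ∙ s)) (by omega)
    have ms : s ∈ J := by
      have := sub_mem (add_mem (k n hn) (k n' hn')) (k _ (add_mem hn hn'))
      rw [polar_add_right, Q_add, e] at this
      convert this using 1
      module
    intro x hx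
    simpa using add_mem (k x hx) (J.smul_mem (polar Q w x + Q x) ms)
  have ll : l ≤ perp Q l := Submodule.span_le.2 (by
    rintro x (rfl | rfl) <;> refine mem_perp_span.2 ?_ <;> rintro y (rfl | rfl)
    exacts [pself _, (polar_comm _ _ _).trans hpp, hpp, pself _])
  by_cases hwl : w ∈ perp Q l
  · obtain ⟨s, s1, s2, s3⟩ : ∃ s ∈ perp Q l, Q s = 0 ∧ polar Q w s = 1 := by
      obtain ⟨y, y1, y2⟩ : ∃ y ∈ perp Q l, polar Q w y = 1 := by
        by_contra H
        push Not at H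
        exact hl (perp_perp hQ l ▸ mem_perp'.2 fun y hy => by by_contra h; exact H y hy (z2 h))
      by_cases hy : Q y = 0
      · exact ⟨y, y1, hy, y2⟩
      by_cases hw0 : Q w = 0
      · exact ⟨w + y, add_mem hwl y1, by rw [Q_add, hw0, z2 hy, y2]; rfl,
          by rw [polar_add_right, pself, y2, zero_add]⟩
      set S := Submodule.span (ZMod 2) (Set.range ![p, p', w, y])
      have mS : ∀ i, ![p, p', w, y] i ∈ S := fun i => Submodule.subset_span ⟨i, rfl⟩
      by_cases H : ∃ t ∈ perp Q S, Q t ≠ 0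
      · obtain ⟨t, t1, t2⟩ := H
        refine ⟨y + t, add_mem y1 (perp_anti (Submodule.span_le.2 ?_) t1), ?_, ?_⟩
        · rintro x (rfl | rfl)
          exacts [mS 0, mS 1]
        · rw [Q_add, z2 hy, z2 t2, mem_perp.1 t1 y (mS 3)]; rfl
        · rw [polar_add_right, y2, mem_perp.1 t1 w (mS 2), add_zero]
      push Not at H
      have d4 : finrank (ZMod 2) S ≤ 4 :=
        (finrank_range_le_card (R := ZMod 2) ![p, p', w, y]).trans (by simp)
      have d5 := finrank_add_finrank_perp hQ S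
      have : perp Q S = S := Submodule.eq_of_le_of_finrank_le (fun x hx => (perp_perp hQ S).le
        (mem_perp.2 fun y hy => by rw [polar, H x hx, H y hy, H _ (add_mem hy hx)]; rfl)) (by omega)
      exact absurd (H w (this.ge (mS 2))) hw0
    intro x hx
    by_cases h : polar Q s x = 0
    · exact key s s1 s2 s3 ⟨hx, mem_perp_singleton.2 h⟩
    · simpa using sub_mem (key s s1 s2 s3 ⟨add_mem hx hwl, mem_perp_singleton.2 (by
        rw [polar_add_right, z2 h, polar_comm, s3]; rfl)⟩) hw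
  · obtain ⟨s, s1, s2, s3⟩ : ∃ s ∈ l, Q s = 0 ∧ polar Q s w ≠ 0 := by
      by_contra H
      push Not at H
      exact hwl (mem_perp_span.2 (by rintro y (rfl | rfl); exacts [H _ mp hp, H _ mp' hp']))
    exact fun x hx => key s (ll s1) s2 ((polar_comm _ _ _).trans (z2 s3))
      ⟨hx, mem_perp_singleton.2 (mem_perp.1 hx s s1)⟩

omit [FiniteDimensional (ZMod 2) V] hQ in
theorem mov_line {p p' x₁ x₂ : V} (hp : Q p = 0) (hp' : Q p' = 0) (hpp : polar Q p p' = 0)
    (a1 : polar Q p x₁ = 1) (a2 : polar Q p' x₁ = 0) (b1 : polar Q p' x₂ = 1)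
    (b2 : polar Q p x₂ = 0) {φ : O Q} (h : ∀ x, φ.1 x - x ∈ Submodule.span (ZMod 2) {p, p'}) :
    φ = 1 ∨ ∀ x, φ.1 x = x + polar Q p' x • p + polar Q p x • p' := by
  let a : V →ₗ[ZMod 2] ZMod 2 := polarBilin Q x₁ ∘ₗ ((φ.1 : V →ₗ[ZMod 2] V) - LinearMap.id)
  let b : V →ₗ[ZMod 2] ZMod 2 := polarBilin Q x₂ ∘ₗ ((φ.1 : V →ₗ[ZMod 2] V) - LinearMap.id)
  have e : ∀ x, φ.1 x = x + a x • p + b x • p' := fun x => by
    obtain ⟨s, t, e⟩ := Submodule.mem_span_pair.1 (h x)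
    have ea : a x = s := by
      change polar Q x₁ (φ.1 x - x) = s
      rw [← e, polar_add_right, polar_smul_right, polar_smul_right, polar_comm, a1, polar_comm, a2]
      simp
    have eb : b x = t := by
      change polar Q x₂ (φ.1 x - x) = t
      rw [← e, polar_add_right, polar_smul_right, polar_smul_right, polar_comm, b2, polar_comm, b1]
      simp
    rw [ea, eb, add_assoc, e, add_sub_cancel]
  have k : ∀ x, a x * polar Q p x + b x * polar Q p' x = 0 := fun x => by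
    have := φ.2 x
    rw [e x, Q_add, Q_add, QuadraticMap.map_smul, QuadraticMap.map_smul, hp, hp', polar_add_left,
      polar_smul_right, polar_smul_right, polar_smul_right, polar_smul_left, hpp,
      polar_comm _ x, polar_comm _ x] at this
    simp only [smul_eq_mul, mul_zero, add_zero] at this
    linear_combination this
  have k1 := k x₁
  have k2 := k x₂
  have k3 := k (x₁ + x₂)
  rw [polar_add_right, polar_add_right, map_add, map_add] at k3
  simp only [a1, a2, b1, b2, mul_one, mul_zero, add_zero, zero_add] at k1 k2 k3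
  rw [k1, k2, zero_add, add_zero] at k3
  have k4 : ∀ x, a x = polar Q p' x * a x₂ ∧ b x = polar Q p x * b x₁ := fun x => by
    have c1 := k (x - polar Q p x • x₁ - polar Q p' x • x₂ + x₁)
    have c2 := k (x - polar Q p x • x₁ - polar Q p' x • x₂ + x₂)
    simp only [polar_add_right, polar_sub_right, polar_smul_right, map_add, map_sub, map_smul, a1, a2,
      b1, b2, k1, k2, smul_eq_mul] at c1 c2
    exact ⟨by linear_combination c1, by linear_combination c2⟩
  by_cases h0 : b x₁ = 0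
  · left
    rw [h0, add_zero] at k3
    exact O_ext fun x => by rw [e x, (k4 x).1, (k4 x).2, h0, k3]; simp
  · right
    intro x
    rw [z2 h0] at k3
    rw [e x, (k4 x).1, (k4 x).2, z2 h0, z2 (a := a x₂) (fun h => by rw [h] at k3; exact absurd k3 (by decide)),
      mul_one, mul_one]

theorem indep {p x : V} (h0 : p ≠ 0) (hx : x ≠ 0) (hne : x ≠ p) :
    LinearIndependent (ZMod 2) ![p, x] := by
  obtain ⟨y, y1, y2⟩ := exists_dual hQ h0 hne.symm
  refine LinearIndependent.pair_iff.2 fun s t h => ?_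
  have := congrArg (polar Q · y) h
  simp only [polar_add_left, polar_smul_left, y1, y2, polar_zero_left, smul_eq_mul, mul_one,
    mul_zero, add_zero] at this
  rw [this, zero_smul, zero_add, smul_eq_zero_iff_left hx] at h
  exact ⟨this, h⟩

theorem eq_ker (h8 : finrank (ZMod 2) V = 8) {p p' : V} (h0 : p ≠ 0) (h0' : p' ≠ 0) (hne : p' ≠ p)
    (hp : Q p = 0) (hp' : Q p' = 0) (hpp : polar Q p p' = 0) {H : Subgroup (O Q)}
    (h1 : ∀ φ ∈ H, φ.1 p = p → φ ∈ kerDS hQ) (h2 : ∀ φ ∈ kerDS hQ, φ.1 p = p → φ ∈ H)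
    {k : O Q} (hk : k ∈ H) (hkp : k.1 p = p') : H = kerDS hQ := by
  have t1 : ∀ x, x ≠ 0 → Q x = 0 → polar Q p x = 0 → ∃ φ ∈ H, φ.1 p = x := fun x a1 a2 a3 => by
    by_cases hx : x = p
    · exact ⟨1, one_mem _, hx.symm⟩
    obtain ⟨g, g1, g2⟩ := witt_two hQ (indep hQ h0 h0' hne) (indep hQ h0 a1 hx) rfl
      (hp'.trans a2.symm) (hpp.trans a3.symm)
    obtain ⟨φ, k1, k2⟩ := exists_ker hQ g (W := Submodule.span (ZMod 2) (Set.range ![p, x])) (by
      have : finrank (ZMod 2) (Submodule.span (ZMod 2) (Set.range ![p, x])) ≤ 2 :=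
        (finrank_range_le_card (R := ZMod 2) ![p, x]).trans (by simp)
      omega)
    exact ⟨φ * k, mul_mem (h2 φ k1 (by rw [k2 _ (g1.symm ▸ Submodule.subset_span ⟨0, rfl⟩), g1])) hk,
      by rw [O_mul_apply, hkp, k2 _ (g2.symm ▸ Submodule.subset_span ⟨1, rfl⟩), g2]⟩
  have t2 : ∀ x, x ≠ 0 → Q x = 0 → ∃ φ ∈ H, φ.1 p = x := fun x a1 a2 => by
    have d1 := finrank_inf_perp_singleton (Q := Q) ⊤ p
    have d2 := finrank_inf_perp_singleton (Q := Q) (⊤ ⊓ perp Q (ZMod 2 ∙ p)) x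
    rw [finrank_top] at d1
    obtain ⟨y, ⟨⟨-, y1⟩, y2⟩, y3, y4⟩ := exists_singular_mem Q
      (⊤ ⊓ perp Q (ZMod 2 ∙ p) ⊓ perp Q (ZMod 2 ∙ x)) (by omega)
    obtain ⟨φ, k1, rfl⟩ := t1 y y3 y4 (mem_perp_singleton.1 y1)
    obtain ⟨ψ, k2, k3⟩ := t1 ((φ⁻¹).1 x) (by simpa using a1) (by rw [O_map, a2]) (by
      rw [← O_polar φ, O_apply_inv, polar_comm]; exact mem_perp_singleton.1 y2)
    exact ⟨φ * ψ, mul_mem k1 k2, by rw [O_mul_apply, k3, O_apply_inv]⟩
  have le : kerDS hQ ≤ H := by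
    rw [← eichGroup_eq_kerDS hQ (not_isExc_of_finrank (by omega)) (by omega)]
    refine eichGroup_le fun u v a1 a2 _ => ?_
    obtain ⟨φ, k1, rfl⟩ := t2 u a1 a2
    rw [← O_apply_inv φ v, ← eich_conj]
    exact mul_mem (mul_mem k1 (h2 _ (eich_mem_kerDS hQ _ _) (eich_apply_self _ _))) (inv_mem k1)
  refine le_antisymm (fun g hg => ?_) le
  obtain ⟨φ, k1, k2⟩ := exists_ker hQ g (W := ZMod 2 ∙ g.1 p) (by
    rw [finrank_span_singleton (by simpa using h0)]; omega)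
  have := h1 (φ⁻¹ * g) (mul_mem (inv_mem (le k1)) hg) (by
    rw [O_mul_apply, ← k2 p (Submodule.mem_span_singleton_self _), O_inv_apply])
  simpa using mul_mem k1 this

end Geo

universe u

theorem qb : QBStmt.{u} := by
  intro G _ _ z v0 u κ Q Od π Ψ P hu hne hc κz κ1 κ2
  have hQ := qPlus_nondegenerate (F := ZMod 2) 4
  have h8 : finrank (ZMod 2) (Fin 4 ⊕ Fin 4 → ZMod 2) = 8 := by simp
  have zz : z * z = 1 := by rw [← pow_two, ← P.z2, pow_orderOf_eq_one]
  have z1 : z ≠ 1 := fun h => by have := P.z2; rw [h, orderOf_one] at this; omega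
  have zp : ∀ a : ZMod 2, z ^ a.val = 1 → a = 0 := fun a h => by
    by_contra h0; rw [z2 h0] at h; exact z1 (by simpa [ZMod.val_one] using h)
  have zc : ∀ a : ZMod 2, z ^ a.val = 1 ∨ z ^ a.val = z := fun a => by
    by_cases h0 : a = 0
    · left; simp [h0]
    · right; rw [z2 h0]; simp [ZMod.val_one]
  have π1 : π 1 = 0 := (P.π_ker 1 (one_mem _)).2 (Or.inl rfl)
  have πz : π z = 0 := (P.π_ker z P.zQ).2 (Or.inr rfl)
  have cz : ∀ a ∈ Q, a * z = z * a := fun a ha => by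
    rw [P.comm a ha z P.zQ, πz, polar_zero_right]; simp
  have cj : ∀ a ∈ Q, ∀ b ∈ Q, a * b * a⁻¹ = b ∨ a * b * a⁻¹ = b * z := fun a ha b hb => by
    rw [P.comm a ha b hb]
    rcases zc (polar (qPlus (ZMod 2) 4) (π a) (π b)) with h | h <;> rw [h]
    · left; group
    · right; rw [cz b hb]; group
  have πinv : ∀ a ∈ Q, π a⁻¹ = -π a := fun a ha => by
    rw [eq_neg_iff_add_eq_zero, ← P.π_mul _ (inv_mem ha) _ ha, inv_mul_cancel, π1]
  have πeq : ∀ a ∈ Q, ∀ b ∈ Q, π a = π b → a = b ∨ a = b * z := fun a ha b hb h => by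
    rcases (P.π_ker (b⁻¹ * a) (mul_mem (inv_mem hb) ha)).1 (by
      rw [P.π_mul _ (inv_mem hb) _ ha, πinv b hb, h, neg_add_cancel]) with h | h
    · left; rw [inv_mul_eq_one.1 h]
    · right; rw [← h]; group
  have kz : κ * z * κ⁻¹ = z := by rw [κz]; group
  have kz' : κ⁻¹ * z * κ = z := by rw [mul_assoc, ← κz]; group
  have κ1' : κ⁻¹ * u * κ = v0 := by rw [← κ1]; group
  have κ2' : κ⁻¹ * v0 * κ = u := by rw [← κ2]; group
  have u0 : π u ≠ 0 := fun h => P.v_ne ((P.π_ker v0 P.vQ).2 (by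
    rcases (P.π_ker u hu).1 h with h | h
    · left; rw [← κ2, h]; group
    · right; rw [← κ2, h, kz]))
  have us : qPlus (ZMod 2) 4 (π u) = 0 := zp _ (by
    rw [← P.sq u hu, ← κ1, conj_mul, P.sq v0 P.vQ, P.v_sing]; simp)
  have uv : polar (qPlus (ZMod 2) 4) (π v0) (π u) = 0 := zp _ (by
    have := P.comm v0 P.vQ u hu
    rwa [hc, eq_comm, mul_eq_right] at this)
  -- elements fixing `u` modulo `z` normalize `κ Q κ⁻¹`
  have loc' : ∀ g, g * z = z * g → (g * u * g⁻¹ = u ∨ g * u * g⁻¹ = u * z) →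
      κ⁻¹ * g * κ ∈ normalizer (Q : Set G) := fun g h1 h2 => P.loc _ (by
      calc κ⁻¹ * g * κ * z = κ⁻¹ * (g * (κ * z * κ⁻¹)) * κ := by group
        _ = κ⁻¹ * z * κ * (κ⁻¹ * g * κ) := by rw [kz, h1]; group
        _ = _ := by rw [kz']) (by
      have e : κ⁻¹ * g * κ * v0 * (κ⁻¹ * g * κ)⁻¹ = κ⁻¹ * (g * u * g⁻¹) * κ := by rw [← κ1]; group
      rw [e]
      refine h2.imp (fun h => by rw [h, κ1']) fun h => ?_
      rw [h, ← κ1', ← kz']; nth_rw 1 [← kz]; group)
  have nn : ∀ {g a}, g ∈ normalizer (Q : Set G) → a ∈ Q → g * a * g⁻¹ ∈ Q := fun hg ha =>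
    (mem_normalizer_iff.1 hg _).1 ha
  have kk : κ * κ ∈ normalizer (Q : Set G) := P.loc _
    (by rw [mul_assoc, κz, ← mul_assoc, κz, mul_assoc]) (Or.inl (by
      calc _ = κ * (κ * v0 * κ⁻¹) * κ⁻¹ := by group
        _ = _ := by rw [κ1, κ2]))
  have mY : ∀ a ∈ Q, κ * a * κ⁻¹ ∈ centralizer {z} ⊓ normalizer (Q : Set G) := fun a ha => by
    have h1 : κ * a * κ⁻¹ * z = z * (κ * a * κ⁻¹) := by
      calc _ = κ * (a * (κ⁻¹ * z * κ)) * κ⁻¹ := by group
        _ = κ * z * κ⁻¹ * (κ * a * κ⁻¹) := by rw [kz', cz a ha]; group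
        _ = _ := by rw [kz]
    refine ⟨mem_centralizer_singleton_iff.2 h1, P.loc _ h1 ?_⟩
    have e : κ * a * κ⁻¹ * v0 * (κ * a * κ⁻¹)⁻¹ = κ * (a * u * a⁻¹) * κ⁻¹ := by rw [← κ2']; group
    rw [e]
    refine (cj a ha u hu).imp (fun h => by rw [h, κ2]) fun h => ?_
    rw [h, ← κ2, ← kz]; nth_rw 1 [← kz']; group
  have four : ∀ a ∈ Q, a ^ 4 = 1 := fun a ha => by
    rw [show a ^ 4 = a * a * (a * a) by simp [pow_succ, mul_assoc], P.sq a ha]
    rcases zc (qPlus (ZMod 2) 4 (π a)) with h | h <;> simp [h, zz]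
  have ker : ∀ a ∈ Q, Ψ (κ * a * κ⁻¹) = 1 → κ⁻¹ * a * κ ∈ Q := fun a ha h => by
    obtain ⟨b, hb, o, ho, e⟩ := P.Ψ_ker _ (mY a ha) h
    have h4 : o ^ 4 = 1 := by
      have := congrArg (· ^ 4) e
      simp only [conj_pow, four a ha] at this
      rw [Commute.mul_pow (P.OQ o ho b hb).symm, four b hb] at this
      simpa using this.symm
    have h1 : o = 1 := orderOf_eq_one_iff.1 (Nat.Coprime.eq_one_of_dvd
      ((Nat.Coprime.pow_right 2 (P.odd.of_dvd_nat (Od.orderOf_dvd_natCard ho)).coprime_two_right))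
      (orderOf_dvd_of_pow_eq_one h4))
    rw [h1, mul_one] at e
    convert nn (inv_mem kk) (e ▸ hb) using 1
    group
  let J : Submodule (ZMod 2) (Fin 4 ⊕ Fin 4 → ZMod 2) :=
    { carrier := {x | ∃ a ∈ Q, κ⁻¹ * a * κ ∈ Q ∧ π a = x}
      zero_mem' := ⟨1, one_mem _, by simp, π1⟩
      add_mem' := by
        rintro _ _ ⟨a, a1, a2, rfl⟩ ⟨b, b1, b2, rfl⟩
        exact ⟨a * b, mul_mem a1 b1, by convert mul_mem a2 b2 using 1; group, P.π_mul a a1 b b1⟩
      smul_mem' := fun c x hx => by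
        by_cases h : c = 0
        · exact ⟨1, one_mem _, by simp, by rw [h, zero_smul, π1]⟩
        · rwa [z2 h, one_smul] }
  have hJ : ∀ φ ∈ kerDS hQ, φ.1 (π v0) = π v0 → φ.1 (π u) = π u → ∀ x ∈ J, φ.1 x ∈ J := by
    rintro φ h1 h2 h3 _ ⟨a, a1, a2, rfl⟩
    obtain ⟨g, hg, rfl⟩ := P.stab_surj φ h1 h2
    refine ⟨_, nn hg.2 a1, ?_, P.act g hg a a1⟩
    convert nn (loc' g (mem_centralizer_singleton_iff.1 hg.1)
      (πeq _ (nn hg.2 hu) _ hu ((P.act g hg u hu).trans h3))) a2 using 1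
    group
  have fix : ∀ a ∈ Q, ∀ x ∈ J, (Ψ (κ * a * κ⁻¹)).1 x = x := by
    rintro a ha _ ⟨b, b1, b2, rfl⟩
    rw [← P.act _ (mY a ha) b b1, show κ * a * κ⁻¹ * b * (κ * a * κ⁻¹)⁻¹ =
      κ * (a * (κ⁻¹ * b * κ) * a⁻¹) * κ⁻¹ by group]
    rcases cj a ha _ b2 with h | h <;> rw [h]
    · congr 1; group
    · rw [show κ * (κ⁻¹ * b * κ * z) * κ⁻¹ = b * (κ * z * κ⁻¹) by group, kz, P.π_mul b b1 z P.zQ, πz,
        add_zero]
  have mov : ∀ a ∈ Q, ∀ x, (Ψ (κ * a * κ⁻¹)).1 x - x ∈ Submodule.span (ZMod 2) {π v0, π u} := by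
    intro a ha x
    by_contra H
    have m : (Ψ (κ * a * κ⁻¹)).1 x - x ∈ J := by
      obtain ⟨b, hb, rfl⟩ := P.π_surj x
      refine ⟨_, mul_mem (nn (mY a ha).2 hb) (inv_mem hb), ?_, by
        rw [P.π_mul _ (nn (mY a ha).2 hb) _ (inv_mem hb), P.act _ (mY a ha) b hb, πinv b hb,
          sub_eq_add_neg]⟩
      convert mul_mem ha (nn (loc' b (cz b hb) (cj b hb u hu)) (inv_mem ha)) using 1
      group
    refine H ((perp_perp hQ _).le (perp_anti (perp_le hQ h8 P.v_sing us uv hJ m H)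
      (mem_perp.2 fun y hy => ?_)))
    rw [polar_sub_right, sub_eq_zero]
    nth_rw 1 [← fix a ha y hy]
    exact O_polar _ _ _
  obtain ⟨x₁, a1, a2⟩ := exists_dual hQ P.v_ne hne.symm
  obtain ⟨x₂, b1, b2⟩ := exists_dual hQ u0 hne
  have all : ∀ a ∈ Q, κ⁻¹ * a * κ ∈ Q := by
    by_contra H
    push Not at H
    obtain ⟨a, ha, H⟩ := H
    have m := fun a ha => (mov_line P.v_sing us uv a1 a2 b1 b2 (mov a ha)).imp_left (ker a ha)
    have k : ∀ b ∈ Q, polar (qPlus (ZMod 2) 4) (π v0) (π b) = 1 ∨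
        polar (qPlus (ZMod 2) 4) (π u) (π b) = 1 → ∀ x, (Ψ (κ * b * κ⁻¹)).1 x =
          (Ψ (κ * a * κ⁻¹)).1 x := fun b hb h x => by
      have e := (m a ha).resolve_left H
      rw [e, ((m b hb).resolve_left fun h1 => ?_) x]
      have := fix a ha _ ⟨b, hb, h1, rfl⟩
      rw [e, add_assoc, add_eq_left] at this
      obtain ⟨c1, c2⟩ := LinearIndependent.pair_iff.1 (indep hQ P.v_ne u0 hne) _ _ this
      rw [c1, c2] at h
      exact absurd h (by decide)
    obtain ⟨c₁, c1, rfl⟩ := P.π_surj x₁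
    obtain ⟨c₂, c2, rfl⟩ := P.π_surj x₂
    refine H (ker a ha (O_ext fun x => (Ψ (κ * a * κ⁻¹)).1.injective ?_))
    rw [← k c₁ c1 (Or.inl a1), ← k c₂ c2 (Or.inr b1), ← O_mul_apply,
      ← P.Ψ_mul _ (mY _ c1) _ (mY _ c2), conj_mul, k _ (mul_mem c1 c2) (Or.inl (by
        rw [P.π_mul _ c1 _ c2, polar_add_right, a1, b2, add_zero]))]
    rfl
  have hκ : κ ∈ centralizer {z} ⊓ normalizer (Q : Set G) := ⟨mem_centralizer_singleton_iff.2 κz,
    mem_normalizer_iff.2 fun a => ⟨fun h => by convert nn kk (all a h) using 1; group,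
      fun h => by simpa [mul_assoc] using all _ h⟩⟩
  have Ψ1 : Ψ 1 = 1 := by simpa using P.Ψ_mul 1 (one_mem _) 1 (one_mem _)
  let H : Subgroup (O (qPlus (ZMod 2) 4)) :=
    { carrier := {φ | ∃ g ∈ centralizer {z} ⊓ normalizer (Q : Set G), Ψ g = φ}
      one_mem' := ⟨1, one_mem _, Ψ1⟩
      mul_mem' := by
        rintro _ _ ⟨g, hg, rfl⟩ ⟨h, hh, rfl⟩
        exact ⟨g * h, mul_mem hg hh, P.Ψ_mul g hg h hh⟩
      inv_mem' := by
        rintro _ ⟨g, hg, rfl⟩
        exact ⟨g⁻¹, inv_mem hg, eq_inv_of_mul_eq_one_left (by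
          rw [← P.Ψ_mul _ (inv_mem hg) _ hg, inv_mul_cancel, Ψ1])⟩ }
  have e : H = kerDS hQ := eq_ker hQ h8 P.v_ne u0 hne P.v_sing us uv
    (by rintro _ ⟨g, hg, rfl⟩; exact P.stab_mem g hg) P.stab_surj ⟨κ, hκ, rfl⟩
    (by rw [← P.act κ hκ v0 P.vQ, κ1])
  exact ⟨P.toQ0, fun g hg => e.le ⟨g, hg, rfl⟩, fun φ h => e.ge h⟩


end Cfsg.Agent.H76.AsQB
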