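import Mathlib
import Cfsg.Agent.H76.AsPreA

/-! The four-group `R` and the involution `t` (project AS, PRE and RP). -/

set_option autoImplicit false

namespace Cfsg.Agent.H76.AsPre

open Cfsg Subgroup Cfsg.Agent.H8 Cfsg.Agent.H28 Cfsg.Agent.H42.AS Cfsg.Agent.H72.ASB
open Cfsg.Agent.H72.ASWA (cV)
open scoped Pointwise commutatorElement

universe u

local instance factTwoPre' : Fact (Nat.Prime 2) := ⟨Nat.prime_two⟩

variable {G : Type u} [Group G] {D : RD G}

theorem frob_frob {φ ψ : G} (h1 : D.Frob φ) (h2 : D.Frob ψ) : φ⁻¹ * ψ ∈ D.K := by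
  have key : ∀ x y : G, φ * x * φ⁻¹ = y → ψ * x * ψ⁻¹ = y → x * (φ⁻¹ * ψ) = φ⁻¹ * ψ * x :=
    fun x y e1 e2 => by
      calc x * (φ⁻¹ * ψ) = φ⁻¹ * (φ * x * φ⁻¹) * ψ := by group
        _ = _ := by rw [e1, ← e2]; group
  refine mem_centralizer_iff.2 (comm_closure ?_)
  rintro x ((⟨t, rfl⟩ | ⟨t, rfl⟩) | rfl | rfl)
  · exact key _ _ (h1.1 t).1 (h2.1 t).1
  · exact key _ _ (h1.1 t).2.1 (h2.1 t).2.1
  · exact key _ _ (conj_of_eq h1.2.1) (conj_of_eq h2.2.1)
  · exact key _ _ (conj_of_eq h1.2.2) (conj_of_eq h2.2.2)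

theorem be1 (h : D.Rel) : ⁅D.xb 1, D.xe 1⁆ = D.xv 1 := by
  rw [commutatorElement_def, h.be, one_mul, mul_inv_cancel_right, h.ev, mul_inv_cancel_right]

theorem d0 (h : D.Rel) : D.xd 0 = 1 := one_of_add h.dd

theorem d_eq_one (h : D.Rel) {t : F4} (e : D.xd t = 1) : t = 0 :=
  (h.nf 0 0 0 t 0 0 (by
    rw [one_of_add h.aa, one_of_add h.bb, one_of_add h.cc, e, one_of_add h.ee, one_of_add h.vv]
    group)).2.2.2.1

theorem b_ne (h : D.Rel) {t : F4} (ht : t ≠ 0) : D.xb t ≠ 1 := fun e =>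
  ht (h.nf 0 t 0 0 0 0 (by
    rw [one_of_add h.aa, e, one_of_add h.cc, one_of_add h.dd, one_of_add h.ee, one_of_add h.vv]
    group)).2.1

theorem mem_X (h : D.Rel) {g : G} : g ∈ D.X ↔ ∃ t, g = D.xd t := mem_closure_range h.dd

theorem PS_ind {H : Subgroup G} (he : ∀ t, D.xe t ∈ H) (hv : ∀ t, D.xv t ∈ H)
    (hb : ∀ t, D.xb t ∈ H) (hn : D.nb ∈ H) : D.PS ≤ H := by
  refine (closure_le _).2 ?_
  rintro x (((⟨t, rfl⟩ | ⟨t, rfl⟩) | ⟨t, rfl⟩) | rfl)
  exacts [he t, hv t, hb t, hn]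

theorem xe_PS (t : F4) : D.xe t ∈ D.PS := subset_closure (.inl (.inl (.inl ⟨t, rfl⟩)))
theorem xv_PS (t : F4) : D.xv t ∈ D.PS := subset_closure (.inl (.inl (.inr ⟨t, rfl⟩)))
theorem xb_PS (t : F4) : D.xb t ∈ D.PS := subset_closure (.inl (.inr ⟨t, rfl⟩))
theorem nb_PS : D.nb ∈ D.PS := subset_closure (.inr rfl)
theorem xd_X (t : F4) : D.xd t ∈ D.X := subset_closure ⟨t, rfl⟩

theorem PS_A (h : D.Rel) : D.PS ≤ D.A := PS_ind (xe_A h) (xv_A h) xb_A nb_A

theorem X_A (h : D.Rel) : D.X ≤ D.A := fun x hx => by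
  obtain ⟨t, rfl⟩ := (mem_X h).1 hx; exact xd_A h t

theorem PS_d (h : D.Rel) (t : F4) : ∀ p ∈ D.PS, p * D.xd t = D.xd t * p := fun p hp =>
  mem_centralizer_singleton_iff.1 (PS_ind (H := centralizer {D.xd t})
    (fun s => mem_centralizer_singleton_iff.2 (h.de t s).symm)
    (fun s => mem_centralizer_singleton_iff.2 (h.dv t s).symm)
    (fun s => mem_centralizer_singleton_iff.2 (h.bd s t))
    (mem_centralizer_singleton_iff.2 (h.nbd t)) hp)

theorem XPS_d (h : D.Rel) (t : F4) : ∀ p ∈ D.X ⊔ D.PS, p * D.xd t = D.xd t * p := fun p hp =>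
  mem_centralizer_singleton_iff.1 (sup_le (b := D.PS) (c := centralizer {D.xd t}) (fun x hx => by
    obtain ⟨s, rfl⟩ := (mem_X h).1 hx
    exact mem_centralizer_singleton_iff.2 (by rw [← h.dd, ← h.dd, add_comm]))
    (fun x hx => mem_centralizer_singleton_iff.2 (PS_d h t x hx)) hp)

theorem XPS_comm (h : D.Rel) : ⁅D.X, D.PS⁆ = ⊥ :=
  H52.commutator_eq_bot_iff_forall.2 fun x hx p hp => by
    obtain ⟨s, rfl⟩ := (mem_X h).1 hx
    exact (PS_d h s p hp).symm

theorem card_range {x : F4 → G} (h : ∀ t u, x (t + u) = x t * x u) :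
    Nat.card (closure (Set.range x)) ≤ 4 := by
  have : Nat.card F4 = 4 := by rw [Nat.card_eq_fintype_card]; rfl
  rw [← this]
  refine Nat.card_le_card_of_surjective
    (fun t => (⟨x t, subset_closure ⟨t, rfl⟩⟩ : closure (Set.range x))) fun y => ?_
  obtain ⟨t, ht⟩ := (mem_closure_range h).1 y.2
  exact ⟨t, Subtype.ext ht.symm⟩

theorem d_PS [Finite G] (hF : D.Fa) : D.xd 1 ∉ D.PS := fun hd => by
  have h := hF.rel
  have h1 : D.X ⊔ D.PS ≤ zpowers (D.xd om) ⊔ D.PS := sup_le (fun x hx => by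
    obtain ⟨s, rfl⟩ := (mem_X h).1 hx
    rcases f4_cases s with rfl | rfl | rfl | rfl
    · rw [d0 h]; exact one_mem _
    · exact mem_sup_right hd
    · exact mem_sup_left (mem_zpowers _)
    · rw [om_sq, h.dd]; exact mul_mem (mem_sup_left (mem_zpowers _)) (mem_sup_right hd))
    le_sup_right
  have h2 := H1.card_sup_mul_card_inf_of_le_normalizer (A := zpowers (D.xd om)) (B := D.PS)
    (zpowers_le.2 (norm_of_comm fun p hp => (PS_d h om p hp).symm))
  have h3 : Nat.card (zpowers (D.xd om)) ≤ 2 := by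
    rw [Nat.card_zpowers]
    exact orderOf_le_of_pow_eq_one two_pos (by rw [pow_two, sq_of_add h.dd])
  have h4 := card_le_of_le h1
  have h5 : 0 < Nat.card (zpowers (D.xd om) ⊓ D.PS : Subgroup G) := Nat.card_pos
  rw [hF.par.cardXS] at h4
  rw [hF.par.cardPS] at h2
  nlinarith

variable [Finite G] (hF : D.Fa) (hs : IsStandardSubgroup D.A)
include hF hs

theorem std : Std D.A D.K (normalizer (D.A : Set G)) where
  comm a ha k hk := K_comm hk ha
  disj a ha hk := H72.ASRA.AK hF ha hk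
  te s hs' h1 h2 c hc := te hs hs' h1 h2 hc
  nA n hn a ha := (mem_normalizer_iff.1 hn a).1 ha
  nK n hn a ha := K_norm hs hn ha
  out m hm n hn := by
    have hAK : ⁅D.A, D.K⁆ = ⊥ := H52.commutator_eq_bot_iff_forall.2 fun a ha k hk => K_comm hk ha
    have hn1 : ∀ n ∈ normalizer (D.A : Set G), ∀ x ∈ D.A ⊔ D.K, n * x * n⁻¹ ∈ D.A ⊔ D.K :=
      fun n hn x hx => by
        obtain ⟨a, ha, k, hk, rfl⟩ := (H52.mem_sup_of_commutator_eq_bot hAK).1 hx
        convert mul_mem (mem_sup_left (T := D.K) ((mem_normalizer_iff.1 hn a).1 ha))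
          (mem_sup_right (K_norm hs hn hk)) using 1
        group
    suffices ⁅m, n⁆ ∈ D.A ⊔ D.K by
      obtain ⟨a, ha, k, hk, e⟩ := (H52.mem_sup_of_commutator_eq_bot hAK).1 this
      exact ⟨a, ha, k, hk, e.symm⟩
    rw [commutatorElement_def]
    obtain ⟨a, ha, h1 | h1⟩ := hF.glob.out m hm
    · have hm' : m ∈ D.A ⊔ D.K := (mul_mem_cancel_left (mem_sup_left ha)).1 (mem_sup_right h1)
      convert mul_mem hm' (hn1 n hn _ (inv_mem hm')) using 1; group
    obtain ⟨b, hb, h2 | h2⟩ := hF.glob.out n hn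
    · have hn' : n ∈ D.A ⊔ D.K := (mul_mem_cancel_left (mem_sup_left hb)).1 (mem_sup_right h2)
      exact mul_mem (hn1 m hm _ hn') (inv_mem hn')
    have h3 : n * m⁻¹ ∈ D.A ⊔ D.K := by
      convert mul_mem (mem_sup_left (T := D.K) (mul_mem (inv_mem hb) ha))
        (hn1 m hm _ (mem_sup_right (frob_frob h1 h2))) using 1
      group
    convert mul_mem (hn1 m hm _ h3) (inv_mem h3) using 1; group

omit hs in
theorem tyL : Ty D.A D.K (normalizer (D.A : Set G)) D.V D.P D.P where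
  C1A := P_A hF.rel
  ZC := (V_Q hF.rel).trans Q_P
  C01 := le_rfl
  cen z hz z1 a ha := ⟨fun hp => P_V hF.rel hp hz, fun e => by
    obtain ⟨t, rfl⟩ := (mem_V hF.rel).1 hz
    exact hF.glob.centV t (fun e => z1 (by rw [e, v0 hF.rel])) a ha e⟩
  sq z hz := V_sq hF.rel hz
  four := ⟨_, xv_V 1, _, xv_V om, fun e => one_ne_zero (v_eq_one hF.rel e),
    fun e => om_ne (v_eq_one hF.rel e), fun e => by
      rw [← hF.rel.vv] at e; exact absurd (v_eq_one hF.rel e) (by decide)⟩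
  card := card_range hF.rel.vv
  perf := hF.par.perfP
  gen H key := P_ind
    (fun t => key _ (L_P (xa_L t)) (sq_of_add hF.rel.aa t))
    (fun t => key _ (Q_P (xb_Q t)) (sq_of_add hF.rel.bb t))
    (fun t => key _ (Q_P (xc_Q t)) (sq_of_add hF.rel.cc t))
    (fun t => key _ (Q_P (xd_Q t)) (sq_of_add hF.rel.dd t))
    (fun t => key _ (Q_P (xe_Q t)) (sq_of_add hF.rel.ee t))
    (fun t => key _ (Q_P (xv_Q t)) (sq_of_add hF.rel.vv t)) (key _ (L_P na_L) hF.rel.na2)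
  cc n hn hc _ := by
    obtain ⟨k, hk, p, hp, rfl⟩ := cV hF hn fun t => hc _ (Q_P (xv_Q t))
    refine ⟨p, hF.par.cQA p hp fun q hq => ?_, k, hk, (K_comm hk (P_A hF.rel hp)).symm⟩
    have e := hc q (Q_P hq)
    rw [← mul_assoc, K_comm hk (P_A hF.rel (Q_P hq)), mul_assoc, mul_assoc] at e
    exact mul_left_cancel e

omit hs in
theorem tyS : Ty D.A D.K (normalizer (D.A : Set G)) D.X D.PS (D.X ⊔ D.PS) where
  C1A := sup_le (X_A hF.rel) (PS_A hF.rel)
  ZC := le_sup_left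
  C01 := le_sup_right
  cen z hz z1 a ha := by
    obtain ⟨t, rfl⟩ := (mem_X hF.rel).1 hz
    exact ⟨fun hp => XPS_d hF.rel t a hp,
      hF.glob.centX t (fun e => z1 (by rw [e, d0 hF.rel])) a ha⟩
  sq z hz := by
    obtain ⟨t, rfl⟩ := (mem_X hF.rel).1 hz
    exact sq_of_add hF.rel.dd t
  four := ⟨_, xd_X 1, _, xd_X om, fun e => one_ne_zero (d_eq_one hF.rel e),
    fun e => om_ne (d_eq_one hF.rel e), fun e => by
      rw [← hF.rel.dd] at e; exact absurd (d_eq_one hF.rel e) (by decide)⟩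
  card := card_range hF.rel.dd
  perf := hF.par.perfPS
  gen H key := PS_ind
    (fun t => key _ (xe_PS t) (sq_of_add hF.rel.ee t))
    (fun t => key _ (xv_PS t) (sq_of_add hF.rel.vv t))
    (fun t => key _ (xb_PS t) (sq_of_add hF.rel.bb t)) (key _ nb_PS hF.rel.nb2)
  cc n hn hc h2 := by
    obtain ⟨k, hk, p, hp, rfl⟩ := cV hF hn fun t => hc _ (xv_PS t)
    have pA := P_A hF.rel hp
    refine ⟨p, hF.par.cPS p hp (fun q hq => ?_) ?_, k, hk, (K_comm hk pA).symm⟩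
    · have e := hc q hq
      rw [← mul_assoc, K_comm hk (PS_A hF.rel hq), mul_assoc, mul_assoc] at e
      exact mul_left_cancel e
    · obtain ⟨m, hm⟩ := h2
      refine ⟨m, H72.ASRA.AK hF (pow_mem pA _) ?_⟩
      rw [(show Commute k p from (K_comm hk pA).symm).mul_pow] at hm
      rw [eq_inv_of_mul_eq_one_right hm]
      exact inv_mem (pow_mem hk _)

theorem not_le {g u : G} (hu : u ∈ MulAut.conj g • D.K) (uN : u ∈ normalizer (D.A : Set G))
    (uK : u ∉ D.K) : ¬ D.A ≤ MulAut.conj g • normalizer (D.A : Set G) := fun hle => by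
  have h := std hF hs
  have h' := h.conj g
  have := hF.glob.simple
  have hn : ((MulAut.conj g • D.K).subgroupOf D.A).Normal :=
    ⟨fun n hn a => mem_subgroupOf.2 (h'.nK a (hle a.2) n (mem_subgroupOf.1 hn))⟩
  rcases hn.eq_bot_or_eq_top with e | e
  · refine uK (mem_centralizer_iff.2 fun a ha => ?_)
    have h1 : a * u * a⁻¹ * u⁻¹ ∈ D.A := by
      convert mul_mem ha (h.nA u uN _ (inv_mem ha)) using 1; group
    have h2 : (⟨_, h1⟩ : D.A) ∈ (MulAut.conj g • D.K).subgroupOf D.A :=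
      mem_subgroupOf.2 (mul_mem (h'.nK a (hle ha) u hu) (inv_mem hu))
    rw [e, mem_bot] at h2
    have h3 : a * u * a⁻¹ * u⁻¹ = 1 := congrArg Subtype.val h2
    rwa [mul_inv_eq_one, mul_inv_eq_iff_eq_mul] at h3
  · refine hs.2.2.1 g (fun e1 => uK ?_) (H52.commutator_eq_bot_iff_forall.2 fun a ha b hb => ?_)
    · rw [map_conj_eq_smul, ← mem_normalizer_iff_conj_smul_eq] at e1
      convert h.nK g e1 _ (mem_conj_smul.1 hu) using 1; group
    · have : (⟨a, ha⟩ : D.A) ∈ (MulAut.conj g • D.K).subgroupOf D.A := e ▸ mem_top _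
      exact (h'.comm b hb a (mem_subgroupOf.1 this)).symm

/-- Step 1. -/
theorem exists_inner {g t : G} (ht : t ∈ MulAut.conj g • D.K) (tN : t ∈ normalizer (D.A : Set G))
    (t2 : t * t = 1) (tK : t ∉ D.K) :
    ∃ g' : G, ∃ a ∈ D.A, ∃ k ∈ D.K, a ≠ 1 ∧ a * k * (a * k) = 1 ∧
      a * k ∈ MulAut.conj g' • D.K := by
  have h := hF.rel
  by_cases h1 : ∃ a ∈ D.A, a * t ∈ D.K
  · obtain ⟨a, ha, hk⟩ := h1
    refine ⟨g, a⁻¹, inv_mem ha, a * t, hk, fun e => tK ?_, ?_, ?_⟩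
    · rwa [inv_eq_one.1 e, one_mul] at hk
    · rwa [inv_mul_cancel_left]
    · rwa [inv_mul_cancel_left]
  push Not at h1
  obtain ⟨a, ha, hf⟩ := hF.glob.outinv t tN (t2 ▸ one_mem _) h1
  set t' := a * t * a⁻¹ with ht'
  have h' := (std hF hs).conj (a * g)
  have h2 : t' ∈ MulAut.conj (a * g) • D.K := by
    rw [← conj_smul_conj_smul]; exact conj_mem_conj_smul.2 ht
  have h3 : t' * t' = 1 := by
    calc t' * t' = a * (t * t) * a⁻¹ := by rw [ht']; group
      _ = 1 := by rw [t2]; group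
  have h4 : t' ≠ 1 := fun e => tK (by
    have : t = 1 := by
      calc t = a⁻¹ * t' * a := by rw [ht']; group
        _ = 1 := by rw [e]; group
    rw [this]; exact one_mem _)
  have h5 : ∀ x, t' * x * t'⁻¹ = x → x ∈ MulAut.conj (a * g) • normalizer (D.A : Set G) :=
    fun x e => h'.te t' h2 h4 h3 x (by
      rw [← mul_inv_eq_iff_eq_mul.1 e, mul_inv_cancel_right]; exact h2)
  obtain ⟨a', ha', k', hk', e⟩ := h'.out _ (h5 _ (by simpa using (hf.1 1).2.1)) _
    (h5 _ (by simpa using (hf.1 1).2.2.2.2.1))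
  rw [be1 h] at e
  by_cases a1 : a' = 1
  · refine ⟨a * g, D.xv 1, xv_A h 1, 1, one_mem _, fun e => one_ne_zero (v_eq_one h e), ?_, ?_⟩
    · rw [mul_one, v_sq h]
    · rwa [mul_one, e, a1, one_mul]
  have h6 : D.xv om * t' * (D.xv om)⁻¹ = D.xv 1 * t' := by
    have e1 := (hf.1 om).2.2.2.2.2
    calc D.xv om * t' * (D.xv om)⁻¹ = D.xv om * (t' * D.xv om * t'⁻¹)⁻¹ * t' := by group
      _ = D.xv 1 * t' := by
        rw [e1, v_inv h, ← h.vv, om_sq, ← add_assoc, f4_add, zero_add]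
  set w := a * g
  have e2 : w⁻¹ * a' * w * (w⁻¹ * (k' * t') * w) = w⁻¹ * (D.xv om * t' * (D.xv om)⁻¹) * w := by
    rw [h6, e]; group
  refine ⟨w⁻¹ * D.xv om * w, _, mem_conj_smul.1 ha', _, mem_conj_smul.1 (mul_mem hk' h2),
    fun e3 => a1 ?_, ?_, ?_⟩
  · calc a' = w * (w⁻¹ * a' * w) * w⁻¹ := by group
      _ = 1 := by rw [e3]; group
  · rw [e2]
    calc _ = w⁻¹ * D.xv om * (t' * t') * (D.xv om)⁻¹ * w := by group
      _ = 1 := by rw [h3]; group
  · rw [e2, mem_conj_smul]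
    convert mem_conj_smul.1 h2 using 1; group

omit [Finite G] hs in
theorem inv_prime {g x : G} (hx : x ∈ MulAut.conj g • D.A) (x1 : x ≠ 1) (x2 : x * x = 1) :
    ∃ y ∈ D.A, y * g⁻¹ * x * (y * g⁻¹)⁻¹ = D.xv 1 ∨ y * g⁻¹ * x * (y * g⁻¹)⁻¹ = D.xd 1 := by
  obtain ⟨y, hy, e⟩ := hF.glob.inv _ (mem_conj_smul.1 hx) (by
    calc g⁻¹ * x * g * (g⁻¹ * x * g) = g⁻¹ * (x * x) * g := by group
      _ = 1 := by rw [x2]; group) fun e => x1 (by
    calc x = g * (g⁻¹ * x * g) * g⁻¹ := by group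
      _ = 1 := by rw [e]; group)
  refine ⟨y, hy, ?_⟩
  rwa [show y * g⁻¹ * x * (y * g⁻¹)⁻¹ = y * (g⁻¹ * x * g) * y⁻¹ by group]

omit [Finite G] hF hs in
theorem conj_back {g y x : G} (hy : y ∈ D.A) (hx : x ∈ MulAut.conj g • D.A) :
    y * g⁻¹ * x * (y * g⁻¹)⁻¹ ∈ D.A := by
  convert mul_mem (mul_mem hy (mem_conj_smul.1 hx)) (inv_mem hy) using 1; group

omit [Finite G] hF hs in
theorem conj_comm {w x z y : G} (e : w * z * w⁻¹ = y) (h : x * z = z * x) :
    w * x * w⁻¹ * y = y * (w * x * w⁻¹) := by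
  rw [← e]
  calc w * x * w⁻¹ * (w * z * w⁻¹) = w * (x * z) * w⁻¹ := by group
    _ = _ := by rw [h]; group

/-- From a short component to a long one. -/
theorem short_long {g k : G} (hk : k ∈ D.K) (u2 : D.xd 1 * k * (D.xd 1 * k) = 1)
    (hu : D.xd 1 * k ∈ MulAut.conj g • D.K) :
    ∃ g' : G, ∃ s, s ≠ 0 ∧ ∃ k ∈ D.K, D.xv s * k * (D.xv s * k) = 1 ∧
      D.xv s * k ∈ MulAut.conj g' • D.K := by
  have h := hF.rel
  have hS := std hF hs
  have d1 : D.xd 1 ≠ 1 := fun e => one_ne_zero (d_eq_one h e)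
  have hC := (tyS hF).le hS (hS.conj g) (xd_X 1) d1 hk hu u2
  by_cases hJ : ∀ x ∈ D.X ⊔ D.PS, x ∈ MulAut.conj g • D.K → x ∈ D.X
  swap
  · push Not at hJ
    obtain ⟨x, h1, h2, h3⟩ := hJ
    obtain ⟨t, t0, ht⟩ := hF.par.normS (MulAut.conj g • D.K)
      (fun c hc => mem_normalizer_fintype fun y hy => (hS.conj g).nK c (hC hc) y hy) ⟨x, h2, h1, h3⟩
    exact ⟨g, t, t0, 1, one_mem _, by rw [mul_one, v_sq h], by rwa [mul_one]⟩
  obtain ⟨-, -, -, -, -, -, -, -, -, hP⟩ := core hS hs.2.1 hs.2.2.2 le_normalizer (tyS hF)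
    (xd_X 1) d1 hk u2 hu hJ
  obtain ⟨y, hy, e | e⟩ := inv_prime hF (hP (xv_PS 1)) (fun e => one_ne_zero (v_eq_one h e))
    (v_sq h 1)
  · set w := y * g⁻¹ with hw
    have h1 : w * (D.xd 1 * k) * w⁻¹ ∈ D.K := by
      have := mem_conj_smul.1 hu
      rw [show w * (D.xd 1 * k) * w⁻¹ = y * (g⁻¹ * (D.xd 1 * k) * g) * y⁻¹ by rw [hw]; group,
        K_comm this hy, mul_inv_cancel_right]
      exact this
    have h2 : D.xc 1 * (D.xd 1 * k) * (D.xc 1)⁻¹ = D.xd 1 * k * D.xv 1 := by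
      rw [← mul_assoc, h.cd, one_mul, mul_assoc _ (D.xc 1), K_comm hk (xc_A h 1), ← mul_assoc,
        mul_inv_cancel_right, mul_assoc, K_comm hk (xv_A h 1), mul_assoc]
    have h3 : D.xv 1 * (w * (D.xd 1 * k) * w⁻¹) =
        w * D.xc 1 * (D.xd 1 * k) * (w * D.xc 1)⁻¹ := by
      rw [K_comm h1 (xv_A h 1), ← e]
      calc _ = w * (D.xd 1 * k * D.xv 1) * w⁻¹ := by group
        _ = _ := by rw [← h2]; group
    refine ⟨w * D.xc 1 * g, 1, one_ne_zero, _, h1, ?_, ?_⟩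
    · rw [h3]
      calc _ = w * D.xc 1 * (D.xd 1 * k * (D.xd 1 * k)) * (w * D.xc 1)⁻¹ := by group
        _ = 1 := by rw [u2]; group
    · rw [h3, ← conj_smul_conj_smul]; exact conj_mem_conj_smul.2 hu
  · exfalso
    have h1 := hF.glob.centX 1 one_ne_zero _ (conj_back hy (hP (xb_PS 1))) (conj_comm e (h.bv 1 1))
    have h2 := hF.glob.centX 1 one_ne_zero _ (conj_back hy (hP (xe_PS 1))) (conj_comm e (h.ev 1 1))
    have h3 := commutator_mem_commutator h1 h2
    have h4 : ⁅D.X, D.X⁆ = ⊥ := H52.commutator_eq_bot_iff_forall.2 fun a ha b hb =>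
      comm_of_sq (tyS hF).sq ha hb
    rw [H52.commutator_sup_sup_of_commute (XPS_comm h), h4, bot_sup_eq, hF.par.perfPS] at h3
    refine d_PS hF ?_
    rw [← e, ← be1 h]
    convert h3 using 1
    simp only [commutatorElement_def]; group

theorem exists_long {g t : G} (ht : t ∈ MulAut.conj g • D.K) (tN : t ∈ normalizer (D.A : Set G))
    (t2 : t * t = 1) (tK : t ∉ D.K) :
    ∃ g' : G, ∃ s, s ≠ 0 ∧ ∃ k ∈ D.K, D.xv s * k * (D.xv s * k) = 1 ∧
      D.xv s * k ∈ MulAut.conj g' • D.K := by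
  obtain ⟨g', a, ha, k, hk, a1, u2, hu⟩ := exists_inner hF hs ht tN t2 tK
  obtain ⟨y, hy, e⟩ := hF.glob.inv a ha ((std hF hs).sq ha hk u2).1 a1
  have e1 : y * a * y⁻¹ * k = y * (a * k) * y⁻¹ := by
    rw [mul_assoc, K_comm hk (inv_mem hy)]; group
  have e2 : y * a * y⁻¹ * k * (y * a * y⁻¹ * k) = 1 := by
    rw [e1]
    calc _ = y * (a * k * (a * k)) * y⁻¹ := by group
      _ = 1 := by rw [u2]; group
  have e3 : y * a * y⁻¹ * k ∈ MulAut.conj (y * g') • D.K := by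
    rw [e1, ← conj_smul_conj_smul]; exact conj_mem_conj_smul.2 hu
  rcases e with e | e <;> rw [e] at e2 e3
  · exact ⟨_, 1, one_ne_zero, k, hk, e2, e3⟩
  · exact short_long hF hs hk e2 e3

/-- The long configuration. -/
theorem long_cfg {g k : G} {s : F4} (s0 : s ≠ 0) (hk : k ∈ D.K)
    (u2 : D.xv s * k * (D.xv s * k) = 1) (hu : D.xv s * k ∈ MulAut.conj g • D.K) :
    k ≠ 1 ∧ ∃ R : Subgroup G, IsSylowIn 2 R D.K ∧ k ∈ R ∧ (∀ r ∈ R, r * r = 1) ∧ Nat.card R ≤ 4 ∧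
      ∃ h ∈ normalizer (D.V : Set G), (∀ r ∈ R, h * r * h⁻¹ ∈ R ⊔ D.V) ∧
        ∃ r ∈ R, h * r * h⁻¹ = D.xv s * k := by
  have h := hF.rel
  have hS := std hF hs
  have hS' := hS.conj g
  have v1 : D.xv s ≠ 1 := fun e => s0 (v_eq_one h e)
  have hC := (tyL hF).le hS hS' (xv_V s) v1 hk hu u2
  have hKN : D.K ≤ normalizer (D.A : Set G) := centralizer_le_normalizer _
  have hnl := not_le hF hs hu (mul_mem (le_normalizer (xv_A h s)) (hKN hk))
    fun e => v1 (hS.disj _ (xv_A h s) ((D.K.mul_mem_cancel_right hk).1 e))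
  have hJ : ∀ x ∈ D.P, x ∈ MulAut.conj g • D.K → x ∈ D.V := fun x h1 h2 => by
    by_contra h3
    obtain ⟨t, t0, ht⟩ := hF.par.normP (MulAut.conj g • D.K)
      (fun c hc => mem_normalizer_fintype fun y hy => hS'.nK c (hC hc) y hy) ⟨x, h2, h1, h3⟩
    exact hnl (hF.glob.genP t t0 _ hC fun a _ e => hS'.te _ ht (b_ne h t0) (sq_of_add h.bb t) a (by
      rw [e, mul_inv_cancel_right]; exact ht))
  obtain ⟨R, T, hR, hT, huT, hkR, hTR, hsq, hcard, hP⟩ := core hS hs.2.1 hs.2.2.2 le_normalizer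
    (tyL hF) (xv_V s) v1 hk u2 hu hJ
  refine ⟨fun e => v1 (hS'.disj _ (hP (Q_P (xv_Q s))) (by rwa [e, mul_one] at hu)), R, hR, hkR,
    hsq, hcard, ?_⟩
  obtain ⟨y, hy, e | e⟩ := inv_prime hF (hP (Q_P (xv_Q 1))) (fun e => one_ne_zero (v_eq_one h e))
    (v_sq h 1)
  swap
  · exfalso
    have h1 : MulAut.conj (y * g⁻¹) • D.P ≤ D.X ⊔ D.PS := by
      rintro _ ⟨p, hp, rfl⟩
      exact hF.glob.centX 1 one_ne_zero _ (conj_back hy (hP hp)) (conj_comm e (P_v h hp 1))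
    have h2 := card_le_of_le h1
    rw [card_conj_smul, hF.par.cardP, hF.par.cardXS] at h2
    omega
  set w := y * g⁻¹ with hw
  have wP : w ∈ normalizer (D.P : Set G) := mem_normalizer_fintype fun p hp =>
    hF.glob.centV 1 one_ne_zero _ (conj_back hy (hP hp)) (conj_comm e (P_v h hp 1))
  have wV : w ∈ normalizer (D.V : Set G) := mem_normalizer_fintype fun x hx => by
    refine hF.par.cQA _ ((mem_normalizer_iff.1 wP x).1 (Q_P (V_Q h hx))) fun q hq => ?_
    have h1 := P_V h ((mem_normalizer_iff''.1 wP q).1 (Q_P hq)) hx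
    calc w * x * w⁻¹ * q = w * (x * (w⁻¹ * q * w)) * w⁻¹ := by group
      _ = _ := by rw [← h1]; group
  have hT' := hT.conj_smul g⁻¹
  rw [conj_inv_smul_conj_smul] at hT'
  obtain ⟨k1, hk1, e1⟩ := hR.exists_conj_eq hT'
  have key : ∀ r, r ∈ R ↔ w⁻¹ * k1 * r * (w⁻¹ * k1)⁻¹ ∈ T := fun r => by
    have h1 : ∀ x ∈ D.K, w⁻¹ * x * w = g * x * g⁻¹ := fun x hx => by
      rw [hw, mul_inv_rev, inv_inv, mul_assoc g, K_comm hx (inv_mem hy)]; group
    rw [← conj_mem_conj_smul (g := k1), e1, mem_conj_smul, inv_inv]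
    constructor
    · intro h2
      have h3 : k1 * r * k1⁻¹ ∈ D.K := by
        have := mem_conj_smul.1 (hT.le h2)
        convert this using 1; group
      rw [← h1 _ h3] at h2
      convert h2 using 1; group
    · intro h2
      have h3 : k1 * r * k1⁻¹ ∈ D.K := by
        have h4 := mem_conj_smul.1 (hT.le h2)
        have h5 := hS.nK y (le_normalizer hy) _ h4
        convert h5 using 1; rw [hw]; group
      rw [← h1 _ h3]
      convert h2 using 1; group
  refine ⟨w⁻¹ * k1, mul_mem (inv_mem wV) (norm_of_comm fun x hx =>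
    (K_comm hk1 (P_A h (Q_P (V_Q h hx)))).symm), fun r hr => ?_,
    (w⁻¹ * k1)⁻¹ * (D.xv s * k) * (w⁻¹ * k1), (key _).2 ?_, by group⟩
  · obtain ⟨z, hz, r', hr', e2⟩ := hTR _ ((key r).1 hr)
    rw [e2]; exact mul_mem (mem_sup_right hz) (mem_sup_left hr')
  · convert huT using 1; group

theorem noD {g k : G} (hk : k ∈ D.K) (hv : g * k * g⁻¹ ∈ D.V) : k = 1 := by
  obtain ⟨s, e⟩ := (mem_V hF.rel).1 hv
  by_cases s0 : s = 0
  · rw [s0, v0 hF.rel] at e
    calc k = g⁻¹ * (g * k * g⁻¹) * g := by group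
      _ = 1 := by rw [e]; group
  · exact absurd rfl (long_cfg hF hs (g := g) s0 (one_mem _) (by rw [mul_one, v_sq hF.rel])
      (by rw [mul_one, ← e]; exact conj_mem_conj_smul.2 hk)).1

theorem exists_pd (hr : ¬ PRankLE 2 1 D.K) {g : G} (hg : g ∉ normalizer (D.A : Set G))
    (he : Even (Nat.card ↥(D.K.map (MulAut.conj g).toMonoidHom ⊓ normalizer (D.A : Set G)))) :
    ∃ R, PD D R := by
  obtain ⟨⟨t, ht⟩, t2⟩ := exists_prime_orderOf_dvd_card' 2 he.two_dvd
  rw [← orderOf_coe] at t2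
  have t2' : t * t = 1 := by rw [← pow_two, ← t2]; exact pow_orderOf_eq_one t
  have t1 : t ≠ 1 := fun e => by simp [e] at t2
  have ht1 : t ∈ MulAut.conj g • D.K := ht.1
  obtain ⟨g', s, s0, k, hk, u2, hu⟩ := exists_long hF hs ht1 ht.2 t2' fun tK => hg
    (te hs (mem_conj_smul.1 ht1) (fun e => t1 (by
      calc t = g * (g⁻¹ * t * g) * g⁻¹ := by group
        _ = 1 := by rw [e]; group)) (by
      calc g⁻¹ * t * g * (g⁻¹ * t * g) = g⁻¹ * (t * t) * g := by group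
        _ = 1 := by rw [t2']; group) (by convert tK using 1; group))
  obtain ⟨-, R, hR, -, hsq, hcard, h, hV, h1, r, hr', e⟩ := long_cfg hF hs s0 hk u2 hu
  refine ⟨R, hs, hR, ?_, hsq, ⟨h, mem_normalizer_fintype fun x hx => ?_, hV, fun hn => ?_⟩,
    fun g k hk hv => noD hF hs hk hv⟩
  · unfold PRankLE at hr
    push Not at hr
    obtain ⟨B, -, hB, hc⟩ := hr
    have h2 := hR.card_le (Q := B.map D.K.subtype) (by
      rintro ⟨_, b, hb, rfl⟩
      exact ⟨1, Subtype.ext (by simpa using congrArg Subtype.val (hB b hb))⟩) (map_subtype_le B)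
    rw [card_map_of_injective D.K.subtype_injective] at h2
    obtain ⟨n, hn⟩ := hR.isPGroup.exists_card_eq
    rw [hn] at h2 hcard ⊢
    match n, h2, hcard with
    | 0, h2, _ => omega
    | 1, h2, _ => omega
    | 2, _, _ => rfl
    | n + 3, _, h3 => exact absurd h3 (by rw [pow_add]; have := Nat.one_le_two_pow (n := n); omega)
  · have : R ⊔ D.V ≤ (R ⊔ D.V).comap (MulAut.conj h).toMonoidHom :=
      sup_le (fun r hr => h1 r hr) fun v hv => mem_sup_right ((mem_normalizer_iff.1 hV v).1 hv)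
    exact this hx
  · have h2 := hR.le ((mem_normalizer_iff.1 hn r).1 hr')
    rw [e] at h2
    exact s0 (v_eq_one hF.rel (H72.ASRA.AK hF (xv_A hF.rel s) ((D.K.mul_mem_cancel_right hk).1 h2)))

omit hF hs in
theorem rank1 {K : Subgroup G} (hr : PRankLE 2 1 K) {x y : G} (hx : x ∈ K) (hy : y ∈ K)
    (x2 : x * x = 1) (y2 : y * y = 1) (c : x * y = y * x) (x1 : x ≠ 1) (y1 : y ≠ 1) : x = y := by
  by_contra hne
  have hc : ⁅zpowers x, zpowers y⁆ = ⊥ := H52.commutator_eq_bot_iff_forall.2 (by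
    rintro _ ⟨m, rfl⟩ _ ⟨n, rfl⟩
    exact (Commute.zpow_zpow c m n).eq)
  have hsq : ∀ b ∈ zpowers x ⊔ zpowers y, b * b = 1 := fun b hb => by
    obtain ⟨a, ha, b, hb', rfl⟩ := (H52.mem_sup_of_commutator_eq_bot hc).1 hb
    rcases H72.ASRA.memR x2 ha with rfl | rfl <;> rcases H72.ASRA.memR y2 hb' with rfl | rfl
    · simp
    · simpa using y2
    · simpa using x2
    · rw [mul_assoc, ← mul_assoc b, ← c, ← mul_assoc, ← mul_assoc, x2, one_mul, y2]
  have hle : zpowers x ⊔ zpowers y ≤ K := sup_le (zpowers_le.2 hx) (zpowers_le.2 hy)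
  have h1 := hr ((zpowers x ⊔ zpowers y).subgroupOf K)
    ⟨⟨fun a b => Subtype.ext (Subtype.ext (comm_of_sq hsq a.2 b.2))⟩⟩
    fun a ha => Subtype.ext (by simpa [pow_two] using hsq _ ha)
  rw [Nat.card_congr (subgroupOfEquivOfLe hle).toEquiv] at h1
  have h2 : zpowers x < zpowers x ⊔ zpowers y := left_lt_sup.2 fun e => by
    rcases H72.ASRA.memR x2 (e (mem_zpowers y)) with e1 | e1
    · exact y1 e1
    · exact hne e1.symm
  have h3 : Nat.card (zpowers x) = 2 := by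
    rw [Nat.card_zpowers]; exact orderOf_eq_prime (by rwa [pow_two]) x1
  exact h2.ne (eq_of_le_of_card_ge h2.le (by omega))

theorem exists_rp (hr : PRankLE 2 1 D.K) {t g : G} (tK : t ∈ D.K) (t2 : orderOf t = 2)
    (h1 : g * t * g⁻¹ ≠ t) (h2 : g * t * g⁻¹ * t = t * (g * t * g⁻¹)) : ∃ O, RP D t O := by
  have h := hF.rel
  have t2' : t * t = 1 := by rw [← pow_two, ← t2]; exact pow_orderOf_eq_one t
  have t1 : t ≠ 1 := fun e => by simp [e] at t2
  have ct : ∀ g, g * t = t * g → g ∈ normalizer (D.A : Set G) := fun g e =>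
    te hs tK t1 t2' (by rwa [e, mul_inv_cancel_right])
  have g2 : g * t * g⁻¹ * (g * t * g⁻¹) = 1 := by
    calc _ = g * (t * t) * g⁻¹ := by group
      _ = 1 := by rw [t2']; group
  obtain ⟨g', s, s0, k, hk, u2, hu⟩ := exists_long hF hs (conj_mem_conj_smul.2 tK) (ct _ h2) g2
    fun e => h1 (rank1 hr e tK g2 t2' h2 (by simpa using t1) t1)
  obtain ⟨k1, R, hR, hkR, hsq, -, x, hV, -, r, hr', e⟩ := long_cfg hF hs s0 hk u2 hu
  have memR : ∀ r ∈ R, r ≠ 1 → r = k := fun r hr' r1 =>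
    rank1 hr (hR.le hr') hk (hsq r hr') (hsq k hkR) (comm_of_sq hsq hr' hkR) r1 k1
  have rk : r = k := memR r hr' fun e1 => by
    rw [e1, mul_one, mul_inv_cancel] at e
    exact s0 (v_eq_one h (H72.ASRA.AK hF (xv_A h s) (by
      rw [eq_inv_of_mul_eq_one_left e.symm]; exact inv_mem hk)))
  subst rk
  obtain ⟨c, hc, hle⟩ := hR.exists_conj_le (two_zpowers t2') (zpowers_le.2 tK)
  have e1 : c * t * c⁻¹ = r := memR _ (hle (conj_mem_conj_smul.2 (mem_zpowers t))) (by simpa using t1)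
  -- `⟨t⟩` is a Sylow subgroup of `K`
  have hsyl : IsSylowIn 2 (zpowers t) D.K := hR.of_card_ge (two_zpowers t2') (zpowers_le.2 tK) (by
    have : R ≤ zpowers r := fun y hy => by
      by_cases y1 : y = 1
      · rw [y1]; exact one_mem _
      · rw [memR y hy y1]; exact mem_zpowers r
    refine (card_le_of_le this).trans ?_
    rw [Nat.card_zpowers, Nat.card_zpowers, t2]
    exact orderOf_le_of_pow_eq_one two_pos (by rw [pow_two, hsq r hkR]))
  set C := D.K ⊓ centralizer ({t} : Set G) with hC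
  have h3 : zpowers t ≤ C := zpowers_le.2 ⟨tK, mem_centralizer_singleton_iff.2 rfl⟩
  have : ((zpowers t).subgroupOf C).Normal := ⟨fun n hn g => by
    rw [mem_subgroupOf] at hn ⊢
    push_cast
    rcases H72.ASRA.memR t2' hn with e | e <;> rw [e]
    · simp
    · rw [mem_centralizer_singleton_iff.1 g.2.2, mul_inv_cancel_right]; exact mem_zpowers t⟩
  have h4 : Odd ((zpowers t).subgroupOf C).index :=
    Nat.not_even_iff_odd.1 fun e => (hsyl.mono h3 inf_le_left).not_dvd e.two_dvd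
  obtain ⟨H, hH⟩ := exists_right_complement'_of_coprime (N := (zpowers t).subgroupOf C) (by
    rw [Nat.card_congr (subgroupOfEquivOfLe h3).toEquiv, Nat.card_zpowers, t2]
    exact Nat.coprime_two_left.2 h4)
  refine ⟨H.map C.subtype, hs, tK, t1, t2', (map_subtype_le H).trans inf_le_left, ?_, fun o ho =>
    mem_centralizer_singleton_iff.1 (map_subtype_le H ho).2, fun k hk hc => ?_, ct,
    fun g hg hv => cV hF hg hv, ?_, fun g hv => t1 (noD hF hs tK hv)⟩
  · rwa [card_map_of_injective C.subtype_injective, ← hH.symm.index_eq_card]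
  · obtain ⟨⟨a, b⟩, e⟩ := (hH.existsUnique ⟨k, hk, mem_centralizer_singleton_iff.2 hc⟩).exists
    have e2 : ((a : C) : G) * (b : C) = k := congrArg Subtype.val e
    have hb : ((b : C) : G) ∈ H.map C.subtype := ⟨_, b.2, rfl⟩
    rcases H72.ASRA.memR t2' (mem_subgroupOf.1 a.2) with e3 | e3 <;> rw [e3] at e2
    · left; rwa [← e2, one_mul]
    · right; rwa [← e2, ← mul_assoc, t2', one_mul]
  · have cV' : c ∈ normalizer (D.V : Set G) := norm_of_comm fun x hx =>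
      (K_comm hc (P_A h (Q_P (V_Q h hx)))).symm
    have rV : D.rho ∈ normalizer (D.V : Set G) := mem_normalizer_fintype fun x hx => by
      obtain ⟨a, rfl⟩ := (mem_V h).1 hx
      rw [conj_of_eq (h.rv a)]; exact xv_V _
    have step : ∀ s, (∃ g ∈ normalizer (D.V : Set G), g * t * g⁻¹ = t * D.xv s) →
        ∃ g ∈ normalizer (D.V : Set G), g * t * g⁻¹ = t * D.xv (om ^ 2 * s) := by
      rintro s ⟨g, hg, e⟩
      refine ⟨D.rho * g, mul_mem rV hg, ?_⟩
      calc _ = D.rho * (g * t * g⁻¹) * D.rho⁻¹ := by group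
        _ = _ := by
          rw [e, ← mul_assoc, K_comm tK rho_A, mul_assoc t, h.rv, ← mul_assoc, mul_inv_cancel_right]
    have base : ∃ g ∈ normalizer (D.V : Set G), g * t * g⁻¹ = t * D.xv s := by
      refine ⟨c⁻¹ * x * c, mul_mem (mul_mem (inv_mem cV') hV) cV', ?_⟩
      calc _ = c⁻¹ * (x * (c * t * c⁻¹) * x⁻¹) * c := by group
        _ = c⁻¹ * (D.xv s * (c * t * c⁻¹)) * c := by rw [e1, e]
        _ = _ := by
          rw [← mul_assoc, ← K_comm (inv_mem hc) (xv_A h s), ← K_comm tK (xv_A h s)]; group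
    rcases f4_cases s with rfl | rfl | rfl | rfl
    · exact absurd rfl s0
    · exact base
    · have := step _ base
      rwa [show om ^ 2 * om = 1 by decide] at this
    · have := step _ (step _ base)
      rwa [show om ^ 2 * (om ^ 2 * om ^ 2) = 1 by decide] at this

end Cfsg.Agent.H76.AsPre

namespace Cfsg.Agent.H76.AsPre

universe u

theorem pre : Cfsg.Agent.H42.AS.PreStmt.{u} := fun _ _ _ _ hF hs hr ⟨_, hg, he⟩ =>
  exists_pd hF hs hr hg he

theorem rp : Cfsg.Agent.H42.AS.RPStmt.{u} := fun _ _ _ _ _ hF hs hr tK t2 ⟨_, h1, h2⟩ =>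
  exists_rp hF hs hr tK t2 h1 h2

end Cfsg.Agent.H76.AsPre
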