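import Mathlib
import Cfsg.Agent.H76.AlPreA

/-! Project AL, PRE: no conjugate of an involution of `K` lies in `A`. -/

set_option autoImplicit false

namespace Cfsg.Agent.H76.Al

open Cfsg Subgroup Cfsg.Agent.H8 Cfsg.Agent.H28 Cfsg.Agent.H42.AL
open Cfsg.Agent.H42.AS (om)
open Cfsg.Agent.H72.ASB (one_of_add sq_of_add inv_of_add conj_of_eq)
open Cfsg.Agent.H76.AsPre (norm_of_comm two_zpowers mem_syl comm_of_sq)
open scoped Pointwise commutatorElement

universe u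

local instance factTwoAlB : Fact (Nat.Prime 2) := ⟨Nat.prime_two⟩

variable {G : Type u} [Group G] {D : RD G}

theorem cm {H : Subgroup G} {g x : G} : MulAut.conj g x ∈ MulAut.conj g • H ↔ x ∈ H :=
  conj_mem_conj_smul

theorem cj_sq {x : G} (h : x * x = 1) (g : G) : g * x * g⁻¹ * (g * x * g⁻¹) = 1 := by
  calc _ = g * (x * x) * g⁻¹ := by group
    _ = 1 := by rw [h]; group

theorem cj_sq' {x : G} (h : x * x = 1) (g : G) : g⁻¹ * x * g * (g⁻¹ * x * g) = 1 := by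
  simpa using cj_sq h g⁻¹

theorem z_ne (h : D.Rel) : D.xv 1 ≠ 1 := fun e => one_ne_zero (v_eq_one h e)

theorem out4' (hF : D.Fa) {g r s x y : G} (hr : r ∈ MulAut.conj g • D.N)
    (hs : s ∈ MulAut.conj g • D.N) (r2 : r * r = 1) (s2 : s * s = 1) (rs : r * s * (r * s) = 1)
    (hx : x ∈ MulAut.conj g • D.A) (hy : y ∈ MulAut.conj g • D.A) (x2 : x * x = 1)
    (y2 : y * y = 1) (xy : x * y = y * x) (x1 : x ≠ 1) (y1 : y ≠ 1) (hne : x ≠ y)
    (c1 : r * x = x * r) (c2 : r * y = y * r) (c3 : s * x = x * s) (c4 : s * y = y * s) :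
    ∃ a ∈ MulAut.conj g • D.A, a * r ∈ MulAut.conj g • D.K ∨ a * s ∈ MulAut.conj g • D.K ∨
      a * (r * s) ∈ MulAut.conj g • D.K := by
  obtain ⟨r, rfl⟩ := (MulAut.conj g).surjective r
  obtain ⟨s, rfl⟩ := (MulAut.conj g).surjective s
  obtain ⟨x, rfl⟩ := (MulAut.conj g).surjective x
  obtain ⟨y, rfl⟩ := (MulAut.conj g).surjective y
  simp only [← map_mul, cm, EmbeddingLike.apply_eq_iff_eq, MulEquiv.map_eq_one_iff, ne_eq] at *
  by_contra hn
  push Not at hn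
  refine hF.par.out4 r hr s hs (r2 ▸ one_mem _) (s2 ▸ one_mem _) (rs ▸ one_mem _) (fun a ha => ?_)
    x hx y hy x2 y2 xy x1 y1 hne ⟨c1, c2, c3, c4⟩
  simpa only [← map_mul, cm] using hn _ (cm.2 ha)

theorem inv_conj (hF : D.Fa) {a b : G} (ha : a ∈ D.A) (hb : b ∈ D.A) (a2 : a * a = 1)
    (b2 : b * b = 1) (a1 : a ≠ 1) (b1 : b ≠ 1) : ∃ c ∈ D.A, c * a * c⁻¹ = b := by
  obtain ⟨y, hy, e⟩ := hF.glob.inv a ha a2 a1
  obtain ⟨y', hy', e'⟩ := hF.glob.inv b hb b2 b1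
  refine ⟨y'⁻¹ * y, mul_mem (inv_mem hy') hy, ?_⟩
  calc _ = y'⁻¹ * (y * a * y⁻¹) * y' := by group
    _ = b := by rw [e, ← e']; group

theorem pigeon (hF : D.Fa) (φ : G →* G) (hU : ∀ u ∈ D.U, φ u ∈ D.N) :
    ∃ a b c, ¬ (a = 0 ∧ b = 0) ∧ Tp D D.A (φ (uu D a b c)) false false := by
  obtain ⟨b1, f1, h1⟩ := tp_of (hF.glob.out _ (hU _ (uu_U 1 0 0)))
  obtain ⟨b2, f2, h2⟩ := tp_of (hF.glob.out _ (hU _ (uu_U om 0 0)))
  obtain ⟨b3, f3, h3⟩ := tp_of (hF.glob.out _ (hU _ (uu_U 0 1 0)))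
  have h12 := h1.mul h2 (hU _ (uu_U _ _ _))
  have h13 := h1.mul h3 (hU _ (uu_U _ _ _))
  have h23 := h2.mul h3 (hU _ (uu_U _ _ _))
  have h123 := h1.mul h23 (hU _ (uu_U _ _ _))
  simp only [← map_mul, uu_mul hF.rel] at h12 h13 h23 h123
  cases b1 <;> cases b2 <;> cases b3 <;> cases f1 <;> cases f2 <;> cases f3 <;>
    first
    | exact ⟨_, _, _, by decide, h1⟩
    | exact ⟨_, _, _, by decide, h2⟩
    | exact ⟨_, _, _, by decide, h3⟩
    | exact ⟨_, _, _, by decide, h12⟩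
    | exact ⟨_, _, _, by decide, h13⟩
    | exact ⟨_, _, _, by decide, h23⟩
    | exact ⟨_, _, _, by decide, h123⟩

variable [Finite G] (hF : D.Fa) (hs : IsStandardSubgroup D.A)
include hF hs

theorem sd : Sd D.A D.K D.N where
  comm a ha k hk := K_comm hk ha
  disj := hF.par.AK
  te k hk h1 h2 g hg := by
    rw [RD.N, hs.2.2.2]
    by_contra hn
    have h3 : g * k * g⁻¹ ∈ D.K ⊓ D.K.map (MulAut.conj g).toMonoidHom := ⟨hg, k, hk, rfl⟩
    have h4 := (hs.2.1.2 g hn).of_dvd_nat (orderOf_dvd_natCard _ h3)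
    exact h1 (by simpa using H86.U3.eq_one_of_odd_of_two h4 (n := 1) (by
      rw [pow_one, pow_two, cj_sq h2]))
  nA n hn a ha := (mem_normalizer_iff.1 hn a).1 ha
  nK n hn a ha := by
    rw [RD.N, hs.2.2.2] at hn
    exact (mem_normalizer_iff.1 hn a).1 ha
  out m hm n hn h2 :=
    hF.par.comm2 _ (commutator_mem_commutator hm hn) ⟨1, by rw [pow_one, pow_two, h2]⟩

omit [Finite G] hF in
theorem N_eq : D.N = normalizer (D.K : Set G) := hs.2.2.2

theorem not_le {g u : G} (hu : u ∈ MulAut.conj g • D.K) (uN : u ∈ D.N)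
    (uK : u ∉ D.K) : ¬ D.A ≤ MulAut.conj g • D.N := fun hle => by
  have h := sd hF hs
  have h' := h.conj g
  have := hF.glob.simple
  have hn : ((MulAut.conj g • D.K).subgroupOf D.A).Normal :=
    ⟨fun n hn a => mem_subgroupOf.2 (h'.nK a (hle a.2) n (mem_subgroupOf.1 hn))⟩
  rcases hn.eq_bot_or_eq_top with e | e
  · refine uK (mem_centralizer_iff.2 fun a ha => ?_)
    have h1 : a * u * a⁻¹ * u⁻¹ ∈ D.A := by
      convert mul_mem ha (h.nA u uN _ (inv_mem ha)) using 1; group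
    have h2 : (⟨_, h1⟩ : D.A) ∈ (MulAut.conj g • D.K).subgroupOf D.A :=
      mem_subgroupOf.2 (mul_mem (h'.nK a (hle ha) u hu) (inv_mem hu))
    rw [e, mem_bot] at h2
    have h3 : a * u * a⁻¹ * u⁻¹ = 1 := congrArg Subtype.val h2
    rwa [mul_inv_eq_one, mul_inv_eq_iff_eq_mul] at h3
  · refine hs.2.2.1 g (fun e1 => uK ?_) (H52.commutator_eq_bot_iff_forall.2 fun a ha b hb => ?_)
    · rw [map_conj_eq_smul, ← mem_normalizer_iff_conj_smul_eq] at e1
      convert h.nK g e1 _ (mem_conj_smul.1 hu) using 1; group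
    · have : (⟨a, ha⟩ : D.A) ∈ (MulAut.conj g • D.K).subgroupOf D.A := e ▸ mem_top _
      exact (h'.comm b hb a (mem_subgroupOf.1 this)).symm

omit [Finite G] in
theorem exists_g {g x : G} (hx : x ∈ MulAut.conj g • D.A) (x1 : x ≠ 1) (x2 : x * x = 1) :
    ∃ p, MulAut.conj p • D.A = MulAut.conj g • D.A ∧ MulAut.conj p • D.K = MulAut.conj g • D.K ∧
      MulAut.conj p • D.N = MulAut.conj g • D.N ∧ x = p * D.xv 1 * p⁻¹ ∧
      ∀ k ∈ D.K, p * k * p⁻¹ = g * k * g⁻¹ := by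
  obtain ⟨y, hy, e⟩ := hF.glob.inv _ (mem_conj_smul.1 hx) (cj_sq' x2 g) (by
    simpa [mul_inv_eq_one, inv_mul_eq_one, mul_eq_one_iff_eq_inv'] using x1)
  have hN : y⁻¹ ∈ D.N := le_normalizer (inv_mem hy)
  refine ⟨g * y⁻¹, ?_, ?_, ?_, by rw [← e]; group, fun k hk => ?_⟩
  · rw [← conj_smul_conj_smul, mem_normalizer_iff_conj_smul_eq.1 hN]
  · rw [← conj_smul_conj_smul, mem_normalizer_iff_conj_smul_eq.1 ((N_eq hs).le hN)]
  · rw [← conj_smul_conj_smul, mem_normalizer_iff_conj_smul_eq.1 (le_normalizer hN)]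
  · rw [mul_assoc g, K_comm hk (inv_mem hy)]; group

section zk
variable {g k : G} (hk : k ∈ D.K) (u2 : D.xv 1 * k * (D.xv 1 * k) = 1)
  (hu : D.xv 1 * k ∈ MulAut.conj g • D.K)
include hk hu

omit [Finite G] hs hu in
theorem u_not : D.xv 1 * k ∉ D.K := fun e =>
  z_ne hF.rel (hF.par.AK _ (xv_A hF.rel 1) ((D.K.mul_mem_cancel_right hk).1 e))

omit [Finite G] hs in
theorem g_not : g ∉ normalizer (D.K : Set G) := fun e =>
  u_not hF hk (by rwa [mem_normalizer_iff_conj_smul_eq.1 e] at hu)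

include u2 in
theorem U_le : D.U ≤ MulAut.conj g • D.N := fun u hu' =>
  ((sd hF hs).conj g).cent hu (fun e => u_not hF hk (e ▸ one_mem _)) u2 (by
    rw [← mul_assoc, U_v hF.rel hu', mul_assoc, K_comm hk (U_A hF.rel hu'), mul_assoc])

end zk

theorem noV {g : G} (hV : ∀ t, D.xv t ∈ MulAut.conj g • D.K) : False := by
  have h := hF.rel
  have hS := sd hF hs
  have hS' := hS.conj g
  have z1 := z_ne h
  have hU : D.U ≤ MulAut.conj g • D.N := fun u hu => hS'.cent (hV 1) z1 (v_sq h 1) (U_v h hu 1)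
  have hK : D.K ≤ MulAut.conj g • D.N := fun k hk =>
    hS'.cent (hV 1) z1 (v_sq h 1) (K_comm hk (xv_A h 1)).symm
  have hρ : D.rho ∈ MulAut.conj g • D.N :=
    hS'.te _ (hV 1) z1 (v_sq h 1) _ (by rw [rho_v h]; exact hV _)
  have zK : D.xv 1 ∉ D.K := fun e => z1 (hS.disj _ (xv_A h 1) e)
  obtain ⟨f, fadd, fU, fρ, f1⟩ : ∃ f : F4 → G, (∀ t u, f (t + u) = f t * f u) ∧
      (∀ t, f t ∈ D.U) ∧ (∀ t, D.rho * f t = f (om * t) * D.rho) ∧
      f 1 ∉ MulAut.conj g • D.K := by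
    by_contra hn
    push Not at hn
    refine not_le hF hs (hV 1) (le_normalizer (xv_A h 1)) zK (hF.par.genU _ hU
      (fun a _ e => hS'.cent (hn D.xe h.ee xe_U h.re) (fun e => ?_) (sq_of_add h.ee 1) e)
      fun a _ e => hS'.cent (hn D.xb h.bb xb_U h.rb) (fun e => ?_) (sq_of_add h.bb 1) e)
    · rw [uu_e h, ← uu_one h] at e; exact one_ne_zero (uu_inj h e).1
    · rw [uu_b h, ← uu_one h] at e; exact one_ne_zero (uu_inj h e).2.1
  have fc : ⁅D.rho, f om⁆ = f 1 := by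
    rw [commutatorElement_def, conj_of_eq (fρ om), inv_of_add fadd, ← fadd]; congr 1
  have ρK : D.rho ∉ MulAut.conj g • D.K := fun e => f1 (by
    rw [← fc, commutatorElement_def]
    convert mul_mem e (hS'.nK _ (hU (fU om)) _ (inv_mem e)) using 1; group)
  obtain ⟨x, hx, k, hk, e⟩ := hS'.out _ hρ _ (hU (fU om)) (by rw [fc]; exact sq_of_add fadd 1)
  rw [fc] at e
  have hy := hS'.nA _ hρ x hx
  have hk' := hS'.nK _ hρ k hk
  have e' : f om = D.rho * x * D.rho⁻¹ * (D.rho * k * D.rho⁻¹) := by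
    rw [← mul_one om, ← conj_of_eq (fρ 1), e]; group
  have x1 : x ≠ 1 := fun e1 => f1 (by rwa [e, e1, one_mul])
  have y1 : D.rho * x * D.rho⁻¹ ≠ 1 := by simpa using x1
  have x2 := (hS'.sq hx hk (e ▸ sq_of_add fadd 1)).1
  have y2 := cj_sq x2 D.rho
  generalize D.rho * x * D.rho⁻¹ = y at hy e' y1 y2
  generalize D.rho * k * D.rho⁻¹ = k' at hk' e'
  have e2 : f 1 * f om = x * y * (k * k') := by
    rw [e, e', mul_assoc, ← mul_assoc k, ← hS'.comm y hy k hk]; group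
  have xy : x * y = y * x := (hS'.uniq (mul_mem hx hy) (mul_mem hk hk') (mul_mem hy hx)
    (mul_mem hk' hk) (by
      rw [← e2, ← fadd, add_comm, fadd, e, e', mul_assoc, ← mul_assoc k', ← hS'.comm x hx k' hk']
      group)).1
  have hne : x ≠ y := fun e1 => f1 (by
    have := hS'.nK _ hρ _ (mul_mem hk hk')
    rw [← e1, x2, one_mul, ← fadd] at e2
    rwa [← e2, conj_of_eq (fρ _), show om * (1 + om) = 1 by decide] at this)
  have cx : ∀ r ∈ D.K, r * x = x * r := fun r hr =>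
    (hS'.fix hx hk (hK hr) (by rw [← e]; exact (K_comm hr (U_A h (fU 1))).symm)).1
  have cy : ∀ r ∈ D.K, r * y = y * r := fun r hr =>
    (hS'.fix hy hk' (hK hr) (by rw [← e']; exact (K_comm hr (U_A h (fU om))).symm)).1
  have hr : ∀ t, g⁻¹ * D.xv t * g ∈ D.K := fun t => mem_conj_smul.1 (hV t)
  have er : g⁻¹ * D.xv 1 * g * (g⁻¹ * D.xv om * g) = g⁻¹ * D.xv (1 + om) * g := by
    rw [h.vv]; group
  obtain ⟨t, t0, a, ha, hat⟩ : ∃ t, t ≠ 0 ∧ ∃ a ∈ MulAut.conj g • D.A,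
      a * (g⁻¹ * D.xv t * g) ∈ MulAut.conj g • D.K := by
    obtain ⟨a, ha, h1 | h1 | h1⟩ := out4' hF (hK (hr 1)) (hK (hr om)) (cj_sq' (v_sq h 1) g)
      (cj_sq' (v_sq h om) g) (by rw [er]; exact cj_sq' (v_sq h _) g) hx hy x2 y2 xy x1 y1 hne
      (cx _ (hr 1)) (cy _ (hr 1)) (cx _ (hr om)) (cy _ (hr om))
    exacts [⟨1, by decide, a, ha, h1⟩, ⟨om, by decide, a, ha, h1⟩,
      ⟨1 + om, by decide, a, ha, er ▸ h1⟩]
  have r1 : g⁻¹ * D.xv t * g ≠ 1 := fun e => t0 (v_eq_one h (by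
    simpa [mul_inv_eq_one, inv_mul_eq_one, mul_eq_one_iff_eq_inv'] using e))
  have r2 := cj_sq' (v_sq h t) g
  have rK := hr t
  generalize g⁻¹ * D.xv t * g = r at hat r1 r2 rK
  have er : r = a⁻¹ * (a * r) := by group
  have a1 : a⁻¹ ≠ 1 := fun e1 => by
    rw [inv_eq_one.1 e1, one_mul] at hat
    have := hS.te r rK r1 r2 g⁻¹ (by simpa using mem_conj_smul.1 hat)
    exact zK (by simpa [mul_assoc] using hS.nK _ (inv_mem this) _ (hr 1))
  have ρa := (hS'.fix (inv_mem ha) hat hρ (by rw [← er]; exact K_comm rK rho_A)).1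
  obtain ⟨p, p1, p2, p3, p4, -⟩ := exists_g hF hs (inv_mem ha) a1
    (hS'.sq (inv_mem ha) hat (by rwa [← er])).1
  rw [← p2] at hat ρK hV
  rw [← p3] at hρ
  have e3 : D.xv 1 * (p⁻¹ * (a * r) * p) = p⁻¹ * r * p := by
    conv_rhs => rw [er, p4]
    group
  have hU' := U_le hF hs (g := p⁻¹) (mem_conj_smul.1 hat) (by rw [e3]; exact cj_sq' r2 p)
    (by rw [e3, mem_conj_smul]; simpa [mul_assoc] using rK)
  rcases hF.par.o3 _ (mem_conj_smul.1 hρ) (by
    calc (p⁻¹ * D.rho * p) ^ 3 = p⁻¹ * D.rho ^ 3 * p := by simp only [pow_succ, pow_zero]; group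
      _ = 1 := by rw [h.r3]; group) (by
    rw [p4] at ρa
    calc p⁻¹ * D.rho * p * D.xv 1 = p⁻¹ * (D.rho * (p * D.xv 1 * p⁻¹)) * p := by group
      _ = _ := by rw [ρa]; group) with h1 | h1
  · exact ρK (mem_conj_smul.2 h1)
  have h2 : D.U ≤ MulAut.conj p⁻¹ • D.A := h1.trans (commutator_le.2 fun c hc u hu => by
    have hc' : c ∈ MulAut.conj p⁻¹ • D.A := zpowers_le.2 (mem_conj_smul.2 (by
      simpa [mul_assoc] using (rho_A : D.rho ∈ D.A))) hc
    rw [commutatorElement_def]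
    convert mul_mem hc' ((hS.conj p⁻¹).nA u (hU' hu) _ (inv_mem hc')) using 1; group)
  have h3 : p ∈ normalizer (D.U : Set G) := mem_normalizer_fintype fun u hu =>
    hF.glob.centV 1 one_ne_zero _ (by simpa using mem_conj_smul.1 (h2 hu))
      ((hS.conj p).comm _ (conj_mem_conj_smul.2 (U_A h hu)) _ (hV 1))
  have := hS.disj _ (U_A h ((mem_normalizer_iff''.1 h3 _).1 (xv_U 1))) (mem_conj_smul.1 (hV 1))
  exact z1 (by simpa [mul_inv_eq_one, inv_mul_eq_one, mul_eq_one_iff_eq_inv'] using this)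

theorem noZ {g : G} (hz : D.xv 1 ∈ MulAut.conj g • D.K) : False := by
  by_cases hV : ∀ t, D.xv t ∈ MulAut.conj g • D.K
  · exact noV hF hs hV
  have h := hF.rel
  have hS := sd hF hs
  have hS' := hS.conj g
  have z1 := z_ne h
  have hU : D.U ≤ MulAut.conj g • D.N := fun u hu => hS'.cent hz z1 (v_sq h 1) (U_v h hu 1)
  have hVK : ∀ t, D.xv t ∈ MulAut.conj g • D.K → t = 0 ∨ t = 1 := fun t ht => by
    by_contra hn
    refine hV fun s => ?_
    have k : ∀ t s : F4, ¬ (t = 0 ∨ t = 1) → s = 0 ∨ s = 1 ∨ s = t ∨ s = t + 1 := by decide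
    rcases k t s hn with rfl | rfl | rfl | rfl
    exacts [(v0 h).symm ▸ one_mem _, hz, ht, (h.vv _ _).symm ▸ mul_mem ht hz]
  have hUN : D.U ≤ D.N := (U_A h).trans le_normalizer
  have hUK : D.U ≤ normalizer ((MulAut.conj g • D.K : Subgroup G) : Set G) := fun u hu =>
    mem_normalizer_fintype fun y hy => hS'.nK u (hU hu) y hy
  have hUJ := H52.le_normalizer_inf hUK (hUN.trans le_normalizer)
  obtain ⟨S, hS₀, hUS⟩ := exists_isSylowIn_ge (H := D.U ⊔ MulAut.conj g • D.K ⊓ D.N)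
    hF.par.syl.isPGroup le_sup_left
  have hT := hS₀.inf_of_le_normalizer (sup_le hUJ le_normalizer)
  rw [inf_eq_right.2 (le_sup_right (a := D.U))] at hT
  have hSA : S ⊓ D.A = D.U :=
    hF.par.syl.eq_of_le (hS₀.isPGroup.to_le inf_le_left) inf_le_right (le_inf hUS (U_A h))
  have zT : D.xv 1 ∈ S ⊓ (MulAut.conj g • D.K ⊓ D.N) := ⟨hUS (xv_U 1), hz, hUN (xv_U 1)⟩
  have c1 : ∀ t ∈ S ⊓ (MulAut.conj g • D.K ⊓ D.N), ∀ u ∈ D.U,
      ⁅t, u⁆ ∈ D.U ∧ ⁅t, u⁆ ∈ MulAut.conj g • D.K := fun t ht u hu => by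
    rw [commutatorElement_def]
    refine ⟨mul_mem (hSA.le ⟨S.mul_mem (S.mul_mem ht.1 (hUS hu)) (S.inv_mem ht.1),
      hS.nA t ht.2.2 u (U_A h hu)⟩) (inv_mem hu), ?_⟩
    convert mul_mem (show t ∈ MulAut.conj g • D.K from ht.2.1)
      (hS'.nK u (hU hu) _ ((MulAut.conj g • D.K).inv_mem ht.2.1)) using 1
    group
  generalize S ⊓ (MulAut.conj g • D.K ⊓ D.N) = T at hT zT c1
  have hcc : ∀ t ∈ T, ∃ v ∈ D.V, ∃ r ∈ D.K, t = v * r := fun t ht => by
    obtain ⟨u, hu, k, hk, rfl⟩ := hF.par.cUV t (hT.le ht).2 fun u hu => by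
      by_contra hn
      exact hV fun s => hF.par.nrmU _ hUK ⟨_, (c1 t ht u hu).2, (c1 t ht u hu).1, hn⟩ (xv_V s)
    refine ⟨u, ?_, k, hk, rfl⟩
    obtain ⟨a, b, c, rfl⟩ := mem_U hF hu
    have k1 : ∀ a b : F4, (∀ a' b', b * a' + a * b' = 0 ∨ b * a' + a * b' = 1) → a = 0 ∧ b = 0 := by
      decide
    refine (uu_mem_V h).2 (k1 a b fun a' b' => hVK _ ?_)
    convert (c1 _ ht _ (uu_U a' b' 0)).2 using 1
    rw [← comm_uu h a b c a' b' 0, commutatorElement_def, commutatorElement_def, mul_assoc _ k,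
      ← K_comm hk (U_A h (uu_U _ _ _))]
    group
  obtain ⟨R, -, hT', -, Tsq, -, -, TK⟩ := core hS hs.2.1 (N_eq hs) (V_U.trans (U_A h))
    (fun z hz => by obtain ⟨t, rfl⟩ := (mem_V h).1 hz; exact v_sq h t)
    (g_not hF (one_mem _) (by rwa [mul_one])) hT
    (fun e => z1 (mem_bot.1 (e ▸ zT))) hcc
  have hTz : ∀ t ∈ T, t = 1 ∨ t = D.xv 1 := fun t ht => by
    obtain ⟨v, hv, r, hr, rfl⟩ := hcc t ht
    obtain ⟨s, rfl⟩ := (mem_V h).1 hv
    have ht' := mul_mem zT ht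
    rw [← mul_assoc, ← h.vv] at ht'
    have key : D.xv om * r ∈ T → D.xv (om ^ 2) * r ∈ T → False := fun h1 h2 => by
      have h3 := hS'.te _ (hT'.le h2) (fun e => by
        have := hS.disj _ (xv_A h _) (by rw [eq_inv_of_mul_eq_one_left e]; exact inv_mem hr)
        exact absurd (v_eq_one h this) (by decide)) (Tsq _ h2) D.rho (by
        rw [← mul_assoc, h.rv, mul_assoc _ D.rho, K_comm hr rho_A, ← mul_assoc,
          mul_inv_cancel_right, show om ^ 2 * om ^ 2 = om by decide]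
        exact hT'.le h1)
      have := hS'.nK _ h3 _ hz
      rw [rho_v h] at this
      exact absurd (hVK _ this) (by decide)
    rcases H72.ASB.f4_cases s with rfl | rfl | rfl | rfl
    · exact .inl (TK _ ht (by rwa [v0 h, one_mul]))
    · rw [H72.ASB.f4_add, v0 h, one_mul] at ht'
      exact .inr (by rw [TK _ ht' hr, mul_one])
    · exact (key ht (by rwa [show om ^ 2 = 1 + om by decide])).elim
    · exact (key (by rwa [show 1 + om ^ 2 = om by decide] at ht') ht).elim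
  obtain ⟨a, b, c, hab, htp⟩ := pigeon hF (MulAut.conj g⁻¹).toMonoidHom fun u hu => by
    simpa using mem_conj_smul.1 (hU hu)
  have x4 := U_four hF (uu_U (D := D) a b c)
  obtain ⟨a₀, ha, k₀, hk, e⟩ := htp.triv hF le_rfl
    (by simpa [RD.N] using mem_conj_smul.1 (hU (uu_U a b c))) (by rw [← map_pow, x4, map_one])
  have e1 : uu D a b c = g * a₀ * g⁻¹ * (g * k₀ * g⁻¹) := by
    calc uu D a b c = g * (g⁻¹ * uu D a b c * g⁻¹⁻¹) * g⁻¹ := by group
      _ = _ := by rw [show g⁻¹ * uu D a b c * g⁻¹⁻¹ = a₀ * k₀ from e]; group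
  have ha' := (conj_mem_conj_smul (g := g)).2 ha
  have hk' := (conj_mem_conj_smul (g := g)).2 hk
  generalize g * a₀ * g⁻¹ = a' at e1 ha'
  generalize g * k₀ * g⁻¹ = k' at e1 hk'
  have k4 : k' ^ 4 = 1 := (hS'.uniq (pow_mem ha' 4) (pow_mem hk' 4) (one_mem _) (one_mem _) (by
    rw [← Commute.mul_pow (hS'.comm _ ha' _ hk'), ← e1, x4, one_mul])).2
  have kz := (hS'.fix ha' hk' (hU (xv_U 1)) (by rw [← e1, U_v h (uu_U _ _ _)])).2
  have kT : k' ∈ T := hT'.le_of_le_normalizer' (H83.isPGroup_zpowers (k := 2) k4) (zpowers_le.2 hk')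
    (zpowers_le.2 (norm_of_comm fun t ht => by
      rcases hTz t ht with rfl | rfl
      exacts [by rw [mul_one, one_mul], kz.symm])) (mem_zpowers _)
  have k2 : ∀ a b : F4, ¬ (a = 0 ∧ b = 0) → ∃ x y, b * x + a * y = 1 := by decide
  obtain ⟨x, y, hxy⟩ := k2 a b hab
  have e2 := comm_uu h a b c x y 0
  have ku : k' * uu D x y 0 = uu D x y 0 * k' := by
    rcases hTz _ kT with rfl | rfl
    exacts [by rw [mul_one, one_mul], (U_v h (uu_U _ _ _) 1).symm]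
  refine z1 (hS'.disj _ ?_ hz)
  rw [← hxy, ← e2, e1, commutatorElement_def, mul_assoc a', ku]
  convert mul_mem ha' (hS'.nA _ (hU (uu_U x y 0)) _ (inv_mem ha')) using 1
  group

/-- No conjugate of an involution of `K` lies in a conjugate of `A`. -/
theorem noD {g g' x : G} (hA : x ∈ MulAut.conj g • D.A) (hK : x ∈ MulAut.conj g' • D.K)
    (x2 : x * x = 1) : x = 1 := by
  by_contra x1
  obtain ⟨p, -, -, -, rfl, -⟩ := exists_g hF hs hA x1 x2
  refine noZ hF hs (g := p⁻¹ * g') (mem_conj_smul.2 ?_)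
  convert mem_conj_smul.1 hK using 1; group

end Cfsg.Agent.H76.Al
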