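import Mathlib
import Cfsg.Agent.H76.AlPre

/-! Project AL: the case of `2`-rank one (RP, RY). -/

set_option autoImplicit false

namespace Cfsg.Agent.H76.Al

open Cfsg Subgroup Cfsg.Agent.H8 Cfsg.Agent.H28 Cfsg.Agent.H42.AL
open Cfsg.Agent.H42.AS (om)
open Cfsg.Agent.H72.ASB (one_of_add sq_of_add inv_of_add conj_of_eq)
open Cfsg.Agent.H72.ASRA (memR)
open Cfsg.Agent.H76.AsPre (norm_of_comm two_zpowers mem_syl comm_of_sq conj_comm rank1)
open Cfsg.Agent.H83 (card_le_two_mul_of_mul_mem)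
open scoped Pointwise commutatorElement

universe u

local instance factTwoAlD : Fact (Nat.Prime 2) := ⟨Nat.prime_two⟩

variable {G : Type u} [Group G] {D : RD G}

theorem tp_mem (h : D.Rel) {B : Subgroup G} {u : G} (hu : u ∈ B) : Tp D B u false false :=
  ⟨u⁻¹, inv_mem hu, 1, 1, by rw [inv_mul_cancel]; exact St_K h (one_mem _)⟩

theorem exists_sub (h : D.Rel) {F : Subgroup G} (hU : F ≤ normalizer (D.U : Set G))
    (Fsq : ∀ x ∈ F, x * x = 1) (p : Bool → Bool → Prop) (h0 : p false false)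
    (hm : ∀ b f b' f', p b f → p b' f' → p (xor b b') (xor f f')) :
    ∃ H : Subgroup G, ∀ g, g ∈ H ↔ g ∈ F ∧ ∃ b f, p b f ∧ Tp D D.U g b f :=
  ⟨{ carrier := {g | g ∈ F ∧ ∃ b f, p b f ∧ Tp D D.U g b f}
     one_mem' := ⟨one_mem _, _, _, h0, tp_mem h (one_mem _)⟩
     mul_mem' := fun ⟨ha, _, _, p1, t1⟩ ⟨hb, _, _, p2, t2⟩ =>
       ⟨mul_mem ha hb, _, _, hm _ _ _ _ p1 p2, t1.mul t2 (hU ha)⟩
     inv_mem' := fun {g} hg => by rwa [inv_eq_of_mul_eq_one_right (Fsq g hg.1)] }, fun _ => Iff.rfl⟩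

set_option synthInstance.maxSize 2048 in
set_option synthInstance.maxHeartbeats 100000 in
theorem f4_aux : ∀ a b a' b' : F4, (a = 0 ∨ a' = 0 ∨ a = a') → (b = 0 ∨ b' = 0 ∨ b = b') →
    (a = 0 ∨ b = 0) → (a' = 0 ∨ b' = 0) → (a + a' = 0 ∨ b + b' = 0) → ¬ (a = 0 ∧ b = 0) →
    ¬ (a' = 0 ∧ b' = 0) → a + a' = 0 ∧ b + b' = 0 := by decide

theorem card_two {t : G} (t1 : t ≠ 1) (t2 : t * t = 1) : Nat.card (zpowers t) = 2 := by
  rw [Nat.card_zpowers]; exact orderOf_eq_prime (by rwa [pow_two]) t1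

variable [Finite G] (hF : D.Fa) (hs : IsStandardSubgroup D.A) (hr : PRankLE 2 1 D.K) {t : G}
  (tK : t ∈ D.K) (t1 : t ≠ 1) (t2 : t * t = 1)
include hF hs hr tK t1 t2

theorem rk5U {F : Subgroup G} (hU : F ≤ normalizer (D.U : Set G)) (tF : t ∈ F)
    (Fsq : ∀ x ∈ F, x * x = 1) (hc : Nat.card F = 32) :
    F = zpowers t ⊔ D.E1 ∨ F = zpowers t ⊔ D.E2 := by
  have h := hF.rel
  have hS := sd hF hs
  have tp : ∀ g ∈ F, ∃ b f, Tp D D.U g b f := fun g hg => tp_of (hF.par.nU g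
    (hS.cent tK t1 t2 (comm_of_sq Fsq hg tF)) (normV_of_normU hF (hU hg)))
  obtain ⟨F0, m0⟩ := exists_sub h hU Fsq (fun b f => b = false ∧ f = false) ⟨rfl, rfl⟩ (by decide)
  obtain ⟨F1, m1⟩ := exists_sub h hU Fsq (fun _ f => f = false) rfl (by decide)
  have h0 : ∀ g ∈ F0, g ∈ D.U ∨ g * t ∈ D.U := fun g hg => by
    obtain ⟨hg, _, _, ⟨rfl, rfl⟩, ht⟩ := (m0 g).1 hg
    obtain ⟨u, hu, k, hk, rfl⟩ := ht.triv hF (U_A h) (hU hg) (by
      rw [show 4 = 2 * 2 from rfl, pow_mul, pow_two g, Fsq g hg, one_pow])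
    by_cases k1 : k = 1
    · left; rwa [k1, mul_one]
    have c := comm_of_sq Fsq hg tF
    rw [← mul_assoc, ← K_comm tK (U_A h hu), mul_assoc, mul_assoc, mul_right_inj] at c
    right
    rwa [rank1 hr hk tK (hS.sq (U_A h hu) hk (Fsq _ hg)).2 t2 c k1 t1, mul_assoc, t2, mul_one]
  have c0 : Nat.card F0 ≤ 2 * Nat.card ↥(F ⊓ D.U) := card_le_two_mul_of_mul_mem
    (fun u hu => (m0 u).2 ⟨hu.1, _, _, ⟨rfl, rfl⟩, tp_mem h hu.2⟩) fun a ha b hb ha' hb' => by
      have ha1 := ((m0 a).1 ha).1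
      have hb1 := ((m0 b).1 hb).1
      refine ⟨F.mul_mem ha1 hb1, ?_⟩
      have := mul_mem ((h0 a ha).resolve_left fun e => ha' ⟨ha1, e⟩)
        ((h0 b hb).resolve_left fun e => hb' ⟨hb1, e⟩)
      rwa [← comm_of_sq Fsq tF hb1, mul_assoc, ← mul_assoc t, t2, one_mul] at this
  have fx : ∀ g ∈ F, ∀ x ∈ F, g * x * g⁻¹ = x := fun g hg x hx => by
    rw [comm_of_sq Fsq hg hx, mul_inv_cancel_right]
  have cV : ∀ g ∈ F, ∀ b, Tp D D.U g b true → Nat.card ↥(F ⊓ D.V) ≤ 2 := fun g hg b ht => by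
    obtain ⟨l, m, l0, m0, hv, -⟩ := ht.act hF
    have := card_le_two_mul_of_mul_mem (A := ⊥) (B := F ⊓ D.V) bot_le fun x hx y hy x1 y1 => by
      obtain ⟨a, rfl⟩ := (mem_V h).1 hx.2
      obtain ⟨c, rfl⟩ := (mem_V h).1 hy.2
      have k : ∀ l a c : F4, l * pw true a = a → l * pw true c = c → a ≠ 0 → c ≠ 0 → a = c := by
        decide
      rw [k _ a c (v_inj h ((hv a).symm.trans (fx g hg _ hx.1)))
        (v_inj h ((hv c).symm.trans (fx g hg _ hy.1))) (fun e => x1 (by rw [e, v0 h]; exact one_mem _))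
        (fun e => y1 (by rw [e, v0 h]; exact one_mem _)), v_sq h]
      exact one_mem _
    simpa using this
  have cS : ∀ g ∈ F, ∀ f, Tp D D.U g true f → F ⊓ D.U ≤ F ⊓ D.V := fun g hg f ht x hx => by
    obtain ⟨l, m, l0, m0, -, ha⟩ := ht.act hF
    obtain ⟨a, b, c, rfl⟩ := mem_U hF hx.2
    obtain ⟨c', e⟩ := ha a b c
    have e1 := uu_inj h ((fx g hg _ hx.1).symm.trans e)
    have k : ∀ f, pw f 0 = 0 := by decide
    refine ⟨hx.1, (uu_mem_V h).2 ?_⟩
    rcases (uu_sq h).1 (Fsq _ hx.1) with rfl | rfl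
    · exact ⟨rfl, by rw [e1.2.1, k, mul_zero]⟩
    · exact ⟨by rw [e1.1, k, mul_zero], rfl⟩
  have cF : ∀ g ∈ F, Tp D D.U g false true →
      Nat.card ↥(F ⊓ D.U) ≤ 2 * Nat.card ↥(F ⊓ D.V) := fun g hg ht => by
    obtain ⟨l, m, l0, m0, -, ha⟩ := ht.act hF
    refine card_le_two_mul_of_mul_mem (inf_le_inf_left _ V_U) fun x hx y hy x1 y1 => ?_
    obtain ⟨a, b, c, rfl⟩ := mem_U hF hx.2
    obtain ⟨a', b', c', rfl⟩ := mem_U hF hy.2
    obtain ⟨_, e⟩ := ha a b c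
    obtain ⟨_, e'⟩ := ha a' b' c'
    have e1 := uu_inj h ((fx g hg _ hx.1).symm.trans e)
    have e2 := uu_inj h ((fx g hg _ hy.1).symm.trans e')
    have h1 := F.mul_mem hx.1 hy.1
    refine ⟨h1, ?_⟩
    have h2 := Fsq _ h1
    rw [uu_mul h] at h2 ⊢
    have k : ∀ l a c : F4, a = l * pw true a → c = l * pw true c → a = 0 ∨ c = 0 ∨ a = c := by
      decide
    exact (uu_mem_V h).2 (f4_aux _ _ _ _ (k _ _ _ e1.1 e2.1) (k _ _ _ e1.2.1 e2.2.1)
      ((uu_sq h).1 (Fsq _ hx.1)) ((uu_sq h).1 (Fsq _ hy.1)) ((uu_sq h).1 h2)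
      (fun e => x1 ⟨hx.1, (uu_mem_V h).2 e⟩) fun e => y1 ⟨hy.1, (uu_mem_V h).2 e⟩)
  have hall : F ≤ F0 := by
    by_contra hn
    by_cases htt : ∃ g ∈ F, Tp D D.U g true true
    · obtain ⟨g, hg, ht⟩ := htt
      have c1 : Nat.card F ≤ 2 * Nat.card F1 := card_le_two_mul_of_mul_mem
        (fun x hx => ((m1 x).1 hx).1) fun x hx y hy x1 y1 => by
          obtain ⟨b, f, p1⟩ := tp x hx
          obtain ⟨b', f', p2⟩ := tp y hy
          refine (m1 _).2 ⟨mul_mem hx hy, _, _, ?_, p1.mul p2 (hU hx)⟩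
          cases f
          · exact absurd ((m1 _).2 ⟨hx, _, _, rfl, p1⟩) x1
          cases f'
          · exact absurd ((m1 _).2 ⟨hy, _, _, rfl, p2⟩) y1
          rfl
      have c2 : Nat.card F1 ≤ 2 * Nat.card F0 := card_le_two_mul_of_mul_mem
        (fun x hx => let ⟨h1, _, _, h2, h3⟩ := (m0 x).1 hx; (m1 x).2 ⟨h1, _, _, h2.2, h3⟩)
        fun x hx y hy x1 y1 => by
          obtain ⟨hx, b, f, rfl, p1⟩ := (m1 x).1 hx
          obtain ⟨hy, b', f', rfl, p2⟩ := (m1 y).1 hy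
          refine (m0 _).2 ⟨mul_mem hx hy, _, _, ⟨?_, rfl⟩, p1.mul p2 (hU hx)⟩
          cases b
          · exact absurd ((m0 _).2 ⟨hx, _, _, ⟨rfl, rfl⟩, p1⟩) x1
          cases b'
          · exact absurd ((m0 _).2 ⟨hy, _, _, ⟨rfl, rfl⟩, p2⟩) y1
          rfl
      have c3 := card_le_of_le (cS g hg _ ht)
      have c4 := cV g hg _ ht
      omega
    have c1 : Nat.card F ≤ 2 * Nat.card F0 := card_le_two_mul_of_mul_mem
      (fun x hx => ((m0 x).1 hx).1) fun x hx y hy x1 y1 => by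
        obtain ⟨b, f, p1⟩ := tp x hx
        obtain ⟨b', f', p2⟩ := tp y hy
        have p3 := p1.mul p2 (hU hx)
        cases b <;> cases f <;> cases b' <;> cases f' <;>
          first
          | exact absurd ((m0 _).2 ⟨hx, _, _, ⟨rfl, rfl⟩, p1⟩) x1
          | exact absurd ((m0 _).2 ⟨hy, _, _, ⟨rfl, rfl⟩, p2⟩) y1
          | exact (m0 _).2 ⟨mul_mem hx hy, _, _, ⟨rfl, rfl⟩, p3⟩
          | exact (htt ⟨_, hx, p1⟩).elim
          | exact (htt ⟨_, hy, p2⟩).elim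
          | exact (htt ⟨_, mul_mem hx hy, p3⟩).elim
    obtain ⟨g, hg, hg'⟩ := SetLike.not_le_iff_exists.1 hn
    obtain ⟨b, f, p1⟩ := tp g hg
    cases b
    · cases f
      · exact hg' ((m0 _).2 ⟨hg, _, _, ⟨rfl, rfl⟩, p1⟩)
      have c3 := cF g hg p1
      have c4 := cV g hg _ p1
      omega
    · have c3 := card_le_of_le ((cS g hg _ p1).trans inf_le_right)
      rw [card_V h] at c3
      omega
  have fin : ∀ E : Subgroup G, E ≤ D.A → Nat.card E = 16 → F ⊓ D.U ≤ E → F = zpowers t ⊔ E :=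
    fun E hE h16 hle => by
      refine eq_of_le_of_card_ge (fun x hx => ?_) ?_
      · rcases h0 x (hall hx) with e | e
        · exact mem_sup_right (hle ⟨hx, e⟩)
        · have := mul_mem (mem_sup_right (S := zpowers t) (hle ⟨F.mul_mem hx tF, e⟩))
            (mem_sup_left (mem_zpowers t))
          rwa [mul_assoc, t2, mul_one] at this
      · have := H52.card_sup_dvd_of_le_normalizer (A := zpowers t) (B := E)
          (zpowers_le.2 (norm_of_comm fun x hx => (K_comm tK (hE hx)).symm))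
        rw [card_two t1 t2, h16] at this
        exact hc ▸ Nat.le_of_dvd (by norm_num) this
  have E1A : D.E1 ≤ D.A := fun x hx => by
    obtain ⟨a, c, rfl⟩ := (mem_E1 h).1 hx; exact U_A h (uu_U _ _ _)
  have E2A : D.E2 ≤ D.A := fun x hx => by
    obtain ⟨a, c, rfl⟩ := (mem_E2 h).1 hx; exact U_A h (uu_U _ _ _)
  by_cases h1 : F ⊓ D.U ≤ D.E1
  · exact .inl (fin _ E1A (card_E1 h) h1)
  refine .inr (fin _ E2A (card_E2 h) fun y hy => ?_)
  obtain ⟨x, hx, hx'⟩ := SetLike.not_le_iff_exists.1 h1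
  obtain ⟨a, b, c, rfl⟩ := mem_U hF hx.2
  obtain ⟨a', b', c', rfl⟩ := mem_U hF hy.2
  have h2 := Fsq _ (F.mul_mem hx.1 hy.1)
  rw [uu_mul h] at h2
  have k : ∀ a b a' b' : F4, (a = 0 ∨ b = 0) → (a' = 0 ∨ b' = 0) → (a + a' = 0 ∨ b + b' = 0) →
      b ≠ 0 → a' = 0 := by decide
  rw [k _ _ _ _ ((uu_sq h).1 (Fsq _ hx.1)) ((uu_sq h).1 (Fsq _ hy.1)) ((uu_sq h).1 h2)
    fun e => hx' ((mem_E1 h).2 ⟨a, c, by rw [e]⟩)]
  exact (mem_E2 h).2 ⟨_, _, rfl⟩

theorem rk5 (F : Subgroup G) (tF : t ∈ F) (Fsq : ∀ x ∈ F, x * x = 1) (hc : Nat.card F = 32) :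
    ∃ a ∈ D.A, (∀ x, a * x * a⁻¹ ∈ F ↔ x ∈ zpowers t ⊔ D.E1) ∨
      (∀ x, a * x * a⁻¹ ∈ F ↔ x ∈ zpowers t ⊔ D.E2) := by
  have hN : F ≤ D.N := fun g hg => (sd hF hs).cent tK t1 t2 (comm_of_sq Fsq hg tF)
  obtain ⟨S, hS, hFS⟩ := exists_isSylowIn_ge (p := 2) (H := D.A ⊔ F)
    (IsPGroup.of_card (n := 5) hc) le_sup_right
  have h1 := hS.inf_of_le_normalizer (N := D.A) (sup_le le_normalizer hN)
  rw [inf_eq_right.2 (le_sup_left (b := F))] at h1
  obtain ⟨a, ha, e⟩ := hF.par.syl.exists_conj_eq h1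
  have m : ∀ x, x ∈ MulAut.conj a⁻¹ • F ↔ a * x * a⁻¹ ∈ F := fun x => by
    rw [mem_conj_smul, inv_inv]
  have := rk5U hF hs hr tK t1 t2 (F := MulAut.conj a⁻¹ • F) (by
      rw [← conj_inv_smul_conj_smul D.U a, normalizer_conj_smul, e]
      exact smul_mono_right _ (H52.le_normalizer_inf (hFS.trans le_normalizer) hN))
    ((m t).2 (by rwa [K_comm tK ha, mul_inv_cancel_right])) (fun x hx => by
      have := cj_sq' (Fsq _ ((m x).1 hx)) a
      simpa [mul_assoc] using this) (by rwa [card_conj_smul])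
  exact ⟨a, ha, this.imp (fun e x => by rw [← m, e]) fun e x => by rw [← m, e]⟩

theorem mov (hsyl : IsSylowIn 2 (zpowers t) D.K) {g : G}
    (hu : D.xv 1 * t ∈ MulAut.conj g • D.K) :
    ∃ g ∈ normalizer (D.V : Set G), g * t * g⁻¹ = t * D.xv 1 := by
  have h := hF.rel
  have hS := sd hF hs
  have u2 : D.xv 1 * t * (D.xv 1 * t) = 1 := by
    rw [mul_assoc, ← mul_assoc t, ← K_comm tK (xv_A h 1), mul_assoc, t2, mul_one, v_sq h]
  have u1 : D.xv 1 * t ≠ 1 := fun e => u_not hF tK (e ▸ one_mem _)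
  obtain ⟨c, hc, hle⟩ := hsyl.exists_conj_le (two_zpowers (cj_sq' u2 g))
    (zpowers_le.2 (mem_conj_smul.1 hu))
  obtain ⟨q, hq⟩ : ∃ q, q * t * q⁻¹ = D.xv 1 * t := by
    rcases memR t2 (hle (conj_mem_conj_smul.2 (mem_zpowers _))) with e | e
    · refine absurd ?_ u1
      calc _ = g * c⁻¹ * (c * (g⁻¹ * (D.xv 1 * t) * g) * c⁻¹) * (g * c⁻¹)⁻¹ := by group
        _ = 1 := by rw [e]; group
    · refine ⟨g * c⁻¹, ?_⟩
      calc _ = g * c⁻¹ * (c * (g⁻¹ * (D.xv 1 * t) * g) * c⁻¹) * (g * c⁻¹)⁻¹ := by rw [e]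
        _ = _ := by group
  have noT : ∀ y, y * t * y⁻¹ ∉ D.A := fun y hy =>
    t1 (by simpa using noD₁ hF hs hy (conj_mem_conj_smul.2 tK) (cj_sq t2 y))
  have hE : ∀ E : Subgroup G, E ≤ D.U → (∀ x ∈ E, x * x = 1) → Nat.card E = 16 →
      E ≤ MulAut.conj q • D.A := fun E hE Esq h16 y hy => by
    have cu : ∀ x ∈ E, D.xv 1 * t * x = x * (D.xv 1 * t) := fun x hx => by
      rw [← mul_assoc, U_v h (hE hx), mul_assoc, mul_assoc, K_comm tK (U_A h (hE hx))]
    have hn : zpowers (D.xv 1 * t) ≤ normalizer (E : Set G) := zpowers_le.2 (norm_of_comm cu)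
    obtain ⟨a, ha, h1⟩ := rk5 hF hs hr tK t1 t2 (MulAut.conj q⁻¹ • (zpowers (D.xv 1 * t) ⊔ E))
      (by rw [mem_conj_smul, inv_inv, hq]; exact mem_sup_left (mem_zpowers _))
      (fun x hx => by
        rw [mem_conj_smul, inv_inv] at hx
        obtain ⟨a, ha, b, hb, e⟩ := (H83.mem_sup_right_norm hn).1 hx
        have : q * x * q⁻¹ * (q * x * q⁻¹) = 1 := by
          rw [← e]
          rcases memR u2 ha with rfl | rfl
          · rw [one_mul, Esq b hb]
          · rw [mul_assoc, ← mul_assoc b, ← cu b hb, ← mul_assoc, ← mul_assoc, u2, one_mul, Esq b hb]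
        simpa [mul_assoc] using cj_sq' this q)
      (by
        have := H1.card_sup_mul_card_inf_of_le_normalizer hn
        have h0 : zpowers (D.xv 1 * t) ⊓ E = ⊥ := eq_bot_iff.2 fun x hx => by
          rcases memR u2 hx.1 with rfl | rfl
          · exact one_mem _
          · exact absurd (hq ▸ U_A h (hE hx.2)) (noT q)
        rwa [h0, card_bot, mul_one, card_two u1 u2, h16, ← card_conj_smul _ q⁻¹] at this)
    have h2 : a⁻¹ * (q⁻¹ * y * q) * a ∈ zpowers t ⊔ D.A := by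
      have h3 : a * (a⁻¹ * (q⁻¹ * y * q) * a) * a⁻¹ ∈
          MulAut.conj q⁻¹ • (zpowers (D.xv 1 * t) ⊔ E) := by
        rw [mem_conj_smul]
        convert mem_sup_right (S := zpowers (D.xv 1 * t)) hy using 1; group
      rcases h1 with h1 | h1
      · refine sup_le_sup_left (b := D.A) (a := D.E1) (fun x hx => ?_) (zpowers t) ((h1 _).1 h3)
        obtain ⟨a, c, rfl⟩ := (mem_E1 h).1 hx; exact U_A h (uu_U _ _ _)
      · refine sup_le_sup_left (b := D.A) (a := D.E2) (fun x hx => ?_) (zpowers t) ((h1 _).1 h3)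
        obtain ⟨a, c, rfl⟩ := (mem_E2 h).1 hx; exact U_A h (uu_U _ _ _)
    obtain ⟨s, hs', b, hb, e⟩ := (H83.mem_sup_right_norm (zpowers_le.2
      (centralizer_le_normalizer _ tK))).1 h2
    rcases memR t2 hs' with rfl | rfl
    · rw [mem_conj_smul]
      convert mul_mem (mul_mem ha hb) (inv_mem ha) using 1
      rw [← one_mul b, e]; group
    exfalso
    have ey : y = q * a * (b * s) * (q * a)⁻¹ := by rw [K_comm tK hb, e]; group
    by_cases b1 : b = 1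
    · exact noT (q * a) (by rw [b1, one_mul] at ey; exact ey ▸ U_A h (hE hy))
    obtain ⟨w, hw, ew⟩ := hF.glob.inv b hb (hS.sq hb tK (by
      rw [K_comm tK hb, e]; exact cj_sq' (cj_sq' (Esq y hy) q) a)).1 b1
    refine noT (q * a * w⁻¹ * q) ?_
    convert U_A h (hE hy) using 1
    rw [cj_mul', hq, ey, ← ew, mul_assoc (w * b), K_comm tK (inv_mem hw)]
    calc _ = q * a * (b * s * (w⁻¹ * w)) * (q * a)⁻¹ := by group
      _ = _ := by group
  have E1 := hE D.E1 (fun x hx => by obtain ⟨a, c, rfl⟩ := (mem_E1 h).1 hx; exact uu_U _ _ _)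
    (fun x hx => by obtain ⟨a, c, rfl⟩ := (mem_E1 h).1 hx; exact (uu_sq h).2 (.inr rfl)) (card_E1 h)
  have E2 := hE D.E2 (fun x hx => by obtain ⟨a, c, rfl⟩ := (mem_E2 h).1 hx; exact uu_U _ _ _)
    (fun x hx => by obtain ⟨a, c, rfl⟩ := (mem_E2 h).1 hx; exact (uu_sq h).2 (.inl rfl)) (card_E2 h)
  have hU : D.U ≤ MulAut.conj q • D.A :=
    U_ind (fun s => E1 (xe_E1 s)) (fun s => E2 (xb_E2 s)) fun s => E1 (xv_E1 s)
  obtain ⟨p, p1, -, -, p4, p5⟩ := exists_g hF hs (hU (xv_U 1)) (z_ne h) (v_sq h 1)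
  rw [← p1] at hU
  have pU : p⁻¹ ∈ normalizer (D.U : Set G) := mem_normalizer_fintype fun u hu =>
    hF.glob.centV 1 one_ne_zero _ (by simpa using mem_conj_smul.1 (hU hu))
      (conj_comm (by conv_lhs => rw [p4]
                     group) (U_v h hu 1))
  exact ⟨p, by simpa using inv_mem (normV_of_normU hF pU), by
    rw [p5 t tK, hq, K_comm tK (xv_A h 1)]⟩

theorem exists_rp {g : G} (h1 : g * t * g⁻¹ ≠ t) (h2 : g * t * g⁻¹ * t = t * (g * t * g⁻¹)) :
    ∃ O, RP D t O := by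
  have h := hF.rel
  have hS := sd hF hs
  have ct : ∀ g, g * t = t * g → g ∈ D.N := fun g e => hS.cent tK t1 t2 e
  have g2 := cj_sq t2 g
  obtain ⟨g', k, hk, u2, hu⟩ := exists_z hF hs (conj_mem_conj_smul.2 tK) (ct _ h2) g2
    fun e => h1 (rank1 hr e tK g2 t2 h2 (by simpa using t1) t1)
  obtain ⟨R, -, hR, -, -, hkR, -, hsq, -⟩ := cfg hF hs hk u2 hu
  have k1 : k ≠ 1 := fun e => noZ hF hs (by rwa [e, mul_one] at hu)
  have mR : ∀ r ∈ R, r ≠ 1 → r = k := fun r hr' r1 =>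
    rank1 hr (hR.le hr') hk (hsq r hr') (hsq k hkR) (comm_of_sq hsq hr' hkR) r1 k1
  obtain ⟨c, hc, hle⟩ := hR.exists_conj_le (two_zpowers t2) (zpowers_le.2 tK)
  have e1 : c * t * c⁻¹ = k := mR _ (hle (conj_mem_conj_smul.2 (mem_zpowers t))) (by simpa using t1)
  have hsyl : IsSylowIn 2 (zpowers t) D.K := hR.of_card_ge (two_zpowers t2) (zpowers_le.2 tK) (by
    have : R ≤ zpowers k := fun y hy => by
      by_cases y1 : y = 1
      · rw [y1]; exact one_mem _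
      · rw [mR y hy y1]; exact mem_zpowers k
    refine (card_le_of_le this).trans ?_
    rw [card_two t1 t2, card_two k1 (hsq k hkR)])
  set C := D.K ⊓ centralizer ({t} : Set G) with hC
  have h3 : zpowers t ≤ C := zpowers_le.2 ⟨tK, mem_centralizer_singleton_iff.2 rfl⟩
  have : ((zpowers t).subgroupOf C).Normal := ⟨fun n hn g => by
    rw [mem_subgroupOf] at hn ⊢
    push_cast
    rcases memR t2 hn with e | e <;> rw [e]
    · simp
    · rw [mem_centralizer_singleton_iff.1 g.2.2, mul_inv_cancel_right]; exact mem_zpowers t⟩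
  have h4 : Odd ((zpowers t).subgroupOf C).index :=
    Nat.not_even_iff_odd.1 fun e => (hsyl.mono h3 inf_le_left).not_dvd e.two_dvd
  obtain ⟨H, hH⟩ := exists_right_complement'_of_coprime (N := (zpowers t).subgroupOf C) (by
    rw [Nat.card_congr (subgroupOfEquivOfLe h3).toEquiv, card_two t1 t2]
    exact Nat.coprime_two_left.2 h4)
  refine ⟨H.map C.subtype, hs, tK, t1, t2, (map_subtype_le H).trans inf_le_left, ?_, fun o ho =>
    mem_centralizer_singleton_iff.1 (map_subtype_le H ho).2, fun k hk hc => ?_, ct,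
    mov hF hs hr tK t1 t2 hsyl (g := c⁻¹ * g') ?_, fun y hy =>
      t1 (by simpa using noD₁ hF hs hy (conj_mem_conj_smul.2 tK) (cj_sq t2 y)),
    rk5 hF hs hr tK t1 t2⟩
  · rwa [card_map_of_injective C.subtype_injective, ← hH.symm.index_eq_card]
  · obtain ⟨⟨a, b⟩, e⟩ := (hH.existsUnique ⟨k, hk, mem_centralizer_singleton_iff.2 hc⟩).exists
    have e2 : ((a : C) : G) * (b : C) = k := congrArg Subtype.val e
    have hb : ((b : C) : G) ∈ H.map C.subtype := ⟨_, b.2, rfl⟩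
    rcases memR t2 (mem_subgroupOf.1 a.2) with e3 | e3 <;> rw [e3] at e2
    · left; rwa [← e2, one_mul]
    · right; rwa [← e2, ← mul_assoc, t2, one_mul]
  · rw [← conj_smul_conj_smul, mem_conj_smul, inv_inv, ← mul_assoc, ← K_comm hc (xv_A h 1)]
    convert hu using 1
    rw [← e1]; group

omit hs hr tK t1 t2 in
theorem exists_ry {O : Subgroup G} (hP : RP D t O) : ∃ Y, RY D t Y := by
  let M : Submonoid G :=
    { carrier := {g | g * t = t * g ∧ ∃ l m fr, D.St D g l m fr ∨ D.St D.swap g l m fr}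
      one_mem' := ⟨by rw [one_mul, mul_one], _, _, _, .inl (St_K hF.rel (one_mem _))⟩
      mul_mem' := by
        rintro a b ⟨ha, l, m, f, h1⟩ ⟨hb, l', m', f', h2⟩
        refine ⟨by rw [mul_assoc, hb, ← mul_assoc, ha, mul_assoc], ?_⟩
        rcases h1 with h1 | h1 <;> rcases h2 with h2 | h2
        exacts [⟨_, _, _, .inl (St_mul h1 h2)⟩, ⟨_, _, _, .inr (St_mul_swap h1 h2)⟩,
          ⟨_, _, _, .inr (St_mul h1 h2)⟩, ⟨_, _, _, .inl (St_mul_swap h1 h2)⟩] }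
  let S : Subgroup G := ⟨M, fun {g} hg => by
    have : g⁻¹ = g ^ (orderOf g - 1) := inv_eq_of_mul_eq_one_left (by
      rw [← pow_succ, Nat.sub_add_cancel (orderOf_pos g), pow_orderOf_eq_one])
    exact this ▸ M.pow_mem hg _⟩
  have tS : t ∈ S := ⟨rfl, _, _, _, .inl (St_K hF.rel hP.tK)⟩
  obtain ⟨Y, hY, htY⟩ := exists_isSylowIn_ge (two_zpowers hP.t2) (zpowers_le.2 tS)
  refine ⟨Y, zpowers_le.1 htY, hY.isPGroup, fun g hg => (hY.le hg).1, fun g hg => (hY.le hg).2,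
    fun g hg l m hst => ?_, fun hd => ?_⟩
  · have c := (hY.le hg).1
    have odd : ∀ x ∈ Y, x ∈ O → x = 1 := fun x hx hO => by
      obtain ⟨n, hn⟩ := H83.isPGroup_iff.1 hY.isPGroup x hx
      exact H86.U3.eq_one_of_odd_of_two (hP.oddO.of_dvd_nat (orderOf_dvd_natCard _ hO)) hn
    have three : ∀ x ∈ Y, x ^ 3 = 1 → x = 1 := fun x hx h3 =>
      H83.eq_one_of_mem_pgroup hY.isPGroup hx
        (Nat.Coprime.coprime_dvd_left (orderOf_dvd_of_pow_eq_one h3) (by norm_num))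
    have g3 := mul_mem (mul_mem hg hg) hg
    rcases hP.cKt _ (St_cube hF hst) (by
      rw [mul_assoc, c, ← mul_assoc, mul_assoc g, c, ← mul_assoc, c]; group) with e | e
    · exact .inl (three g hg (by rw [← odd _ g3 e, pow_three']))
    · have e1 := odd _ (mul_mem (zpowers_le.1 htY) g3) e
      have e2 : g * g * g = t := by
        rw [eq_inv_of_mul_eq_one_right e1, inv_eq_of_mul_eq_one_right hP.t2]
      have e3 := three _ (mul_mem hg hg) (by
        rw [← hP.t2, ← e2]; simp only [pow_succ, pow_zero]; group)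
      exact .inr (by rw [← e2, e3, one_mul])
  · have hN : S ≤ normalizer (D.A : Set G) := fun g hg => hP.ct g hg.1
    have e : centralizer ({t} : Set G) = S ⊔ D.A := by
      refine le_antisymm (fun g hg => ?_) (sup_le (fun g hg => mem_centralizer_singleton_iff.2 hg.1)
        fun a ha => mem_centralizer_singleton_iff.2 (K_comm hP.tK ha))
      have c := mem_centralizer_singleton_iff.1 hg
      obtain ⟨a, ha, hst⟩ := hF.glob.out g (hP.ct g c)
      exact (mul_mem_cancel_left (mem_sup_right ha)).1 (mem_sup_left (show a * g ∈ S from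
        ⟨by rw [mul_assoc, c, ← mul_assoc, K_comm hP.tK ha, mul_assoc], hst⟩))
    have h1 := hd.trans (e ▸ H52.card_sup_dvd_of_le_normalizer hN)
    rw [hF.glob.card, card_eq_card_mul_relIndex hY.le, mul_comm 128, mul_assoc,
      Nat.mul_dvd_mul_iff_left Nat.card_pos] at h1
    have := hY.not_dvd
    omega

end Cfsg.Agent.H76.Al

namespace Cfsg.Agent.H76.Al

universe u

theorem rp : Cfsg.Agent.H42.AL.RPStmt.{u} := fun _ _ _ _ t hF hs hr tK t2 ⟨_, h1, h2⟩ =>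
  exists_rp hF hs hr tK (fun e => by simp [e] at t2)
    (by rw [← pow_two, ← t2]; exact pow_orderOf_eq_one t) h1 h2

theorem ry : Cfsg.Agent.H42.AL.RYStmt.{u} := fun _ _ _ _ _ _ hF hP => exists_ry hF hP

end Cfsg.Agent.H76.Al
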