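import Mathlib
import Cfsg.Agent.H42.ACDefs
import Cfsg.Agent.H76.AsPreA
import Cfsg.Agent.H83.Misc

/-! Project AC: coordinates on `U`, products of elements in standard form, types. -/

set_option autoImplicit false

namespace Cfsg.Agent.H76.Ac

open Cfsg Subgroup Cfsg.Agent.H8 Cfsg.Agent.H28 Cfsg.Agent.H42.AL
open Cfsg.Agent.H42.AS (om)
open Cfsg.Agent.H72.ASB (one_of_add sq_of_add inv_of_add mem_closure_range conj_closure
  comm_closure conj_of_eq)
open Cfsg.Agent.H76.AsPre (norm_of_comm)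
open scoped Pointwise commutatorElement

universe u

variable {G : Type u} [Group G] {D : RD G}

theorem xe_A (t : F4) : D.xe t ∈ D.A := subset_closure (.inl (.inl ⟨t, rfl⟩))
theorem xb_A (t : F4) : D.xb t ∈ D.A := subset_closure (.inl (.inr ⟨t, rfl⟩))
theorem ne_A : D.ne ∈ D.A := subset_closure (.inr (.inl rfl))
theorem nb_A : D.nb ∈ D.A := subset_closure (.inr (.inr rfl))
theorem hb_A : D.hb ∈ D.A :=
  mul_mem (mul_mem (mul_mem (mul_mem (mul_mem (xb_A _) nb_A) (xb_A _)) nb_A) (xb_A _)) nb_A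
theorem rho_A : D.rho ∈ D.A := mul_mem hb_A hb_A
theorem xe_U (t : F4) : D.xe t ∈ D.U := subset_closure (.inl (.inl ⟨t, rfl⟩))
theorem xb_U (t : F4) : D.xb t ∈ D.U := subset_closure (.inl (.inr ⟨t, rfl⟩))
theorem xv_U (t : F4) : D.xv t ∈ D.U := subset_closure (.inr ⟨t, rfl⟩)
theorem xv_V (t : F4) : D.xv t ∈ D.V := subset_closure ⟨t, rfl⟩
theorem xe_E1 (t : F4) : D.xe t ∈ D.E1 := subset_closure (.inl ⟨t, rfl⟩)
theorem xv_E1 (t : F4) : D.xv t ∈ D.E1 := subset_closure (.inr ⟨t, rfl⟩)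
theorem xb_E2 (t : F4) : D.xb t ∈ D.E2 := subset_closure (.inl ⟨t, rfl⟩)
theorem xv_E2 (t : F4) : D.xv t ∈ D.E2 := subset_closure (.inr ⟨t, rfl⟩)

theorem K_comm {k a : G} (hk : k ∈ D.K) (ha : a ∈ D.A) : a * k = k * a :=
  mem_centralizer_iff.1 hk a ha

theorem U_ind {H : Subgroup G} (he : ∀ t, D.xe t ∈ H) (hb : ∀ t, D.xb t ∈ H)
    (hv : ∀ t, D.xv t ∈ H) : D.U ≤ H := by
  refine (closure_le _).2 ?_
  rintro x ((⟨t, rfl⟩ | ⟨t, rfl⟩) | ⟨t, rfl⟩)
  exacts [he t, hb t, hv t]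

theorem V_U : D.V ≤ D.U := (closure_le _).2 (by rintro x ⟨t, rfl⟩; exact xv_U t)

/-- The normal form of the elements of `U`. -/
def uu (D : RD G) (a b c : F4) : G := D.xe a * D.xb b * D.xv c

theorem uu_U (a b c : F4) : uu D a b c ∈ D.U := mul_mem (mul_mem (xe_U _) (xb_U _)) (xv_U _)

section rel
variable (h : D.Rel')
include h

theorem v0 : D.xv 0 = 1 := one_of_add h.vv
theorem e0 : D.xe 0 = 1 := one_of_add h.ee
theorem b0 : D.xb 0 = 1 := one_of_add h.bb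
theorem v_sq (t : F4) : D.xv t * D.xv t = 1 := sq_of_add h.vv t
theorem mem_V {g : G} : g ∈ D.V ↔ ∃ t, g = D.xv t := mem_closure_range h.vv

theorem xv_A (t : F4) : D.xv t ∈ D.A := by
  rw [← conj_of_eq (h.neb t)]
  exact mul_mem (mul_mem ne_A (xb_A t)) (inv_mem ne_A)

theorem U_A : D.U ≤ D.A := U_ind xe_A xb_A (xv_A h)

theorem uu_e (t : F4) : D.xe t = uu D t 0 0 := by rw [uu, b0 h, v0 h, mul_one, mul_one]
theorem uu_b (t : F4) : D.xb t = uu D 0 t 0 := by rw [uu, e0 h, v0 h, mul_one, one_mul]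
theorem uu_v (t : F4) : D.xv t = uu D 0 0 t := by rw [uu, e0 h, b0 h, mul_one, one_mul]
theorem uu_one : uu D 0 0 0 = 1 := by rw [← uu_v h, v0 h]

theorem uu_mul (a b c a' b' c' : F4) :
    uu D a b c * uu D a' b' c' = uu D (a + a') (b + b') (c + c' + b * a') := by
  simp only [uu, h.ee, h.bb, h.vv]
  calc D.xe a * D.xb b * D.xv c * (D.xe a' * D.xb b' * D.xv c')
      = D.xe a * D.xb b * (D.xv c * D.xe a') * D.xb b' * D.xv c' := by group
    _ = D.xe a * (D.xb b * D.xe a') * (D.xv c * D.xb b') * D.xv c' := by rw [← h.ev]; group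
    _ = D.xe a * D.xe a' * (D.xv (b * a') * D.xb b) * D.xb b' * D.xv c * D.xv c' := by
        rw [h.be, ← h.bv]; group
    _ = D.xe a * D.xe a' * D.xb b * (D.xv (b * a') * D.xb b') * D.xv c * D.xv c' := by
        rw [← h.bv]; group
    _ = D.xe a * D.xe a' * D.xb b * D.xb b' * (D.xv (b * a') * D.xv c * D.xv c') := by
        rw [← h.bv]; group
    _ = _ := by rw [← h.vv, ← h.vv, ← h.vv, ← h.vv, add_assoc, add_comm (b * a')]; group

theorem uu_inv (a b c : F4) : (uu D a b c)⁻¹ = uu D a b (c + b * a) := by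
  refine inv_eq_of_mul_eq_one_right ?_
  rw [uu_mul h, ← uu_one h]
  congr 1 <;> revert a b c <;> decide

theorem uu_inj {a b c a' b' c' : F4} (e : uu D a b c = uu D a' b' c') :
    a = a' ∧ b = b' ∧ c = c' := by
  have h1 : uu D a b c * (uu D a' b' c')⁻¹ = 1 := by rw [e, mul_inv_cancel]
  rw [uu_inv h, uu_mul h] at h1
  have h2 := h.nf _ _ _ h1
  clear h1 e
  have k : ∀ x y : F4, x + y = 0 → x = y := by decide
  obtain rfl := k _ _ h2.1
  obtain rfl := k _ _ h2.2.1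
  refine ⟨rfl, rfl, k _ _ ?_⟩
  have k2 : (2 : F4) = 0 := by decide
  linear_combination h2.2.2 - b * a * k2

theorem v_inj {t s : F4} (e : D.xv t = D.xv s) : t = s := by
  rw [uu_v h, uu_v h] at e; exact (uu_inj h e).2.2

theorem v_eq_one {t : F4} (e : D.xv t = 1) : t = 0 := v_inj h (e.trans (v0 h).symm)

theorem uu_sq {a b c : F4} : uu D a b c * uu D a b c = 1 ↔ a = 0 ∨ b = 0 := by
  rw [uu_mul h, ← uu_one h]
  refine ⟨fun e => ?_, fun e => ?_⟩
  · have := (uu_inj h e).2.2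
    revert this; clear e; revert a b c; decide
  · congr 1 <;> revert a b c <;> decide

theorem uu_mem_V {a b c : F4} : uu D a b c ∈ D.V ↔ a = 0 ∧ b = 0 := by
  rw [mem_V h]
  refine ⟨fun ⟨t, e⟩ => ?_, fun e => ⟨c, by rw [e.1, e.2, uu_v h]⟩⟩
  rw [uu_v h] at e
  exact ⟨(uu_inj h e).1, (uu_inj h e).2.1⟩

theorem comm_uu (a b c a' b' c' : F4) :
    ⁅uu D a b c, uu D a' b' c'⁆ = D.xv (b * a' + a * b') := by
  rw [commutatorElement_def, uu_inv h, uu_inv h, uu_mul h, uu_mul h, uu_mul h, uu_v h]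
  congr 1
  · revert a a'; decide
  · revert b b'; decide
  · have k : (2 : F4) = 0 := by decide
    linear_combination (c + c' + a * b + a' * b' + a' * b) * k

theorem U_v {u : G} (hu : u ∈ D.U) (t : F4) : u * D.xv t = D.xv t * u :=
  mem_centralizer_singleton_iff.1 (U_ind (H := centralizer {D.xv t})
    (fun s => mem_centralizer_singleton_iff.2 (h.ev s t))
    (fun s => mem_centralizer_singleton_iff.2 (h.bv s t))
    (fun s => mem_centralizer_singleton_iff.2 (by rw [← h.vv, ← h.vv, add_comm])) hu)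

theorem be (t s : F4) : ⁅D.xb t, D.xe s⁆ = D.xv (t * s) := by
  rw [uu_b h, uu_e h, comm_uu h, mul_zero, add_zero]

theorem mem_E1 {g : G} : g ∈ D.E1 ↔ ∃ a c, g = uu D a 0 c := by
  refine ⟨fun hg => ?_, ?_⟩
  · induction hg using closure_induction with
    | mem x hx =>
      rcases hx with ⟨t, rfl⟩ | ⟨t, rfl⟩
      exacts [⟨t, 0, uu_e h t⟩, ⟨0, t, uu_v h t⟩]
    | one => exact ⟨0, 0, (uu_one h).symm⟩
    | mul x y _ _ hx hy =>
      obtain ⟨a, c, rfl⟩ := hx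
      obtain ⟨a', c', rfl⟩ := hy
      exact ⟨_, _, by rw [uu_mul h, add_zero]⟩
    | inv x _ hx =>
      obtain ⟨a, c, rfl⟩ := hx
      exact ⟨_, _, uu_inv h _ _ _⟩
  · rintro ⟨a, c, rfl⟩
    rw [uu, b0 h, mul_one]; exact mul_mem (xe_E1 _) (xv_E1 _)

theorem mem_E2 {g : G} : g ∈ D.E2 ↔ ∃ a c, g = uu D 0 a c := by
  refine ⟨fun hg => ?_, ?_⟩
  · induction hg using closure_induction with
    | mem x hx =>
      rcases hx with ⟨t, rfl⟩ | ⟨t, rfl⟩
      exacts [⟨t, 0, uu_b h t⟩, ⟨0, t, uu_v h t⟩]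
    | one => exact ⟨0, 0, (uu_one h).symm⟩
    | mul x y _ _ hx hy =>
      obtain ⟨a, c, rfl⟩ := hx
      obtain ⟨a', c', rfl⟩ := hy
      exact ⟨_, _, by rw [uu_mul h, add_zero]⟩
    | inv x _ hx =>
      obtain ⟨a, c, rfl⟩ := hx
      exact ⟨_, _, uu_inv h _ _ _⟩
  · rintro ⟨a, c, rfl⟩
    rw [uu, e0 h, one_mul]; exact mul_mem (xb_E2 _) (xv_E2 _)

omit h in
theorem card_F4 : Nat.card F4 = 4 := by rw [Nat.card_eq_fintype_card]; rfl

theorem card_V : Nat.card D.V = 4 := by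
  rw [← card_F4]
  refine (Nat.card_eq_of_bijective (fun t => (⟨D.xv t, xv_V t⟩ : D.V)) ⟨fun a b e =>
    v_inj h (congrArg Subtype.val e), fun y => ?_⟩).symm
  obtain ⟨t, ht⟩ := (mem_V h).1 y.2
  exact ⟨t, Subtype.ext ht.symm⟩

theorem card_E1 : Nat.card D.E1 = 16 := by
  rw [show 16 = Nat.card (F4 × F4) by rw [Nat.card_prod, card_F4]]
  refine (Nat.card_eq_of_bijective (fun t : F4 × F4 => (⟨uu D t.1 0 t.2,
    (mem_E1 h).2 ⟨_, _, rfl⟩⟩ : D.E1)) ⟨fun a b e => ?_, fun y => ?_⟩).symm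
  · have := uu_inj h (congrArg Subtype.val e)
    exact Prod.ext this.1 this.2.2
  · obtain ⟨a, c, ht⟩ := (mem_E1 h).1 y.2
    exact ⟨(a, c), Subtype.ext ht.symm⟩

theorem card_E2 : Nat.card D.E2 = 16 := by
  rw [show 16 = Nat.card (F4 × F4) by rw [Nat.card_prod, card_F4]]
  refine (Nat.card_eq_of_bijective (fun t : F4 × F4 => (⟨uu D 0 t.1 t.2,
    (mem_E2 h).2 ⟨_, _, rfl⟩⟩ : D.E2)) ⟨fun a b e => ?_, fun y => ?_⟩).symm
  · have := uu_inj h (congrArg Subtype.val e)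
    exact Prod.ext this.2.1 this.2.2
  · obtain ⟨a, c, ht⟩ := (mem_E2 h).1 y.2
    exact ⟨(a, c), Subtype.ext ht.symm⟩

end rel

/-! ### Standard forms -/

theorem pw_mul (f f' : Bool) (a t : F4) : pw f (a * pw f' t) = pw f a * pw (xor f f') t := by
  revert f f' a t; decide

theorem pw_sq (f f' : Bool) (a b t : F4) :
    a ^ 2 * pw f (b ^ 2 * pw f' t) = (a * pw f b) ^ 2 * pw (xor f f') t := by
  rw [pw_mul, ← mul_assoc, mul_pow]; congr 2; revert f b; decide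

theorem pw_ne {f : Bool} {a : F4} (h : a ≠ 0) : pw f a ≠ 0 := by revert f a; decide

theorem pw_mul' (f : Bool) (a b : F4) : pw f (a * b) = pw f a * pw f b := by revert f a b; decide

theorem cj_mul' (g h x : G) : g * h * x * (g * h)⁻¹ = g * (h * x * h⁻¹) * g⁻¹ := by group

theorem St_mul {D' : RD G} {g g' : G} {l m l' m' : F4} {f f' : Bool} (h : D.St D' g l m f)
    (h' : D.St D g' l' m' f') : D.St D' (g * g') (l * pw f l') (m * pw f m') (xor f f') where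
  l0 := mul_ne_zero h.l0 (pw_ne h'.l0)
  m0 := mul_ne_zero h.m0 (pw_ne h'.m0)
  e t := by rw [cj_mul', h'.e, h.e, pw_mul, mul_assoc]
  b t := by rw [cj_mul', h'.b, h.b, pw_mul, mul_assoc]
  v t := by rw [cj_mul', h'.v, h.v, pw_mul, pw_mul']; congr 1; ring
  e' t := by rw [cj_mul', h'.e', h.e', pw_sq]
  b' t := by rw [cj_mul', h'.b', h.b', pw_sq]

theorem St_mul_swap {D' : RD G} {g g' : G} {l m l' m' : F4} {f f' : Bool} (h : D.St D' g l m f)
    (h' : D.St D.swap g' l' m' f') :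
    D.St D'.swap (g * g') (m * pw f l') (l * pw f m') (xor f f') where
  l0 := mul_ne_zero h.m0 (pw_ne h'.l0)
  m0 := mul_ne_zero h.l0 (pw_ne h'.m0)
  e t := by rw [cj_mul', h'.e]; exact (h.b _).trans (by rw [pw_mul, mul_assoc]; rfl)
  b t := by rw [cj_mul', h'.b]; exact (h.e _).trans (by rw [pw_mul, mul_assoc]; rfl)
  v t := by
    rw [cj_mul', h'.v]
    refine (h.v _).trans ?_
    rw [pw_mul, pw_mul']
    change D'.xv _ = D'.xv _
    congr 1; ring
  e' t := by rw [cj_mul', h'.e']; exact (h.b' _).trans (by rw [pw_sq]; rfl)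
  b' t := by rw [cj_mul', h'.b']; exact (h.e' _).trans (by rw [pw_sq]; rfl)

theorem St_K (h : D.Rel') {k : G} (hk : k ∈ D.K) : D.St D k 1 1 false := by
  have key : ∀ a ∈ D.A, k * a * k⁻¹ = a := fun a ha => by rw [← K_comm hk ha, mul_inv_cancel_right]
  refine ⟨one_ne_zero, one_ne_zero, fun t => ?_, fun t => ?_, fun t => ?_, fun t => ?_, fun t => ?_⟩
    <;> simp only [pw, one_mul, one_pow, Bool.false_eq_true, if_false]
  exacts [key _ (xe_A t), key _ (xb_A t), key _ (xv_A h t),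
    key _ (mul_mem (mul_mem ne_A (xe_A t)) ne_A), key _ (mul_mem (mul_mem nb_A (xb_A t)) nb_A)]

theorem St_cube (hF : D.Fa') {g : G} {l m : F4} (h : D.St D g l m false) : g * g * g ∈ D.K := by
  have := St_mul (St_mul h h) h
  have k : ∀ l : F4, l ≠ 0 → l * pw false l * pw (xor false false) l = 1 := by decide
  rw [k l h.l0, k m h.m0] at this
  exact hF.par.stK _ this

/-- `D` or `D.swap`. -/
def sw (D : RD G) (b : Bool) : RD G := if b then D.swap else D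

/-- The type of `g` modulo `B`. -/
def Tp (D : RD G) (B : Subgroup G) (g : G) (b f : Bool) : Prop :=
  ∃ a ∈ B, ∃ l m, D.St (sw D b) (a * g) l m f

theorem Tp.mul {B : Subgroup G} {g g' : G} {b f b' f' : Bool} (h : Tp D B g b f)
    (h' : Tp D B g' b' f') (hg : g ∈ normalizer (B : Set G)) :
    Tp D B (g * g') (xor b b') (xor f f') := by
  obtain ⟨a, ha, l, m, h⟩ := h
  obtain ⟨a', ha', l', m', h'⟩ := h'
  refine ⟨a * (g * a' * g⁻¹), mul_mem ha ((mem_normalizer_iff.1 hg a').1 ha'), ?_⟩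
  rw [show a * (g * a' * g⁻¹) * (g * g') = a * g * (a' * g') by group]
  cases b'
  · exact ⟨_, _, by simpa using St_mul h h'⟩
  · cases b
    · exact ⟨_, _, St_mul_swap h h'⟩
    · exact ⟨_, _, St_mul_swap h h'⟩

theorem Tp.triv (hF : D.Fa') {B : Subgroup G} {g : G} (h : Tp D B g false false) (hB : B ≤ D.A)
    (hg : g ∈ normalizer (B : Set G)) (g4 : g ^ 4 = 1) : ∃ a ∈ B, ∃ k ∈ D.K, g = a * k := by
  obtain ⟨a, ha, l, m, h⟩ := h
  have h1 := St_cube hF h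
  have hn := fun x hx => (mem_normalizer_iff.1 hg x).1 hx
  have h2 := mul_mem (mul_mem ha (hn a ha)) (hn _ (hn a ha))
  refine ⟨_, h2, _, inv_mem h1, ?_⟩
  rw [K_comm (inv_mem h1) (hB h2)]
  calc g = (a * g * (a * g) * (a * g))⁻¹ *
        (a * (g * a * g⁻¹) * (g * (g * a * g⁻¹) * g⁻¹)) * g ^ 4 := by
        simp only [pow_succ, pow_zero]; group
    _ = _ := by rw [g4, mul_one]

theorem tp_of {B : Subgroup G} {g : G}
    (h : ∃ u ∈ B, ∃ l m fr, D.St D (u * g) l m fr ∨ D.St D.swap (u * g) l m fr) :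
    ∃ b f, Tp D B g b f := by
  obtain ⟨u, hu, l, m, f, h | h⟩ := h
  exacts [⟨false, f, u, hu, l, m, h⟩, ⟨true, f, u, hu, l, m, h⟩]

theorem conj_uu (hF : D.Fa') {u : G} (hu : u ∈ D.U) (a b c : F4) :
    ∃ c', u⁻¹ * uu D a b c * u = uu D a b c' := by
  obtain ⟨x, y, z, rfl⟩ := hF.par.unf u hu
  change ∃ c', (uu D x y z)⁻¹ * uu D a b c * uu D x y z = _
  have k : ∀ x a : F4, x + a + x = a := by decide
  exact ⟨_, by rw [uu_inv hF.rel, uu_mul hF.rel, uu_mul hF.rel, k, k]⟩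

theorem Tp.act (hF : D.Fa') {g : G} {s f : Bool} (h : Tp D D.U g s f) : ∃ l m, l ≠ 0 ∧ m ≠ 0 ∧
    (∀ t, g * D.xv t * g⁻¹ = D.xv (l * m * pw f t)) ∧ ∀ a b c, ∃ c', g * uu D a b c * g⁻¹ =
      if s then uu D (m * pw f b) (l * pw f a) c' else uu D (l * pw f a) (m * pw f b) c' := by
  obtain ⟨u, hu, l, m, h⟩ := h
  have e : ∀ x, g * x * g⁻¹ = u⁻¹ * (u * g * x * (u * g)⁻¹) * u := fun x => by group
  have hv : ∀ t, u * g * D.xv t * (u * g)⁻¹ = D.xv (l * m * pw f t) := fun t => by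
    rw [h.v]; cases s <;> rfl
  refine ⟨l, m, h.l0, h.m0, fun t => ?_, fun a b c => ?_⟩
  · rw [e, hv, mul_assoc, ← U_v hF.rel hu, inv_mul_cancel_left]
  have e2 : u * g * uu D a b c * (u * g)⁻¹ = u * g * D.xe a * (u * g)⁻¹ *
      (u * g * D.xb b * (u * g)⁻¹) * (u * g * D.xv c * (u * g)⁻¹) := by rw [uu]; group
  rw [e, e2, h.e, h.b, hv]
  cases s
  · exact conj_uu hF hu _ _ _
  · change ∃ c', u⁻¹ * (D.xb _ * D.xe _ * _) * u = uu D _ _ c'
    rw [uu_b hF.rel, uu_e hF.rel, uu_v hF.rel, uu_mul hF.rel, uu_mul hF.rel]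
    simpa using conj_uu hF hu _ _ _

theorem mem_U (hF : D.Fa') {u : G} (hu : u ∈ D.U) : ∃ a b c, u = uu D a b c := hF.par.unf u hu

theorem U_four (hF : D.Fa') {u : G} (hu : u ∈ D.U) : u ^ 4 = 1 := by
  obtain ⟨a, b, c, rfl⟩ := mem_U hF hu
  have k : ∀ a : F4, a + a = 0 := by decide
  rw [show 4 = 2 * 2 from rfl, pow_mul, pow_two, pow_two, uu_mul hF.rel, k, k]
  exact (uu_sq hF.rel).2 (.inl rfl)

theorem four_of_sq {x : G} (h : x * x = 1) : x ^ 4 = 1 := by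
  rw [show 4 = 2 * 2 from rfl, pow_mul, pow_two x, h, one_pow]

theorem eq_U (hF : D.Fa') {u k : G} (hu : u ∈ D.U) (hk : k ∈ D.K) (hx : u * k ∈ D.A)
    (x4 : (u * k) ^ 4 = 1) : k = 1 := by
  rw [Commute.mul_pow (K_comm hk (U_A hF.rel hu)), U_four hF hu, one_mul] at x4
  exact hF.par.AK k ((mul_mem_cancel_left (U_A hF.rel hu)).1 hx) hk 2 x4

theorem centV (hF : D.Fa') {t : F4} (ht : t ≠ 0) {a : G} (ha : a ∈ D.A) (a4 : a ^ 4 = 1)
    (e : a * D.xv t = D.xv t * a) : a ∈ D.U := by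
  obtain ⟨u, hu, k, hk, rfl⟩ := hF.glob.centV t ht a ha e
  rwa [eq_U hF hu hk ha a4, mul_one]

theorem mem_V_of_cent (hF : D.Fa') {x : G} (hx : x ∈ D.A) (x2 : x * x = 1)
    (h : ∀ u ∈ D.U, x * u = u * x) : x ∈ D.V := by
  obtain ⟨t, k, hk, rfl⟩ := hF.par.cU x (le_normalizer hx) h
  rw [eq_U hF (xv_U t) hk hx (four_of_sq x2), mul_one]
  exact xv_V t

theorem normV_of_normU [Finite G] (hF : D.Fa') {w : G} (hw : w ∈ normalizer (D.U : Set G)) :
    w ∈ normalizer (D.V : Set G) := mem_normalizer_fintype fun x hx => by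
  obtain ⟨t, rfl⟩ := (mem_V hF.rel).1 hx
  refine mem_V_of_cent hF (U_A hF.rel ((mem_normalizer_iff.1 hw _).1 (V_U hx)))
    (by rw [conj_mul, v_sq hF.rel, mul_one, mul_inv_cancel]) fun q hq => ?_
  have h1 := U_v hF.rel ((mem_normalizer_iff''.1 hw q).1 hq) t
  calc w * D.xv t * w⁻¹ * q = w * (D.xv t * (w⁻¹ * q * w)) * w⁻¹ := by group
    _ = _ := by rw [← h1]; group

theorem rho_v (h : D.Rel') (t : F4) : D.rho * D.xv t * D.rho⁻¹ = D.xv (om ^ 2 * t) :=
  conj_of_eq (h.rv t)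

end Cfsg.Agent.H76.Ac
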