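import Mathlib
import Cfsg.Agent.H76.AcBase

/-! Project AC, PRE: generic part. -/

set_option autoImplicit false

namespace Cfsg.Agent.H76.Ac

open Cfsg Subgroup Cfsg.Agent.H8
open Cfsg.Agent.H76.AsPre (norm_of_comm two_zpowers mem_syl comm_of_sq)
open scoped Pointwise commutatorElement

universe u

local instance factTwoAcA : Fact (Nat.Prime 2) := ⟨Nat.prime_two⟩

variable {G : Type u} [Group G]

/-- What is used about `A`, `K = C(A)`, `N = N(A)`. -/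
structure Sd (A K N : Subgroup G) : Prop where
  comm : ∀ a ∈ A, ∀ k ∈ K, a * k = k * a
  odd : ∀ a ∈ A, a ∈ K → Odd (orderOf a)
  te : ∀ s ∈ K, s ≠ 1 → s * s = 1 → ∀ c, c * s * c⁻¹ ∈ K → c ∈ N
  nA : ∀ n ∈ N, ∀ a ∈ A, n * a * n⁻¹ ∈ A
  nK : ∀ n ∈ N, ∀ a ∈ K, n * a * n⁻¹ ∈ K
  out : ∀ m ∈ N, ∀ n ∈ N, ⁅m, n⁆ * ⁅m, n⁆ = 1 → ∃ a ∈ A, ∃ k ∈ K, ⁅m, n⁆ = a * k

theorem Sd.conj {A K N : Subgroup G} (h : Sd A K N) (g : G) :
    Sd (MulAut.conj g • A) (MulAut.conj g • K) (MulAut.conj g • N) where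
  comm a ha k hk := by
    have := h.comm _ (mem_conj_smul.1 ha) _ (mem_conj_smul.1 hk)
    calc a * k = g * (g⁻¹ * a * g * (g⁻¹ * k * g)) * g⁻¹ := by group
      _ = k * a := by rw [this]; group
  odd a ha hk := by
    have := h.odd _ (mem_conj_smul.1 ha) (mem_conj_smul.1 hk)
    rwa [show g⁻¹ * a * g = MulAut.conj g⁻¹ a by simp, MulEquiv.orderOf_eq] at this
  te s hs h1 h2 c hc := by
    refine mem_conj_smul.2 (h.te _ (mem_conj_smul.1 hs) (fun e => h1 ?_) ?_ _ ?_)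
    · calc s = g * (g⁻¹ * s * g) * g⁻¹ := by group
        _ = 1 := by rw [e]; group
    · calc g⁻¹ * s * g * (g⁻¹ * s * g) = g⁻¹ * (s * s) * g := by group
        _ = 1 := by rw [h2]; group
    · convert mem_conj_smul.1 hc using 1; group
  nA n hn a ha := by
    refine mem_conj_smul.2 ?_
    convert h.nA _ (mem_conj_smul.1 hn) _ (mem_conj_smul.1 ha) using 1; group
  nK n hn a ha := by
    refine mem_conj_smul.2 ?_
    convert h.nK _ (mem_conj_smul.1 hn) _ (mem_conj_smul.1 ha) using 1; group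
  out m hm n hn h2 := by
    have e0 : ⁅g⁻¹ * m * g, g⁻¹ * n * g⁆ = g⁻¹ * ⁅m, n⁆ * g := by
      simp only [commutatorElement_def]; group
    obtain ⟨a, ha, k, hk, e⟩ := h.out _ (mem_conj_smul.1 hm) _ (mem_conj_smul.1 hn) (by
      rw [e0]
      calc _ = g⁻¹ * (⁅m, n⁆ * ⁅m, n⁆) * g := by group
        _ = 1 := by rw [h2]; group)
    refine ⟨_, conj_mem_conj_smul.2 ha, _, conj_mem_conj_smul.2 hk, ?_⟩
    calc ⁅m, n⁆ = g * (g⁻¹ * ⁅m, n⁆ * g) * g⁻¹ := by group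
      _ = _ := by rw [← e0, e]; group

theorem Sd.disj4 {A K N : Subgroup G} (h : Sd A K N) {a : G} (ha : a ∈ A) (hk : a ∈ K)
    (e : a ^ 4 = 1) : a = 1 := H86.U3.eq_one_of_odd_of_two (h.odd a ha hk) (n := 2) e

theorem Sd.disj {A K N : Subgroup G} (h : Sd A K N) (a : G) (ha : a ∈ A) (hk : a ∈ K)
    (e : a * a = 1) : a = 1 := h.disj4 ha hk (four_of_sq e)

theorem Sd.sq {A K N : Subgroup G} (h : Sd A K N) {a k : G} (ha : a ∈ A) (hk : k ∈ K)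
    (a2 : a * a = 1) (e : a * k * (a * k) = 1) : k * k = 1 := by
  calc k * k = a * (a * k) * k := by rw [← mul_assoc a, a2, one_mul]
    _ = a * k * (a * k) := by nth_rewrite 1 [h.comm a ha k hk]; simp only [mul_assoc]
    _ = 1 := e

theorem Sd.split4 {A K N : Subgroup G} (h : Sd A K N) {a k : G} (ha : a ∈ A) (hk : k ∈ K)
    (e : (a * k) ^ 4 = 1) : ∃ a' ∈ A, ∃ k' ∈ K, a * k = a' * k' ∧ a' ^ 4 = 1 ∧ k' ^ 4 = 1 := by
  have c : Commute a k := h.comm a ha k hk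
  have e1 := e
  rw [c.mul_pow] at e1
  obtain ⟨m, hm⟩ := h.odd _ (pow_mem ha 4) (by
    rw [eq_inv_of_mul_eq_one_left e1]; exact inv_mem (pow_mem hk 4))
  have e2 : (a ^ 4) ^ (2 * m + 1) = 1 := hm ▸ pow_orderOf_eq_one _
  have e3 : (a ^ ((2 * m + 1) * (2 * m + 1))) ^ 4 = 1 := by
    rw [← pow_mul, mul_comm, pow_mul, pow_mul, e2, one_pow]
  have e4 : a * k = a ^ ((2 * m + 1) * (2 * m + 1)) * k ^ ((2 * m + 1) * (2 * m + 1)) := by
    rw [← c.mul_pow, show (2 * m + 1) * (2 * m + 1) = 4 * (m * m + m) + 1 by ring, pow_succ, pow_mul,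
      e, one_pow, one_mul]
  refine ⟨_, pow_mem ha _, _, pow_mem hk _, e4, e3, ?_⟩
  rwa [e4, (c.pow_pow _ _).mul_pow, e3, one_mul] at e

theorem Sd.split {A K N : Subgroup G} (h : Sd A K N) {a k : G} (ha : a ∈ A) (hk : k ∈ K)
    (e : a * k * (a * k) = 1) : ∃ a' ∈ A, ∃ k' ∈ K, a * k = a' * k' ∧ a' * a' = 1 ∧ k' * k' = 1 := by
  obtain ⟨a', ha', k', hk', e1, a4, -⟩ := h.split4 ha hk (four_of_sq e)
  have e2 := e
  rw [e1, ← pow_two, Commute.mul_pow (h.comm a' ha' k' hk')] at e2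
  have a2 : a' * a' = 1 := h.disj _ (mul_mem ha' ha') (by
    rw [← pow_two, eq_inv_of_mul_eq_one_left e2]; exact inv_mem (pow_mem hk' 2))
    (by rw [← a4]; simp only [pow_succ, pow_zero, one_mul, mul_assoc])
  exact ⟨a', ha', k', hk', e1, a2, h.sq ha' hk' a2 (e1 ▸ e)⟩

theorem Sd.out' {A K N : Subgroup G} (h : Sd A K N) (m : G) (hm : m ∈ N) (n : G) (hn : n ∈ N)
    (e : ⁅m, n⁆ * ⁅m, n⁆ = 1) : ∃ a ∈ A, ∃ k ∈ K, ⁅m, n⁆ = a * k ∧ a * a = 1 ∧ k * k = 1 := by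
  obtain ⟨a, ha, k, hk, e1⟩ := h.out m hm n hn e
  rw [e1] at e ⊢
  exact h.split ha hk e

theorem Sd.uniq {A K N : Subgroup G} (h : Sd A K N) {a k a' k' : G} (ha : a ∈ A) (hk : k ∈ K)
    (ha' : a' ∈ A) (hk' : k' ∈ K) (a4 : a ^ 4 = 1) (a4' : a' ^ 4 = 1) (e : a * k = a' * k') :
    a = a' ∧ k = k' := by
  have e1 : a'⁻¹ * a = k' * k⁻¹ := by
    calc a'⁻¹ * a = a'⁻¹ * (a * k) * k⁻¹ := by group
      _ = _ := by rw [e]; group
  have hz : a'⁻¹ * a ∈ K := e1 ▸ mul_mem hk' (inv_mem hk)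
  have e3 : (a' * (a'⁻¹ * a)) ^ 4 = 1 := by rwa [mul_inv_cancel_left]
  rw [Commute.mul_pow (h.comm _ ha' _ hz), a4', one_mul] at e3
  have e2 := inv_mul_eq_one.1 (h.disj4 (mul_mem (inv_mem ha') ha) hz e3)
  exact ⟨e2.symm, by rwa [e2, mul_right_inj] at e⟩

theorem Sd.fix {A K N : Subgroup G} (h : Sd A K N) {a k c : G} (ha : a ∈ A) (hk : k ∈ K)
    (a4 : a ^ 4 = 1) (hc : c ∈ N) (e : c * (a * k) = a * k * c) : c * a = a * c ∧ c * k = k * c := by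
  have := h.uniq (h.nA c hc a ha) (h.nK c hc k hk) ha hk (by rw [conj_pow, a4]; simp) a4 (by
    calc c * a * c⁻¹ * (c * k * c⁻¹) = c * (a * k) * c⁻¹ := by group
      _ = _ := by rw [e]; group)
  exact ⟨mul_inv_eq_iff_eq_mul.1 this.1, mul_inv_eq_iff_eq_mul.1 this.2⟩

theorem Sd.cent {A K N : Subgroup G} (h : Sd A K N) {s c : G} (hs : s ∈ K) (h1 : s ≠ 1)
    (h2 : s * s = 1) (e : c * s = s * c) : c ∈ N :=
  h.te s hs h1 h2 c (by rwa [e, mul_inv_cancel_right])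

/-- A Sylow subgroup `T ≤ Z K` of `K' ∩ N` is a Sylow subgroup of `K'`. -/
theorem core [Finite G] {A K N Z T : Subgroup G} (h : Sd A K N)
    (hte : IsTightlyEmbedded K) (hN : N = normalizer (K : Set G)) (ZA : Z ≤ A)
    (Zsq : ∀ z ∈ Z, z * z = 1) {g : G} (hg : g ∉ normalizer (K : Set G))
    (hT : IsSylowIn 2 T (MulAut.conj g • K ⊓ N)) (hT1 : T ≠ ⊥)
    (hcc : ∀ t ∈ T, ∃ z ∈ Z, ∃ r ∈ K, t = z * r) :
    ∃ R : Subgroup G, IsSylowIn 2 R K ∧ IsSylowIn 2 T (MulAut.conj g • K) ∧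
      (∀ z ∈ Z, ∀ r ∈ K, z * r ∈ T → r ∈ R) ∧ (∀ t ∈ T, t * t = 1) ∧ (∀ r ∈ R, r * r = 1) ∧
      Nat.card R = Nat.card T ∧ ∀ t ∈ T, t ∈ K → t = 1 := by
  have h' := h.conj g
  set K' := MulAut.conj g • K with hK'
  have hKN : K ≤ N := hN ▸ le_normalizer
  obtain ⟨S, hS, hTS⟩ := exists_isSylowIn_ge (H := K ⊔ T) hT.isPGroup le_sup_right
  have hTN : T ≤ normalizer (K : Set G) := hN ▸ hT.le.trans inf_le_right
  obtain ⟨hTK, -, -, -, ⟨φ⟩⟩ := S1910.result K hte g hg T hT1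
    (by rw [map_conj_eq_smul, ← hN]; exact hT.le)
    ⟨hT.isPGroup, by rw [map_conj_eq_smul, ← hN]; exact hT.not_dvd⟩ S hTS hS.le
    ⟨hS.isPGroup, hS.not_dvd⟩
  have hR : IsSylowIn 2 (S ⊓ K) K := by
    have := hS.inf_of_le_normalizer (sup_le le_normalizer hTN)
    rwa [inf_eq_right.mpr (le_sup_left : K ≤ K ⊔ T)] at this
  set R := S ⊓ K with hRdef
  set T0 := S ⊓ normalizer (T : Set G) ⊓ K with hT0
  have TK1 : ∀ t ∈ T, t ∈ K → t = 1 := fun t ht hk => mem_bot.1 (hTK ▸ mem_inf.2 ⟨ht, hk⟩)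
  have Tsq : ∀ t ∈ T, t * t = 1 := fun t ht => by
    obtain ⟨z, hz, r, hr, rfl⟩ := hcc t ht
    have e : z * r * (z * r) = r * r := by
      rw [mul_assoc, ← mul_assoc r, ← h.comm z (ZA hz) r hr, ← mul_assoc, ← mul_assoc, Zsq z hz,
        one_mul]
    exact TK1 _ (mul_mem ht ht) (e ▸ mul_mem hr hr)
  have memR : ∀ z ∈ Z, ∀ r ∈ K, z * r ∈ T → r ∈ R := fun z hz r hr ht => by
    refine mem_syl hR hr (h.sq (ZA hz) hr (Zsq z hz) (Tsq _ ht)) ?_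
    have e1 : z * r ∈ normalizer (R : Set G) :=
      H52.le_normalizer_inf (hTS.trans le_normalizer) hTN ht
    have e2 : z ∈ normalizer (R : Set G) := norm_of_comm fun x hx => h.comm z (ZA hz) x hx.2
    exact (mul_mem_cancel_left e2).1 e1
  have hcc' : ∀ t ∈ T, ∃ z ∈ Z, ∃ r ∈ R, t = z * r := fun t ht => by
    obtain ⟨z, hz, r, hr, rfl⟩ := hcc t ht
    exact ⟨z, hz, r, memR z hz r hr ht, rfl⟩
  have Zc : ∀ z ∈ Z, ∀ w ∈ Z, z * w = w * z := fun z hz w hw => comm_of_sq Zsq hz hw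
  -- `R` centralizes a nontrivial element of `T`
  have hex : ∃ t ∈ T, t ≠ 1 ∧ ∀ y ∈ R, y * t = t * y := by
    by_cases hA : ∃ t ∈ T, t ≠ 1 ∧ t ∈ A
    · obtain ⟨t, ht, t1, tA⟩ := hA
      exact ⟨t, ht, t1, fun y hy => (h.comm t tA y hy.2).symm⟩
    push Not at hA
    choose! zz hzz rr hrr e using hcc'
    have rT0 : ∀ t ∈ T, rr t ∈ T0 := fun t ht => by
      refine ⟨⟨(hrr t ht).1, norm_of_comm fun s hs => ?_⟩, (hrr t ht).2⟩
      have e1 : zz t * s = s * zz t := by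
        rw [e s hs, ← mul_assoc, Zc _ (hzz t ht) _ (hzz s hs), mul_assoc,
          h.comm _ (ZA (hzz t ht)) _ (hrr s hs).2, mul_assoc]
      have e2 := comm_of_sq Tsq ht hs
      rw [e t ht, mul_assoc, ← mul_assoc s, ← e1, mul_assoc] at e2
      exact mul_left_cancel e2
    let ψ : T → T0 := fun t => ⟨rr t, rT0 t t.2⟩
    have hψ : Function.Injective ψ := fun s t e1 => by
      have e2 : rr s = rr t := congrArg Subtype.val e1
      by_contra hne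
      refine hA ((s : G) * (t : G)⁻¹) (mul_mem s.2 (inv_mem t.2))
        (fun e3 => hne (Subtype.ext (mul_inv_eq_one.1 e3))) ?_
      have : (s : G) * (t : G)⁻¹ = zz s * (zz t)⁻¹ := by
        conv_lhs => rw [e s s.2, e t t.2, e2]
        group
      rw [this]; exact mul_mem (ZA (hzz s s.2)) (inv_mem (ZA (hzz t t.2)))
    have hsurj := ((Nat.bijective_iff_injective_and_card ψ).2
      ⟨hψ, (Nat.card_congr φ.toEquiv).symm⟩).2
    have hR1 : R ≠ ⊥ := fun e1 => by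
      obtain ⟨⟨u, huT⟩, u1⟩ := ne_bot_iff_exists_ne_one.1 hT1
      refine hA _ huT (fun e => u1 (Subtype.ext e)) ?_
      have e2 : rr u ∈ (⊥ : Subgroup G) := e1 ▸ hrr _ huT
      rw [e _ huT, mem_bot.1 e2, mul_one]
      exact ZA (hzz _ huT)
    obtain ⟨z0, hz0, zc, z2⟩ := H52.exists_orderOf_eq_prime_mem_centralizer (p := 2)
      hR.isPGroup hR.isPGroup le_normalizer hR1
    have zT0 : z0 ∈ T0 := by
      refine ⟨⟨hz0.1, norm_of_comm fun s hs => ?_⟩, hz0.2⟩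
      rw [e s hs, ← mul_assoc, ← h.comm _ (ZA (hzz s hs)) _ hz0.2, mul_assoc, mul_assoc,
        mem_centralizer_iff.1 zc _ (hrr s hs)]
    obtain ⟨t, ht⟩ := hsurj ⟨z0, zT0⟩
    have e1 : rr t = z0 := congrArg Subtype.val ht
    have e2 : (t : G) = zz t * z0 := e1 ▸ e t t.2
    refine ⟨t, t.2, fun e3 => ?_, fun y hy => ?_⟩
    · have : z0 = 1 := h.disj z0 (by
        rw [e3] at e2
        rw [eq_inv_of_mul_eq_one_right e2.symm]
        exact inv_mem (ZA (hzz 1 (one_mem _)))) hz0.2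
        (by rw [← pow_two, ← z2]; exact pow_orderOf_eq_one z0)
      rw [this, orderOf_one] at z2; omega
    · rw [e2, ← mul_assoc, ← h.comm _ (ZA (hzz t t.2)) _ hy.2, mul_assoc, mul_assoc,
        mem_centralizer_iff.1 zc _ hy]
  obtain ⟨t, ht, t1, tc⟩ := hex
  have hSK : S ⊓ K' = T := hT.eq_of_le (hS.isPGroup.to_le inf_le_left)
    (fun x hx => ⟨hx.2, sup_le hKN (hT.le.trans inf_le_right) (hS.le hx.1)⟩)
    (le_inf hTS (hT.le.trans inf_le_left))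
  have hRT : R = T0 := by
    refine le_antisymm (fun y hy => ⟨⟨hy.1, mem_normalizer_fintype fun s hs => ?_⟩, hy.2⟩)
      fun y hy => ⟨hy.1.1, hy.2⟩
    have yN := h'.te t (hT.le ht).1 t1 (Tsq t ht) y (by
      rw [tc y hy, mul_inv_cancel_right]; exact (hT.le ht).1)
    have : y * s * y⁻¹ ∈ S ⊓ K' := ⟨S.mul_mem (S.mul_mem hy.1 (hTS hs)) (S.inv_mem hy.1),
      h'.nK y yN s (hT.le hs).1⟩
    rwa [hSK] at this
  have hcard : Nat.card R = Nat.card T := by rw [hRT]; exact Nat.card_congr φ.toEquiv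
  have hT' : IsSylowIn 2 T K' := (hR.conj_smul g).of_card_ge hT.isPGroup
    (hT.le.trans inf_le_left) (by rw [card_conj_smul, hcard])
  refine ⟨R, hR, hT', memR, Tsq, fun r hr => ?_, hcard, TK1⟩
  have hr' : r ∈ T0 := hRT ▸ hr
  have e : φ (⟨r, hr'⟩ * ⟨r, hr'⟩) = φ 1 := by
    rw [map_mul, map_one]; exact Subtype.ext (Tsq _ (φ ⟨r, hr'⟩).2)
  exact congrArg Subtype.val (φ.injective e)

end Cfsg.Agent.H76.Ac
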