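import Mathlib
import Cfsg.Agent.H76.AcPreB
import Cfsg.Agent.H76.AsPre

/-! Project AC: the four-group `R` (PRE). -/

set_option autoImplicit false

namespace Cfsg.Agent.H76.Ac

open Cfsg Subgroup Cfsg.Agent.H8 Cfsg.Agent.H28 Cfsg.Agent.H42.AL
open Cfsg.Agent.H42.AS (om)
open Cfsg.Agent.H72.ASB (one_of_add sq_of_add inv_of_add conj_of_eq)
open Cfsg.Agent.H76.AsPre (norm_of_comm two_zpowers mem_syl comm_of_sq conj_comm)
open scoped Pointwise commutatorElement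

universe u

local instance factTwoAcC : Fact (Nat.Prime 2) := ⟨Nat.prime_two⟩

variable {G : Type u} [Group G] {D : RD G} [Finite G] (hF : D.Fa') (hs : IsStandardSubgroup D.A)
include hF hs

theorem noD₁ {g x : G} (hA : x ∈ D.A) (hK : x ∈ MulAut.conj g • D.K) (x2 : x * x = 1) : x = 1 :=
  noD hF hs (g := 1) (by simpa using hA) hK x2

theorem exists_inner {g t : G} (ht : t ∈ MulAut.conj g • D.K) (tN : t ∈ D.N)
    (t2 : t * t = 1) (tK : t ∉ D.K) :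
    ∃ g' : G, ∃ a ∈ D.A, ∃ k ∈ D.K, a ≠ 1 ∧ a * a = 1 ∧ a * k * (a * k) = 1 ∧
      a * k ∈ MulAut.conj g' • D.K := by
  by_cases h1 : ∃ a ∈ D.A, a * t ∈ D.K
  · obtain ⟨a, ha, hk⟩ := h1
    obtain ⟨a', ha', k', hk', e, a2, -⟩ := (sd hF hs).split (inv_mem ha) hk
      (by rwa [inv_mul_cancel_left])
    rw [inv_mul_cancel_left] at e
    exact ⟨g, a', ha', k', hk', fun e1 => tK (by rwa [e, e1, one_mul]), a2, e ▸ t2, e ▸ ht⟩
  push Not at h1
  obtain ⟨x, hx, y, hy, a, ha, c1, c2, z1, z2, e1⟩ := hF.par.outinv t tN (t2 ▸ one_mem _) h1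
  have h' := (sd hF hs).conj g
  have t1 : t ≠ 1 := fun e => tK (e ▸ one_mem _)
  obtain ⟨a', ha', k', hk', e, a2, -⟩ := h'.out' _ (h'.cent ht t1 t2 c1.symm) _ (h'.cent ht t1 t2 c2.symm) z2
  have a1 : a' ≠ 1 := fun a1 => z1 (noD₁ hF hs (D.A.mul_mem (mul_mem (mul_mem hx hy) (inv_mem hx))
    (inv_mem hy)) (by rwa [e, a1, one_mul]) z2)
  have e2 : g⁻¹ * a' * g * (g⁻¹ * (k' * t) * g) = g⁻¹ * (a * t * a⁻¹) * g := by
    rw [e1, e]; group
  refine ⟨g⁻¹ * a * g, _, mem_conj_smul.1 ha', _, mem_conj_smul.1 (mul_mem hk' ht),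
    fun e3 => a1 ?_, cj_sq' a2 g, ?_, ?_⟩
  · simpa [mul_inv_eq_one, inv_mul_eq_one, mul_eq_one_iff_eq_inv'] using e3
  · rw [e2]; exact cj_sq' (cj_sq t2 a) g
  · rw [e2, mem_conj_smul]
    convert mem_conj_smul.1 ht using 1; group

theorem exists_z {g t : G} (ht : t ∈ MulAut.conj g • D.K) (tN : t ∈ D.N)
    (t2 : t * t = 1) (tK : t ∉ D.K) : ∃ g' : G, ∃ k ∈ D.K,
      D.xv 1 * k * (D.xv 1 * k) = 1 ∧ D.xv 1 * k ∈ MulAut.conj g' • D.K := by
  obtain ⟨g', a, ha, k, hk, a1, a2, u2, hu⟩ := exists_inner hF hs ht tN t2 tK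
  obtain ⟨y, hy, e⟩ := hF.glob.inv a ha a2 a1
  have e1 : D.xv 1 * k = y * (a * k) * y⁻¹ := by
    rw [← e, mul_assoc, K_comm hk (inv_mem hy)]; group
  refine ⟨y * g', k, hk, by rw [e1]; exact cj_sq u2 y, ?_⟩
  rw [e1, ← conj_smul_conj_smul]; exact conj_mem_conj_smul.2 hu

variable {g k : G} (hk : k ∈ D.K) (u2 : D.xv 1 * k * (D.xv 1 * k) = 1)
  (hu : D.xv 1 * k ∈ MulAut.conj g • D.K)

include hk u2 hu in
theorem cent_U {j : G} (hj : j ∈ MulAut.conj g • D.K) (hN : j ∈ D.N) :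
    ∀ u ∈ D.U, j * u = u * j := fun u hu' => by
  have hS := sd hF hs
  have hS' := hS.conj g
  have hU := U_le hF hs hk u2 hu
  have h0 := hF.par.oddU (D.A ⊓ MulAut.conj g • D.K) inf_le_left (Nat.not_even_iff_odd.1 fun he => by
      obtain ⟨⟨t, ht⟩, t2⟩ := exists_prime_orderOf_dvd_card' 2 he.two_dvd
      rw [← orderOf_coe] at t2
      have := noD₁ hF hs ht.1 ht.2 (by rw [← pow_two, ← t2]; exact pow_orderOf_eq_one t)
      simp [this] at t2)
    fun u hu => mem_normalizer_fintype fun y hy =>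
      ⟨hS.nA u (le_normalizer (U_A hF.rel hu)) y hy.1, hS'.nK u (hU hu) y hy.2⟩
  have : j * u * j⁻¹ * u⁻¹ ∈ D.A ⊓ MulAut.conj g • D.K := by
    refine mem_inf.2 ⟨mul_mem (hS.nA j hN u (U_A hF.rel hu')) (inv_mem (U_A hF.rel hu')), ?_⟩
    convert mul_mem hj (hS'.nK u (hU hu') _ (inv_mem hj)) using 1; group
  exact mul_inv_eq_iff_eq_mul.1 (hS.uniq (hS.nA j hN u (U_A hF.rel hu')) (one_mem _) (U_A hF.rel hu')
    (h0 this) (by rw [conj_pow, U_four hF hu']; simp) (U_four hF hu') (by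
      rw [K_comm (h0 this) (U_A hF.rel hu')]; group)).1

include hk u2 hu in
theorem cfg : ∃ R T : Subgroup G, IsSylowIn 2 R D.K ∧ IsSylowIn 2 T (MulAut.conj g • D.K) ∧
    D.xv 1 * k ∈ T ∧ k ∈ R ∧ (∀ t ∈ T, ∃ s, ∃ r ∈ R, t = D.xv s * r) ∧ (∀ r ∈ R, r * r = 1) ∧
    (∀ t ∈ T, t * t = 1) ∧ Nat.card R = Nat.card T ∧ (∀ t ∈ T, t ∈ D.K → t = 1) ∧
    ∀ s, D.xv s ∈ MulAut.conj g • D.A := by
  have h := hF.rel
  have hS := sd hF hs
  have hS' := hS.conj g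
  have hU := U_le hF hs hk u2 hu
  have uN : D.xv 1 * k ∈ MulAut.conj g • D.K ⊓ D.N :=
    ⟨hu, D.N.mul_mem (le_normalizer (xv_A h 1)) (centralizer_le_normalizer _ hk)⟩
  obtain ⟨T, hT, huT⟩ := exists_isSylowIn_ge (two_zpowers u2) (zpowers_le.2 uN)
  have huT' := zpowers_le.1 huT
  have hc := fun t (ht : t ∈ T) =>
    hF.par.cU t (hT.le ht).2 (cent_U hF hs hk u2 hu (hT.le ht).1 (hT.le ht).2)
  obtain ⟨R, hR, hT', memR, Tsq, Rsq, hcard, TK⟩ := core hS hs.2.1 (N_eq hs) (V_U.trans (U_A h))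
    (fun z hz => by obtain ⟨t, rfl⟩ := (mem_V h).1 hz; exact v_sq h t) (g_not hF hk hu) hT
    (fun e => u_not hF hk (bot_le (a := D.K) (e ▸ huT')))
    fun t ht => let ⟨s, r, hr, e⟩ := hc t ht; ⟨_, xv_V s, r, hr, e⟩
  refine ⟨R, T, hR, hT', huT', memR _ (xv_V 1) _ hk huT', fun t ht => ?_, Rsq, Tsq, hcard, TK,
    fun s => ?_⟩
  · obtain ⟨s, r, hr, rfl⟩ := hc t ht
    exact ⟨s, r, memR _ (xv_V s) _ hr ht, rfl⟩
  obtain ⟨a, ha, k', hk', e, a2, k2⟩ := hS'.out' _ (hU (xb_U s)) _ (hU (xe_U 1))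
    (by rw [be h]; exact v_sq h _)
  rw [be h, mul_one] at e
  have kT : k' ∈ T := mem_syl hT' hk' k2 (norm_of_comm fun t ht => by
    refine (hS'.fix ha hk' (four_of_sq a2) (hS'.cent hu (fun e => u_not hF hk (e ▸ one_mem _)) u2
      (comm_of_sq Tsq ht huT')) ?_).2.symm
    obtain ⟨s', r, hr, rfl⟩ := hc t ht
    rw [← e, mul_assoc, ← K_comm hr (xv_A h s), ← mul_assoc, ← mul_assoc, U_v h (xv_U s') s])
  by_cases k1 : k' = 1
  · rwa [e, k1, mul_one]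
  exfalso
  obtain ⟨s', r, hr, e'⟩ := hc k' kT
  have s0 : D.xv s' ≠ 1 := fun e1 => k1 (TK _ kT (by rwa [e', e1, one_mul]))
  have ea : a = D.xv (s + s') * r := by
    rw [h.vv, mul_assoc, ← e', e, mul_assoc, k2, mul_one]
  have a1 : a = 1 := by
    by_cases s1 : D.xv (s + s') = 1
    · exact noD hF hs (g' := 1) ha (by simpa [ea, s1] using hr) a2
    obtain ⟨c, hc, ec⟩ := inv_conj hF (xv_A h s') (xv_A h (s + s')) (v_sq h _) (v_sq h _) s0 s1
    refine noD hF hs (g' := c * g) ha ?_ a2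
    rw [← conj_smul_conj_smul, ea, ← ec, mul_assoc, K_comm hr (inv_mem hc), ← mul_assoc,
      mul_assoc c, ← e']
    exact conj_mem_conj_smul.2 hk'
  rw [a1, one_mul] at e
  exact k1 (noD₁ hF hs (e ▸ xv_A h s) hk' k2)

theorem exists_pd (hr : ¬ PRankLE 2 1 D.K) {g : G} (hg : g ∉ D.N)
    (he : Even (Nat.card ↥(D.K.map (MulAut.conj g).toMonoidHom ⊓ D.N))) : ∃ R, PD D R := by
  have h := hF.rel
  have hS := sd hF hs
  obtain ⟨⟨t, ht⟩, t2⟩ := exists_prime_orderOf_dvd_card' 2 he.two_dvd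
  rw [← orderOf_coe] at t2
  have t2' : t * t = 1 := by rw [← pow_two, ← t2]; exact pow_orderOf_eq_one t
  have t1 : t ≠ 1 := fun e => by simp [e] at t2
  have ht1 : t ∈ MulAut.conj g • D.K := ht.1
  obtain ⟨g', k, hk, u2, hu⟩ := exists_z hF hs ht1 ht.2 t2' fun tK => hg
    (hS.te _ (mem_conj_smul.1 ht1) (by
      simpa [mul_inv_eq_one, inv_mul_eq_one, mul_eq_one_iff_eq_inv'] using t1) (cj_sq' t2' g) _
      (by convert tK using 1; group))
  obtain ⟨R, T, hR, hT, huT, -, hTR, Rsq, Tsq, hcard, TK, hV⟩ := cfg hF hs hk u2 hu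
  have h4 : 4 ≤ Nat.card R := by
    unfold PRankLE at hr
    push Not at hr
    obtain ⟨B, -, hB, hc⟩ := hr
    have h2 := hR.card_le (Q := B.map D.K.subtype) (by
      rintro ⟨_, b, hb, rfl⟩
      exact ⟨1, Subtype.ext (by simpa using congrArg Subtype.val (hB b hb))⟩) (map_subtype_le B)
    rw [card_map_of_injective D.K.subtype_injective] at h2
    obtain ⟨n, hn⟩ := hR.isPGroup.exists_card_eq
    rw [hn] at h2 ⊢
    match n, h2 with
    | 0, h2 => omega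
    | 1, h2 => omega
    | n + 2, _ => rw [pow_add]; have := Nat.one_le_two_pow (n := n); omega
  choose! ss rr hrr e using hTR
  have hinj : Function.Injective fun t : T => ss t := fun s t e1 => by
    have e2 : ss s = ss t := e1
    have : (s : G)⁻¹ * t = (rr s)⁻¹ * rr t := by
      conv_lhs => rw [e s s.2, e t t.2, e2]
      group
    exact Subtype.ext (inv_mul_eq_one.1 (TK _ (mul_mem (inv_mem s.2) t.2)
      (this ▸ mul_mem (inv_mem (hR.le (hrr s s.2))) (hR.le (hrr t t.2)))))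
  have h5 := Nat.card_le_card_of_injective _ hinj
  rw [card_F4] at h5
  have hsurj := ((Nat.bijective_iff_injective_and_card _).2 ⟨hinj, by rw [card_F4]; omega⟩).2
  have hex : ∀ s, ∃ r ∈ R, D.xv s * r ∈ T := fun s => by
    obtain ⟨t, rfl⟩ := hsurj s
    exact ⟨_, hrr t t.2, e t t.2 ▸ t.2⟩
  obtain ⟨p, p1, p2, p3, p4, -⟩ := exists_g hF hs (hV 1) (z_ne h) (v_sq h 1)
  rw [← p1] at hV
  rw [← p2] at hT hu
  have hS' := hS.conj p
  obtain ⟨r₁, hr₁, ht₁⟩ := hex 1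
  have e3 : D.xv 1 * (p⁻¹ * (D.xv 1 * r₁) * p) = p⁻¹ * r₁ * p := by
    calc _ = p⁻¹ * (p * D.xv 1 * p⁻¹ * D.xv 1 * r₁) * p := by group
      _ = _ := by rw [← p4, v_sq h, one_mul]
  have hc := fun j => cent_U hF hs (g := p⁻¹) (j := j) (mem_conj_smul.1 (hT.le ht₁))
    (by rw [e3]; exact cj_sq' (Rsq _ hr₁) p)
    (by rw [e3, mem_conj_smul]; simpa [mul_assoc] using hR.le hr₁)
  have pV : p⁻¹ ∈ normalizer (D.V : Set G) := mem_normalizer_fintype fun x hx => by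
    obtain ⟨s, rfl⟩ := (mem_V h).1 hx
    rw [inv_inv]
    refine mem_V_of_cent hF (mem_conj_smul.1 (hV s)) (cj_sq' (v_sq h s) p) fun u hu' => ?_
    obtain ⟨r, hr, ht⟩ := hex s
    have c1 := hc (p⁻¹ * r * p) (mem_conj_smul.2 (by simpa [mul_assoc] using hR.le hr))
      (mem_conj_smul.1 (hS'.cent hu (fun e => u_not hF hk (e ▸ one_mem _)) u2 (by
        rw [e _ huT, ← mul_assoc, ← K_comm (hR.le hr) (xv_A h _), mul_assoc, mul_assoc,
          comm_of_sq Rsq hr (hrr _ huT)]))) u hu'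
    have c2 := K_comm (mem_conj_smul.1 (hT.le ht)) (U_A h hu')
    calc p⁻¹ * D.xv s * p * u = p⁻¹ * (D.xv s * r) * p * ((p⁻¹ * r * p)⁻¹ * u) := by group
      _ = p⁻¹ * (D.xv s * r) * p * u * (p⁻¹ * r * p)⁻¹ := by
        rw [inv_mul_eq_iff_eq_mul.2 (by rw [← mul_assoc, c1, mul_inv_cancel_right] :
          u = p⁻¹ * r * p * (u * (p⁻¹ * r * p)⁻¹)), ← mul_assoc]
      _ = _ := by rw [← c2]; group
  have hT' := hT.conj_smul p⁻¹
  rw [conj_inv_smul_conj_smul] at hT'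
  obtain ⟨k1, hk1, e1⟩ := hR.exists_conj_eq hT'
  have key : ∀ r, r ∈ R ↔ p * k1 * r * (p * k1)⁻¹ ∈ T := fun r => by
    rw [← conj_mem_conj_smul (g := k1), e1, mem_conj_smul, inv_inv, cj_mul']
  have hN : p * k1 ∈ normalizer (D.V : Set G) := mul_mem (by simpa using inv_mem pV)
    (norm_of_comm fun x hx => (K_comm hk1 (U_A h (V_U hx))).symm)
  refine ⟨R, hs, hR, by omega, Rsq, ⟨p * k1, mem_normalizer_fintype fun x hx => ?_, hN,
    fun hn => ?_⟩, fun g k hk k2 hv => ?_⟩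
  · have : R ⊔ D.V ≤ (R ⊔ D.V).comap (MulAut.conj (p * k1)).toMonoidHom := by
      refine sup_le (fun r hr => ?_) fun v hv => mem_sup_right ((mem_normalizer_iff.1 hN v).1 hv)
      change p * k1 * r * (p * k1)⁻¹ ∈ R ⊔ D.V
      rw [e _ ((key r).1 hr)]
      exact mul_mem (mem_sup_right (xv_V _)) (mem_sup_left (hrr _ ((key r).1 hr)))
    exact this hx
  · have h2 := (mem_normalizer_iff.1 hn _).1
      ((key ((p * k1)⁻¹ * (D.xv 1 * k) * (p * k1))).2 (by convert huT using 1; group))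
    exact u_not hF hk (by convert hR.le h2 using 1; group)
  · simpa using noD₁ hF hs hv (conj_mem_conj_smul.2 hk) (cj_sq k2 g)

end Cfsg.Agent.H76.Ac

namespace Cfsg.Agent.H76.Ac

universe u

theorem pre : Cfsg.Agent.H42.AL.PreStmt'.{u} := fun _ _ _ _ hF hs hr ⟨_, hg, he⟩ =>
  exists_pd hF hs hr hg he

end Cfsg.Agent.H76.Ac
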