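import Cfsg.Agent.H76.IdxTwo

/-! Class numbers of `Ω_{2n+1}(q)`, `q` odd. -/

namespace Cfsg.Agent.H76

universe u v w

theorem card_conjClasses_le_of_surjective {G H : Type*} [Group G] [Group H] [Finite G] (f : G →* H)
    (hf : Function.Surjective f) : Nat.card (ConjClasses H) ≤ Nat.card (ConjClasses G) :=
  Nat.card_le_card_of_surjective _ (ConjClasses.map_surjective hf)

open Module QuadraticMap
open H30 (spinorNorm isoEquiv)

variable {F : Type u} [Field F] [Fintype F] {L : Type w} [Field L] [Algebra F L] [IsAlgClosed L]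
  {h2 : (2 : F) ≠ 0}

omit [IsAlgClosed L] in
theorem FAdm.exists_odd_one (h2 : (2 : F) ≠ 0) {n : ℕ} {s : Multiset (Lˣ × ℕ)}
    (hs : FAdm Odd (Fintype.card F : ℤ) n s) (hn : Odd n) (hd : ddet s = 1) :
    ∃ j, Odd (j + 1) ∧ (1, j + 1) ∈ s := by
  classical
  have h1 := neg_one_ne_one_of_two (two_ne_zero_ext (L := L) h2)
  have h3 := (hs.ddet_eq (card_eq_two_mul F h2)).resolve_right h1
  by_contra h4
  rw [hd, wt, (hn.add_even (even_iff_two_dvd.2 (Multiset.dvd_sum fun e he => ?_))).neg_one_pow] at h3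
  · exact h1 h3.symm
  · obtain ⟨⟨α, e⟩, hx, rfl⟩ := Multiset.mem_map.1 he
    obtain ⟨h5, h6⟩ := Multiset.mem_filter.1 hx
    obtain rfl : α = 1 := h6
    obtain ⟨j, rfl⟩ := Nat.exists_eq_add_one.2 (hs.adm.pos _ h5)
    exact even_iff_two_dvd.1 (Nat.not_odd_iff_even.1 fun h => h4 ⟨j, h, h5⟩)

omit [Fintype F] [Algebra F L] [IsAlgClosed L] in
theorem decode_update {n : ℕ} (f : Fin n → Cd L) (e : Fin n) (u : Multiset Lˣ) :
    decode (Function.update f e (u, (f e).2)) =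
      (tag (e + 1) u + (decode (Function.update f e (0, (f e).2))).1, (decode f).2) := by
  refine Prod.ext ?_ (funext fun j => ?_)
  · simp only [decode, glue]
    rw [← Finset.add_sum_erase _ _ (Finset.mem_univ e), ← Finset.add_sum_erase _ _
      (Finset.mem_univ e), ← add_assoc]
    congr 1
    · simp [Cd.ms, add_assoc]
    · exact Finset.sum_congr rfl fun i hi => by simp [Finset.ne_of_mem_erase hi]
  · simp only [decode]
    split_ifs with h
    · by_cases h' : ⟨j, h⟩ = e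
      · subst h'; simp
      · simp [h']
    · rfl

theorem card_split_le (h2 : (2 : F) ≠ 0) (n : ℕ) :
    Finite {f : Fin (2 * n + 1) → Cd L //
      ((∀ e : Fin (2 * n + 1), CdOK (Fintype.card F : ℤ) (Odd (e + 1 : ℕ)) (f e)) ∧
        cwt f = 2 * n + 1) ∧ ∀ e : Fin (2 * n + 1), Odd (e + 1 : ℕ) →
          (f e).1 = 0 ∧ (f e).2.2 = (false, 1)} ∧
    (Nat.card {f : Fin (2 * n + 1) → Cd L //
      ((∀ e : Fin (2 * n + 1), CdOK (Fintype.card F : ℤ) (Odd (e + 1 : ℕ)) (f e)) ∧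
        cwt f = 2 * n + 1) ∧ ∀ e : Fin (2 * n + 1), Odd (e + 1 : ℕ) →
          (f e).1 = 0 ∧ (f e).2.2 = (false, 1)} : ℚ) ≤ 9 / 2 * (Fintype.card F : ℚ) ^ n := by
  classical
  obtain ⟨p, hp⟩ := CharP.exists F
  have hpp := Fact.mk (CharP.char_is_prime F p)
  have : CharP L p := charP_of_injective_algebraMap (algebraMap F _).injective p
  obtain ⟨r, hr, hq⟩ := exists_card_eq_pow F p
  have h1 : ∀ e : ℕ, FinSz (fun x : Cd L => CdOK (Fintype.card F : ℤ) (Odd (e + 1)) x ∧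
      (Odd (e + 1) → x.1 = 0 ∧ x.2.2 = (false, 1))) (fun x => (e + 1) * Multiset.card x.ms) ∧
      gf (fun x : Cd L => CdOK (Fintype.card F : ℤ) (Odd (e + 1)) x ∧
      (Odd (e + 1) → x.1 = 0 ∧ x.2.2 = (false, 1))) (fun x => (e + 1) * Multiset.card x.ms) =
      if Odd (e + 1) then (1 + PowerSeries.X ^ (e + 1)) ^ 2 else
        geo (Fintype.card F) (2 * (e + 1)) := fun e => by
    split_ifs with h
    · have k1 := gf_eq ((false, 1) : Bool × ℤˣ) (sz := fun b => (e + 1) * ex b) (by simp [ex])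
      have k2 := gf_eq (0 : Multiset Lˣ) (sz := fun u => (e + 1) * Multiset.card u) (by simp)
      have := gf_cd k2.1 (gf_ex (e + 1)).1 k1.1
      rw [k1.2, k2.2, (gf_ex _).2, mul_one, one_mul] at this
      have k3 : (fun x : Cd L => CdOK (Fintype.card F : ℤ) (Odd (e + 1)) x ∧
          (Odd (e + 1) → x.1 = 0 ∧ x.2.2 = (false, 1))) =
          fun x => x.1 = 0 ∧ True ∧ x.2.2 = (false, 1) := funext fun x => propext
        ⟨fun k => ⟨(k.2 h).1, trivial, (k.2 h).2⟩, fun k => ⟨⟨k.1 ▸ Ev.zero, Or.inl h⟩,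
          fun _ => ⟨k.1, k.2.2⟩⟩⟩
      rwa [k3]
    · have := gf_cdOK (L := L) hr False (Nat.add_one_pos e)
      rw [← hq, if_neg not_false, mul_one] at this
      convert this using 3 <;> simp [h]
  have h := gf_pi fun e : Fin (2 * n + 1) => (h1 e).1
  have h3 := ((bd2_split (three_le_card h2) (2 * n + 1)).2.2 n).2
  rw [← Fin.prod_univ_eq_prod_range fun i => if Odd (i + 1) then
    (1 + PowerSeries.X ^ (i + 1)) ^ 2 else geo (Fintype.card F) (2 * (i + 1))] at h3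
  simp only [← (h1 _).2, ← h.2, coeff_gf] at h3
  have E := Equiv.subtypeEquivRight (p := fun f : Fin (2 * n + 1) → Cd L =>
      ((∀ e : Fin (2 * n + 1), CdOK (Fintype.card F : ℤ) (Odd (e + 1 : ℕ)) (f e)) ∧
        cwt f = 2 * n + 1) ∧ ∀ e : Fin (2 * n + 1), Odd (e + 1 : ℕ) →
          (f e).1 = 0 ∧ (f e).2.2 = (false, 1)) (q := fun f => (∀ e : Fin (2 * n + 1),
            CdOK (Fintype.card F : ℤ) (Odd (e + 1 : ℕ)) (f e) ∧
      (Odd (e + 1 : ℕ) → (f e).1 = 0 ∧ (f e).2.2 = (false, 1))) ∧ ∑ e : Fin (2 * n + 1),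
        (e + 1) * Multiset.card (f e).ms = 2 * n + 1) fun f => by
    rw [forall_and, and_right_comm]; rfl
  exact ⟨have := h.1 (2 * n + 1); Finite.of_equiv _ E.symm, by rwa [Nat.card_congr E]⟩

variable [Algebra.IsAlgebraic F L]

variable (h2) in
/-- labels of isometries of determinant one with given spinor norm -/
def OL (n : ℕ) (θ : L) (t : Multiset (Lˣ × ℕ) × (ℕ → ℤˣ × ℤˣ)) : Prop :=
  wt t.1 = n ∧ ddet t.1 = 1 ∧ ∃ δ, RealT h2 t.1 t.2 δ θ

omit [Algebra.IsAlgebraic F L] in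
theorem finite_OL (n : ℕ) (θ : L) : Finite {t // OL h2 n θ t} :=
  have := (card_labels' (L := L) h2 Odd n).1
  finite_of_imp fun _ ⟨h, _, _, h'⟩ => h'.lab_mem h

theorem card_flip_le {n : ℕ} (hn : Odd n) (δ θ : L) :
    Nat.card {t // OL h2 n θ t ∧ RealT h2 t.1 t.2 δ θ} ≤
      Nat.card {t // OL h2 n θ t ∧ RealT h2 t.1 t.2 (-δ) θ} := by
  have : ∀ s : Multiset (Lˣ × ℕ), ∃ κ : ℕ → ℤˣ × ℤˣ, ∀ τ, OL h2 n θ (s, τ) →
      RealT h2 s τ δ θ → RealT h2 s (κ * τ) (-δ) θ := fun s => by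
    by_cases h : ∃ j, Odd (j + 1) ∧ (1, j + 1) ∈ s
    · obtain ⟨j, h3, h4⟩ := h
      exact ⟨_, fun τ _ h => h.flip_one h3 h4⟩
    · exact ⟨1, fun τ h1 h3 => absurd ((h3.lab_mem h1.1).1.exists_odd_one h2 hn h1.2.1) h⟩
  choose κ hκ using this
  have := finite_OL (h2 := h2) n θ
  have := finite_of_imp (A := fun t => OL h2 n θ t ∧ RealT h2 t.1 t.2 (-δ) θ) (B := OL h2 n θ)
    fun _ h => h.1
  refine card_le_of_map (fun t => (t.1, κ t.1 * t.2)) (fun t h => ?_) fun t t' _ _ h => ?_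
  · have := hκ _ _ h.1 h.2
    exact ⟨⟨h.1.1, h.1.2.1, _, this⟩, this⟩
  · obtain ⟨k1, k2⟩ := Prod.mk.inj h
    exact Prod.ext k1 (mul_left_cancel (k2.trans (by rw [k1])))

theorem two_mul_card_eq {n : ℕ} (hn : Odd n) {δ : L} (hδ : δ = 1 ∨ δ = -1) (θ : L) :
    2 * Nat.card {t // OL h2 n θ t ∧ RealT h2 t.1 t.2 δ θ} = Nat.card {t // OL h2 n θ t} := by
  have := finite_OL (h2 := h2) n θ
  have h1 := card_and_add (OL h2 n θ) fun t => RealT h2 t.1 t.2 δ θ
  have h3 := card_flip_le (h2 := h2) hn δ θ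
  have h4 := card_flip_le (h2 := h2) hn (-δ) θ
  rw [neg_neg] at h4
  rw [Nat.card_congr (Equiv.subtypeEquivRight (q := fun t => OL h2 n θ t ∧ ¬ RealT h2 t.1 t.2 δ θ)
    fun t => and_congr_right fun ⟨_, _, δ', h⟩ => ⟨fun h5 h6 =>
      neg_ne_self_of_sign h2 hδ (h5.unique h6).1, fun h5 => h.cast rfl rfl (by
        have : δ' ≠ δ := fun h6 => h5 (h6 ▸ h)
        rcases hδ with rfl | rfl <;> rcases h.realO.sign with rfl | rfl <;>
          first | exact absurd rfl this | rfl | exact (neg_neg _).symm) rfl⟩)] at h3 h4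
  omega

theorem card_OL_add_le (n : ℕ) : (Nat.card {t // OL h2 (2 * n + 1) (1 : L) t} +
    Nat.card {t // OL h2 (2 * n + 1) (-1 : L) t} : ℚ) ≤ 59 / 4 * (Fintype.card F : ℚ) ^ n := by
  classical
  obtain ⟨f1, h1⟩ := card_labels' (L := L) h2 Odd (2 * n + 1)
  have h4 := ((bd2_o (three_le_card h2) (2 * n + 1)).2.2 n).2
  rw [← h1] at h4
  set P := fun t : Multiset (Lˣ × ℕ) × (ℕ → ℤˣ × ℤˣ) =>
    FAdm Odd (Fintype.card F : ℤ) (2 * n + 1) t.1 ∧ LabOK Odd t.1 t.2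
  have h0 := neg_one_ne_one_of_two (two_ne_zero_ext (L := L) h2)
  have := finite_of_imp (A := fun t => P t ∧ ddet t.1 = 1) (B := P) fun _ h => h.1
  have := finite_of_imp (A := fun t => P t ∧ ¬ ddet t.1 = 1) (B := P) fun _ h => h.1
  have := finite_of_imp (A := fun t => (P t ∧ ddet t.1 = 1) ∧ OL h2 (2 * n + 1) (1 : L) t)
    (B := P) fun _ h => h.1.1
  have := finite_of_imp (A := fun t => (P t ∧ ddet t.1 = 1) ∧ ¬ OL h2 (2 * n + 1) (1 : L) t)
    (B := P) fun _ h => h.1.1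
  have h5 := card_and_add P fun t => ddet t.1 = 1
  have h6 := card_and_add (fun t => P t ∧ ddet t.1 = 1) (OL h2 (2 * n + 1) (1 : L))
  have h7 := card_le_of_imp (A := OL h2 (2 * n + 1) (1 : L))
    (B := fun t => (P t ∧ ddet t.1 = 1) ∧ OL h2 (2 * n + 1) (1 : L) t) fun t h =>
      ⟨⟨h.2.2.choose_spec.lab_mem h.1, h.2.1⟩, h⟩
  have h8 := card_le_of_imp (A := OL h2 (2 * n + 1) (-1 : L))
    (B := fun t => (P t ∧ ddet t.1 = 1) ∧ ¬ OL h2 (2 * n + 1) (1 : L) t) fun t h =>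
      ⟨⟨h.2.2.choose_spec.lab_mem h.1, h.2.1⟩, fun h' => neg_ne_self_of_sign h2 (Or.inl rfl)
        (h.2.2.choose_spec.unique h'.2.2.choose_spec).2⟩
  have h9 := card_le_of_map (A := fun t => P t ∧ ddet t.1 = 1) (B := fun t => P t ∧ ¬ ddet t.1 = 1)
    (fun t => (twist (-1) t.1, fun j => (t.2 j).swap)) (fun t h => by
      obtain ⟨δ, θ, k1⟩ := h.1.1.realT h2 h.1.2
      obtain ⟨θ', k2⟩ := k1.neg
      refine ⟨k2.lab_mem ((wt_map _ _).trans h.1.1.adm.wt_eq), ?_⟩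
      rw [ddet_twist, h.2, h.1.1.adm.wt_eq, Odd.neg_one_pow ⟨n, rfl⟩, mul_one]
      exact h0) fun t t' _ _ h => by
      obtain ⟨k1, k2⟩ := Prod.mk.inj h
      exact Prod.ext (Multiset.map_injective
        ((Equiv.mulLeft (-1 : Lˣ)).prodCongr (Equiv.refl ℕ)).injective k1)
        (funext fun j => Prod.swap_injective (congrFun k2 j))
  have h11 := (Nat.cast_le (α := ℚ)).2 (show 2 * (Nat.card {t // OL h2 (2 * n + 1) (1 : L) t} +
      Nat.card {t // OL h2 (2 * n + 1) (-1 : L) t}) ≤ Nat.card {t // P t} by omega)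
  rw [Nat.cast_mul, Nat.cast_add, Nat.cast_ofNat] at h11
  linarith

theorem card_OL_le_add (n : ℕ) : (Nat.card {t // OL h2 (2 * n + 1) (1 : L) t} : ℚ) ≤
    Nat.card {t // OL h2 (2 * n + 1) (-1 : L) t} + 9 / 2 * (Fintype.card F : ℚ) ^ n := by
  classical
  have h0 := neg_one_ne_one_of_two (two_ne_zero_ext (L := L) h2)
  have hQ : Odd (Fintype.card F : ℤ) := by exact_mod_cast H30.two_ne_zero_iff_odd_card.1 h2
  set A := fun t : Multiset (Lˣ × ℕ) × (ℕ → ℤˣ × ℤˣ) => ∃ j, Odd (j + 1) ∧ (-1, j + 1) ∈ t.1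
  have := finite_OL (h2 := h2) (2 * n + 1) (1 : L)
  have := finite_OL (h2 := h2) (2 * n + 1) (-1 : L)
  have := finite_of_imp (A := fun t => OL h2 (2 * n + 1) (-1 : L) t ∧ A t) fun _ h => h.1
  have := finite_of_imp (A := fun t => OL h2 (2 * n + 1) (-1 : L) t ∧ ¬ A t) fun _ h => h.1
  have h1 := card_and_add (OL h2 (2 * n + 1) (1 : L)) A
  have h3 := card_and_add (OL h2 (2 * n + 1) (-1 : L)) A
  have h4 : Nat.card {t // OL h2 (2 * n + 1) (1 : L) t ∧ A t} ≤
      Nat.card {t // OL h2 (2 * n + 1) (-1 : L) t ∧ A t} := by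
    have : ∀ s : Multiset (Lˣ × ℕ), ∃ κ : ℕ → ℤˣ × ℤˣ, ∀ τ δ, A (s, τ) →
        RealT h2 s τ δ 1 → RealT h2 s (κ * τ) (-δ) (-1) := fun s => by
      by_cases h : ∃ j, Odd (j + 1) ∧ (-1, j + 1) ∈ s
      · obtain ⟨j, h3, h4⟩ := h
        exact ⟨_, fun τ _ _ h => h.flip_neg_one h3 h4⟩
      · exact ⟨1, fun τ _ h1 => absurd h1 h⟩
    choose κ hκ using this
    refine card_le_of_map (fun t => (t.1, κ t.1 * t.2)) (fun t h => ?_) fun t t' _ _ h => ?_
    · exact ⟨⟨h.1.1, h.1.2.1, _, hκ _ _ _ h.2 h.1.2.2.choose_spec⟩, h.2⟩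
    · obtain ⟨k1, k2⟩ := Prod.mk.inj h
      exact Prod.ext k1 (mul_left_cancel (k2.trans (by rw [k1])))
  obtain ⟨f5, h5⟩ := card_split_le (L := L) h2 n
  set OK := fun f : Fin (2 * n + 1) → Cd L =>
    (∀ e : Fin (2 * n + 1), CdOK (Fintype.card F : ℤ) (Odd (e + 1 : ℕ)) (f e)) ∧ cwt f = 2 * n + 1
  have h6 : ∀ (P : _ → Prop) [Finite {t // P t}], Finite {f // OK f ∧ P (decode f)} ∧
      Nat.card {f // OK f ∧ P (decode f)} ≤ Nat.card {t // P t} := fun P _ =>
    have hi : Function.Injective fun f : {f // OK f ∧ P (decode f)} =>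
        (⟨decode f.1, f.2.2⟩ : {t // P t}) := fun f g h => Subtype.ext (decode_inj h0
      (fun e => (f.2.1.1 e).1) (fun e => (g.2.1.1 e).1) (Subtype.mk.inj h))
    ⟨Finite.of_injective _ hi, Nat.card_le_card_of_injective _ hi⟩
  have := finite_of_imp (A := fun t => OL h2 (2 * n + 1) (1 : L) t ∧ ¬ A t) fun _ h => h.1
  obtain ⟨f7, -⟩ := h6 fun t => OL h2 (2 * n + 1) (1 : L) t ∧ ¬ A t
  obtain ⟨f8, h8⟩ := h6 fun t => OL h2 (2 * n + 1) (-1 : L) t ∧ ¬ A t
  have h7 := card_le_of_surj (A := fun f => OK f ∧ OL h2 (2 * n + 1) (1 : L) (decode f) ∧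
      ¬ A (decode f)) (B := fun t => OL h2 (2 * n + 1) (1 : L) t ∧ ¬ A t) decode fun t h => by
    obtain ⟨k1, k2⟩ := h.1.2.2.choose_spec.lab_mem h.1.1
    obtain ⟨f, k3, k4, k5⟩ := exists_decode h0 hQ k1 k2
    exact ⟨f, ⟨⟨k3, k4⟩, by rwa [k5]⟩, k5⟩
  have h9 := card_and_add (fun f => OK f ∧ OL h2 (2 * n + 1) (1 : L) (decode f) ∧ ¬ A (decode f))
    fun f => ∃ e : Fin (2 * n + 1), Odd (e + 1 : ℕ) ∧ (f e).1 ≠ 0
  have h10 := card_le_of_imp (A := fun f => (OK f ∧ OL h2 (2 * n + 1) (1 : L) (decode f) ∧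
      ¬ A (decode f)) ∧ ¬ ∃ e : Fin (2 * n + 1), Odd (e + 1 : ℕ) ∧ (f e).1 ≠ 0)
      (B := fun f => OK f ∧ ∀ e : Fin (2 * n + 1), Odd (e + 1 : ℕ) →
        (f e).1 = 0 ∧ (f e).2.2 = (false, 1)) fun f h => ⟨h.1.1, fun e he =>
      ⟨by_contra fun h' => h.2 ⟨e, he, h'⟩, by_contra fun h' => h.1.2.2 ⟨e, he, by
        rw [← mem_part, decode, part_glue]
        refine Multiset.mem_add.2 (Or.inr (Multiset.mem_replicate.2 ⟨fun k => h' ?_, rfl⟩))
        simpa [ex, Prod.ext_iff] using k⟩⟩⟩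
  obtain ⟨β, h11, h12⟩ := exists_ev_flip (L := L) h2
  have : ∀ P : Fin (2 * n + 1) → Prop, ∃ e : Fin (2 * n + 1), (∃ e, P e) → P e := fun P => by
    by_cases h : ∃ e, P e
    · exact h.imp fun _ h _ => h
    · exact ⟨0, fun h' => absurd h' h⟩
  choose ch hch using this
  let ε : (Fin (2 * n + 1) → Cd L) → Fin (2 * n + 1) := fun f =>
    ch fun e => Odd (e + 1 : ℕ) ∧ (f e).1 ≠ 0
  have h13 := card_le_of_map (A := fun f => (OK f ∧ OL h2 (2 * n + 1) (1 : L) (decode f) ∧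
      ¬ A (decode f)) ∧ ∃ e : Fin (2 * n + 1), Odd (e + 1 : ℕ) ∧ (f e).1 ≠ 0)
      (B := fun f => OK f ∧ OL h2 (2 * n + 1) (-1 : L) (decode f) ∧ ¬ A (decode f))
      (fun f => Function.update f (ε f) (β (f (ε f)).1, (f (ε f)).2)) (fun f h => by
        obtain ⟨⟨⟨k1, k2⟩, ⟨k3, k4, δ, k5⟩, k6⟩, k7⟩ := h
        obtain ⟨k8, k9⟩ : Odd (ε f + 1 : ℕ) ∧ (f (ε f)).1 ≠ 0 := hch _ k7
        generalize ε f = e at k8 k9
        obtain ⟨m1, m2, m3, m4, -⟩ := h11 _ (k1 e).1 k9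
        have m5 : ∀ u, Ev (Fintype.card F : ℤ) u → ∀ i : Fin (2 * n + 1),
            CdOK (Fintype.card F : ℤ) (Odd (i + 1 : ℕ)) (Function.update f e (u, (f e).2) i) :=
          fun u hu i => by
            by_cases hi : i = e
            · subst hi; simpa [CdOK, hu] using (k1 i).2
            · simpa [hi] using k1 i
        have m6 := decode_update f e (f e).1
        have m7 := decode_update f e 0
        rw [Function.update_eq_self] at m6
        obtain ⟨m8, m9⟩ := decode_spec hQ (m5 0 Ev.zero)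
        rw [show (decode (Function.update f e (0, (f e).2))).2 = (decode f).2 from
          (congrArg Prod.snd m7 :)] at m9
        have m10 : (decode f).1 = tag (e + 1) (f e).1 +
          (decode (Function.update f e (0, (f e).2))).1 := congrArg Prod.fst m6
        suffices H : OL h2 (2 * n + 1) (-1 : L) (decode (Function.update f e (β (f e).1, (f e).2))) ∧
            ¬ A (decode (Function.update f e (β (f e).1, (f e).2))) from
          ⟨⟨m5 _ m1, (wt_glue _).symm.trans H.1.1⟩, H⟩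
        rw [decode_update]
        generalize (decode (Function.update f e (0, (f e).2))).1 = s at m8 m9 m10
        generalize (decode f).2 = τ at k5 m9
        have m11 : wt (tag (e + 1) (β (f e).1) + s) = 2 * n + 1 := by
          rwa [wt_add, wt_tag, m2, ← wt_tag, ← wt_add, ← m10]
        have m12 : -1 ∉ (f e).1 := fun h => k6 ⟨e, k8, by
          rw [m10]; exact Multiset.mem_add.2 (Or.inl (mem_tag.2 ⟨h, rfl⟩))⟩
        have m13 : ∀ s : Multiset (Lˣ × ℕ), LabOK Odd s 1 := fun s j => by simp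
        obtain ⟨δ₀, θ₀, r0⟩ := m8.realT h2 m9
        obtain ⟨δ₁, θ₁, r1⟩ := (fadm_tag_of_ev (k1 e).1 (Nat.add_one_pos e)).realT h2 (m13 _)
        obtain ⟨δ₂, θ₂, r2⟩ := (fadm_tag_of_ev m1 (Nat.add_one_pos e)).realT h2 (m13 _)
        have r3 := ((r1.add r0).unique (k5.cast m10 (one_mul _).symm rfl rfl)).2
        have r4 : θ₂ = -θ₁ := by
          rw [r1.realO.theta_eq fun x hx h => m12 (h ▸ (mem_tag.1 hx).1),
            r2.realO.theta_eq fun x hx h => m3 m12 (h ▸ (mem_tag.1 hx).1), dprod_tag, dprod_tag,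
            pow_right_comm, m4, k8.neg_pow, pow_right_comm]
        refine ⟨⟨m11, ?_, _, (r2.add r0).cast rfl (one_mul _) rfl
          (by rw [r4, neg_mul, r3])⟩, fun ⟨j, hj, h⟩ => ?_⟩
        · rw [m10, ddet_add, ddet_tag, (k1 e).1.prod] at k4
          rw [ddet_add, ddet_tag, m1.prod, k4]
        · rcases Multiset.mem_add.1 h with h | h
          · exact m3 m12 (mem_tag.1 h).1
          · exact k6 ⟨j, hj, by rw [m10]; exact Multiset.mem_add.2 (Or.inr h)⟩)
      fun f g hf hg h => by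
        have k : ∀ f : Fin (2 * n + 1) → Cd L, OK f → (∃ e : Fin (2 * n + 1), Odd (e + 1 : ℕ) ∧
            (f e).1 ≠ 0) → ε (Function.update f (ε f) (β (f (ε f)).1, (f (ε f)).2)) = ε f :=
          fun f k1 k7 => congrArg ch (funext fun i => propext (and_congr_right fun _ => by
            by_cases hi : i = ε f
            · have k9 : (f (ε f)).1 ≠ 0 := (hch _ k7).2
              have := (h11 _ (k1.1 _).1 k9).2.1
              rw [hi, Function.update_self, ne_eq, ne_eq, ← Multiset.card_eq_zero, this,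
                Multiset.card_eq_zero]
            · rw [Function.update_of_ne hi]))
        have k1 : ε f = ε g := by rw [← k f hf.1.1 hf.2, ← k g hg.1.1 hg.2, h]
        have k2 : (f (ε f)).1 ≠ 0 := (hch _ hf.2).2
        have k3 : (g (ε g)).1 ≠ 0 := (hch _ hg.2).2
        rw [← k1] at h k3
        funext i
        have k4 := congrFun h i
        by_cases hi : i = ε f
        · subst hi
          rw [Function.update_self, Function.update_self, Prod.mk.injEq] at k4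
          exact Prod.ext (h12 _ _ (hf.1.1.1 _).1 k2 (hg.1.1.1 _).1 k3 k4.1) k4.2
        · rwa [Function.update_of_ne hi, Function.update_of_ne hi] at k4
  have h14 := (Nat.cast_le (α := ℚ)).2 (show Nat.card {t // OL h2 (2 * n + 1) (1 : L) t} ≤
    Nat.card {t // OL h2 (2 * n + 1) (-1 : L) t} + Nat.card {f // OK f ∧
      ∀ e : Fin (2 * n + 1), Odd (e + 1 : ℕ) → (f e).1 = 0 ∧ (f e).2.2 = (false, 1)} by omega)
  rw [Nat.cast_add] at h14
  exact h14.trans (add_le_add_right h5 _)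

variable {ι : Type} [Fintype ι] [DecidableEq ι] {Q : QuadraticForm F (ι → F)}

theorem card_omega_odd_le (h2 : (2 : F) ≠ 0) (hQ : (polarBilin Q).Nondegenerate) {n : ℕ}
    (hι : Fintype.card ι = 2 * n + 1) :
    10 * Nat.card (ConjClasses (Omega F ⇑Q)) ≤ 73 * Fintype.card F ^ n := by
  classical
  let L := AlgebraicClosure F
  have h0 := neg_one_ne_one_of_two (two_ne_zero_ext (L := L) h2)
  let D := ((detL L ι).comp (isometryGroup F ⇑Q).subtype).ker
  have hD : ∀ g : isometryGroup F ⇑Q, g ∈ D ↔ ddet (ujord L (g : GL ι F)) = 1 := fun g => by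
    rw [← detL_eq]; rfl
  let χ : isometryGroup F ⇑Q →* Lˣ :=
    ((sqch L h2).comp (spinorNorm hQ)).comp (isoEquiv Q).toMonoidHom
  have hχ : ∀ g, (χ g : L) = 1 ∨ (χ g : L) = -1 := fun g =>
    RealT.theta_sign (h2 := h2) ⟨ι, _, _, Q, hQ, g, rfl, rfl, rfl, rfl⟩
  have hχ' : ∀ g, χ g ≠ 1 ↔ (χ g : L) = -1 := fun g =>
    ⟨fun h => (hχ g).resolve_left fun h' => h (Units.ext h'), fun h h' => h0 (Units.ext (by
      rw [Units.val_neg, Units.val_one, ← h, h', Units.val_one]))⟩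
  have h1 := card_classes_add_le (χ.comp D.subtype).ker fun x y hx hy => Units.ext (by
    rw [map_mul, Units.val_mul, show ((χ.comp D.subtype) x : L) = -1 from (hχ' x).1 hx,
      show ((χ.comp D.subtype) y : L) = -1 from (hχ' y).1 hy, neg_mul_neg, one_mul, Units.val_one])
  have h3 : Nat.card (ConjClasses (Omega F ⇑Q)) ≤ Nat.card (ConjClasses (χ.comp D.subtype).ker) :=
    card_conjClasses_le_of_surjective ((D.subtype.comp (χ.comp D.subtype).ker.subtype).codRestrict _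
      fun x => (mem_Omega_iff_ddet h2 hQ _).2 ⟨(hD _).1 x.1.2, x.2⟩) fun x =>
      have h := (mem_Omega_iff_ddet (L := L) h2 hQ _).1 x.2
      ⟨⟨⟨x.1, (hD _).2 h.1⟩, h.2⟩, rfl⟩
  have h4 : ∀ g h : D, IsConj g h ↔
      (ujord L ((g : isometryGroup F ⇑Q) : GL ι F), oLab (g : isometryGroup F ⇑Q)) =
      (ujord L ((h : isometryGroup F ⇑Q) : GL ι F), oLab (h : isometryGroup F ⇑Q)) := fun g h => by
    rw [← isConj_o_iff L h2 hQ]
    refine ⟨D.subtype.map_isConj, fun k => ?_⟩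
    obtain ⟨c, hc⟩ := isConj_iff.1 k
    by_cases k1 : c ∈ D
    · exact isConj_iff.2 ⟨⟨c, k1⟩, Subtype.ext hc⟩
    have k2 : -(c : GL ι F) ∈ isometryGroup F ⇑Q := H30.mem_isometryGroup.2 fun v => by
      rw [Units.val_neg, Matrix.neg_mulVec, QuadraticMap.map_neg, H30.mem_isometryGroup.1 c.2]
    have k3 := ((fadm_ujord_o (L := L) h2 hQ c).ddet_eq (card_eq_two_mul F h2)).resolve_right h0
    refine isConj_iff.2 ⟨⟨⟨_, k2⟩, (hD _).2 ?_⟩, Subtype.ext (Subtype.ext ?_)⟩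
    · rw [hD] at k1
      have k4 : ddet (ujord L (c : GL ι F)) = -1 := by
        rw [k3] at k1 ⊢
        exact (neg_one_pow_eq_or _ _).resolve_left k1
      rw [ujord_of_smul (g := (c : GL ι F)) (c := -1) (b := -1)
        (by rw [Units.val_neg, neg_one_smul])
        (by rw [Units.val_neg, map_neg, map_one, Units.val_one]), ddet_twist, wt_ujord, hι,
        Odd.neg_one_pow ⟨n, rfl⟩, k4, neg_mul_neg, one_mul]
    · rw [← hc]
      simp
  have hd : dch L Q = 1 ∨ dch L Q = -1 := mul_self_eq_one_iff.1 (dch_mul_self h2 hQ)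
  have h5 : ∀ (θ : L) (P : D → Prop), (∀ g, P g ↔ (χ g : L) = θ) →
      2 * Nat.card {C : ConjClasses D // ∃ g, ConjClasses.mk g = C ∧ P g} =
        Nat.card {t // OL h2 (2 * n + 1) θ t} := fun θ P hP => by
    rw [card_conjClasses_eq _ _ fun g h _ _ => h4 g h, ← two_mul_card_eq ⟨n, rfl⟩ hd, ← hι]
    congr 1
    refine Nat.card_congr (Equiv.subtypeEquivRight fun t => ⟨?_, fun h => ?_⟩)
    · rintro ⟨g, hg, rfl⟩
      have := (exists_o_iff (h2 := h2) hQ _ _).1 ⟨g.1, rfl, (hP g).1 hg⟩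
      exact ⟨⟨this.1, (hD _).1 g.2, _, this.2⟩, this.2⟩
    · obtain ⟨g, rfl, hg⟩ := (exists_o_iff hQ _ _).2 ⟨h.1.1, h.2⟩
      exact ⟨⟨g, (hD _).2 h.1.2.1⟩, (hP _).2 hg, rfl⟩
  have h6 := h5 1 (· ∈ (χ.comp D.subtype).ker) fun g => Units.val_eq_one.symm
  have h7 := h5 (-1) (· ∉ (χ.comp D.subtype).ker) fun g => hχ' g
  have h8 := (Nat.cast_le (α := ℚ)).2 (show 2 * Nat.card (ConjClasses (Omega F ⇑Q)) +
    Nat.card {t // OL h2 (2 * n + 1) (-1 : L) t} ≤ 2 * Nat.card {t // OL h2 (2 * n + 1) (1 : L) t}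
    by omega)
  rw [Nat.cast_mul, Nat.cast_add, Nat.cast_mul, Nat.cast_ofNat] at h8
  have h9 := card_OL_add_le (h2 := h2) (L := L) n
  have h10 := card_OL_le_add (h2 := h2) (L := L) n
  have h12 : (0 : ℚ) ≤ (Fintype.card F : ℚ) ^ n := by positivity
  have h13 : (10 * Nat.card (ConjClasses (Omega F ⇑Q)) : ℚ) ≤ 73 * (Fintype.card F : ℚ) ^ n := by
    linarith
  exact_mod_cast h13

theorem le_card_omega_odd (h2 : (2 : F) ≠ 0) (hQ : (polarBilin Q).Nondegenerate) {n : ℕ}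
    (hn : 1 ≤ n) (hι : Fintype.card ι = 2 * n + 1) :
    Fintype.card F ^ n ≤ 2 * Nat.card (ConjClasses (Omega F ⇑Q)) := by
  classical
  let L := AlgebraicClosure F
  have h1 := card_ev' (L := L) F n
  have := Nat.finite_of_card_ne_zero (h1.trans_ne (pow_ne_zero _ Fintype.card_ne_zero))
  obtain ⟨β, h3, h4⟩ := exists_ev_flip (L := L) h2
  set P := fun u : Multiset Lˣ => Ev (Fintype.card F : ℤ) u ∧ Multiset.card u = 2 * n
  set A := fun u : Multiset Lˣ => ∃ δ : L, RealO h2 (tag 1 u) δ 1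
  have hd : dch L Q = 1 ∨ dch L Q = -1 := mul_self_eq_one_iff.1 (dch_mul_self h2 hQ)
  have := finite_of_imp (A := fun t => P t ∧ A t) (B := P) fun _ h => h.1
  have h5 := card_and_add P A
  have h0 : ∀ u, P u → u ≠ 0 := fun u hu h => by
    have := hu.2
    rw [h, Multiset.card_zero] at this
    omega
  have h6 := card_le_of_map (A := fun u => P u ∧ ¬ A u) (B := fun u => P u ∧ A u) β
    (fun u ⟨hu, hu'⟩ => by
      obtain ⟨k1, k2, k3, k4, -⟩ := h3 u hu.1 (h0 u hu)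
      obtain ⟨δ, θ, k9⟩ := (fadm_tag_of_ev hu.1 one_pos).realO h2
      obtain ⟨δ', θ', k10⟩ := (fadm_tag_of_ev k1 one_pos).realO h2
      obtain ⟨τ, k11⟩ := k9.realT
      obtain rfl : θ = -1 := k11.theta_sign.resolve_left fun h => hu' ⟨δ, h ▸ k9⟩
      have k7 : -1 ∉ u := fun h => hu' ⟨_, (k11.flip_neg_one (j := 0) odd_one
        (mem_tag.2 ⟨h, rfl⟩)).realO.cast rfl rfl (neg_neg _)⟩
      refine ⟨⟨k1, k2.trans hu.2⟩, δ', k10.cast rfl rfl ?_⟩
      have k12 := k9.theta_eq fun x hx h => k7 (h ▸ (mem_tag.1 hx).1)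
      rw [dprod_tag, pow_one] at k12
      rw [k10.theta_eq fun x hx h => k3 k7 (h ▸ (mem_tag.1 hx).1), dprod_tag, pow_one, k4, ← k12,
        neg_neg])
    fun u v hu hv => h4 u v hu.1.1 (h0 u hu.1) hv.1.1 (h0 v hv.1)
  have h7 : Nat.card {u // P u ∧ A u} ≤ Nat.card (ConjClasses (Omega F ⇑Q)) := by
    have : ∀ u : {u // P u ∧ A u}, ∃ g : Omega F ⇑Q,
        ujord L ((g : isometryGroup F ⇑Q) : GL ι F) = tag 1 (u.1 + {1}) :=
      fun ⟨u, hu, δ, h⟩ => by
        have k := h.add (realO_single (δ := δ * dch L Q) odd_one (by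
          rw [← mul_self_eq_one_iff, mul_mul_mul_comm, dch_mul_self h2 hQ,
            mul_self_eq_one_iff.2 h.sign, one_mul]))
        rw [mul_one, ← mul_assoc, mul_self_eq_one_iff.2 h.sign, one_mul] at k
        rw [tag_add]
        exact k.exists_Omega (by simp [hu.1.prod]) hQ (by simp [hu.2, hι]) rfl
    choose g hg using this
    refine Nat.card_le_card_of_injective (fun u => ConjClasses.mk (g u)) fun u v h => ?_
    have := congrArg Prod.fst ((isConj_o_iff L h2 hQ _ _).1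
      ((Omega F ⇑Q).subtype.map_isConj (ConjClasses.mk_eq_mk_iff_isConj.1 h)))
    have k : tag 1 (u.1 + {1}) = tag 1 (v.1 + {1}) := (hg u).symm.trans (this.trans (hg v))
    exact Subtype.ext (add_right_cancel (by rw [← part_tag 1 (u.1 + {1}), k, part_tag]))
  rw [show Nat.card {t // P t} = _ from h1] at h5
  omega

end Cfsg.Agent.H76
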