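import Cfsg.Agent.H56.W2K2
import Cfsg.Agent.H83.Misc
import Cfsg.Prelude.Def_Quasithin

/-! Project HB (S2208): definitions and the statements of the pieces
(paper proof: `stubs/notes/h76_s2208.md`). -/

set_option autoImplicit false

namespace Cfsg.Agent.H76.HB

open MulAction Subgroup Cfsg.Agent.H83 Cfsg.Agent.H56.TT
open scoped Cfsg.Agent.H63

universe u v

section
variable {G : Type u} [Group G]

/-- `P` is a Sylow 2-subgroup of `N` -/
abbrev Syl (N P : Subgroup G) : Prop := IsSylowIn 2 P N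

/-- the centre of `P` -/
abbrev zz (P : Subgroup G) : Subgroup G := P ⊓ C[P]

/-- the torus of two Sylow subgroups -/
abbrev dd (N P Q : Subgroup G) : Subgroup G := N ⊓ N[P] ⊓ N[Q]

/-- The facts on `L₂(q)` (`i = 1`), `Sz(q)` (`i = 2`), `U₃(q)` (`i = 3`) at one pair of Sylow
2-subgroups. -/
structure BP (N P Q : Subgroup G) (q i : ℕ) : Prop where
  card : Nat.card P = q ^ i
  om : ∀ x ∈ P, x * x = 1 ↔ x ∈ zz P
  cardZ : Nat.card (zz P) = q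
  sq : ∀ x ∈ P, x * x ∈ zz P
  cyc : IsCyclic (dd N P Q)
  cardD : i ≠ 3 → Nat.card (dd N P Q) + 1 = q
  cardD3 : i = 3 → Nat.gcd 3 (q + 1) * Nat.card (dd N P Q) + 1 = q ^ 2
  semi : ∀ d ∈ dd N P Q, d ≠ 1 → ∀ t ∈ P, d * t = t * d → t ∈ zz P
  trans : ∀ z ∈ zz P, ∀ z' ∈ zz P, z ≠ 1 → z' ≠ 1 → ∃ d ∈ dd N P Q, d * z * d⁻¹ = z'
  inj2 : i = 2 → ∀ s ∈ P, ∀ t ∈ P, s * s = t * t → s * t⁻¹ ∈ zz P
  ub : i = 3 → ∀ t ∈ P, t ∉ zz P → Nat.card ↥(P ⊓ C1[t]) ≤ q ^ 2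

/-- `N` looks like `L₂(q)` (`i = 1`), `Sz(q)` (`i = 2`), `U₃(q)` (`i = 3`), `q` even. -/
structure BS (N : Subgroup G) (q i : ℕ) : Prop where
  simple : IsSimpleGroup N
  nonab : ¬ IsMulCommutative N
  pow : ∃ m, 2 ≤ m ∧ q = 2 ^ m
  ty : i = 1 ∨ (i = 2 ∧ 8 ≤ q) ∨ i = 3
  c60 : i = 1 → q = 4 → Nat.card N = 60
  ti : ∀ P Q, Syl N P → Syl N Q → ∀ x ∈ P, x ∈ Q → x ≠ 1 → P = Q
  ne : ∀ P, Syl N P → ∃ Q, Syl N Q ∧ Q ≠ P
  tr : ∀ P Q R, Syl N P → Syl N Q → Syl N R → Q ≠ P → R ≠ P → ∃ t ∈ P, cj t Q = R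
  bp : ∀ P Q, Syl N P → Syl N Q → Q ≠ P → BP N P Q q i

variable {Ω : Type v} [MulAction G Ω]

/-- the setup: `NN x` is the normal subgroup of the stabiliser of `x` -/
structure St (NN : Ω → Subgroup G) (q i : ℕ) : Prop where
  two : Two G Ω
  smul : ∀ (g : G) (x : Ω), NN (g • x) = cj g (NN x)
  fix : ∀ x, NN x ≤ stabilizer G x
  bs : ∀ x, BS (NN x) q i

/-- an involution of `N^a` fixes `b` -/
def Ev (NN : Ω → Subgroup G) : Prop :=
  ∀ a b : Ω, a ≠ b → ∃ z ∈ NN a, orderOf z = 2 ∧ z • b = b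

/-- `N^a ∩ N^b` has even order -/
def Gam (NN : Ω → Subgroup G) : Prop :=
  ∀ a b : Ω, a ≠ b → ∃ z ∈ NN a, orderOf z = 2 ∧ z ∈ NN b

/-- an involution of `N^a` lies in `N^b` for each of its fixed points `b` -/
def Clo (NN : Ω → Subgroup G) : Prop :=
  ∀ (a b : Ω), ∀ z ∈ NN a, orderOf z = 2 → z • b = b → z ∈ NN b

end

def ModL2Stmt : Prop :=
  ∀ (G : Type u) [Group G] [Finite G] (N : Subgroup G) (F : Type) [Field F] [Fintype F] (m : ℕ),
    Fintype.card F = 2 ^ m → 2 ≤ m →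
    Nonempty (N ≃* Matrix.ProjectiveSpecialLinearGroup (Fin 2) F) → BS N (2 ^ m) 1

def ModSzStmt : Prop :=
  ∀ (G : Type u) [Group G] [Finite G] (N : Subgroup G) (F : Type) [Field F] [Fintype F] (k : ℕ),
    Fintype.card F = 2 ^ (2 * k + 1) → 1 ≤ k →
    Nonempty (N ≃* Cfsg.Lie.Sz F (2 ^ (k + 1))) → BS N (2 ^ (2 * k + 1)) 2

def ModU3Stmt : Prop :=
  ∀ (G : Type u) [Group G] [Finite G] (N : Subgroup G) (K : Type) [Field K] [Fintype K] (m : ℕ),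
    Fintype.card K = (2 ^ m) ^ 2 → 2 ≤ m →
    Nonempty (N ≃* Cfsg.PSU 3 K (2 ^ m)) → BS N (2 ^ m) 3

/-- every Bender group has the structure `BS` -/
def ModStmt : Prop :=
  ∀ (G : Type u) [Group G] [Finite G] (N : Subgroup G), Cfsg.IsBenderGroup N → ∃ q i, BS N q i

def S0Stmt : Prop :=
  ∀ (G : Type u) (Ω : Type v) [Group G] [Finite G] [Finite Ω] [MulAction G Ω] [FaithfulSMul G Ω]
    (NN : Ω → Subgroup G) (q i : ℕ), St NN q i → Ev NN

def S1Stmt : Prop :=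
  ∀ (G : Type u) (Ω : Type v) [Group G] [Finite G] [Finite Ω] [MulAction G Ω] [FaithfulSMul G Ω]
    (NN : Ω → Subgroup G) (q i : ℕ), St NN q i → Ev NN → Gam NN

def S3Stmt : Prop :=
  ∀ (G : Type u) (Ω : Type v) [Group G] [Finite G] [Finite Ω] [MulAction G Ω] [FaithfulSMul G Ω]
    (NN : Ω → Subgroup G) (q i : ℕ), St NN q i → Gam NN → Clo NN

/-- odd degree -/
def GoldStmt : Prop :=
  ∀ (G : Type u) (Ω : Type v) [Group G] [Finite G] [Finite Ω] [MulAction G Ω] [FaithfulSMul G Ω]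
    (NN : Ω → Subgroup G) (q i : ℕ), St NN q i → Gam NN → Clo NN → Odd (Nat.card Ω) →
    ¬ RNS G Ω → i = 1 ∧ q = 4 ∧ Nat.card Ω = 11 ∧
      ∃ K : Subgroup G, K.Normal ∧ Nat.card K = 660 ∧ ¬ Group.IsSolvable K

/-- even degree -/
def EvenStmt : Prop :=
  ∀ (G : Type u) (Ω : Type v) [Group G] [Finite G] [Finite Ω] [MulAction G Ω] [FaithfulSMul G Ω]
    [Nonempty Ω] (NN : Ω → Subgroup G) (q i : ℕ), St NN q i → Gam NN → Even (Nat.card Ω) →
    RNS G Ω ∨ (i = 1 ∧ q = 4 ∧ Nat.card Ω = 6)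

/-- the text of S2208 -/
def S2208Stmt : Prop :=
  ∀ (G : Type u) (Ω : Type v) [Group G] [Finite G] [Fintype Ω] [MulAction G Ω] [FaithfulSMul G Ω],
    MulAction.IsMultiplyPretransitive G Ω 2 → ∀ (a : Ω) (N : Subgroup G),
    N ≤ MulAction.stabilizer G a → (∀ g ∈ MulAction.stabilizer G a, ∀ n ∈ N, g * n * g⁻¹ ∈ N) →
    (∃ (F : Type) (_ : Field F) (_ : Fintype F) (m : ℕ), Fintype.card F = 2 ^ m ∧ 2 ≤ m ∧
      (Nonempty (↥N ≃* Matrix.ProjectiveSpecialLinearGroup (Fin 2) F) ∨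
        (Odd m ∧ Nonempty (↥N ≃* ↥(Cfsg.Lie.Sz F (2 ^ ((m + 1) / 2))))) ∨
       (∃ (K : Type) (_ : Field K) (_ : Fintype K), Fintype.card K = (2 ^ m) ^ 2 ∧
         Nonempty (↥N ≃* Cfsg.PSU 3 K (2 ^ m))))) →
    (Fintype.card Ω = 6 ∧ (Nonempty (G ≃* ↥(alternatingGroup (Fin 6))) ∨
      Nonempty (G ≃* Equiv.Perm (Fin 6))) ∧ ∃ (F : Type) (_ : Field F) (_ : Fintype F),
        Fintype.card F = 4 ∧ Nonempty (↥N ≃* Matrix.ProjectiveSpecialLinearGroup (Fin 2) F)) ∨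
    (Fintype.card Ω = 11 ∧ (∃ (F : Type) (_ : Field F) (_ : Fintype F), Fintype.card F = 11 ∧
      Nonempty (G ≃* Matrix.ProjectiveSpecialLinearGroup (Fin 2) F)) ∧
      ∃ (F : Type) (_ : Field F) (_ : Fintype F), Fintype.card F = 4 ∧
        Nonempty (↥N ≃* Matrix.ProjectiveSpecialLinearGroup (Fin 2) F)) ∨
    (∃ R : Subgroup G, R.Normal ∧ (∀ x y : Ω, ∃ r ∈ R, r • x = y) ∧
      ∀ x : Ω, ∀ r ∈ R, r • x = x → r = 1)

/-- assembly -/
def AsmStmt : Prop :=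
  ModL2Stmt.{u} → ModSzStmt.{u} → ModU3Stmt.{u} → S0Stmt.{u, v} → S1Stmt.{u, v} →
    S3Stmt.{u, v} → GoldStmt.{u, v} → EvenStmt.{u, v} → S2208Stmt.{u, v}

section transport
variable {G : Type u} [Group G] {G' : Type v} [Group G']

theorem map_C (e : G →* G') (he : Function.Injective e) (P : Subgroup G) :
    zz (P.map e) = (zz P).map e := by
  ext x
  simp only [mem_inf, mem_map, mem_centralizer_iff, SetLike.mem_coe]
  constructor
  · rintro ⟨⟨y, hy, rfl⟩, h⟩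
    exact ⟨y, ⟨hy, fun s hs => he (by rw [map_mul, map_mul]; exact h _ ⟨s, hs, rfl⟩)⟩, rfl⟩
  · rintro ⟨y, ⟨hy, h⟩, rfl⟩
    refine ⟨⟨y, hy, rfl⟩, ?_⟩
    rintro _ ⟨s, hs, rfl⟩
    rw [← map_mul, ← map_mul, h s hs]

theorem map_mem_N (e : G →* G') (he : Function.Injective e) {P : Subgroup G} {g : G} :
    e g ∈ N[P.map e] ↔ g ∈ N[P] := by
  simp only [mem_normalizer_iff]
  constructor
  · intro h x
    have := h (e x)
    rwa [← map_inv, ← map_mul, ← map_mul, mem_map_iff_mem he, mem_map_iff_mem he] at this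
  · intro h x
    constructor
    · rintro ⟨y, hy, rfl⟩
      exact ⟨_, (h y).1 hy, by simp⟩
    · rintro ⟨y, hy, e1⟩
      refine ⟨g⁻¹ * y * g, (h _).2 (by simpa [mul_assoc] using hy), ?_⟩
      simp only [map_mul, map_inv]
      rw [show (e y : G') = e g * x * (e g)⁻¹ from e1]; group

theorem map_dd (e : G →* G') (he : Function.Injective e) (N P Q : Subgroup G) :
    dd (N.map e) (P.map e) (Q.map e) = (dd N P Q).map e := by
  ext x
  simp only [mem_inf, mem_map]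
  constructor
  · rintro ⟨⟨⟨y, hy, rfl⟩, h1⟩, h2⟩
    exact ⟨y, ⟨⟨hy, (map_mem_N e he).1 h1⟩, (map_mem_N e he).1 h2⟩, rfl⟩
  · rintro ⟨y, ⟨⟨hy, h1⟩, h2⟩, rfl⟩
    exact ⟨⟨⟨y, hy, rfl⟩, (map_mem_N e he).2 h1⟩, (map_mem_N e he).2 h2⟩

theorem card_map' (e : G →* G') (he : Function.Injective e) (P : Subgroup G) :
    Nat.card (P.map e) = Nat.card P :=
  (Nat.card_congr (P.equivMapOfInjective e he).toEquiv).symm

theorem BP.map {N P Q : Subgroup G} {q i : ℕ} (h : BP N P Q q i) (e : G →* G')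
    (he : Function.Injective e) : BP (N.map e) (P.map e) (Q.map e) q i where
  card := (card_map' e he P).trans h.card
  om := by
    rintro _ ⟨x, hx, rfl⟩
    rw [map_C e he, mem_map_iff_mem he, ← h.om x hx, ← map_mul, map_eq_one_iff e he]
  cardZ := by rw [map_C e he, card_map' e he, h.cardZ]
  sq := by
    rintro _ ⟨x, hx, rfl⟩
    rw [map_C e he, ← map_mul, mem_map_iff_mem he]; exact h.sq x hx
  cyc := by
    rw [map_dd e he]
    have := h.cyc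
    exact isCyclic_of_surjective _ ((dd N P Q).equivMapOfInjective e he).surjective
  cardD := by rw [map_dd e he, card_map' e he]; exact h.cardD
  cardD3 := by rw [map_dd e he, card_map' e he]; exact h.cardD3
  semi := by
    rw [map_dd e he, map_C e he]
    rintro _ ⟨d, hd, rfl⟩ h1 _ ⟨t, ht, rfl⟩ hc
    exact mem_map_of_mem _ (h.semi d hd (fun e1 => h1 (by rw [e1, map_one])) t ht
      (he (by rwa [map_mul, map_mul])))
  trans := by
    rw [map_dd e he, map_C e he]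
    rintro _ ⟨z, hz, rfl⟩ _ ⟨z', hz', rfl⟩ h1 h2
    obtain ⟨d, hd, e1⟩ := h.trans z hz z' hz' (fun e1 => h1 (by rw [e1, map_one]))
      (fun e1 => h2 (by rw [e1, map_one]))
    exact ⟨_, mem_map_of_mem _ hd, by rw [← e1]; simp⟩
  inj2 := by
    rintro hi _ ⟨s, hs, rfl⟩ _ ⟨t, ht, rfl⟩ e1
    rw [map_C e he, ← map_inv, ← map_mul, mem_map_iff_mem he]
    exact h.inj2 hi s hs t ht (he (by rwa [map_mul, map_mul]))
  ub := by
    rintro hi _ ⟨t, ht, rfl⟩ h1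
    rw [map_C e he, mem_map_iff_mem he] at h1
    refine le_trans (le_of_eq ?_) (h.ub hi t ht h1)
    rw [← card_map' e he]
    congr 2
    ext x
    simp only [mem_inf, mem_map, mem_centralizer_singleton_iff]
    constructor
    · rintro ⟨⟨y, hy, rfl⟩, h2⟩
      exact ⟨y, ⟨hy, he (by rwa [map_mul, map_mul])⟩, rfl⟩
    · rintro ⟨y, ⟨hy, h2⟩, rfl⟩
      exact ⟨⟨y, hy, rfl⟩, by rw [← map_mul, ← map_mul, h2]⟩

theorem BP.cj {N P Q : Subgroup G} {q i : ℕ} (h : BP N P Q q i) (g : G) :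
    BP (cj g N) (cj g P) (cj g Q) q i := h.map _ (MulAut.conj g).injective

/-- It is enough to check everything at one pair `T, w T w⁻¹` (Bruhat decomposition). -/
theorem BS.of_pair [Finite G] {N T : Subgroup G} {w : G} {q i : ℕ} (simple : IsSimpleGroup N)
    (nonab : ¬ IsMulCommutative N) (pow : ∃ m, 2 ≤ m ∧ q = 2 ^ m)
    (ty : i = 1 ∨ (i = 2 ∧ 8 ≤ q) ∨ i = 3) (c60 : i = 1 → q = 4 → Nat.card N = 60)
    (hT : Syl N T) (hw : w ∈ N) (hw' : w ∉ N[T])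
    (ti : ∀ x ∈ T, w * x * w⁻¹ ∈ T → x = 1)
    (bruhat : ∀ g ∈ N, g ∈ N[T] ∨ ∃ t ∈ T, ∃ b ∈ N[T], g = t * w * b)
    (bp : BP N T (cj w T) q i) : BS N q i := by
  have key : ∀ Q, Syl N Q → Q ≠ T → ∃ t ∈ T, cj t (cj w T) = Q := fun Q hQ hne => by
    obtain ⟨g, hg, rfl⟩ := hT.exists_conj hQ
    rcases bruhat g hg with h | ⟨t, ht, b, hb, rfl⟩
    · exact absurd (cj_eq_self h) hne
    · exact ⟨t, ht, by rw [cj_mul, cj_mul, cj_eq_self hb]⟩
  have back : ∀ g ∈ N, ∀ Q, Syl N Q → Q ≠ cj g T → Syl N (cj g⁻¹ Q) ∧ cj g⁻¹ Q ≠ T :=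
    fun g hg Q hQ hne => ⟨hQ.cj_of_mem (inv_mem hg), fun e => hne (by rw [← e, cj_cj_inv])⟩
  refine ⟨simple, nonab, pow, ty, c60, fun P Q hP hQ x hx hx' h1 => ?_, fun P hP => ?_,
    fun P Q R hP hQ hR h1 h2 => ?_, fun P Q hP hQ h1 => ?_⟩
  · by_contra hne
    obtain ⟨g, hg, rfl⟩ := hT.exists_conj hP
    obtain ⟨h1', h2'⟩ := back g hg Q hQ (Ne.symm hne)
    obtain ⟨t, ht, e⟩ := key _ h1' h2'
    have h3 : g⁻¹ * x * g ∈ cj t (cj w T) := by rw [e, mem_cj]; simpa [mul_assoc] using hx'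
    rw [mem_cj, mem_cj] at h3
    have h4 := ti _ h3 (by
      have := T.mul_mem (T.mul_mem (T.inv_mem ht) (mem_cj.1 hx)) ht
      simpa [mul_assoc] using this)
    apply h1
    have : x = g * t * w * (w⁻¹ * (t⁻¹ * (g⁻¹ * x * g) * t) * w) * w⁻¹ * t⁻¹ * g⁻¹ := by group
    rw [this, h4]; group
  · obtain ⟨g, hg, rfl⟩ := hT.exists_conj hP
    refine ⟨cj g (cj w T), (hT.cj_of_mem hw).cj_of_mem hg, fun e => hw' ?_⟩
    exact cj_eq_self_iff.1 (cj_inj.1 e)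
  · obtain ⟨g, hg, rfl⟩ := hT.exists_conj hP
    obtain ⟨t, ht, e⟩ := key _ (back g hg Q hQ h1).1 (back g hg Q hQ h1).2
    obtain ⟨s, hs, e'⟩ := key _ (back g hg R hR h2).1 (back g hg R hR h2).2
    refine ⟨g * (s * t⁻¹) * g⁻¹, conj_mem_cj (T.mul_mem hs (T.inv_mem ht)), ?_⟩
    rw [cj_mul, ← e, ← cj_mul, ← cj_mul, show g * (s * t⁻¹) * t = g * s by group, mul_assoc, cj_mul,
      cj_mul, e', cj_cj_inv]
  · obtain ⟨g, hg, rfl⟩ := hT.exists_conj hP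
    obtain ⟨t, ht, e⟩ := key _ (back g hg Q hQ h1).1 (back g hg Q hQ h1).2
    have := (bp.cj t).cj g
    rwa [e, cj_cj_inv, cj_eq_self (le_normalizer ht), cj_eq_self (le_normalizer (hT.le ht)),
      cj_eq_self (le_normalizer hg)] at this

end transport

end Cfsg.Agent.H76.HB
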