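import Cfsg.Agent.H42.HtDefs

/-!
# Project HT, piece T3: no conjugate over three transpositions
-/

set_option autoImplicit false

namespace Cfsg.Agent.H76.HtT3

open Cfsg Cfsg.Agent.H63 Cfsg.Agent.H63.SL Cfsg.Agent.H63.AN Cfsg.Agent.H42.HT Subgroup
open Cfsg.Agent.H7.AA
open Equiv (swap Perm)
open Equiv.Perm (sign)

universe u

variable {G : Type u} [Group G]

theorem te_cj {ψ : Al →* G} {t h : G} {k : ℕ} : TE (cf h ψ) (h * t * h⁻¹) k ↔ TE ψ t k := by
  refine exists_congr fun p => and_congr_right fun _ => and_congr_right fun _ =>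
    and_congr_right fun _ => ?_
  have c : ∀ x : G, IsConj x (h * x * h⁻¹) := fun x => isConj_iff.2 ⟨h, rfl⟩
  rw [ev_cj, conj_mul]
  exact ⟨fun i => ((c _).trans i).trans (c _).symm, fun i => ((c _).symm.trans i).trans (c _)⟩

theorem t3 : T3Stmt.{u} := by
  intro _ G _ _ ψ t F Fc n2 τ h co
  have F' := Fc h
  have e2 := @te_cj _ _ ψ t h
  rw [co.ht] at F' e2
  have sw : sign w = 1 := by decide
  have sv : sign v = 1 := by decide
  have sw2 : sign w2 = 1 := by decide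
  have ct : IsConj t τ := co.d1.cj
  have τ2 : τ * τ = 1 := F'.t2
  have a2 : ev (cf h ψ) w2 = ev ψ w2 := by
    rw [ev_cj, (co.hB w2 (H78.mem_altOn.2 (by decide))).eq, mul_inv_cancel_right]
  have τw : Commute τ (ev ψ w) := co.d1.ac.comm sw (by decide)
  have τw2 : Commute τ (ev ψ w2) := co.d1.ac.comm sw2 (by decide)
  have vw : Commute (ev ψ v) (ev ψ w) := ev_comm sv sw (by decide)
  have vw2 : Commute (ev ψ v) (ev ψ w2) := ev_comm sv sw2 (by decide)
  have ww2 : Commute (ev ψ w) (ev ψ w2) := ev_comm sw sw2 (by decide)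
  have sq : ∀ p : P, sign p = 1 → p * p = 1 → ev ψ p * ev ψ p = 1 := fun p s e => by
    rw [← ev_mul s s, e, ev_one]
  have w_2 := sq w sw (by decide)
  have v_2 := sq v sv (by decide)
  have w2_2 := sq w2 sw2 (by decide)
  have w1 : ev ψ w ≠ 1 := fun e => absurd (ev_eq_one F.inj sw e) (by decide)
  have vτ : ev ψ v * τ * (ev ψ v)⁻¹ = ev ψ w * τ := by
    rw [F.cls τ _ co.d1.cm co.d1.ac v sv, show v * swap 0 1 * v⁻¹ * (swap 0 1)⁻¹ = w by decide]
  have n1 : ¬ IsConj τ (τ * ev ψ w2) := fun i =>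
    n2 (e2.1 ⟨w2, by decide, sw2, by decide, by rwa [a2]⟩)
  have n3 : ¬ IsConj τ (τ * ev ψ w2 * ev ψ w) := fun i => n1 (i.trans (isConj_iff.2
    ⟨ev ψ v, by
      rw [← conj_mul, vτ, vw2.eq, mul_inv_cancel_right, ← τw.eq, mul_assoc, ww2.eq, mul_assoc]⟩).symm)
  have nl : ∀ p : P, ¬ IsConj τ (ev ψ p) := fun p i => F.nl p (ct.trans i)
  have csq : ∀ x, IsConj τ x → x * x = 1 := fun x i => by
    obtain ⟨g, rfl⟩ := isConj_iff.1 i
    rw [conj_mul, τ2, mul_one, mul_inv_cancel]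
  refine ⟨fun d ρ D c6 => ?_, fun k => n2 (e2.1 k), e2.2, ?_⟩
  · have d2 := csq d D.cj
    have ρ2 : ρ * ρ = 1 := (D.ac.mul D.ac).uniq (by simp) F'.inj (d2 ▸ acts_one)
    obtain ⟨a, sa, ha⟩ := F'.typ ρ (swap 2 3 * w2) ρ2 (by decide) (c6.trans (by decide))
    have aτ : Commute (ev (cf h ψ) a) τ := (KA_ev F'.tK a).symm
    have A1 := (acts_ev (ψ := cf h ψ) sa).conj D.ac
    rw [ha] at A1
    have A2 : Acts (cf h ψ) (ev ψ w * ev ψ w2) (swap 2 3 * w2) :=
      (acts_cj.2 co.hw).mul (a2 ▸ acts_ev sw2)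
    obtain ⟨o, -, ho⟩ := F'.lift _ _ _ (by rw [conj_mul, d2, mul_one, mul_inv_cancel])
      (by rw [ww2.symm.mul_mul_mul_comm, w_2, w2_2, one_mul]) ((aτ.mul_left D.cm).mul_left aτ.inv_left)
      (τw.symm.mul_left τw2.symm) A1 A2
    have i := (D.cj.trans (isConj_iff.2 ⟨ev (cf h ψ) a, rfl⟩)).trans (isConj_iff.2 ⟨o, rfl⟩)
    rcases ho with ho | ho
    · rw [ho, ← ev_mul sw sw2] at i
      exact nl _ i
    · rw [ho, ww2.eq, ← mul_assoc] at i
      exact n3 i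
  have k1 : τ * ev ψ w2 * ev ψ v * (τ * ev ψ w2 * ev ψ v) = ev ψ w := by
    have vi : (ev ψ v)⁻¹ = ev ψ v := inv_eq_of_mul_eq_one_right v_2
    calc _ = τ * (ev ψ w2 * ev ψ v * τ * ev ψ w2) * ev ψ v := by group
      _ = τ * (ev ψ v * τ * (ev ψ v)⁻¹) := by
        rw [(((Commute.refl _).mul_left vw2).mul_left τw2).eq, ← mul_assoc (ev ψ w2),
          ← mul_assoc (ev ψ w2), w2_2, one_mul, vi]; group
      _ = _ := by rw [vτ, ← τw.eq, ← mul_assoc, τ2, one_mul]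
  have k2 : τ * ev ψ w2 * (τ * ev ψ v) = ev ψ (w2 * v) := by
    rw [ev_mul sw2 sv, τw2.eq, mul_assoc, ← mul_assoc τ, τ2, one_mul]
  have b2 : bt (cf h ψ) w2' = ev ψ w2 := (bt_apply _ _).trans a2
  rintro r hr x (rfl | rfl | rfl | rfl) <;> rw [b2]
  · rw [mul_one]; exact n1
  · exact n3
  · rcases hr with rfl | rfl
    · exact fun i => w1 (k1.symm.trans (csq _ i))
    · rw [k2]; exact nl _
  · rcases hr with rfl | rfl
    · refine fun i => w1 ?_
      have := csq _ i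
      rwa [← mul_assoc _ (ev ψ v), ((τw.mul_left ww2.symm).mul_left vw).symm.mul_mul_mul_comm, k1, w_2,
        mul_one] at this
    · rw [← mul_assoc, k2, ← ev_mul (by decide) sw]; exact nl _

end Cfsg.Agent.H76.HtT3
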