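import Mathlib
import Cfsg.Agent.H46.J2Defs

/-!
# A standard subgroup of type `J₂`: a good pair at distance two
-/

set_option autoImplicit false

namespace Cfsg.Agent.H76.S94A2

open Subgroup Cfsg.Agent.H46.S94

universe u

section core

variable {G : Type u} [Group G]

theorem inv_of {a : G} (h : a * a = 1) : a⁻¹ = a := inv_eq_of_mul_eq_one_right h

theorem mem4 {a b x : G} (ha : a * a = 1) (hb : b * b = 1) (hab : a * b = b * a)
    (hx : x ∈ closure ({a, b} : Set G)) : x = 1 ∨ x = a ∨ x = b ∨ x = a * b := by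
  have e1 : ∀ y, a * (a * y) = y := fun y => by rw [← mul_assoc, ha, one_mul]
  have e2 : b * (a * b) = a := by rw [← mul_assoc, ← hab, mul_assoc, hb, mul_one]
  have k : ∀ y ∈ ({a, b} : Set G), ∀ x, x = 1 ∨ x = a ∨ x = b ∨ x = a * b →
      y * x = 1 ∨ y * x = a ∨ y * x = b ∨ y * x = a * b := by
    rintro y (e | e) x (e' | e' | e' | e') <;> rw [e, e'] <;> simp [ha, hb, e1, e2, ← hab]
  induction hx using closure_induction_left with
  | one => exact Or.inl rfl
  | mul_left y hy x _ ih => exact k y hy x ih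
  | inv_mul_cancel y hy x _ ih =>
    have : y⁻¹ = y := by rcases hy with e | e <;> rw [e]; exacts [inv_of ha, inv_of hb]
    rw [this]; exact k y hy x ih

/-- The elementary abelian group of order sixteen and the involution. -/
structure Cfg (t Z Y z1 a0 : G) : Prop where
  tt : t * t = 1
  ZZ : Z * Z = 1
  YY : Y * Y = 1
  zz : z1 * z1 = 1
  aa : a0 * a0 = 1
  ZY : Z * Y = Y * Z
  za : z1 * a0 = a0 * z1
  Zz : Z * z1 = z1 * Z
  Za : Z * a0 = a0 * Z
  Yz : Y * z1 = z1 * Y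
  Ya : Y * a0 = a0 * Y
  Zt : Z * t = t * Z
  Yt : Y * t = t * Y
  b1 : z1 * t * z1 = t * Z
  b2 : a0 * t * a0 = t * Y
  Z1 : Z ≠ 1
  Y1 : Y ≠ 1
  ZY1 : Z * Y ≠ 1

/-- The group of order sixteen. -/
abbrev Zh (Z Y z1 a0 : G) : Subgroup G := closure {z1, a0, Z, Y}

variable {t Z Y z1 a0 : G}

theorem m1 : z1 ∈ Zh Z Y z1 a0 := subset_closure (by simp)
theorem m2 : a0 ∈ Zh Z Y z1 a0 := subset_closure (by simp)
theorem m3 : Z ∈ Zh Z Y z1 a0 := subset_closure (by simp)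
theorem m4 : Y ∈ Zh Z Y z1 a0 := subset_closure (by simp)

theorem cen {x : G} (h1 : x * z1 = z1 * x) (h2 : x * a0 = a0 * x) (h3 : x * Z = Z * x)
    (h4 : x * Y = Y * x) : ∀ u ∈ Zh Z Y z1 a0, x * u = u * x := by
  intro u hu
  have : Zh Z Y z1 a0 ≤ centralizer {x} := (closure_le _).2 (by
    rintro v (rfl | rfl | rfl | rfl) <;> simp [mem_centralizer_iff, *])
  exact (mem_centralizer_iff.1 (this hu) x rfl)

theorem leA : closure {z1, a0} ≤ Zh Z Y z1 a0 := closure_mono (by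
  rintro v (rfl | rfl) <;> simp)

theorem leB : closure {Z, Y} ≤ Zh Z Y z1 a0 := closure_mono (by
  rintro v (rfl | rfl) <;> simp)

theorem leC : closure {z1, Z} ≤ Zh Z Y z1 a0 := closure_mono (by
  rintro v (rfl | rfl) <;> simp)

namespace Cfg

variable (h : Cfg t Z Y z1 a0)
include h

theorem comm : ∀ u ∈ Zh Z Y z1 a0, ∀ v ∈ Zh Z Y z1 a0, u * v = v * u := fun u hu =>
  cen (cen rfl h.za h.Zz.symm h.Yz.symm u hu).symm (cen h.za.symm rfl h.Za.symm h.Ya.symm u hu).symm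
    (cen h.Zz h.Za rfl h.ZY u hu).symm (cen h.Yz h.Ya h.ZY.symm rfl u hu).symm

theorem sq : ∀ u ∈ Zh Z Y z1 a0, u * u = 1 := by
  intro u hu
  induction hu using closure_induction with
  | mem x hx => rcases hx with rfl | rfl | rfl | rfl; exacts [h.zz, h.aa, h.ZZ, h.YY]
  | one => exact mul_one _
  | mul x y hx hy ix iy =>
    calc x * y * (x * y) = x * (y * x) * y := by group
      _ = (x * x) * (y * y) := by rw [← h.comm x hx y hy]; group
      _ = 1 := by rw [ix, iy, mul_one]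
  | inv x _ ix => rw [← mul_inv_rev, ix, inv_one]

theorem form : ∀ u ∈ Zh Z Y z1 a0, ∃ p ∈ closure {z1, a0}, ∃ r ∈ closure {Z, Y}, u = p * r := by
  intro u hu
  induction hu using closure_induction with
  | mem x hx =>
    rcases hx with rfl | rfl | rfl | rfl
    · exact ⟨_, subset_closure (by simp), 1, one_mem _, (mul_one _).symm⟩
    · exact ⟨_, subset_closure (by simp), 1, one_mem _, (mul_one _).symm⟩
    · exact ⟨1, one_mem _, _, subset_closure (by simp), (one_mul _).symm⟩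
    · exact ⟨1, one_mem _, _, subset_closure (by simp), (one_mul _).symm⟩
  | one => exact ⟨1, one_mem _, 1, one_mem _, (mul_one _).symm⟩
  | mul x y _ _ ix iy =>
    obtain ⟨p, hp, r, hr, rfl⟩ := ix
    obtain ⟨p', hp', r', hr', rfl⟩ := iy
    refine ⟨p * p', mul_mem hp hp', r * r', mul_mem hr hr', ?_⟩
    calc p * r * (p' * r') = p * (r * p') * r' := by group
      _ = _ := by rw [h.comm r (leB hr) p' (leA hp')]; group
  | inv x _ ix =>
    obtain ⟨p, hp, r, hr, rfl⟩ := ix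
    exact ⟨p⁻¹, inv_mem hp, r⁻¹, inv_mem hr, by
      rw [h.comm p (leA hp) r (leB hr), mul_inv_rev]⟩

theorem b3 : z1 * a0 * t * (z1 * a0) = t * (Z * Y) := by
  calc z1 * a0 * t * (z1 * a0) = z1 * (a0 * t * a0) * z1 := by
        conv_lhs => rw [mul_assoc (z1 * a0), h.za]
        rw [← h.za]; nth_rewrite 2 [h.za]; group
    _ = z1 * t * (Y * z1) := by rw [h.b2]; group
    _ = _ := by rw [h.Yz, ← mul_assoc, h.b1, mul_assoc]

theorem Bt {r : G} (hr : r ∈ closure {Z, Y}) : r * t = t * r := by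
  have : closure {Z, Y} ≤ centralizer {t} := (closure_le _).2 (by
    rintro v (rfl | rfl) <;> simp [mem_centralizer_iff, h.Zt, h.Yt])
  exact (mem_centralizer_iff.1 (this hr) t rfl).symm

theorem key {u : G} (hu : u ∈ Zh Z Y z1 a0) (e : t * u * (t * u) = 1) : u ∈ closure {Z, Y} := by
  obtain ⟨p, hp, r, hr, rfl⟩ := h.form u hu
  have e1 : t * (p * t * p) = 1 := by
    calc t * (p * t * p) = t * p * t * p * (r * r) := by rw [h.sq r (leB hr)]; group
      _ = t * p * (t * r) * p * r := by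
        rw [mul_assoc (t * p * (t * r)), h.comm p (leA hp) r (leB hr)]
        rw [show t * p * (t * r) * (r * p) = t * p * t * (r * r) * p by group,
          h.sq r (leB hr)]; group
      _ = 1 := by rw [← h.Bt hr, ← e]; group
  have c : ∀ w, t * (t * w) = w := fun w => by rw [← mul_assoc, h.tt, one_mul]
  rcases mem4 h.zz h.aa h.za hp with rfl | rfl | rfl | rfl
  · simpa using hr
  · rw [h.b1, c] at e1; exact absurd e1 h.Z1
  · rw [h.b2, c] at e1; exact absurd e1 h.Y1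
  · rw [h.b3, c] at e1; exact absurd e1 h.ZY1

theorem undo {r : G} (hr : r ∈ closure {Z, Y}) : ∃ p ∈ Zh Z Y z1 a0, p * (t * r) * p = t := by
  have a : ∀ p ∈ Zh Z Y z1 a0, p * t * p = t * r → p * (t * r) * p = t := fun p hp e => by
    rw [← e]
    calc p * (p * t * p) * p = (p * p) * t * (p * p) := by group
      _ = t := by rw [h.sq p hp]; group
  rcases mem4 h.ZZ h.YY h.ZY hr with rfl | rfl | rfl | rfl
  · exact ⟨1, one_mem _, by group⟩
  · exact ⟨_, m1, a _ m1 h.b1⟩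
  · exact ⟨_, m2, a _ m2 h.b2⟩
  · exact ⟨_, mul_mem m1 m2, a _ (mul_mem m1 m2) h.b3⟩

theorem notY : Y ∉ closure {z1, Z} := by
  intro hY
  have n1 : z1 * t ≠ t * z1 := fun e => h.Z1 (by
    have := h.b1
    rw [e, mul_assoc, h.zz] at this
    exact (mul_left_cancel this).symm)
  rcases mem4 h.zz h.ZZ h.Zz.symm hY with e | e | e | e
  · exact h.Y1 e
  · exact n1 (e ▸ h.Yt)
  · exact h.ZY1 (by rw [e, h.ZZ])
  · refine n1 (mul_right_cancel (b := Z) ?_)
    have := h.Yt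
    rw [e, mul_assoc, h.Zt] at this
    rw [mul_assoc, this, mul_assoc]

variable {s : G ≃* G} (s1 : s z1 = a0) (s2 : s a0 = z1 * a0) (s3 : s Z = Y) (s4 : s Y = Z * Y)
include s1 s2 s3 s4

omit h in
theorem smem : ∀ u ∈ Zh Z Y z1 a0, s u ∈ Zh Z Y z1 a0 := by
  intro u hu
  induction hu using closure_induction with
  | mem x hx =>
    rcases hx with rfl | rfl | rfl | rfl
    · rw [s1]; exact m2
    · rw [s2]; exact mul_mem m1 m2
    · rw [s3]; exact m4
    · rw [s4]; exact mul_mem m3 m4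
  | one => simp
  | mul x y _ _ ix iy => rw [map_mul]; exact mul_mem ix iy
  | inv x _ ix => rw [map_inv]; exact inv_mem ix

theorem tr : ∀ u ∈ Zh Z Y z1 a0, u * s u * s (s u) = 1 := by
  intro u hu
  induction hu using closure_induction with
  | mem x hx =>
    rcases hx with rfl | rfl | rfl | rfl
    · rw [s1, s2]; exact h.sq _ (mul_mem m1 m2)
    · rw [s2, map_mul, s1, s2, ← mul_assoc, mul_assoc _ _ (z1 * _)]
      exact h.sq _ (mul_mem m2 (mul_mem m1 m2))
    · rw [s3, s4]; exact h.sq _ (mul_mem m3 m4)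
    · rw [s4, map_mul, s3, s4, ← mul_assoc, mul_assoc _ _ (Z * _)]
      exact h.sq _ (mul_mem m4 (mul_mem m3 m4))
  | one => simp
  | mul x y hx hy ix iy =>
    have a1 := smem s1 s2 s3 s4 x hx
    have a2 := smem s1 s2 s3 s4 y hy
    have a3 := smem s1 s2 s3 s4 _ a1
    rw [map_mul, map_mul]
    calc x * y * (s x * s y) * (s (s x) * s (s y))
        = x * (y * s x) * (s y * s (s x)) * s (s y) := by group
      _ = x * s x * (y * s (s x)) * s y * s (s y) := by
        rw [h.comm y hy _ a1, h.comm _ a2 _ a3]; group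
      _ = (x * s x * s (s x)) * (y * s y * s (s y)) := by rw [h.comm y hy _ a3]; group
      _ = 1 := by rw [ix, iy, mul_one]
  | inv x hx ix => rwa [inv_of (h.sq x hx)]

theorem core (s5 : ∀ x, s (s (s x)) = x) (st : s t = t) {g E E' Q c d : G}
    (cg : ∀ u ∈ Zh Z Y z1 a0, g * u = u * g) (cE : ∀ u ∈ Zh Z Y z1 a0, E * u = u * E)
    (cQ : ∀ u ∈ Zh Z Y z1 a0, Q * u = u * Q) (gt : g * t * g⁻¹ = t * Q * z1)
    (g1 : ∃ u ∈ Zh Z Y z1 a0, g * s Q * g⁻¹ = s Q * u)
    (g2 : ∃ u ∈ Zh Z Y z1 a0, g * s (s Q) * g⁻¹ = s (s Q) * u)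
    (qq : Q * s Q * s (s Q) ∈ Zh Z Y z1 a0)
    (hc : c ∈ Zh Z Y z1 a0) (hd : d ∈ Zh Z Y z1 a0) (gE : g * E * g⁻¹ = E * c)
    (gE' : g * E' * g⁻¹ = E' * d) (sE : s E = E') (sE' : s E' = E * E')
    (EE : E * E = 1) (EE' : E * E' = E' * E) :
    ∃ m, m * t = t * m ∧ (∀ u ∈ Zh Z Y z1 a0, m * u = u * m) ∧
      m * E * m⁻¹ = E * (s (s c) * d) ∧ m * E' * m⁻¹ = E' * s (s (s c) * d) := by
  have sm := smem s1 s2 s3 s4
  have cs : ∀ x, (∀ u ∈ Zh Z Y z1 a0, x * u = u * x) → ∀ u ∈ Zh Z Y z1 a0, s x * u = u * s x :=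
    fun x hx u hu => by
      have := congrArg s (hx _ (sm _ (sm _ hu)))
      rwa [map_mul, map_mul, s5] at this
  have cg' := cs g cg
  have cg'' := cs _ cg'
  have cQ' := cs Q cQ
  have cQ'' := cs _ cQ'
  have cE' : ∀ u ∈ Zh Z Y z1 a0, E' * u = u * E' := sE ▸ cs E cE
  have E'E' : E' * E' = 1 := by rw [← sE, ← map_mul, EE, map_one]
  have EE2 : E' * (E * E') = E := by rw [← mul_assoc, ← EE', mul_assoc, E'E', mul_one]
  -- `R x v w`: conjugation by `x` multiplies `v` by `w`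
  have mu : ∀ {x v w v' w' : G}, (∀ u ∈ Zh Z Y z1 a0, v' * u = u * v') → w ∈ Zh Z Y z1 a0 →
      x * v * x⁻¹ = v * w → x * v' * x⁻¹ = v' * w' → x * (v * v') * x⁻¹ = v * v' * (w * w') :=
    fun {x v w v' w'} h1 h2 e1 e2 => by
      rw [← conj_mul, e1, e2]
      calc v * w * (v' * w') = v * (w * v') * w' := by group
        _ = _ := by rw [← h1 w h2]; group
  have co : ∀ {x x' v w w' : G}, (∀ u ∈ Zh Z Y z1 a0, x * u = u * x) → w' ∈ Zh Z Y z1 a0 →
      x * v * x⁻¹ = v * w → x' * v * x'⁻¹ = v * w' → x * x' * v * (x * x')⁻¹ = v * (w * w') :=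
    fun {x x' v w w'} h1 h2 e1 e2 => by
      calc x * x' * v * (x * x')⁻¹ = x * (x' * v * x'⁻¹) * x⁻¹ := by group
        _ = x * v * x⁻¹ * (x * w' * x⁻¹) := by rw [e2]; group
        _ = _ := by rw [e1, h1 w' h2]; group
  have cc : ∀ {x v w : G}, x * v * x⁻¹ = v * w → s x * s v * (s x)⁻¹ = s v * s w := fun e => by
    have := congrArg s e
    rwa [map_mul, map_mul, map_mul, map_inv] at this
  have gEE := mu cE' hc gE gE'
  have p1 := cc gE
  have p2 := cc gEE
  have p3 := cc (cc gE')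
  have p4 := cc p2
  simp only [map_mul, sE, sE', EE2] at p1 p2 p3 p4
  have a1 := sm _ hc
  have a2 := sm _ a1
  have d1 := sm _ hd
  have d2 := sm _ d1
  have cgg : ∀ u ∈ Zh Z Y z1 a0, g * s g * u = u * (g * s g) := fun u hu => by
    rw [mul_assoc, cg' u hu, ← mul_assoc, cg u hu, mul_assoc]
  have cm : ∀ u ∈ Zh Z Y z1 a0, g * s g * s (s g) * u = u * (g * s g * s (s g)) := fun u hu => by
    rw [mul_assoc, cg'' u hu, ← mul_assoc, cgg u hu, mul_assoc]
  have mE := co cgg d2 (co cg (mul_mem a1 d1) gE p2) p3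
  have mE' := co cgg (mul_mem a2 d2) (co cg a1 gE' p1) p4
  have tc := h.tr s1 s2 s3 s4 c hc
  have td := h.tr s1 s2 s3 s4 d hd
  have f1 : c * s c = s (s c) := by
    rw [eq_inv_of_mul_eq_one_left tc, inv_of (h.sq _ a2)]
  have f2 : s d * s (s d) = d := by
    rw [mul_assoc] at td
    rw [eq_inv_of_mul_eq_one_right td, inv_of (h.sq _ hd)]
  have f3 : s c * s (s c) = c := by
    rw [mul_assoc] at tc
    rw [eq_inv_of_mul_eq_one_right tc, inv_of (h.sq _ hc)]
  have f4 : d * s (s d) = s d := by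
    nth_rewrite 1 [← f2]
    rw [mul_assoc, h.sq _ d2, mul_one]
  have e1 : c * (s c * s d) * s (s d) = s (s c) * d := by
    calc c * (s c * s d) * s (s d) = c * s c * (s d * s (s d)) := by group
      _ = _ := by rw [f1, f2]
  have e2 : d * s c * (s (s c) * s (s d)) = s (s (s c) * d) := by
    rw [map_mul, s5]
    calc d * s c * (s (s c) * s (s d)) = d * (s c * s (s c)) * s (s d) := by group
      _ = _ := by rw [f3, h.comm d hd c hc, mul_assoc, f4]
  rw [e1] at mE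
  rw [e2] at mE'
  -- the involution
  obtain ⟨u1, hu1, g1⟩ := g1
  obtain ⟨u2, hu2, g2⟩ := g2
  rw [mul_assoc t] at gt
  have t1 := cc gt
  have t2 := cc t1
  have q1 := cc g1
  simp only [map_mul, st] at t1 t2
  have z2 := sm _ (m1 (Z := Z) (Y := Y) (z1 := z1) (a0 := a0))
  have z3 := sm _ z2
  have v1 := sm _ hu1
  have q2 := co cg v1 g2 q1
  have mt : ∃ w ∈ Zh Z Y z1 a0, g * s g * s (s g) * t * (g * s g * s (s g))⁻¹ = t * w := by
    refine ⟨Q * s Q * s (s Q) * (z1 * u1 * s z1 * (u2 * s u1) * s (s z1)),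
      mul_mem qq (mul_mem (mul_mem (mul_mem (mul_mem m1 hu1) z2) (mul_mem hu2 v1)) z3), ?_⟩
    calc g * s g * s (s g) * t * (g * s g * s (s g))⁻¹
        = g * s g * (s (s g) * t * (s (s g))⁻¹) * (g * s g)⁻¹ := by group
      _ = g * (s g * t * (s g)⁻¹) * g⁻¹ * (g * s g * s (s Q) * (g * s g)⁻¹) *
          (g * s g * s (s z1) * (g * s g)⁻¹) := by rw [t2]; group
      _ = (g * t * g⁻¹) * (g * s Q * g⁻¹) * (g * s z1 * g⁻¹) * (s (s Q) * (u2 * s u1)) *
          s (s z1) := by rw [t1, q2, cgg _ z3]; group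
      _ = t * Q * (z1 * s Q) * (u1 * s z1 * s (s Q)) * (u2 * s u1) * s (s z1) := by
        rw [gt, g1, cg _ z2]; group
      _ = t * Q * s Q * (z1 * s (s Q)) * (u1 * s z1) * (u2 * s u1) * s (s z1) := by
        rw [← cQ' _ m1, ← cQ'' _ (mul_mem hu1 z2)]; group
      _ = _ := by rw [← cQ'' _ m1]; group
  obtain ⟨w, hw, mt⟩ := mt
  generalize g * s g * s (s g) = m at cm mE mE' mt
  obtain ⟨p, hp, e⟩ := h.undo (h.key hw (by rw [← mt, conj_mul, h.tt]; group))
  have pi := inv_of (h.sq p hp)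
  have fin : ∀ {v w : G}, (∀ u ∈ Zh Z Y z1 a0, v * u = u * v) → w ∈ Zh Z Y z1 a0 →
      m * v * m⁻¹ = v * w → p * m * v * (p * m)⁻¹ = v * w := fun {v w} h1 h2 e => by
    calc p * m * v * (p * m)⁻¹ = p * (m * v * m⁻¹) * p⁻¹ := by group
      _ = (p * v) * w * p⁻¹ := by rw [e]; group
      _ = v * (p * w) * p⁻¹ := by rw [← h1 p hp]; group
      _ = _ := by rw [h.comm p hp w h2]; group
  refine ⟨p * m, ?_, fun u hu => ?_, fin cE (mul_mem a2 hd) mE, fin cE' (sm _ (mul_mem a2 hd)) mE'⟩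
  · rw [← mt] at e
    calc p * m * t = p * (m * t * m⁻¹) * p * (p⁻¹ * m) := by group
      _ = _ := by rw [e, pi]
  · rw [mul_assoc, cm u hu, ← mul_assoc, h.comm p hp u hu, mul_assoc]

end Cfg

theorem sw {a b c : G} (ha : a * a = 1) (hb : b * b = 1) (hc : c * c = 1) (e : (a * b) ^ 2 = c) :
    b * a = a * b * c := by
  rw [← inv_of hc, ← e, pow_two, mul_inv_rev, mul_inv_cancel_left, mul_inv_rev, inv_of ha, inv_of hb]

theorem flip {g X u : G} (h1 : X * u = u * X) (h2 : g * u = u * g) (e : X * g * X⁻¹ = g * u) :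
    g * X * g⁻¹ = X * u⁻¹ := by
  have : X * g = g * X * u := by rw [mul_assoc, h1, ← mul_assoc, ← e]; group
  calc g * X * g⁻¹ = (g * X * u) * (g * u)⁻¹ := by group
    _ = _ := by rw [← this, h2]; group

end core

section main

variable {Γ : Type} [Group Γ] {G : Type u} [Group G] {φ : Γ →* G} {t : G} {f : Γ → G} {z : Γ}
  (L : Lf φ t z f)
include L

theorem rsq {r : Γ} (hr : IsConj z r) : r * r = 1 := by
  apply L.inj
  have h1 : t * φ r * (t * φ r) = 1 := by
    rw [← L.br r hr]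
    calc f r * t * f r * (f r * t * f r) = f r * t * (f r * f r) * t * f r := by group
      _ = 1 := by rw [L.sq r hr, mul_one, mul_assoc (f r), L.tt, mul_one, L.sq r hr]
  rw [mul_assoc, ← mul_assoc (φ r), L.AC, ← mul_assoc, ← mul_assoc, L.tt, one_mul] at h1
  rw [map_mul, h1, map_one]

theorem cf {x r : Γ} (hr : IsConj z r) (e : x * r = r * x) : φ x * f r = f r * φ x := by
  have := L.eq x r hr
  rw [e, mul_inv_cancel_right] at this
  exact mul_inv_eq_iff_eq_mul.1 this.symm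

omit L in
theorem fz (X : Ex z f) {v : Γ} (hv : IsConj z v) (e : z * v = v * z) (n : v ≠ z) :
    f (v * z) = f v * f z ∧ f z * f v = f v * f z :=
  ⟨(X v z hv (IsConj.refl z) e.symm n).symm, by
    rw [X v z hv (IsConj.refl z) e.symm n, X z v (IsConj.refl z) hv e n.symm, e]⟩

theorem md (X : Ex z f) {x v v' : Γ} (hv : IsConj z v) (hv' : IsConj z v') (e : z * v' = v' * z)
    (n : v' ≠ z) (h : Md z (x * v * x⁻¹) v') :
    ∃ w, (w = 1 ∨ w = f z) ∧ φ x * f v * (φ x)⁻¹ = f v' * w := by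
  rw [← L.eq x v hv]
  rcases h with h | h
  · exact ⟨1, Or.inl rfl, by rw [h, mul_one]⟩
  · exact ⟨f z, Or.inr rfl, by rw [h, (fz X hv' e n).1]⟩

end main

/-- **A2** -/
theorem a2 : A2Stmt.{u} := by
  intro Γ _ G _ _ φ t O f z y y1 y2 y3 y4 e e' σ _ h cx L X hp hprod
  have rz := IsConj.refl z
  have ry : IsConj z y := isConj_iff.2 ⟨σ, h.s1⟩
  have rzy : IsConj z (z * y) := ry.trans (isConj_iff.2 ⟨σ, h.s2⟩)
  have zz := rsq L rz
  have ei := inv_of h.ee
  have ee' : e' * e' = 1 := by rw [← h.s3, conj_mul, h.ee]; group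
  have ei' := inv_of ee'
  have d2 : e * y1 * e⁻¹ = y2 := by rw [ei, h.d2]
  have d3 : e' * y1 * e'⁻¹ = y3 := by rw [ei', h.d3]
  have d4 : e' * y2 * e'⁻¹ = y4 := by rw [ei', h.d4]
  have d1 : e * y2 * e⁻¹ = y1 := by
    rw [← d2, ei, ← mul_assoc, ← mul_assoc, h.ee, one_mul, mul_assoc, h.ee, mul_one]
  have r1 := h.r1
  have r2 : IsConj z y2 := r1.trans (isConj_iff.2 ⟨e, d2⟩)
  have r3 : IsConj z y3 := r1.trans (isConj_iff.2 ⟨e', d3⟩)
  have r4 : IsConj z y4 := r2.trans (isConj_iff.2 ⟨e', d4⟩)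
  have e'y : e' * y = y * e' := by rw [← h.s3, ← h.s1, conj_mul, conj_mul, h.ez]
  have e'z : e' * z = z * e' := by
    have : e' * (z * y) = z * y * e' := by rw [← h.s3, ← h.s2, conj_mul, conj_mul, h.ey]
    rw [mul_assoc, ← e'y, ← mul_assoc, ← mul_assoc] at this
    exact mul_right_cancel this
  have cz : ∀ {x v : Γ}, x * z = z * x → z * v = v * z → z * (x * v * x⁻¹) = x * v * x⁻¹ * z :=
    fun {x v} a b => by
      calc z * (x * v * x⁻¹) = (z * x) * v * x⁻¹ := by group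
        _ = x * (z * v) * x⁻¹ := by rw [← a]; group
        _ = x * v * (x⁻¹ * (x * z) * x⁻¹) := by rw [b]; group
        _ = _ := by rw [a]; group
  have c1 := h.c1
  have c2 : z * y2 = y2 * z := d2 ▸ cz h.ez c1
  have c3 : z * y3 = y3 * z := d3 ▸ cz e'z c1
  have c4 : z * y4 = y4 * z := d4 ▸ cz e'z c2
  have br := h.br
  simp only [List.pairwise_cons, List.mem_cons, List.not_mem_nil, or_false, forall_eq_or_imp,
    forall_eq] at br hp
  obtain ⟨⟨b1, b2, b3, b4⟩, ⟨b12, -⟩, -⟩ := br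
  obtain ⟨⟨p1, -⟩, ⟨p12, -⟩, -⟩ := hp
  have nz : ∀ {v : Γ}, y * v = v * y * z → v ≠ z := fun b e => h.z1 (by
    rw [e, ← h.c0] at b; exact (mul_eq_left.1 b.symm))
  have n1 : ∀ {r : Γ}, IsConj z r → r ≠ 1 := fun hr e => h.z1 (by
    rwa [e, isConj_one_left] at hr)
  have ny : y ≠ z := fun e => n1 rzy (by rw [e, zz])
  have pr : ∀ {u v : Γ}, IsConj z v → z * v = v * z → v ≠ z → z * u = u * z → u * v = v * u * z →
      φ u * f v = f v * f z * φ u := fun {u v} hv a n b c => by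
    rw [← (fz X hv a n).1, ← mul_inv_eq_iff_eq_mul, ← L.eq u v hv, c, mul_assoc v, ← b]
    congr 1; group
  have nφ : ∀ {r : Γ}, IsConj z r → φ r ≠ 1 := fun hr e => n1 hr (L.inj (e.trans (map_one φ).symm))
  have C : Cfg t (φ z) (φ y) (f z) (f y) :=
    ⟨L.tt, by rw [← map_mul, zz, map_one], by rw [← map_mul, rsq L ry, map_one], L.sq z rz, L.sq y ry,
      by rw [← map_mul, ← map_mul, h.c0], (fz X ry h.c0 ny).2, cf L rz rfl, cf L ry h.c0,
      cf L rz h.c0.symm, cf L ry rfl, L.AC z, L.AC y, L.br z rz, L.br y ry, nφ rz, nφ ry,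
      by rw [← map_mul]; exact nφ rzy⟩
  have aa1 := L.sq _ r1
  have aa2 := L.sq _ r2
  have za1 := (fz X r1 c1 (nz b1)).2
  have za2 := (fz X r2 c2 (nz b2)).2
  have b21 : y2 * y1 = y1 * y2 * z := by rw [b12, mul_assoc, zz, mul_one]
  have k21 := pr r1 c1 (nz b1) c2 b21
  have zY2 := cf L rz c2.symm
  rcases p12 with p12 | p12
  · -- the good case
    have a1 := sw aa1 aa2 C.zz p12
    have a2 : t * f y2 * t = φ y2 * f y2 := by
      calc t * f y2 * t = t * (f y2 * t * f y2) * (f y2)⁻¹ := by group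
        _ = _ := by rw [L.br _ r2, ← mul_assoc, L.tt, one_mul, inv_of aa2]
    have a3 : f y1 * φ y2 = φ y2 * f y1 * f z := by
      rw [k21, mul_assoc, zY2, ← mul_assoc, mul_assoc (f y1), C.zz, mul_one]
    unfold Good
    rw [a2, ← mul_assoc, a3, mul_assoc (φ y2) (f y2), a1, mul_assoc, za2]; group
  exfalso
  have cx0 : ∀ {x : Γ}, x * z = z * x → x * y = y * x →
      ∀ u ∈ Zh (φ z) (φ y) (f z) (f y), φ x * u = u * φ x := fun a b =>
    cen (cf L rz a) (cf L ry b) (by rw [← map_mul, ← map_mul, a]) (by rw [← map_mul, ← map_mul, b])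
  have cE := cx0 h.ez h.ey
  have cE' := cx0 e'z e'y
  have hc : f z * φ z ∈ Zh (φ z) (φ y) (f z) (f y) := mul_mem m1 m3
  have Za1 := cf L r1 c1
  have Za2 := cf L r2 c2
  -- `g` centralises the group of order sixteen
  have cg : ∀ u ∈ Zh (φ z) (φ y) (f z) (f y), f y1 * f y2 * u = u * (f y1 * f y2) := by
    refine cen ?_ ?_ ?_ ?_
    · rw [mul_assoc, ← za2, ← mul_assoc, ← za1, mul_assoc]
    · obtain ⟨c0, hc0, e1, k2⟩ : ∃ c0 ∈ Zh (φ z) (φ y) (f z) (f y), (f y * f y1) ^ 2 = c0 ∧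
          c0 * f y2 = f y2 * c0 := by
        rcases p1 with p1 | p1
        · exact ⟨_, m1, p1, za2⟩
        · exact ⟨_, hc, p1, by rw [mul_assoc, Za2, ← mul_assoc, za2, mul_assoc]⟩
      have e2 : (f y * f y2) ^ 2 = c0 := by
        rw [← d2, L.eq e _ r1, ← mul_inv_eq_iff_eq_mul.2 (cE _ hc0), ← e1]
        nth_rewrite 1 [← mul_inv_eq_iff_eq_mul.2 (cE _ m2)]
        rw [conj_mul, conj_pow]
      calc f y1 * f y2 * f y = f y1 * (f y2 * f y) := by group
        _ = (f y1 * f y) * f y2 * c0 := by rw [sw C.aa aa2 (C.sq _ hc0) e2]; group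
        _ = f y * f y1 * (c0 * f y2) * c0 := by rw [sw C.aa aa1 (C.sq _ hc0) e1]; group
        _ = f y * f y1 * f y2 * (c0 * c0) := by rw [k2]; group
        _ = _ := by rw [C.sq _ hc0]; group
    · rw [mul_assoc, ← Za2, ← mul_assoc, ← Za1, mul_assoc]
    · have k1 := pr r1 c1 (nz b1) h.c0 b1
      have k2 := pr r2 c2 (nz b2) h.c0 b2
      calc f y1 * f y2 * φ y = f y1 * (f z * f z) * f y2 * φ y := by rw [C.zz]; group
        _ = f y1 * f z * (f z * f y2) * φ y := by group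
        _ = f y1 * f z * (f y2 * f z * φ y) := by rw [za2]; group
        _ = (f y1 * f z * φ y) * f y2 := by rw [← k2]; group
        _ = _ := by rw [← k1]; group
  have hp := leC (Y := φ y) (a0 := f y) hprod
  have g21 : f y2 * f y1 = f y1 * f y2 * (f z * φ z) := sw aa1 aa2 (C.sq _ hc) p12
  have gi : (f y1 * f y2)⁻¹ = f y2 * f y1 := by rw [mul_inv_rev, inv_of aa1, inv_of aa2]
  have g34 : f y3 * f y4 = f y1 * f y2 * (f z * φ z * f y * (f y * f y1 * f y2 * f y3 * f y4)) := by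
    calc f y3 * f y4 = (f y1 * f y2)⁻¹ * (f y)⁻¹ * (f y * f y1 * f y2 * f y3 * f y4) := by group
      _ = _ := by rw [gi, g21, inv_of C.aa]; group
  have hd : f z * φ z * f y * (f y * f y1 * f y2 * f y3 * f y4) ∈ Zh (φ z) (φ y) (f z) (f y) :=
    mul_mem (mul_mem hc m2) hp
  have g43 : ∃ u ∈ Zh (φ z) (φ y) (f z) (f y), f y4 * f y3 = f y1 * f y2 * u := by
    refine ⟨_, mul_mem hc (inv_mem hd), ?_⟩
    have : f y4 * f y3 = (f y3 * f y4)⁻¹ := by
      rw [mul_inv_rev, inv_of (L.sq _ r3), inv_of (L.sq _ r4)]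
    rw [this]
    nth_rewrite 1 [g34]
    rw [cg _ hd, mul_inv_rev, gi, g21, mul_assoc]
  have mv : ∀ x, Mv z y y1 y2 y3 y4 x → ∃ u ∈ Zh (φ z) (φ y) (f z) (f y),
      f y1 * f y2 * φ x * (f y1 * f y2)⁻¹ = φ x * u := by
    rintro x ⟨x1, x2, hx⟩
    have aux : ∀ {v w : Γ}, IsConj z v → IsConj z w → z * v = v * z → z * w = w * z → v ≠ z → w ≠ z →
        Md z (x * y1 * x⁻¹) v → Md z (x * y2 * x⁻¹) w →
        (∃ u ∈ Zh (φ z) (φ y) (f z) (f y), f v * f w = f y1 * f y2 * u) →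
        ∃ u ∈ Zh (φ z) (φ y) (f z) (f y), f y1 * f y2 * φ x * (f y1 * f y2)⁻¹ = φ x * u := by
      rintro v w hv hw cv cw nv nw mv mw ⟨u, hu, e1⟩
      obtain ⟨w1, hw1, e2⟩ := md L X r1 hv cv nv mv
      obtain ⟨w2, hw2, e3⟩ := md L X r2 hw cw nw mw
      have i1 : w1 ∈ Zh (φ z) (φ y) (f z) (f y) ∧ w1 * f w = f w * w1 := by
        rcases hw1 with a | a <;> rw [a]
        exacts [⟨one_mem _, by group⟩, ⟨m1, (fz X hw cw nw).2⟩]
      have i2 : w2 ∈ Zh (φ z) (φ y) (f z) (f y) := by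
        rcases hw2 with a | a <;> rw [a]
        exacts [one_mem _, m1]
      have i3 := mul_mem hu (mul_mem i1.1 i2)
      refine ⟨_, inv_mem i3, flip (cx0 x1 x2 _ i3) (cg _ i3) ?_⟩
      rw [← conj_mul, e2, e3]
      calc f v * w1 * (f w * w2) = f v * (w1 * f w) * w2 := by group
        _ = (f v * f w) * (w1 * w2) := by rw [i1.2]; group
        _ = _ := by rw [e1]; group
    rcases hx with ⟨a, b⟩ | ⟨a, b⟩ | ⟨a, b⟩ | ⟨a, b⟩
    · exact aux r1 r2 c1 c2 (nz b1) (nz b2) a b ⟨1, one_mem _, by group⟩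
    · exact aux r2 r1 c2 c1 (nz b2) (nz b1) a b ⟨_, hc, g21⟩
    · exact aux r3 r4 c3 c4 (nz b3) (nz b4) a b ⟨_, hd, g34⟩
    · exact aux r4 r3 c4 c3 (nz b4) (nz b3) a b g43
  let s : G ≃* G := MulAut.conj (φ σ)
  have sφ : ∀ a, s (φ a) = φ (σ * a * σ⁻¹) := fun a => by simp [s]
  have sf : ∀ r, IsConj z r → s (f r) = f (σ * r * σ⁻¹) := fun r hr => (L.eq σ r hr).symm
  have σ3 : σ * σ = σ⁻¹ := eq_inv_of_mul_eq_one_left (by rw [← h.s5, pow_three, mul_assoc])
  have σσ : ∀ a, σ * (σ * a * σ⁻¹) * σ⁻¹ = σ⁻¹ * a * σ := fun a => by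
    calc σ * (σ * a * σ⁻¹) * σ⁻¹ = σ * σ * a * (σ * σ)⁻¹ := by group
      _ = _ := by rw [σ3, inv_inv]
  have s1 : s (f z) = f y := by rw [sf z rz, h.s1]
  have s2 : s (f y) = f z * f y := by rw [sf y ry, h.s2, X z y rz ry h.c0 ny.symm]
  have s3 : s (φ z) = φ y := by rw [sφ, h.s1]
  have s4 : s (φ y) = φ z * φ y := by rw [sφ, h.s2, map_mul]
  have s5 : ∀ x, s (s (s x)) = x := fun x => by
    have : φ σ * φ σ * φ σ = 1 := by rw [← map_mul, ← map_mul, σ3, inv_mul_cancel, map_one]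
    calc s (s (s x)) = φ σ * φ σ * φ σ * x * (φ σ * φ σ * φ σ)⁻¹ := by
          simp only [s, MulAut.conj_apply]; group
      _ = x := by rw [this]; group
  have hB : (Z2 z y).map φ = closure {φ z, φ y} := by
    rw [MonoidHom.map_closure, Set.image_pair]
  obtain ⟨m, mt, cm, mE, mE'⟩ := C.core s1 s2 s3 s4 s5 (mul_inv_eq_iff_eq_mul.2 (L.AC σ))
    (g := f y1 * f y2) (E := φ e) (E' := φ e') (Q := φ (y1 * y2)) cg cE
    (cx0 (by rw [mul_assoc, ← c2, ← mul_assoc, ← c1, mul_assoc]) (by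
      calc y1 * y2 * y = y1 * (z * z) * y2 * y := by rw [zz]; group
        _ = y1 * z * (z * y2) * y := by group
        _ = y1 * z * (y2 * (z * y)) := by rw [c2]; group
        _ = y1 * (z * y) * y2 := by rw [h.c0, ← mul_assoc y2, ← b2, ← h.c0]; group
        _ = _ := by rw [h.c0, ← mul_assoc y1, ← b1]; group))
    (by
      calc f y1 * f y2 * t * (f y1 * f y2)⁻¹ = f y1 * (f y2 * t * f y2) * f y1 := by rw [gi]; group
        _ = (f y1 * t * (f y1)⁻¹) * f y1 * (φ y2 * f y1) := by rw [L.br _ r2]; group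
        _ = t * φ y1 * (f y1 * f y1) * (f z * φ y2) := by
          rw [inv_of aa1, L.br _ r1, k21]; group
        _ = _ := by rw [aa1, ← zY2, map_mul]; group)
    (by rw [sφ]; exact mv _ h.m1) (by rw [sφ, sφ, σσ]; exact mv _ h.m2)
    (by rw [sφ, sφ, σσ, ← map_mul, ← map_mul]; exact leB (hB ▸ mem_map_of_mem φ h.qq)) hc hd
    (by
      rw [flip (cE _ hc) (cg _ hc) (by
        rw [← conj_mul, ← L.eq e _ r1, ← L.eq e _ r2, d2, d1, g21]), inv_of (C.sq _ hc)])
    (by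
      rw [flip (cE' _ hd) (cg _ hd) (by
        rw [← conj_mul, ← L.eq e' _ r1, ← L.eq e' _ r2, d3, d4, g34]), inv_of (C.sq _ hd)])
    (by rw [sφ, h.s3]) (by rw [sφ, h.s4, map_mul]) (by rw [← map_mul, h.ee, map_one])
    (by rw [← map_mul, ← map_mul, h.ee'])
  have sm := Cfg.smem s1 s2 s3 s4
  have hμ := mul_mem (sm _ (sm _ hc)) hd
  obtain ⟨α, hα⟩ := cx.aut mt
  rw [← hα] at mE mE'
  have hμ' : s (s (f z * φ z)) * (f z * φ z * f y * (f y * f y1 * f y2 * f y3 * f y4)) ∈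
      (Z2 z y).map φ := by
    rw [hB]
    refine C.key hμ ?_
    have a1 := C.sq _ hμ
    rw [← inv_mul_eq_iff_eq_mul, ← map_inv, ← map_mul] at mE
    rw [← mE] at a1 ⊢
    rw [mul_assoc, ← mul_assoc (φ _), L.AC, ← mul_assoc, ← mul_assoc, L.tt, one_mul, a1]
  obtain ⟨a, ha, ea⟩ := hμ'
  rw [← ea] at mE mE'
  rw [sφ] at mE'
  have a1 := h.eqv α (L.inj (by rw [hα, cm _ m3, mul_inv_cancel_right]))
    (L.inj (by rw [hα, cm _ m4, mul_inv_cancel_right])) a ha (L.inj (by rw [mE, map_mul]))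
    (L.inj (by rw [mE', ← map_mul]))
  rw [a1, map_one, map_mul, map_mul, s1, s2, s3, s4] at ea
  refine C.notY ?_
  have : φ y = (f y * f y1 * f y2 * f y3 * f y4)⁻¹ := by
    refine eq_inv_of_mul_eq_one_left ?_
    rw [ea]
    generalize f y * f y1 * f y2 * f y3 * f y4 = p
    have k := C.sq _ (mul_mem (mul_mem m1 m2) m3)
    have k2 := C.comm _ m4 _ (mul_mem (mul_mem m1 m3) m2)
    calc φ y * p = (f z * f y * φ z * (f z * f y * φ z)) * φ y * p := by rw [k]; group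
      _ = f z * f y * φ z * (f z * (f y * φ z) * φ y) * p := by group
      _ = f z * f y * φ z * (f z * φ z * f y * φ y) * p := by rw [← C.Za]; group
      _ = _ := by rw [← k2]; group
  rw [this]
  exact inv_mem hprod

end Cfsg.Agent.H76.S94A2
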