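import Cfsg.Agent.H46.L40Defs
import Cfsg.Agent.H23.Dbl2e
import Cfsg.Agent.H69.SlRed

/-! Project L40, piece EXG: a conjugate of `C(L)` meets `N(L)` in a group of even order. -/

set_option autoImplicit false

namespace Cfsg.Agent.H76.L40Exg

open Subgroup Cfsg.Agent.H83 Cfsg.Agent.H46.L40

universe u

theorem exg : ExgS.{u} := by
  intro G _ _ φ _ hs hF hF' hle
  have hFn : (generalizedFittingSubgroup G).Normal := H52.fstar_normal
  have hc := H69.SlRed.cent_bot hF hF' H52.centralizer_fstar_le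
  have hO : oddCore G = ⊥ :=
    H69.SlRed.odd_bot hF hF' hc
      (Nat.coprime_two_right.1 (H3.pPrimeCore_coprime 2 G))
  have hn : ¬ φ.range.Normal := by
    intro hN
    rcases H69.SlRed.dich (N := φ.range) hF (fun x _ n h => hN.conj_mem n h x) with e | e
    · exact H52.IsQuasisimple.ne_bot hs.1 (eq_bot_iff.2 fun x hx => e x (hle hx) hx)
    · have h1 := hs.2.1.1
      rw [le_antisymm hle e, hc, card_bot] at h1
      exact absurd h1 (by decide)
  obtain ⟨g, hg, u, hu, u2⟩ := H23.D2.exists_even hs hO hn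
  exact ⟨g, u, hg, u2, hu.1, hu.2⟩

end Cfsg.Agent.H76.L40Exg
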