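import Cfsg.Agent.H76.HBGeo

/-! Project HB, even degree: a line subgroup normalising a parallel one. -/

set_option autoImplicit false

namespace Cfsg.Agent.H76.HB

open MulAction Subgroup Cfsg.Agent.H83 Cfsg.Agent.H56.TT
open Cfsg.Agent.H65.A45 (ord2 dcount)
open Cfsg.Agent.H56.W2 (Fix mem_Fix)
open scoped Cfsg.Agent.H63

universe u v

theorem dcount_le {α β : Type*} [Finite α] [Finite β] (s : Set α) (t : Set β) (r : α → β → Prop)
    (m n : ℕ) (hm : ∀ a ∈ s, m ≤ {b | b ∈ t ∧ r a b}.ncard)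
    (hn : ∀ b ∈ t, {a | a ∈ s ∧ r a b}.ncard ≤ n) : s.ncard * m ≤ t.ncard * n := by
  classical
  have := Fintype.ofFinite α
  have := Fintype.ofFinite β
  rw [Set.ncard_eq_toFinset_card' s, Set.ncard_eq_toFinset_card' t]
  refine Finset.card_mul_le_card_mul r (fun a ha => ?_) (fun b hb => ?_)
  · refine (hm a (by simpa using ha)).trans (le_of_eq ?_)
    rw [Set.ncard_eq_toFinset_card']
    congr 1; ext b; simp [Finset.bipartiteAbove]
  · refine le_trans (le_of_eq ?_) (hn b (by simpa using hb))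
    rw [Set.ncard_eq_toFinset_card']
    congr 1; ext a; simp [Finset.bipartiteBelow]

variable {G : Type u} [Group G] {Ω : Type v} [MulAction G Ω] {NN : Ω → Subgroup G}
  {N P Q R : Subgroup G} {q i : ℕ} [Finite G] [Finite Ω]

theorem rns_of_frob {K : Subgroup G} (hK : K.Normal) (htr : ∀ x y : Ω, ∃ g ∈ K, g • x = y)
    (h2 : ∀ g ∈ K, ∀ x y : Ω, x ≠ y → g • x = x → g • y = y → g = 1) {k : ℕ}
    (hn : Nat.card Ω = 2 ^ (k + 1)) : RNS G Ω := by
  have : Nonempty Ω := (Nat.card_pos_iff.1 (by rw [hn]; positivity)).1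
  have h3 := frob (U := K) (K := ⊥) (Φ := (Set.univ : Set Ω)) bot_le (fun _ _ _ _ => trivial)
    (fun c _ d _ => htr c d) (fun x hx c _ => by rw [mem_bot.1 hx, one_smul])
    (fun x hx c _ d _ => h2 x hx c d) Set.univ_nonempty
  rw [card_bot, mul_one, Set.ncard_univ] at h3
  obtain ⟨a⟩ := this
  have h4 := H65.OT.card_orb K a (S := Set.univ) fun y => ⟨fun _ => htr a y, fun _ => trivial⟩
  rw [Set.ncard_univ, hn] at h4
  obtain ⟨S0, hS0⟩ := Sylow.exists_subgroup_card_pow_prime 2 (G := K) (Dvd.intro _ h4.symm)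
  have hS : Nat.card (S0.map K.subtype) = 2 ^ (k + 1) := (card_map' _ K.subtype_injective _).trans hS0
  have hSK : S0.map K.subtype ≤ K := map_subtype_le _
  generalize S0.map K.subtype = S at hS hSK
  have semi : ∀ x : Ω, ∀ s ∈ S, s • x = x → s = 1 := fun x s hs e => by
    have a1 := dvdP1 (S ⊓ stabilizer G x) (Set.univ \ {x}) (fun g hg c hc => ⟨trivial, fun e =>
      hc.2 (smul_left_cancel g ((show g • c = x from e).trans (show g • x = x from hg.2).symm))⟩)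
      fun c hc g hg e => h2 g (hSK hg.1) c x hc.2 e hg.2
    have a2 := Set.ncard_sdiff_singleton_add_one (Set.mem_univ x)
    rw [Set.ncard_univ, hn] at a2
    have a3 := hS ▸ card_dvd_of_le (inf_le_left : S ⊓ stabilizer G x ≤ S)
    have a4 := (Nat.dvd_add_right a1).1 (a2 ▸ a3)
    exact mem_bot.1 (card_eq_one.1 (Nat.eq_one_of_dvd_one a4) ▸
      (mem_inf.2 ⟨hs, e⟩ : s ∈ S ⊓ stabilizer G x))
  have h5 := ncard_sharp S
  have h6 := Set.eq_of_subset_of_ncard_le (s := (S : Set G) \ {1})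
    (t := {x | x ∈ K ∧ ∀ c ∈ (Set.univ : Set Ω), x • c ≠ c})
    (fun s hs => ⟨hSK hs.1, fun c _ e => hs.2 (semi c s hs.1 e)⟩) (by omega)
  refine ⟨S, ⟨fun s hs g => ?_⟩, fun x y => trP S Set.univ (fun _ _ _ _ => trivial) (Set.mem_univ x)
    (semi x) (by rw [Set.ncard_univ, hn, hS]) y trivial, semi⟩
  by_cases e : s = 1
  · simp [e]
  have a1 := h6.le ⟨hs, e⟩
  refine (h6.ge ⟨hK.conj_mem _ a1.1 g, fun c _ e => a1.2 (g⁻¹ • c) trivial ?_⟩).1
  rwa [mul_smul, mul_smul, ← eq_inv_smul_iff] at e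

variable [FaithfulSMul G Ω] (h : St NN q i) (hl : Lin NN)
include h hl

theorem St.full (hp : Par NN P R) (hn : P ≤ N[R]) : R ≤ C[P] ∧ (Fix Ω P).ncard = q ^ i := by
  have a1 := h.par_card hl hp
  rw [inf_eq_left.2 hn, h.cardP hp.l1] at a1
  have a2 : R ≤ N[P] := inf_eq_left.1 (eq_of_le_of_card_ge inf_le_left (by rw [a1, h.cardP hp.l2]))
  exact ⟨fun t ht s hs => h.par_comm hl hp hs (hn hs) ht (a2 ht),
    Nat.dvd_antisymm (h.delta_dvd hl hp.l1) (a1 ▸ h.par_dvd hl hp)⟩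

theorem St.full_one (hp : Par NN P R) (hn : P ≤ N[R]) : i = 1 := by
  by_contra hi
  obtain ⟨hC, hδ⟩ := h.full hl hp hn
  obtain ⟨a, ha'⟩ := hp.l1
  have ha := h.syl_fix ha'
  have inv : ∀ x ∈ C[P], ∀ c ∈ Fix Ω P, x • c ∈ Fix Ω P := fun x hx c hc => fix_norm (C_le_N hx) hc
  have h1 := frob (U := C[P]) (K := zz P) (Φ := Fix Ω P) inf_le_right inv
    (fun c hc d hd => by
      obtain ⟨x, hx, e⟩ := trP R (Fix Ω P) (fun x hx => inv x (hC hx)) hc
        (fun x hx => h.par_semi hl hp hx hc) (by rw [hδ, h.cardP hp.l2]) d hd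
      exact ⟨x, hC hx, e⟩)
    (fun x hx c hc => hc x hx.1)
    (fun g hg c hc d hd hcd e1 e2 => by
      obtain ⟨z, hz, hz'⟩ := a6 G _ P q i (h.bs c) (h.syl_of_fix hl hp.l1 hc) g (h.norm e1) hg
      have := h.Csemi hl hcd.symm hz' (by rw [mul_smul, e2]; exact hd _ (inv_mem hz.1))
      rwa [← inv_mul_eq_one.1 this]) ⟨a, ha⟩
  have h2 : ((fun p : G × G => p.1 * p.2) '' (((R : Set G) \ {1}) ×ˢ (zz P : Set G))).ncard =
      ((R : Set G) \ {1}).ncard * q := by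
    rw [Set.InjOn.ncard_image, Set.ncard_prod, ← card_eq_ncard, h.cardZ hp.l1]
    intro p hp' r hr e
    have e' : p.1 * p.2 = r.1 * r.2 := e
    have e1 : r.1 = p.1 := by
      by_contra hne
      refine hp.ne (h.ti hl hp.l1 hp.l2 (t := r.1⁻¹ * p.1) ?_ (R.mul_mem (R.inv_mem hr.1.1) hp'.1.1)
        fun e => hne (inv_mul_eq_one.1 e))
      rw [show r.1⁻¹ * p.1 = r.2 * p.2⁻¹ by rw [eq_mul_inv_iff_mul_eq, mul_assoc, e']; group]
      exact P.mul_mem hr.2.1 (P.inv_mem hp'.2.1)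
    rw [e1] at e'
    exact Prod.ext e1.symm (mul_left_cancel e')
  have h3 := ncard_sharp R
  rw [h.cardZ hp.l1, hδ, ← h.cardP hp.l2, ← h3, add_mul, one_mul, ← h2] at h1
  have h4 := Set.eq_of_subset_of_ncard_le
    (s := (fun p : G × G => p.1 * p.2) '' (((R : Set G) \ {1}) ×ˢ (zz P : Set G)))
    (t := {x | x ∈ C[P] ∧ ∀ c ∈ Fix Ω P, x • c ≠ c}) (by
      rintro _ ⟨p, hp', rfl⟩
      refine ⟨mul_mem (hC hp'.1.1) hp'.2.2, fun c hc e => hp'.1.2 (h.par_semi hl hp hp'.1.1 hc ?_)⟩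
      rwa [mul_smul, hc _ hp'.2.1] at e) (by omega)
  obtain ⟨u, hu, hu1⟩ := h.exists_z hp.l2
  obtain ⟨t, ht, ht'⟩ := (h.bs _).exists_nz hp.l2.choose_spec hi
  have hua : a ≠ u • a := fun e => hu1 (h.par_semi hl hp hu.1 ha e.symm)
  have hta : a ≠ t • a := fun e => ht' (h.par_semi hl hp ht ha e.symm ▸ one_mem _)
  obtain ⟨g, e1, e2⟩ := h.two _ _ _ _ hua hta
  have hg := h.norm_of_two hl hp.l1 hua ha (inv u (hC hu.1) a ha) (by rwa [e1])
    (by rw [e2]; exact inv t (hC ht) a ha)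
  obtain ⟨p, hp', e3⟩ := h4.ge (show g * u * g⁻¹ ∈ _ from ⟨nconj (le_norm_cent le_rfl hg) (hC hu.1),
    fun c hc e => hu1 (h.par_semi hl hp hu.1 (fix_norm (inv_mem hg) hc) (by
      rwa [mul_smul, mul_smul, ← eq_inv_smul_iff] at e))⟩)
  have e4 : p.1 * p.2 = g * u * g⁻¹ := e3
  have e5 : t⁻¹ * p.1 = 1 := h.par_semi hl hp (R.mul_mem (R.inv_mem ht) hp'.1.1) ha (by
    rw [mul_smul, inv_smul_eq_iff, ← e2, ← congrArg (p.1 • ·) (ha _ hp'.2.1), ← mul_smul, e4,
      mul_smul, mul_smul, inv_smul_eq_iff.2 e1.symm])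
  rw [← inv_mul_eq_one.1 e5] at e4
  refine ht' ((h.om hp.l2 ht).1 ?_)
  have e6 := hC ht _ hp'.2.1
  calc t * t = t * (p.2 * p.2) * t := by rw [(h.om hp.l1 hp'.2.1).2 hp'.2, mul_one]
    _ = t * p.2 * (p.2 * t) := by group
    _ = t * p.2 * (t * p.2) := by rw [e6]
    _ = g * (u * u) * g⁻¹ := by rw [e4]; group
    _ = 1 := by rw [(h.om hp.l2 hu.1).2 hu]; group

omit h hl in
/-- equal or disjoint lines -/
def Dis (Ω : Type v) [MulAction G Ω] (L M : Subgroup G) : Prop :=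
  L = M ∨ ∀ y ∈ Fix Ω L, y ∉ Fix Ω M

omit h hl [Finite G] [Finite Ω] [FaithfulSMul G Ω] in
theorem Dis.symm (h : Dis Ω P R) : Dis Ω R P := h.imp Eq.symm fun e y a b => e y b a

omit h hl [Finite G] [Finite Ω] [FaithfulSMul G Ω] in
theorem Dis.cj (h : Dis Ω P R) (g : G) : Dis Ω (cj g P) (cj g R) :=
  h.imp (congrArg _) fun e y a b => by
    rw [← smul_inv_smul g y, fix_cj] at a b
    exact e _ a b

theorem St.dis_trans (hδ : ∀ P, Ln NN P → (Fix Ω P).ncard = q ^ i) (hP : Ln NN P) (hQ : Ln NN Q)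
    (hR : Ln NN R) (h1 : Dis Ω P Q) (h2 : Dis Ω Q R) : Dis Ω P R := by
  rcases h1 with rfl | h1
  · exact h2
  rcases h2 with rfl | h2
  · exact .inr h1
  by_cases e : P = R
  · exact .inl e
  refine .inr fun y a b => ?_
  have a1 := Set.ncard_le_ncard (s := {R | Syl (NN y) R ∧ ∃ w ∈ Fix Ω Q, w ∈ Fix Ω R} ∪ {P, R})
    (t := {R | Syl (NN y) R}) (by
      rintro Y (hY | rfl | rfl)
      exacts [hY.1, h.syl_of_fix hl hP a, h.syl_of_fix hl hR b])
  rw [Set.ncard_union_eq (Set.disjoint_left.2 (by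
      rintro Y ⟨_, w, b1, b2⟩ (e | e)
      exacts [h1 w (e ▸ b2) b1, h2 w b1 (e ▸ b2)])), h.meet_count hl hQ (h1 y a), Set.ncard_pair e,
    (h.bs y).card_syl, hδ Q hQ] at a1
  omega

theorem St.affine (hi : i = 1) (hp : Par NN P R) (hn : P ≤ N[R]) : RNS G Ω := by
  obtain ⟨hC, hδ⟩ := h.full hl hp hn
  obtain ⟨a, ha⟩ := hp.l1
  obtain ⟨b, hb⟩ := hp.l2
  have hZ := (h.bs a).zz_eq ha hi
  have h4 := (h.bs a).four_le
  have cP := h.cardP hp.l1
  have cR := h.cardP hp.l2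
  have cn := h.card_pts hl hp.l1
  rw [hδ] at cn
  rw [hi, pow_one] at cP cR hδ cn
  obtain ⟨p, hp', hf⟩ : ∃ p ∈ (P : Set G) ×ˢ (R : Set G), ∀ y : Ω, (p.1 * p.2) • y ≠ y := by
    by_contra hc
    push Not at hc
    have a1 := dcount_le (((P : Set G) ×ˢ (R : Set G)) \ {(1, 1)}) (Set.univ : Set Ω)
      (fun p y => (p.1 * p.2) • y = y) q (q - 1)
      (fun p hp' => by
        obtain ⟨y, hy⟩ := hc p hp'.1
        by_cases e : y ∈ Fix Ω P
        · have : p.2 = 1 := h.par_semi hl hp hp'.1.2 e (by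
            rw [mul_smul, ← eq_inv_smul_iff] at hy
            rw [hy]; exact e _ (P.inv_mem hp'.1.1))
          rw [← hδ]
          exact Set.ncard_le_ncard fun c hc => ⟨trivial, by rw [this, mul_one]; exact hc _ hp'.1.1⟩
        rw [← cP, card_eq_ncard]
        refine Set.ncard_le_ncard_of_injOn (· • y) (fun s hs => ⟨trivial, ?_⟩) fun s hs t ht e' => ?_
        · have := mul_mem (hZ.ge hp'.1.1).2 (hC hp'.1.2) s hs
          show (p.1 * p.2) • s • y = s • y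
          rw [← mul_smul, ← this, mul_smul, hy]
        · by_contra hne
          refine e (h.fix_elt hl hp.l1 (P.mul_mem (P.inv_mem ht) hs)
            (fun e => hne (inv_mul_eq_one.1 e).symm) ?_)
          rw [mul_smul, inv_smul_eq_iff]; exact e')
      (fun y _ => by
        by_cases e : y ∈ Fix Ω P
        · have key : ∀ p ∈ (P : Set G) ×ˢ (R : Set G), (p.1 * p.2) • y = y → p.2 = 1 :=
            fun p hp' hy => h.par_semi hl hp hp'.2 e (by
              rw [mul_smul, ← eq_inv_smul_iff] at hy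
              rw [hy]; exact e _ (P.inv_mem hp'.1))
          rw [← cP, ← ncard_sharp, Nat.add_sub_cancel]
          exact Set.ncard_le_ncard_of_injOn Prod.fst (fun p hp' => ⟨hp'.1.1.1, fun e =>
            hp'.1.2 (Prod.ext e (key p hp'.1.1 hp'.2))⟩) fun p hp' r hr e =>
              Prod.ext e ((key p hp'.1.1 hp'.2).trans (key r hr.1.1 hr.2).symm)
        have key : ∀ p ∈ (P : Set G) ×ˢ (R : Set G), ∀ r ∈ (P : Set G) ×ˢ (R : Set G),
            (p.1 * p.2) • y = y → (r.1 * r.2) • y = y → p.2 = r.2 → p = r :=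
          fun p hp' r hr e1 e2 e3 => by
            refine Prod.ext ?_ e3
            by_contra hne
            refine e (h.fix_elt hl hp.l1 (P.mul_mem hp'.1 (P.inv_mem hr.1))
              (fun e => hne (mul_inv_eq_one.1 e)) ?_)
            rw [mul_smul, ← eq_inv_smul_iff] at e2
            rw [mul_smul, ← e2, ← e3, ← mul_smul, e1]
        rw [← cR, ← ncard_sharp, Nat.add_sub_cancel]
        exact Set.ncard_le_ncard_of_injOn Prod.snd (fun p hp' => ⟨hp'.1.1.2, fun e =>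
          hp'.1.2 (key p hp'.1.1 (1, 1) ⟨P.one_mem, R.one_mem⟩ hp'.2 (by simp) e)⟩) fun p hp' r hr e =>
            key p hp'.1.1 r hr.1.1 hp'.2 hr.2 e)
    have a2 := Set.ncard_sdiff_singleton_add_one (s := (P : Set G) ×ˢ (R : Set G)) (a := (1, 1))
      ⟨P.one_mem, R.one_mem⟩
    rw [Set.ncard_prod, ← card_eq_ncard, ← card_eq_ncard, cP, cR] at a2
    rw [Set.ncard_univ, cn] at a1
    obtain ⟨k, rfl⟩ : ∃ k, q = k + 1 := ⟨q - 1, by omega⟩
    rw [Nat.add_sub_cancel] at a1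
    nlinarith
  have e2 : p.1 * p.2 * (p.1 * p.2) = 1 := by
    have a1 := hC hp'.2 _ hp'.1
    calc _ = p.1 * (p.2 * p.1) * p.2 := by group
      _ = p.1 * p.1 * (p.2 * p.2) := by rw [← a1]; group
      _ = 1 := by rw [(h.bs a).zsq ha (hZ.ge hp'.1),
        (h.bs b).zsq hb (((h.bs b).zz_eq hb hi).ge hp'.2), one_mul]
  have hδ' : ∀ L, Ln NN L → (Fix Ω L).ncard = q ^ i := fun L hL => by
    rw [h.delta_eq hl hp.l1 hL, hδ, hi, pow_one]
  let K : Subgroup G :=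
    { carrier := {g | ∀ L, Ln NN L → Dis Ω L (cj g L)}
      one_mem' := fun L _ => .inl (cj_one L).symm
      mul_mem' := fun {g g'} hg hg' L hL => h.dis_trans hl hδ' hL (h.ln_cj hL g) (h.ln_cj hL _)
        (hg L hL) (cj_mul g g' L ▸ (hg' L hL).cj g)
      inv_mem' := fun {g} hg L hL => by
        have := hg _ (h.ln_cj hL g⁻¹)
        rw [cj_cj_inv] at this
        exact this.symm }
  have hK : K.Normal := ⟨fun g hg k L hL => by
    have := (hg _ (h.ln_cj hL k⁻¹)).cj k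
    rwa [cj_cj_inv, ← cj_mul, ← cj_mul] at this⟩
  have he : p.1 * p.2 ∈ K := fun L hL => by
    by_cases e : L = cj (p.1 * p.2) L
    · exact .inl e
    refine .inr fun y a1 a2 => e (h.line_uniq hl hL (h.ln_cj hL _) (hf y).symm a1 ?_ a2
      ((fix_cj _).2 a1))
    have := (fix_cj (p.1 * p.2)).2 a2
    rwa [← cj_mul, e2, cj_one] at this
  obtain ⟨m, hm, rfl⟩ := (h.bs a).pow
  refine rns_of_frob hK (h.two.normal_trans hK he (hf a)) (fun g hg x y hxy e1 e2 =>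
    h.Csemi hl hxy.symm ((h.bs x).A3 (h.norm e1) fun L hL => cj_eq_self_iff.1 ?_) e2)
    (k := 2 * m - 1) ?_
  · exact ((hg L ⟨x, hL⟩).resolve_right fun e => e x (h.syl_fix hL)
      (e1 ▸ (fix_cj g).2 (h.syl_fix hL))).symm
  · rw [cn, show 2 * m - 1 + 1 = m * 2 by omega, pow_mul]
    obtain ⟨k, hk⟩ : ∃ k, 2 ^ m = k + 1 := ⟨2 ^ m - 1, by omega⟩
    rw [hk, Nat.add_sub_cancel]; ring

end Cfsg.Agent.H76.HB
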