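import Cfsg.Agent.H76.HBOut

/-! Project HB: outer involutions (A8, O1). -/

set_option autoImplicit false

namespace Cfsg.Agent.H76.HB

open MulAction Subgroup Cfsg.Agent.H83 Cfsg.Agent.H56.TT
open Cfsg.Agent.H65.A45 (ord2 dcount)
open scoped Cfsg.Agent.H63

universe u v

variable {G : Type u} [Group G] {N P Q R : Subgroup G} {q i : ℕ}

/-- an outer involution normalising the pair -/
structure Out (N P Q : Subgroup G) (y : G) : Prop where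
  nN : y ∈ N[N]
  nP : y ∈ N[P]
  nQ : y ∈ N[Q]
  sq : y * y = 1
  nc : y ∉ C[N]

theorem P_le_Nzz : P ≤ N[zz P] := fun _ ht => N_zz (le_normalizer ht)

theorem Out.cD {y d : G} (o : Out N P Q y) (hd : d ∈ dd N P Q) : y * d * y⁻¹ ∈ dd N P Q :=
  nconj (N_dd o.nN o.nP o.nQ) hd

theorem Out.yy {y : G} (o : Out N P Q y) (x : G) : y * (y * x * y⁻¹) * y⁻¹ = x := by
  rw [show y * (y * x * y⁻¹) * y⁻¹ = y * y * x * (y * y)⁻¹ by group, o.sq]; group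

variable [Finite G]

section pair
variable (h : BS N q i) (hP : Syl N P) (hQ : Syl N Q) (hne : Q ≠ P)
include h hP hQ hne

theorem BS.out {w : G} (hN : w ∈ N[N]) (hw : w ∈ N[P]) {t : G} (ht : t ∈ P) (hy : t⁻¹ * w ∈ N[Q])
    (h2 : w * w = 1) (hc : w ∉ C[P]) : Out N P Q (t⁻¹ * w) := by
  have hyP : t⁻¹ * w ∈ N[P] := mul_mem (le_normalizer (P.inv_mem ht)) hw
  have e : t⁻¹ * w * (t⁻¹ * w) = t⁻¹ * (w * t⁻¹ * w⁻¹) * (w * w) := by group
  have hsq : t⁻¹ * w * (t⁻¹ * w) = 1 := h.reg hP hQ hne (by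
    rw [e, h2, mul_one]; exact P.mul_mem (P.inv_mem ht) (nconj hw (P.inv_mem ht))) (mul_mem hy hy)
  refine ⟨mul_mem (le_normalizer (N.inv_mem (hP.le ht))) hN, hyP, hy, hsq, fun hC => hc ?_⟩
  have h3 := hC t (hP.le ht)
  have h4 : t * t = 1 := by
    have : w * w = t * (t⁻¹ * w * t) * (t⁻¹ * w) := by group
    rw [← h3, h2, show t * (t * (t⁻¹ * w)) * (t⁻¹ * w) = t * t * (t⁻¹ * w * (t⁻¹ * w)) by group, hsq,
      mul_one] at this
    exact this.symm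
  have := mul_mem ((h.om hP ht).1 h4).2 (cent_anti hP.le hC)
  simpa using this

variable {y : G} (o : Out N P Q y)
include o

theorem Out.exists_d : ∃ d ∈ dd N P Q, d * y ≠ y * d := by
  by_contra hc
  push Not at hc
  exact o.nc (a7 G N P Q q i h hP hQ hne y o.nN o.nP o.nQ ⟨1, by rw [pow_one, _root_.sq, o.sq]⟩ hc)

theorem Out.le_sq : q ≤ Nat.card ↥(zz P ⊓ C1[y]) ^ 2 := by
  rw [← h.cardZ hP]
  exact sq_le_cent (fun t ht => h.zsq hP ht) (N_zz o.nP) fun t _ => by rw [o.sq]; simp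

theorem Out.sq_le {d : G} (hd : d ∈ dd N P Q) (hc : y * d * y⁻¹ * d⁻¹ ∉ C[zz P]) :
    Nat.card ↥(zz P ⊓ C1[y]) ^ 2 = q := by
  refine le_antisymm ?_ (o.le_sq h hP hQ hne)
  have h1 := card_mul_le_inf (A := zz P ⊓ C1[y]) (B := cj d (zz P ⊓ C1[y])) inf_le_left
    (cj_le_of_norm inf_le_left (N_zz hd.1.2))
  suffices e : zz P ⊓ C1[y] ⊓ cj d (zz P ⊓ C1[y]) = ⊥ by
    rwa [card_cj, h.cardZ hP, e, card_bot, mul_one, ← _root_.sq] at h1
  refine (eq_bot_iff_forall _).2 fun z hz => ?_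
  by_contra hz1
  refine hc ((h.bp P Q hP hQ hne).fixZ (mul_mem (o.cD hd) (inv_mem hd)) hz.1.1 hz1 ?_)
  have e1 : z * y = y * z := memC1.1 hz.1.2
  have e2 : d⁻¹ * z * d * y = y * (d⁻¹ * z * d) := memC1.1 (mem_cj.1 hz.2).2
  calc y * d * y⁻¹ * d⁻¹ * z = y * d * y⁻¹ * (d⁻¹ * z * d * y) * y⁻¹ * d⁻¹ := by group
    _ = y * z * d * y⁻¹ * d⁻¹ := by rw [e2]; group
    _ = _ := by rw [← e1]; group

theorem Out.cardM (hi : i = 3) : Nat.card (cm P (zz P) y P_le_Nzz) = q ^ 2 := by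
  obtain ⟨d, hd, hdy⟩ := o.exists_d h hP hQ hne
  have h1 := sq_le_cm (y := y) inf_le_left P_le_Nzz (fun t ht => h.sq hP ht) o.nP (N_zz o.nP)
    fun t _ => by rw [o.sq]; simp
  have hM : cm P (zz P) y P_le_Nzz ≤ P := fun _ ht => ht.1
  have h2 := card_mul_le_inf (B := cj d (cm P (zz P) y P_le_Nzz)) hM (cj_le_of_norm hM hd.1.2)
  have h3 : cm P (zz P) y P_le_Nzz ⊓ cj d (cm P (zz P) y P_le_Nzz) ≤ zz P := fun t ht => by
    have a1 : y ∈ st (zz P) t := ⟨N_zz o.nP, ht.1.2⟩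
    have a2 := st_conj (N_zz hd.1.2) (show y ∈ st (zz P) (d⁻¹ * t * d) from
      ⟨N_zz o.nP, (mem_cj.1 ht.2).2⟩)
    rw [show d * (d⁻¹ * t * d) * d⁻¹ = t by group] at a2
    by_contra hz
    have := h.semiZ hP hQ hne (mul_mem (o.cD hd) (inv_mem hd)) ht.1.1 hz (by
      have := mul_mem a1 (inv_mem a2)
      convert this using 1; group)
    exact hdy (by rw [mul_inv_eq_one, mul_inv_eq_iff_eq_mul] at this; exact this.symm)
  have h4 := h2.trans (Nat.mul_le_mul_left _ (card_le_of_le h3))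
  rw [card_cj, ← _root_.sq] at h4
  have h5 := le_antisymm h4 h1
  rw [h.cardP hP, h.cardZ hP, hi, show q ^ 3 * q = (q ^ 2) ^ 2 by ring] at h5
  exact Nat.pow_left_injective (by norm_num) h5

omit h hP hQ hne in
theorem Out.cm_conj {d s : G} (hd : d ∈ dd N P Q) (hdy : d * y = y * d)
    (hs : s ∈ cm P (zz P) y P_le_Nzz) : d * s * d⁻¹ ∈ cm P (zz P) y P_le_Nzz :=
  ⟨nconj hd.1.2 hs.1, by
    have := (st_conj (N_zz hd.1.2) (show y ∈ st (zz P) s from ⟨N_zz o.nP, hs.2⟩)).2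
    rwa [conj_eq_iff.2 hdy] at this⟩

omit h hP hQ hne in
theorem Out.zz_le : zz P ≤ cm P (zz P) y P_le_Nzz := fun _ hz =>
  ⟨hz.1, mul_mem (inv_mem hz) (nconj (N_zz o.nP) hz)⟩

theorem Out.D1p (hi : i = 3) {d : G} (hd : d ∈ dd N P Q) (hZ : d ∈ C[zz P]) (hdy : d * y = y * d) :
    d = 1 := by
  have h1 := dvdE (dd N P Q ⊓ C[zz P] ⊓ C1[y]) ((cm P (zz P) y P_le_Nzz : Set G) \ zz P)
    (fun d hd c hc => ⟨o.cm_conj hd.1.1 (memC1.1 hd.2) hc.1, fun e =>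
      hc.2 (by simpa [mul_assoc] using nconj' (N_zz hd.1.1.1.2) e)⟩) fun c hc d hd e => by
      by_contra hd1
      exact hc.2 ((h.bp P Q hP hQ hne).semi d hd.1.1 hd1 c hc.1.1 e)
  have h2 := ncard_diff o.zz_le
  rw [o.cardM h hP hQ hne hi, h.cardZ hP] at h2
  have h3 := (card_dvd_of_le (inf_le_left : dd N P Q ⊓ C[zz P] ⊓ C1[y] ≤ _)).trans
    (Dvd.intro_left _ (h.cardD1' hP hQ hne hi))
  have h4 := h.four_le
  obtain ⟨k, rfl⟩ : ∃ k, q = k + 2 := ⟨q - 2, by omega⟩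
  have h5 : ((cm P (zz P) y P_le_Nzz : Set G) \ zz P).ncard = (k + 2 + 1) * k + 2 := by nlinarith
  rw [h5] at h1
  have h6 := (Nat.dvd_add_right (h3.mul_right k)).1 h1
  have h7 := ((h.dd_odd hP hQ hne).coprime_dvd_left (card_dvd_of_le
    (inf_le_left.trans inf_le_left : dd N P Q ⊓ C[zz P] ⊓ C1[y] ≤ _))).eq_one_of_dvd h6
  exact mem_bot.1 (card_eq_one.1 h7 ▸ (mem_inf.2 ⟨mem_inf.2 ⟨hd, hZ⟩, memC1.2 hdy⟩ :
    d ∈ dd N P Q ⊓ C[zz P] ⊓ C1[y]))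

omit h hP hQ hne in
theorem Out.Zp_conj {d z : G} (hd : d ∈ dd N P Q ⊓ C1[y])
    (hz : z ∈ ((zz P ⊓ C1[y] : Subgroup G) : Set G) \ {1}) :
    d * z * d⁻¹ ∈ ((zz P ⊓ C1[y] : Subgroup G) : Set G) \ {1} :=
  ⟨mem_inf.2 ⟨nconj (N_zz hd.1.1.2) hz.1.1, mul_mem (mul_mem hd.2 hz.1.2) (inv_mem hd.2)⟩,
    fun e => hz.2 (conj_eq_one_iff.1 e)⟩

theorem Out.exists_z : ∃ z ∈ zz P, z ≠ 1 ∧ z * y = y * z := by
  have h1 := o.le_sq h hP hQ hne
  have h2 := h.four_le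
  by_contra hc
  rw [(eq_bot_iff_forall (zz P ⊓ C1[y])).2 fun z hz => by
    by_contra e; exact hc ⟨z, hz.1, e, memC1.1 hz.2⟩, card_bot] at h1
  omega

theorem Out.centZ (hi : i = 3) : y ∈ C[zz P] := by
  have b := h.bp P Q hP hQ hne
  by_contra hy
  obtain ⟨z0, hz0, h0, h1⟩ := o.exists_z h hP hQ hne
  obtain ⟨d, hd, hc⟩ : ∃ d ∈ dd N P Q, y * d * y⁻¹ * d⁻¹ ∉ C[zz P] := by
    by_contra hc
    push Not at hc
    refine hy fun z hz => ?_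
    by_cases e : z = 1
    · rw [e]; simp
    obtain ⟨d, hd, rfl⟩ := b.trans z0 hz0 z hz h0 e
    have := hc d hd _ hz
    calc _ = y * d * y⁻¹ * d⁻¹ * (d * z0 * d⁻¹) * (y * d * y⁻¹ * d⁻¹)⁻¹ * y := by rw [← this]; group
      _ = y * d * y⁻¹ * (z0 * y) * d⁻¹ := by group
      _ = _ := by rw [h1]; group
  have h2 := o.sq_le h hP hQ hne hd hc
  have h3 : Nat.gcd 3 (q + 1) = 1 := by
    refine (Nat.Prime.coprime_iff_not_dvd Nat.prime_three).2 ?_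
    rw [← h2]
    generalize Nat.card ↥(zz P ⊓ C1[y]) = c
    have : c % 3 = 0 ∨ c % 3 = 1 ∨ c % 3 = 2 := by omega
    rcases this with e | e | e <;> simp [Nat.dvd_iff_mod_eq_zero, Nat.add_mod, Nat.pow_mod, e]
  have h4 := b.cardD3 hi
  rw [h3, one_mul] at h4
  have h5 := o.cardM h hP hQ hne hi
  have h6 := h.four_le
  obtain ⟨s, hs, hsZ⟩ : ∃ s ∈ cm P (zz P) y P_le_Nzz, s ∉ zz P := by
    by_contra hc
    push Not at hc
    have := card_le_of_le (show cm P (zz P) y P_le_Nzz ≤ zz P from hc)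
    rw [h5, b.cardZ] at this
    nlinarith
  have h7 : (((dd N P Q : Set G) \ (dd N P Q ⊓ C1[y] : Subgroup G)) ×ˢ (zz P : Set G)).ncard ≤
      ((P : Set G) \ cm P (zz P) y P_le_Nzz).ncard := by
    refine Set.ncard_le_ncard_of_injOn (fun p => p.1 * s * p.1⁻¹ * p.2) (fun p hp =>
      ⟨P.mul_mem (nconj hp.1.1.1.2 hs.1) hp.2.1, fun e => hp.1.2 ?_⟩) fun p hp r hr e => ?_
    · have a0 := mul_mem e (inv_mem (o.zz_le hp.2))
      rw [mul_inv_cancel_right] at a0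
      have a1 : y ∈ st (zz P) (p.1 * s * p.1⁻¹) := ⟨N_zz o.nP, a0.2⟩
      have a2 := st_conj (N_zz hp.1.1.1.2) (show y ∈ st (zz P) s from ⟨N_zz o.nP, hs.2⟩)
      have := h.semiZ hP hQ hne (mul_mem (o.cD hp.1.1) (inv_mem hp.1.1)) a0.1 (fun e =>
        hsZ (by simpa [mul_assoc] using nconj' (N_zz hp.1.1.1.2) e)) (by
          have := mul_mem a1 (inv_mem a2)
          convert this using 1; group)
      rw [mul_inv_eq_one, mul_inv_eq_iff_eq_mul] at this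
      exact mem_inf.2 ⟨hp.1.1, memC1.2 this.symm⟩
    · have e' : p.1 * s * p.1⁻¹ * p.2 = r.1 * s * r.1⁻¹ * r.2 := e
      have := h.semiZ hP hQ hne (mul_mem (inv_mem hr.1.1) hp.1.1) hs.1 hsZ
        ⟨N_zz (mul_mem (inv_mem hr.1.1) hp.1.1).1.2, by
          have := nconj' (N_zz hr.1.1.1.2) (mul_mem hr.2 (inv_mem hp.2))
          rw [show s⁻¹ * (r.1⁻¹ * p.1 * s * (r.1⁻¹ * p.1)⁻¹) =
            s⁻¹ * r.1⁻¹ * (p.1 * s * p.1⁻¹ * p.2) * p.2⁻¹ * r.1 by group, e']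
          convert this using 1; group⟩
      have e1 : p.1 = r.1 := (inv_mul_eq_one.1 this).symm
      rw [e1] at e'
      exact Prod.ext e1 (mul_left_cancel e')
  have h8 := ncard_diff (show cm P (zz P) y P_le_Nzz ≤ P from fun _ ht => ht.1)
  have h9 := ncard_diff (inf_le_left : dd N P Q ⊓ C1[y] ≤ _)
  rw [Set.ncard_prod, ← card_eq_ncard, b.cardZ] at h7
  rw [h5, b.card, hi] at h8
  have h10 := dvdE (dd N P Q ⊓ C1[y]) _ (fun d hd z hz => o.Zp_conj hd hz) fun z hz d hd e =>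
    o.D1p h hP hQ hne hi hd.1 (b.fixZ hd.1 hz.1.1 hz.2 e) (memC1.1 hd.2)
  have h11 := ncard_sharp (zz P ⊓ C1[y])
  have h12 := Nat.le_of_dvd ((Set.ncard_pos).2 ⟨z0, And.intro (mem_inf.2 ⟨hz0, memC1.2 h1⟩) h0⟩) h10
  generalize ((dd N P Q : Set G) \ (dd N P Q ⊓ C1[y] : Subgroup G)).ncard = a at *
  have h13 : a + q ≤ q ^ 2 := Nat.le_of_mul_le_mul_right (c := q) (by nlinarith) (by omega)
  have h14 : q ≤ Nat.card ↥(zz P ⊓ C1[y]) := by omega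
  nlinarith

theorem Out.cardZ (hi : i ≠ 3) : Nat.card ↥(zz P ⊓ C1[y]) ^ 2 = q ∧
    Nat.card ↥(dd N P Q ⊓ C1[y]) + 1 = Nat.card ↥(zz P ⊓ C1[y]) := by
  obtain ⟨d, hd, hdy⟩ := o.exists_d h hP hQ hne
  refine ⟨o.sq_le h hP hQ hne hd fun hc => hdy ?_, ?_⟩
  · have := h.D1_bot hP hQ hne hi (mul_mem (o.cD hd) (inv_mem hd)) hc
    rw [mul_inv_eq_one, mul_inv_eq_iff_eq_mul] at this
    exact this.symm
  obtain ⟨z0, hz0, h0, h1⟩ := o.exists_z h hP hQ hne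
  rw [h.card_orbZ hP hQ hne inf_le_left hz0 h0 (S := ((zz P ⊓ C1[y] : Subgroup G) : Set G) \ {1})
    fun z => ⟨fun hz => ?_, fun ⟨d, hd, e⟩ => e ▸ o.Zp_conj hd ⟨mem_inf.2 ⟨hz0, memC1.2 h1⟩, h0⟩⟩,
    (eq_bot_iff_forall (dd N P Q ⊓ C1[y] ⊓ C[zz P])).2 fun d hd =>
      h.D1_bot hP hQ hne hi hd.1.1 hd.2, card_bot, mul_one, ncard_sharp]
  obtain ⟨d, hd, rfl⟩ := (h.bp P Q hP hQ hne).trans z0 hz0 z hz.1.1 h0 hz.2
  refine ⟨d, mem_inf.2 ⟨hd, memC1.2 ?_⟩, rfl⟩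
  have e1 : d * z0 * d⁻¹ * y = y * (d * z0 * d⁻¹) := memC1.1 hz.1.2
  have := h.regZ hP hQ hne hi (mul_mem (inv_mem hd) (o.cD hd)) hz0 h0 (by
    calc d⁻¹ * (y * d * y⁻¹) * z0 = d⁻¹ * y * d * y⁻¹ * (z0 * y) * y⁻¹ := by group
      _ = d⁻¹ * (y * (d * z0 * d⁻¹)) * d * y⁻¹ := by rw [h1]; group
      _ = _ := by rw [← e1]; group)
  rw [inv_mul_eq_one, eq_mul_inv_iff_mul_eq] at this
  exact this

theorem Out.norm_mem {d : G} (hd : d ∈ dd N P Q) : d * (y * d * y⁻¹) ∈ dd N P Q ⊓ C1[y] :=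
  mem_inf.2 ⟨mul_mem hd (o.cD hd), memC1.2 (by
    rw [eq_comm, ← conj_eq_iff, show y * (d * (y * d * y⁻¹)) * y⁻¹ =
      y * d * y⁻¹ * (y * (y * d * y⁻¹) * y⁻¹) by group, o.yy,
      (h.bp P Q hP hQ hne).comm hd (o.cD hd)])⟩

theorem Out.three {y' : G} (o' : Out N P Q y') (o'' : Out N P Q (y * y')) : False := by
  have b := h.bp P Q hP hQ hne
  by_cases hi : i = 3
  · obtain ⟨d, hd, hZ, hd1⟩ := h.exists_D1 hP hQ hne hi
    have key : ∀ y, Out N P Q y → ∀ d ∈ dd N P Q, d ∈ C[zz P] → y * d * y⁻¹ = d⁻¹ :=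
      fun y o d hd hZ => by
        have := o.norm_mem h hP hQ hne hd
        exact eq_inv_of_mul_eq_one_right (o.D1p h hP hQ hne hi this.1
          (mul_mem hZ (nconj (le_norm_cent le_rfl (N_zz o.nP)) hZ)) (memC1.1 this.2))
    have h1 := key _ o'' d hd hZ
    rw [show y * y' * d * (y * y')⁻¹ = y * (y' * d * y'⁻¹) * y⁻¹ by group, key _ o' d hd hZ,
      key _ o _ (inv_mem hd) (inv_mem hZ), inv_inv] at h1
    exact hd1 (h.dd_sq hP hQ hne hd (mul_eq_one_iff_eq_inv.2 h1))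
  have key : ∀ y', Out N P Q y' → dd N P Q ⊓ C1[y'] = dd N P Q ⊓ C1[y] := fun y' o' => by
    obtain ⟨a1, a2⟩ := o.cardZ h hP hQ hne hi
    obtain ⟨a3, a4⟩ := o'.cardZ h hP hQ hne hi
    have := Nat.pow_left_injective (by norm_num) (a1.trans a3.symm)
    exact H63.eq_of_isCyclic_of_card_eq b.cyc inf_le_left inf_le_left (by omega)
  obtain ⟨d, hd, hdy⟩ := o.exists_d h hP hQ hne
  have a1 := o.norm_mem h hP hQ hne hd
  have a2 := key _ o' ▸ o'.norm_mem h hP hQ hne hd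
  have a3 := key _ o'' ▸ o''.norm_mem h hP hQ hne hd
  have a4 : d * (y' * d * y'⁻¹) * y = y * (d * (y' * d * y'⁻¹)) := memC1.1 a2.2
  have a5 := mul_mem (mul_mem a3 (inv_mem a2)) a1
  have e : d * (y * y' * d * (y * y')⁻¹) * (d * (y' * d * y'⁻¹))⁻¹ * (d * (y * d * y⁻¹)) = d ^ 2 := by
    have c1 := b.comm hd (o.cD hd)
    calc _ = d * (y * d⁻¹ * y⁻¹) * (y * (d * (y' * d * y'⁻¹))) * y⁻¹ * (d * (y' * d * y'⁻¹))⁻¹ *
        (d * (y * d * y⁻¹)) := by group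
      _ = d * (y * d⁻¹ * y⁻¹) * (d * (y * d * y⁻¹)) := by rw [← a4]; group
      _ = _ := by rw [c1, pow_two]; group
  rw [e] at a5
  exact hdy (memC1.1 (mem_of_pow_mem_of_coprime a5
    (coprime_orderOf_of_mem (h.dd_odd hP hQ hne) hd)).2)

end pair

theorem a8 : A8Stmt.{u} := fun G _ _ N P q i h hP w hN hw h2 hc => by
  obtain ⟨Q, hQ, hne⟩ := h.ne P hP
  obtain ⟨t, ht, hy⟩ := h.dec hP hQ hne hN hw
  have o := h.out hP hQ hne hN hw ht hy h2 hc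
  have key : ∀ z ∈ zz P, z * (t⁻¹ * w) = t⁻¹ * w * z ↔ z * w = w * z := fun z hz => by
    rw [← mul_assoc, ← hz.2 _ (P.inv_mem ht), mul_assoc, mul_assoc, mul_left_cancel_iff]
  refine ⟨fun hi => ?_, fun hi z hz => (key z hz).1 (o.centZ h hP hQ hne hi z hz)⟩
  rw [← (o.cardZ h hP hQ hne hi).1]
  congr 3
  ext z
  exact and_congr_right fun hz => memC1.trans ((key z hz).symm.trans memC1.symm)

theorem o1 : O1Stmt.{u} := fun G _ _ N P q i h hP w hN w' hN' hw hw' h1 h2 h3 => by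
  by_contra hc
  push Not at hc
  obtain ⟨Q, hQ, hne⟩ := h.ne P hP
  obtain ⟨t, ht, hy⟩ := h.dec hP hQ hne hN hw
  obtain ⟨t', ht', hy'⟩ := h.dec hP hQ hne hN' hw'
  have o := h.out hP hQ hne hN hw ht hy h1 hc.1
  have o' := h.out hP hQ hne hN' hw' ht' hy' h2 hc.2.1
  have e : (w * t' * w⁻¹ * t)⁻¹ * (w * w') = t⁻¹ * w * (t'⁻¹ * w') := by group
  have o'' := h.out hP hQ hne (mul_mem hN hN') (mul_mem hw hw') (P.mul_mem (nconj hw ht') ht)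
    (e ▸ mul_mem hy hy') h3 hc.2.2
  exact o.three h hP hQ hne o' (e ▸ o'')

end Cfsg.Agent.H76.HB
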