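import Cfsg.Agent.H56.HLDefs

/-! HL P6: `R ⊓ C(F)` is transitive on the plane. -/

set_option autoImplicit false
set_option linter.unusedSectionVars false

namespace Cfsg.Agent.H76.HlP6

open MulAction Subgroup Cfsg.Agent.H83 Cfsg.Agent.H56.TT Cfsg.Agent.H56.HL
open scoped Cfsg.Agent.H63

universe u v

variable {G : Type u} [Group G]

theorem cm {H : Subgroup G} {g x : G} (hg : g ∈ N[H]) (hx : x ∈ H) : g * x * g⁻¹ ∈ H :=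
  conj_mem le_rfl hg hx

theorem cm' {H : Subgroup G} {g x : G} (hg : g ∈ N[H]) (hx : x ∈ H) : g⁻¹ * x * g ∈ H := by
  have := cm (inv_mem hg) hx
  rwa [inv_inv] at this

/-- a 2-group normalising `F`, invariant mod `F` under a group transitive on `F^#`, centralises `F` -/
theorem le_cent [Finite G] {F P S : Subgroup G} (hF : IsPGroup 2 F) (h0 : F ≠ ⊥)
    (hc : ∀ x ∈ F, ∀ y ∈ F, x * y = y * x)
    (tr : ∀ t ∈ F, ∀ t' ∈ F, t ≠ 1 → t' ≠ 1 → ∃ g ∈ S, g * t * g⁻¹ = t')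
    (hP : IsPGroup 2 P) (hn : P ≤ N[F])
    (hS : ∀ s ∈ S, ∀ x ∈ P, ∃ y ∈ P, ∃ f ∈ F, s⁻¹ * x * s = y * f) : P ≤ C[F] := by
  have : Fact (Nat.Prime 2) := ⟨Nat.prime_two⟩
  have h1 := inf_centralizer_ne_bot hF hP hn h0
  rw [Ne, eq_bot_iff_forall] at h1
  push Not at h1
  obtain ⟨t, ⟨htF, htC⟩, ht1⟩ := h1
  intro x hx
  rw [mem_centralizer_iff]
  intro t' ht'
  by_cases e : t' = 1
  · subst e; simp
  obtain ⟨s, hs, rfl⟩ := tr t htF t' ht' ht1 e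
  obtain ⟨y, hy, f, hf, e1⟩ := hS s hs x hx
  have h2 : y * t = t * y := mem_centralizer_iff.1 htC y hy
  have h3 : f * t = t * f := hc f hf t htF
  have h4 : x = s * (y * f) * s⁻¹ := by rw [← e1]; group
  rw [h4]
  calc s * t * s⁻¹ * (s * (y * f) * s⁻¹) = s * ((t * y) * f) * s⁻¹ := by group
    _ = s * (y * (f * t)) * s⁻¹ := by rw [← h2, h3]; group
    _ = _ := by group

/-- the centraliser of `J / F` in `N(F)` -/
def DD (F J : Subgroup G) : Subgroup G where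
  carrier := {g | g ∈ N[F] ∧ ∀ j ∈ J, g * j * g⁻¹ * j⁻¹ ∈ F}
  one_mem' := ⟨one_mem _, fun j _ => by simp⟩
  mul_mem' := by
    rintro g h ⟨hg, hg'⟩ ⟨hh, hh'⟩
    refine ⟨mul_mem hg hh, fun j hj => ?_⟩
    have e : g * h * j * (g * h)⁻¹ * j⁻¹ =
        g * (h * j * h⁻¹ * j⁻¹) * g⁻¹ * (g * j * g⁻¹ * j⁻¹) := by group
    rw [e]
    exact mul_mem (cm hg (hh' j hj)) (hg' j hj)
  inv_mem' := by
    rintro g ⟨hg, hg'⟩
    refine ⟨inv_mem hg, fun j hj => ?_⟩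
    have e : g⁻¹ * j * g⁻¹⁻¹ * j⁻¹ = g⁻¹ * (g * j * g⁻¹ * j⁻¹)⁻¹ * g := by group
    rw [e]
    exact cm' hg (inv_mem (hg' j hj))

theorem mem_DD {F J : Subgroup G} {g : G} :
    g ∈ DD F J ↔ g ∈ N[F] ∧ ∀ j ∈ J, g * j * g⁻¹ * j⁻¹ ∈ F := Iff.rfl

theorem conj_DD {F J : Subgroup G} (hJ : N[F] ≤ N[J]) {n g : G} (hn : n ∈ N[F])
    (hg : g ∈ DD F J) : n * g * n⁻¹ ∈ DD F J := by
  refine ⟨mul_mem (mul_mem hn hg.1) (inv_mem hn), fun j hj => ?_⟩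
  have e : n * g * n⁻¹ * j * (n * g * n⁻¹)⁻¹ * j⁻¹ =
      n * (g * (n⁻¹ * j * n) * g⁻¹ * (n⁻¹ * j * n)⁻¹) * n⁻¹ := by group
  rw [e]
  exact cm hn (hg.2 _ (cm' (hJ hn) hj))

/-- the abstract statement -/
theorem exists_cent [Finite G] {F J R S : Subgroup G} (hF : ∀ x ∈ F, x * x = 1) (h0 : F ≠ ⊥)
    (hc : ∀ x ∈ F, ∀ y ∈ F, x * y = y * x)
    (tr : ∀ t ∈ F, ∀ t' ∈ F, t ≠ 1 → t' ≠ 1 → ∃ g ∈ S, g * t * g⁻¹ = t')
    (hSN : S ≤ N[F]) (hJS : J ≤ N[S]) (hNJ : N[F] ≤ N[J]) (hJN : J ≤ N[F])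
    (jS : ∀ g ∈ J, g ∈ S → g ∈ F) (fj : ∀ j ∈ J, j ∈ C[F] → j ∈ F)
    (hR : R ≤ N[F]) (hNR : N[F] ≤ N[R]) (sq : ∀ r ∈ R, r * r ∈ J)
    (comm : ∀ r ∈ R, ∀ s ∈ R, r * s * r⁻¹ * s⁻¹ ∈ J)
    {s r : G} (hs : s ∈ S) (hr : r ∈ R) (hsr : s * r * s⁻¹ * r⁻¹ ∉ J) :
    ∃ x ∈ R, x ∈ C[F] ∧ x ∉ J := by
  have hF2 : IsPGroup 2 F := isPGroup_iff.2 fun x hx => Is2.of_sq (hF x hx)
  have hSD : S ≤ DD F J := fun g hg => by
    refine ⟨hSN hg, fun j hj => jS _ (mul_mem (cm (hNJ (hSN hg)) hj) (inv_mem hj)) ?_⟩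
    have e : g * j * g⁻¹ * j⁻¹ = g * (j * g⁻¹ * j⁻¹) := by group
    rw [e]
    exact mul_mem hg (cm (hJS hj) (inv_mem hg))
  -- 2-elements of `J` lie in `F`
  have L1 : ∀ c ∈ J, Is2 c → c ∈ F := fun c hcJ h2 => by
    have hz : zpowers c ≤ J := zpowers_le.2 hcJ
    refine fj c hcJ (le_cent hF2 h0 hc tr (P := zpowers c) ?_ (hz.trans hJN) ?_ (mem_zpowers c))
    · obtain ⟨m, hm⟩ := h2
      refine isPGroup_iff.2 ?_
      rintro _ ⟨k, rfl⟩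
      exact ⟨m, by
        show (c ^ k) ^ 2 ^ m = 1
        rw [← zpow_natCast, ← zpow_mul, mul_comm, zpow_mul, zpow_natCast, hm, one_zpow]⟩
    · intro g hg x hx
      refine ⟨x, hx, (g⁻¹ * x⁻¹ * g⁻¹⁻¹ * x⁻¹⁻¹)⁻¹, inv_mem ?_, by group⟩
      exact (hSD (inv_mem hg)).2 _ (inv_mem (hz hx))
  have four : ∀ c : G, c * c ∈ F → c ^ 2 ^ 2 = 1 := fun c h => by
    have := hF _ h
    calc c ^ 2 ^ 2 = c * c * (c * c) := by norm_num [pow_succ, mul_assoc]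
      _ = 1 := this
  -- the 2-elements of `R ⊓ DD`
  let Q : Subgroup G :=
    { carrier := {x | x ∈ R ∧ x ∈ DD F J ∧ x * x ∈ F}
      one_mem' := ⟨one_mem _, one_mem _, by simp⟩
      mul_mem' := by
        rintro x y ⟨hx, hxD, hx2⟩ ⟨hy, hyD, hy2⟩
        refine ⟨mul_mem hx hy, mul_mem hxD hyD, ?_⟩
        have hcJ := comm x hx y hy
        have h1 : x * x * (y * (x * x)⁻¹ * y⁻¹) ∈ F := mul_mem hx2 (cm hyD.1 (inv_mem hx2))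
        have h2 := hxD.2 _ hcJ
        have h3 : (x * y * x⁻¹ * y⁻¹) * (x * y * x⁻¹ * y⁻¹) ∈ F := by
          have e : (x * y * x⁻¹ * y⁻¹) * (x * y * x⁻¹ * y⁻¹) =
              (x * (x * y * x⁻¹ * y⁻¹) * x⁻¹ * (x * y * x⁻¹ * y⁻¹)⁻¹)⁻¹ *
                (x * x * (y * (x * x)⁻¹ * y⁻¹)) := by group
          rw [e]
          exact mul_mem (inv_mem h2) h1
        have h4 : x * y * x⁻¹ * y⁻¹ ∈ F := L1 _ hcJ ⟨2, four _ h3⟩
        have e : x * y * (x * y) = x * (x * y * x⁻¹ * y⁻¹)⁻¹ * x⁻¹ * (x * x) * (y * y) := by group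
        rw [e]
        exact mul_mem (mul_mem (cm hxD.1 (inv_mem h4)) hx2) hy2
      inv_mem' := by
        rintro x ⟨hx, hxD, hx2⟩
        refine ⟨inv_mem hx, inv_mem hxD, ?_⟩
        rw [← mul_inv_rev]
        exact inv_mem hx2 }
  have hQ : Q ≤ C[F] := by
    refine le_cent hF2 h0 hc tr (isPGroup_iff.2 fun x hx => ⟨2, four x hx.2.2⟩)
      (fun x hx => hx.2.1.1) fun g hg x hx => ⟨g⁻¹ * x * g, ⟨cm' (hNR (hSN hg)) hx.1, ?_, ?_⟩, 1,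
        one_mem _, (mul_one _).symm⟩
    · have := conj_DD hNJ (inv_mem (hSN hg)) hx.2.1
      rwa [inv_inv] at this
    · have e : g⁻¹ * x * g * (g⁻¹ * x * g) = g⁻¹ * (x * x) * g := by group
      rw [e]
      exact cm' (hSN hg) hx.2.2
  set d := s * r * s⁻¹ * r⁻¹ with hd
  have hdR : d ∈ R := mul_mem (cm (hNR (hSN hs)) hr) (inv_mem hr)
  have hdD : d ∈ DD F J := by
    have e : d = s * (r * s⁻¹ * r⁻¹) := by rw [hd]; group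
    rw [e]
    exact mul_mem (hSD hs) (conj_DD hNJ (hR hr) (hSD (inv_mem hs)))
  obtain ⟨k, m, hm, e⟩ := Nat.exists_eq_two_pow_mul_odd (orderOf_pos d).ne'
  have h2 : Is2 (d ^ m * d ^ m) := ⟨k, by
    rw [← pow_two, ← pow_mul, ← pow_mul,
      show m * (2 * 2 ^ k) = 2 ^ k * m * 2 by ring, ← e, pow_mul, pow_orderOf_eq_one, one_pow]⟩
  have hq : d ^ m ∈ Q := ⟨pow_mem hdR m, pow_mem hdD m, L1 _ (sq _ (pow_mem hdR m)) h2⟩
  refine ⟨d ^ m, hq.1, hQ hq, fun h => hsr ?_⟩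
  obtain ⟨n, rfl⟩ := hm
  rw [pow_succ, pow_mul, pow_two] at h
  exact (J.mul_mem_cancel_left (pow_mem (sq d hdR) n)).1 h

theorem p6 : P6Stmt.{u, v} := by
  intro G Ω _ _ _ _ _ NN q EE k h a F R hP hR x hx
  have st := h.pl.st
  have haF : a ∈ Fx Ω F := hP.mem st
  by_cases hxa : a = x
  · exact ⟨1, one_mem _, one_mem _, by rw [one_smul, hxa]⟩
  obtain ⟨y, hay, hA⟩ := id hP
  have hSN : SS (NN a) q F ≤ N[F] :=
    SS_le fun E hE => le_sup_left.trans ((st.kit a).ka.nE hE)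
  have h0 : F ≠ ⊥ := fun e => hA.inf (by rw [e, inf_bot_eq])
  obtain ⟨s, hs, hsJ⟩ := SetLike.not_le_iff_exists.1 (h.p3b.nJ hP)
  rw [mem_JJ] at hsJ
  push Not at hsJ
  obtain ⟨p, hp, hsp⟩ := hsJ
  obtain ⟨r, hr, rfl⟩ := hR.tr a haF p hp
  have hsa : s • a = a := st.fix a (SS_le_N hs)
  have hsr : s * r * s⁻¹ * r⁻¹ ∉ JJ Ω F := fun hj => hsp (by
    have := mem_JJ.1 hj _ hp
    rwa [mul_smul, inv_smul_smul, mul_smul, inv_smul_eq_iff.2 hsa.symm, mul_smul] at this)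
  obtain ⟨c, hcR, hcC, hcJ⟩ := exists_cent hP.vx.sq h0 (fun _ hx _ hy => hP.vx.comm hx hy)
    ((st.kit a).l3.fd hA).trS hSN
    (fun j hj => mem_norm_SS (st.norm (mem_JJ.1 hj a haF)) (h.p2a.nJ hP hj))
    (norm_le_norm_JJ F) (h.p2a.nJ hP) (h.p3b.jS hP) (h.p2a.fj hP) hR.le hR.nrm hR.sq hR.comm
    hs hr hsr
  rw [mem_JJ] at hcJ
  push Not at hcJ
  obtain ⟨w, hw, hcw⟩ := hcJ
  obtain ⟨g, hg, h1, h2⟩ := h.p3b.tr2 hP w hw (c • w) (smul_mem_Fx_of (hR.le hcR) hw) a haF x hx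
    (Ne.symm hcw) hxa
  refine ⟨g * c * g⁻¹, cm (hR.nrm hg) hcR, cm (normalizer_le_normalizer_centralizer _ hg) hcC, ?_⟩
  rw [mul_smul, mul_smul, inv_smul_eq_iff.2 h1.symm, h2]

end Cfsg.Agent.H76.HlP6
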