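import Cfsg.Agent.Lead.A9Defs

/-!
# Standard subgroup `A₉`: the element `s t` is not conjugate to `t`
-/

set_option autoImplicit false

namespace Cfsg.Agent.H76.A9Nb

open Cfsg Cfsg.Agent.H63 Cfsg.Agent.H63.SL Cfsg.Agent.Lead.A9 Subgroup
open Equiv (swap)
open Equiv.Perm (sign)

universe u

/-! ### Finite facts -/

/-- The five-cycle `(0 1 2 3 4)` and its inverse. -/
def p5 : Fin 9 → Fin 9 := ![1, 2, 3, 4, 0, 5, 6, 7, 8]
def q5 : Fin 9 → Fin 9 := ![4, 0, 1, 2, 3, 5, 6, 7, 8]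

def c5 : S8 := ⟨p5, q5, by decide, by decide⟩

def Chk (a : Fin 9 → Fin 9) : Prop :=
  (∀ i, a (p5 (a (q5 i))) = p5 (a (q5 (a i)))) →
    (∀ i, a (p5 (p5 (a (q5 (q5 i))))) = p5 (p5 (a (q5 (q5 (a i)))))) → ∀ i, a (p5 i) = p5 (a i)

instance (a : Fin 9 → Fin 9) : Decidable (Chk a) := by unfold Chk; infer_instance

set_option synthInstance.maxSize 8192 in
set_option synthInstance.maxHeartbeats 400000 in
theorem fin5 : ∀ x0 : Fin 9, ∀ x1 : Fin 9, (x1 ≠ x0 ∧ (x0 = 1 ↔ x1 = 0)) →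
    ∀ x2 : Fin 9, (x2 ≠ x0 ∧ (x0 = 2 ↔ x2 = 0) ∧ x2 ≠ x1 ∧ (x1 = 2 ↔ x2 = 1)) →
    ∀ x3 : Fin 9, (x3 ≠ x0 ∧ (x0 = 3 ↔ x3 = 0) ∧ x3 ≠ x1 ∧ (x1 = 3 ↔ x3 = 1) ∧ x3 ≠ x2 ∧ (x2 = 3 ↔ x3 = 2)) →
    ∀ x4 : Fin 9, (x4 ≠ x0 ∧ (x0 = 4 ↔ x4 = 0) ∧ x4 ≠ x1 ∧ (x1 = 4 ↔ x4 = 1) ∧ x4 ≠ x2 ∧ (x2 = 4 ↔ x4 = 2) ∧ x4 ≠ x3 ∧ (x3 = 4 ↔ x4 = 3)) →
    ∀ x5 : Fin 9, (x5 ≠ x0 ∧ (x0 = 5 ↔ x5 = 0) ∧ x5 ≠ x1 ∧ (x1 = 5 ↔ x5 = 1) ∧ x5 ≠ x2 ∧ (x2 = 5 ↔ x5 = 2) ∧ x5 ≠ x3 ∧ (x3 = 5 ↔ x5 = 3) ∧ x5 ≠ x4 ∧ (x4 = 5 ↔ x5 = 4)) →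
    ∀ x6 : Fin 9, (x6 ≠ x0 ∧ (x0 = 6 ↔ x6 = 0) ∧ x6 ≠ x1 ∧ (x1 = 6 ↔ x6 = 1) ∧ x6 ≠ x2 ∧ (x2 = 6 ↔ x6 = 2) ∧ x6 ≠ x3 ∧ (x3 = 6 ↔ x6 = 3) ∧ x6 ≠ x4 ∧ (x4 = 6 ↔ x6 = 4) ∧ x6 ≠ x5 ∧ (x5 = 6 ↔ x6 = 5)) →
    ∀ x7 : Fin 9, (x7 ≠ x0 ∧ (x0 = 7 ↔ x7 = 0) ∧ x7 ≠ x1 ∧ (x1 = 7 ↔ x7 = 1) ∧ x7 ≠ x2 ∧ (x2 = 7 ↔ x7 = 2) ∧ x7 ≠ x3 ∧ (x3 = 7 ↔ x7 = 3) ∧ x7 ≠ x4 ∧ (x4 = 7 ↔ x7 = 4) ∧ x7 ≠ x5 ∧ (x5 = 7 ↔ x7 = 5) ∧ x7 ≠ x6 ∧ (x6 = 7 ↔ x7 = 6)) →
    ∀ x8 : Fin 9, (x8 ≠ x0 ∧ (x0 = 8 ↔ x8 = 0) ∧ x8 ≠ x1 ∧ (x1 = 8 ↔ x8 = 1) ∧ x8 ≠ x2 ∧ (x2 = 8 ↔ x8 = 2) ∧ x8 ≠ x3 ∧ (x3 = 8 ↔ x8 = 3) ∧ x8 ≠ x4 ∧ (x4 = 8 ↔ x8 = 4) ∧ x8 ≠ x5 ∧ (x5 = 8 ↔ x8 = 5) ∧ x8 ≠ x6 ∧ (x6 = 8 ↔ x8 = 6) ∧ x8 ≠ x7 ∧ (x7 = 8 ↔ x8 = 7)) →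
    Chk ![x0, x1, x2, x3, x4, x5, x6, x7, x8] := by
  decide +kernel

theorem five0 (a : S8) (h : a * a = 1) (h1 : Commute a (c5 * a * c5⁻¹))
    (h2 : Commute a (c5 * (c5 * a * c5⁻¹) * c5⁻¹)) : Commute a c5 := by
  have ha : ∀ i, a (a i) = i := fun i => congrArg (fun p : S8 => p i) h
  have hn : ∀ i j : Fin 9, i ≠ j → a i ≠ a j := fun i j e => a.injective.ne e
  have hi : ∀ i j : Fin 9, a i = j ↔ a j = i := fun i j =>
    ⟨fun e => by rw [← e, ha], fun e => by rw [← e, ha]⟩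
  have H := fin5 (a 0)
    (a 1) ⟨hn 1 0 (by decide), hi 0 1⟩
    (a 2) ⟨hn 2 0 (by decide), hi 0 2, hn 2 1 (by decide), hi 1 2⟩
    (a 3) ⟨hn 3 0 (by decide), hi 0 3, hn 3 1 (by decide), hi 1 3, hn 3 2 (by decide), hi 2 3⟩
    (a 4) ⟨hn 4 0 (by decide), hi 0 4, hn 4 1 (by decide), hi 1 4, hn 4 2 (by decide), hi 2 4, hn 4 3 (by decide), hi 3 4⟩
    (a 5) ⟨hn 5 0 (by decide), hi 0 5, hn 5 1 (by decide), hi 1 5, hn 5 2 (by decide), hi 2 5, hn 5 3 (by decide), hi 3 5, hn 5 4 (by decide), hi 4 5⟩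
    (a 6) ⟨hn 6 0 (by decide), hi 0 6, hn 6 1 (by decide), hi 1 6, hn 6 2 (by decide), hi 2 6, hn 6 3 (by decide), hi 3 6, hn 6 4 (by decide), hi 4 6, hn 6 5 (by decide), hi 5 6⟩
    (a 7) ⟨hn 7 0 (by decide), hi 0 7, hn 7 1 (by decide), hi 1 7, hn 7 2 (by decide), hi 2 7, hn 7 3 (by decide), hi 3 7, hn 7 4 (by decide), hi 4 7, hn 7 5 (by decide), hi 5 7, hn 7 6 (by decide), hi 6 7⟩
    (a 8) ⟨hn 8 0 (by decide), hi 0 8, hn 8 1 (by decide), hi 1 8, hn 8 2 (by decide), hi 2 8, hn 8 3 (by decide), hi 3 8, hn 8 4 (by decide), hi 4 8, hn 8 5 (by decide), hi 5 8, hn 8 6 (by decide), hi 6 8, hn 8 7 (by decide), hi 7 8⟩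
  have e : ![a 0, a 1, a 2, a 3, a 4, a 5, a 6, a 7, a 8] = a := by
    funext i; fin_cases i <;> rfl
  rw [e] at H
  exact Equiv.ext (H (fun i => congrArg (fun p : S8 => p i) h1.eq)
    fun i => congrArg (fun p : S8 => p i) h2.eq)

theorem conj5 {p : S8} (h : p ^ 5 = 1) (h1 : p ≠ 1) : p.cycleType = {5} := by
  have : Fact (Nat.Prime 5) := ⟨by norm_num⟩
  have ho := orderOf_eq_prime h h1
  obtain ⟨n, hn⟩ := Equiv.Perm.cycleType_prime_order (σ := p) (ho ▸ this.out)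
  have hs := p.sum_cycleType_le
  rw [hn, ho, Multiset.sum_replicate, Fintype.card_fin, smul_eq_mul] at hs
  obtain rfl : n = 0 := by omega
  rw [hn, ho]; rfl

theorem five (p a : S8) (h : a * a = 1) (h5 : Commute a (p ^ 5)) (h1 : Commute a (p * a * p⁻¹))
    (h2 : Commute a (p * (p * a * p⁻¹) * p⁻¹)) : Commute a p := by
  have hc : p ^ 362880 = 1 := by
    have := pow_card_eq_one (x := p)
    rwa [Fintype.card_perm, Fintype.card_fin] at this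
  obtain ⟨r, hr⟩ : ∃ r, r = (p ^ 5) ^ 14515 := ⟨_, rfl⟩
  have har : Commute a r := hr ▸ h5.pow_right _
  have hpr : Commute p r := hr ▸ ((Commute.refl p).pow_right _).pow_right _
  have hq : (p * r) ^ 5 = 1 := by
    rw [hr, ← pow_mul, ← pow_succ', ← pow_mul, show (5 * 14515 + 1) * 5 = 362880 * 1 from rfl,
      pow_mul, hc, one_pow]
  have e1 : p * r * a * (p * r)⁻¹ = p * a * p⁻¹ := by
    rw [mul_assoc p, ← har.eq]; group
  have e2 : p * r * (p * a * p⁻¹) * (p * r)⁻¹ = p * (p * a * p⁻¹) * p⁻¹ := by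
    rw [mul_assoc p r, ((hpr.mul_left har).mul_left hpr.inv_left).eq.symm]; group
  suffices H : Commute a (p * r) by simpa using H.mul_right har.inv_right
  rw [← e2, ← e1] at h2
  rw [← e1] at h1
  generalize p * r = q at hq h1 h2
  by_cases hq1 : q = 1
  · rw [hq1]; exact Commute.one_right a
  obtain ⟨u, hu⟩ := isConj_iff.1 (Equiv.Perm.isConj_iff_cycleType_eq.2
    ((conj5 hq hq1).trans (conj5 (p := c5) (by decide) (by decide)).symm))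
  have H := five0 (u * a * u⁻¹) (by rw [conj_mul, h, mul_one, mul_inv_cancel])
    (by have := h1.map (MulAut.conj u); simp only [map_mul, map_inv, MulAut.conj_apply, hu] at this
        exact this)
    (by have := h2.map (MulAut.conj u); simp only [map_mul, map_inv, MulAut.conj_apply, hu] at this
        exact this)
  rw [← hu] at H
  exact Commute.of_map (f := MulAut.conj u) (MulAut.conj u).injective H

theorem vv_xor : ∀ a b : Fin 16, vv (a ^^^ b) = vv a * vv b := by decide +kernel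

theorem vv_sq : ∀ a : Fin 16, vv a * vv a = 1 := by decide +kernel

theorem vv_comm (a b : Fin 16) : Commute (vv a) (vv b) := by
  have : ∀ a b : Fin 16, a ^^^ b = b ^^^ a := by decide
  rw [Commute, SemiconjBy, ← vv_xor, ← vv_xor, this]

def sa : Fin 16 → Fin 16 := ![0, 1, 7, 6, 4, 5, 3, 2, 13, 12, 10, 11, 9, 8, 14, 15]

theorem vv_sa : ∀ k : Fin 16, w ^ (k.1 % 2) * (v * z) ^ (k.1 / 2 % 2) * w2 ^ (k.1 / 4 % 2) *
    (c * z) ^ (k.1 / 8) = vv (sa k) := by decide +kernel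

def h1 : Alt := ev 2 3 5 6
def h2 : Alt := ev 0 3 4 6
def h3 : Alt := ev 0 6 6 3 * ev 3 7 7 2 * ev 2 5 1 4
def a0 : Alt := ev 0 1 6 7

def t1 : Fin 16 → Fin 16 := ![0, 1, 3, 2, 8, 9, 11, 10, 4, 5, 7, 6, 12, 13, 15, 14]
def t2 : Fin 16 → Fin 16 := ![0, 2, 1, 3, 12, 14, 13, 15, 8, 10, 9, 11, 4, 6, 5, 7]
def t3 : Fin 16 → Fin 16 := ![0, 8, 12, 4, 1, 9, 13, 5, 2, 10, 14, 6, 3, 11, 15, 7]
def ty : Fin 16 → Fin 16 := ![0, 4, 8, 12, 1, 5, 9, 13, 2, 6, 10, 14, 3, 7, 11, 15]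
def t56 : Fin 16 → Fin 16 := ![0, 1, 2, 3, 8, 9, 10, 11, 4, 5, 6, 7, 12, 13, 14, 15]
def t0 : Fin 16 → Fin 16 := ![0, 1, 3, 2, 4, 5, 7, 6, 12, 13, 15, 14, 8, 9, 11, 10]

theorem tb1 : ∀ k, h1 * vv k * h1⁻¹ = vv (t1 k) := by decide +kernel
theorem tb2 : ∀ k, h2 * vv k * h2⁻¹ = vv (t2 k) := by decide +kernel
theorem tb3 : ∀ k, h3 * vv k * h3⁻¹ = vv (t3 k) := by decide +kernel
theorem tby : ∀ k, y * vv k * y⁻¹ = vv (ty k) := by decide +kernel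
theorem tbz : ∀ k, z * vv k * z⁻¹ = vv (id k) := by decide +kernel
theorem tb56 : ∀ k, swap 5 6 * (vv k).1 * (swap 5 6)⁻¹ = (vv (t56 k)).1 := by decide +kernel
theorem tb0 : ∀ k, a0.1 * (vv k).1 * a0.1⁻¹ = (vv (t0 k)).1 := by decide +kernel

theorem wtype : ∀ k, a0 * vv k * (a0 * vv k) = 1 → ∃ b ∈ [ev 0 4 1 5, ev 2 4 3 5, ev 0 6 1 7,
    ev 2 6 3 7], b * (a0 * vv k) * b⁻¹ = w2 := by decide +kernel

/-! ### The action on `⟨t⟩ × V × V` -/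

variable {G : Type u} [Group G] {ι : Alt →* G} {π : G → S8} {t : G}

variable (ι t) in
/-- `g` acts through the table `σ` and moves `t` by `u`. -/
structure Act (g : G) (σ : Fin 16 → Fin 16) (u : Fin 16) : Prop where
  a : ∀ k, g * ι (vv k) * g⁻¹ = ι (vv (σ k))
  t : g * t * g⁻¹ = t * ι (vv u)

theorem Act.mul {g g' : G} {σ σ' : Fin 16 → Fin 16} {u u' : Fin 16} (h : Act ι t g σ u)
    (h' : Act ι t g' σ' u') : Act ι t (g * g') (σ ∘ σ') (u ^^^ σ u') where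
  a k := by
    rw [Function.comp, ← h.a, ← h'.a]; group
  t := by
    rw [vv_xor, map_mul, ← mul_assoc, ← h.t, ← h.a, conj_mul, ← h'.t]; group

theorem Act.cast {g : G} {σ σ' : Fin 16 → Fin 16} {u u' : Fin 16} (h : Act ι t g σ u)
    (e : ∀ k, σ k = σ' k) (e' : u = u') : Act ι t g σ' u' := by
  obtain rfl : σ = σ' := funext e
  exact e' ▸ h

theorem vv0 : vv 0 = 1 := by decide +kernel

theorem act_ι (h : Hb ι π t) {a : Alt} {σ : Fin 16 → Fin 16}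
    (H : ∀ k, a * vv k * a⁻¹ = vv (σ k)) : Act ι t (ι a) σ 0 where
  a k := by rw [← H, map_mul, map_mul, map_inv]
  t := by rw [vv0, map_one, mul_one, (h.tc a).eq, mul_inv_cancel_right]

theorem act_t (h : Hb ι π t) : Act ι t t id 0 where
  a k := by rw [← (h.tc _).eq, mul_inv_cancel_right, id]
  t := by rw [vv0, map_one, mul_one, mul_inv_cancel_right]

theorem act_s (h : Hb ι π t) {s : G} (H : HS0 ι t s) : Act ι t s sa 5 := by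
  have hz : Commute s (ι z) := H.sq ▸ (Commute.refl s).mul_right (Commute.refl s)
  have e1 : s * ι w * s⁻¹ = ι w := by
    rw [show w = z * w2 by decide +kernel, map_mul, (hz.mul_right H.cw).eq, mul_inv_cancel_right]
  have e2 : s * ι w2 * s⁻¹ = ι w2 := by rw [H.cw.eq, mul_inv_cancel_right]
  have e3 : s * ι c * s⁻¹ = ι (c * z) := by
    rw [show c * z = z * c by decide +kernel, map_mul, ← H.sq, mul_assoc s s]
    calc s * ι c * s⁻¹ = s * ((ι c * s * (ι c)⁻¹)⁻¹ * ι c) := by group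
      _ = _ := by rw [H.cs, inv_inv]
  have e4 : s * ι v * s⁻¹ = ι (v * z) := by
    rw [show v * z = x2 * (c * z) by decide +kernel, show v = x2 * c by decide +kernel,
      map_mul ι x2 (c * z), ← e3, map_mul, ← mul_assoc, H.cx.eq]
    group
  refine ⟨fun k => ?_, ?_⟩
  · have e5 : ∀ a b : Alt, s * ι a * s⁻¹ = ι b → ∀ n : ℕ, s * ι (a ^ n) * s⁻¹ = ι (b ^ n) :=
      fun a b e n => by rw [map_pow, map_pow, ← e, conj_pow]
    rw [← vv_sa, vv, map_mul, map_mul, map_mul, map_mul, map_mul, map_mul, ← conj_mul, ← conj_mul,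
      ← conj_mul, e5 _ _ e1, e5 _ _ e2, e5 _ _ e3, e5 _ _ e4]
  · rw [show vv 5 = z by decide +kernel, ← (h.tc z).eq, ← H.sq, mul_assoc s s]
    calc s * t * s⁻¹ = s * ((t * s * t⁻¹)⁻¹ * t) := by group
      _ = _ := by rw [H.ts, inv_inv]

theorem Act.pi (f : F8) (h : Hb ι π t) {g : G} {σ : Fin 16 → Fin 16} (H : Act ι t g σ 0) {p : S8}
    (hp : ∀ k, p * (vv k).1 * p⁻¹ = (vv (σ k)).1) :
    Commute g t ∧ ∃ k, π g = p * (vv k).1 := by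
  have hg : Commute g t := by
    have := H.t
    rw [vv0, map_one, mul_one] at this
    exact mul_inv_eq_iff_eq_mul.1 this
  have e : ∀ k, Commute (p⁻¹ * π g) (vv k).1 := fun k => by
    have e1 : π g * (vv k).1 * (π g)⁻¹ = p * (vv k).1 * p⁻¹ :=
      (congrArg Subtype.val (h.inj ((h.act g hg _).symm.trans (H.a k)))).trans (hp k).symm
    calc p⁻¹ * π g * (vv k).1 = p⁻¹ * (π g * (vv k).1 * (π g)⁻¹) * π g := by group
      _ = _ := by rw [e1]; group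
  obtain ⟨k, hk⟩ := f.cVV (p⁻¹ * π g) (by simpa only [show vv 1 = w by decide +kernel] using e 1)
    (by simpa only [show vv 2 = v by decide +kernel] using e 2)
    (by simpa only [show vv 4 = w2 by decide +kernel] using e 4)
    (by simpa only [show vv 8 = c by decide +kernel] using e 8)
  exact ⟨hg, k, by rw [← hk, mul_inv_cancel_left]⟩

/-- An element of `C(t)` inducing an odd permutation. -/
theorem odd (f : F8) (h : Hb ι π t) {s : G} (H : HS0 ι t s) :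
    ∃ g, Commute g t ∧ sign (π g) = -1 := by
  have S := act_s h H
  have A := act_ι h tb1
  obtain ⟨hg, k, hk⟩ := (((((S.mul A).mul S).mul A).mul S).cast (σ' := t56) (u' := 0) (by decide)
    (by decide)).pi f h tb56
  refine ⟨_, hg, ?_⟩
  rw [hk, map_mul, Equiv.Perm.sign_swap (by decide), Equiv.Perm.mem_alternatingGroup.1 (vv k).2,
    mul_one]

/-- The element `t w₂` is not conjugate to `t`. -/
theorem nw (h : Hy ι π t) (k : Kit ι π t) {s : G} (H : HS0 ι t s) : ¬ IsConj t (t * ι w2) := by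
  intro hc
  obtain ⟨g, hg⟩ := isConj_iff.1 hc
  have F := (act_s h.toHb H).mul (act_ι h.toHb tb3)
  generalize s * ι h3 = f at F
  obtain ⟨ψ, hψ⟩ := k.hom
  have key : ∀ x, Commute x (t * ι w2) → Commute (g⁻¹ * x * g) t := fun x hx => by
    have := hx.map (MulAut.conj g⁻¹)
    simp only [MulAut.conj_apply, inv_inv, ← hg] at this
    simpa only [← mul_assoc, inv_mul_cancel, one_mul, inv_mul_cancel_right] using this
  have e4 : vv 4 = w2 := by decide +kernel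
  have c1 : ∀ j, Commute (g⁻¹ * ι (vv j) * g) t := fun j =>
    key _ ((h.tc _).mul_right (e4 ▸ (vv_comm j 4).map ι))
  have c2 : Commute (g⁻¹ * f * g) t := key _ (mul_inv_eq_iff_eq_mul.1 (by
    rw [← conj_mul, F.t, ← e4, F.a, mul_assoc, ← map_mul, ← vv_xor]
    rfl))
  let X : Fin 16 → C1[t] := fun j => ⟨_, mem_centralizer_singleton_iff.2 (c1 j).eq⟩
  let Y : C1[t] := ⟨_, mem_centralizer_singleton_iff.2 c2.eq⟩
  have m1 : ∀ i j, X (i ^^^ j) = X i * X j := fun i j => Subtype.ext (by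
    change g⁻¹ * ι (vv (i ^^^ j)) * g = g⁻¹ * ι (vv i) * g * (g⁻¹ * ι (vv j) * g)
    rw [vv_xor, map_mul]; group)
  have m0 : X 0 = 1 := Subtype.ext (by
    change g⁻¹ * ι (vv 0) * g = 1
    rw [vv0, map_one]; group)
  have m2 : ∀ j, ψ Y * ψ (X j) * (ψ Y)⁻¹ = ψ (X ((sa ∘ t3) j)) := fun j => by
    rw [← map_inv, ← map_mul, ← map_mul]
    refine congrArg ψ (Subtype.ext ?_)
    change g⁻¹ * f * g * (g⁻¹ * ι (vv j) * g) * (g⁻¹ * f * g)⁻¹ = g⁻¹ * ι (vv _) * g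
    rw [← F.a]; group
  have m3 : ∀ i j, Commute (ψ (X i)) (ψ (X j)) := fun i j => by
    have : ∀ a b : Fin 16, a ^^^ b = b ^^^ a := by decide
    rw [Commute, SemiconjBy, ← map_mul, ← map_mul, ← m1, ← m1, this]
  have m4 : ψ (X 1) * ψ (X 1) = 1 := by
    rw [← map_mul, ← m1, show (1 : Fin 16) ^^^ 1 = 0 from rfl, m0, map_one]
  have m5 : Commute (ψ (X 1)) (ψ Y ^ 5) := by
    refine (mul_inv_eq_iff_eq_mul.1 ?_ : Commute (ψ Y ^ 5) _).symm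
    calc _ = ψ Y * (ψ Y * (ψ Y * (ψ Y * (ψ Y * ψ (X 1) * (ψ Y)⁻¹) * (ψ Y)⁻¹) * (ψ Y)⁻¹) *
          (ψ Y)⁻¹) * (ψ Y)⁻¹ := by
          simp only [pow_succ, pow_zero, one_mul, mul_inv_rev, mul_assoc]
      _ = _ := by rw [m2, m2, m2, m2, m2]; rfl
  have m6 := five (ψ Y) (ψ (X 1)) m4 m5 (by rw [m2]; exact m3 _ _) (by rw [m2, m2]; exact m3 _ _)
  have m7 : ψ (X 12) = 1 := by
    rw [show (12 : Fin 16) = 1 ^^^ (sa ∘ t3) 1 from rfl, m1, map_mul, ← m2, ← m6.eq,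
      mul_inv_cancel_right, m4]
  have m8 : (g⁻¹ * ι (vv 12) * g) ^ 2 ^ 1 = 1 := by
    rw [pow_one, sq]
    have := congrArg Subtype.val ((m1 12 12).symm.trans m0)
    exact this
  rcases h.r2 _ (c1 12) ((hψ _).symm.trans m7) ⟨1, m8⟩ with e | e
  · have e1 : ι (vv 12) = ι 1 := by
      calc ι (vv 12) = g * (g⁻¹ * ι (vv 12) * g) * g⁻¹ := by group
        _ = _ := by rw [e, mul_one, mul_inv_cancel, map_one]
    exact absurd (h.inj e1) (by decide +kernel)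
  · refine k.tn (vv 12 * w2⁻¹) ?_
    rw [map_mul, map_inv, mul_inv_eq_iff_eq_mul, ← hg, ← e]; group

/-- **NB + ODD** -/
theorem nb : NBStmt.{u} := by
  intro f G _ _ ι π t h k φ N
  refine ⟨fun hc => nw h k N.hs ?_, odd f h.toHb N.hs⟩
  have H := N.hs
  have e0 : φ (0, 0, 1) * (φ (1, 0, 0) * t) * (φ (0, 0, 1))⁻¹ = φ (1, 0, 0) * t * ι y := by
    have e1 : φ (0, 0, 1) * φ (1, 0, 0) * φ (0, 0, 1) = φ (1, 0, 0) * ι y := by
      rw [← N.r2, ← N.add, ← N.add, ← N.add]; rfl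
    have e2 : φ (0, 0, 1) * φ (-(0, 0, 1)) = 1 := by
      have e3 := N.add 0 0
      rw [add_zero, left_eq_mul] at e3
      rw [← N.add, add_neg_cancel, e3]
    have e3 : t * φ (-(0, 0, 1)) * t⁻¹ = φ (0, 0, 1) := by rw [N.mt, neg_neg]
    rw [mul_assoc _ t, ← (h.tc y).eq, ← mul_assoc _ (ι y), ← e1, inv_eq_of_mul_eq_one_right e2]
    nth_rewrite 3 [← e3]
    group
  generalize φ (1, 0, 0) = s at hc H e0
  have S := act_s h.toHb H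
  have A := act_ι h.toHb tb2
  have e1 : (ι h2 * s * ι h2)⁻¹ = ι h2 * (s * ι z) * ι h2 := by
    have e2 : (ι h2)⁻¹ = ι h2 := by rw [← map_inv, show h2⁻¹ = h2 by decide +kernel]
    have e3 : s⁻¹ = s * ι z := inv_eq_of_mul_eq_one_right (by
      rw [← mul_assoc, H.sq, ← map_mul, show z * z = 1 by decide +kernel, map_one])
    rw [mul_inv_rev, mul_inv_rev, e2, e3, ← mul_assoc]
  have D := ((((A.mul S).mul A).mul ((S.mul (act_t h.toHb)).mul (act_ι h.toHb tby))).mul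
    ((A.mul (S.mul (act_ι h.toHb tbz))).mul A)).cast (σ' := t0) (u' := 0) (by decide) (by decide)
  rw [← e1] at D
  have hd : IsConj t (ι h2 * s * ι h2 * (s * t * ι y) * (ι h2 * s * ι h2)⁻¹) :=
    (hc.trans (isConj_iff.2 ⟨_, e0⟩)).trans (isConj_iff.2 ⟨_, rfl⟩)
  generalize ι h2 * s * ι h2 * (s * t * ι y) * (ι h2 * s * ι h2)⁻¹ = d at D hd
  obtain ⟨hg, j, hj⟩ := D.pi f h.toHb tb0
  have d2 : d * d = 1 := by
    obtain ⟨g, rfl⟩ := isConj_iff.1 hd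
    rw [conj_mul, h.t2, mul_one, mul_inv_cancel]
  rcases k.ev d hg ⟨1, by rw [pow_one, sq, d2]⟩ (a0 * vv j) hj with e | e
  · exact absurd (e ▸ hd) (k.nl _)
  obtain ⟨b, -, hb⟩ := wtype j (Subtype.ext (by
    have := h.mul d d hg hg
    rw [d2, k.one, hj] at this
    exact this.symm))
  refine hd.trans (isConj_iff.2 ⟨ι b, ?_⟩)
  rw [e, ← hb, map_mul ι _ b⁻¹, map_mul ι b, map_inv, ← mul_assoc, (h.tc b).eq]
  simp only [mul_assoc]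

end Cfsg.Agent.H76.A9Nb
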