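import Mathlib
import Cfsg.Agent.H74.CksDefs

/-!
# Windows with commuting first and third root group are covered
-/

set_option autoImplicit false

namespace Cfsg.Agent.H76.CksQf1

open Cfsg.Agent.H35 Cfsg.Agent.Lead.T3 Cfsg.Agent.H74.Cks

section QD

variable {F : Type} [Field F] {Y : Type} [Group Y] (d : QD F Y)

theorem sm_one' (t : F) : d.sm t 1 = 1 := by
  have h := d.sm_mul t 1 1
  rw [mul_one] at h
  exact mul_eq_left.1 h.symm

theorem B_one (y : Y) : d.Bf y 1 = 0 := by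
  have h := d.B_right y 1 1
  rw [mul_one] at h
  linear_combination -h

theorem Q_one : d.Q 1 = 0 := by
  have h := d.Q_mul 1 1
  rw [mul_one, B_one] at h
  linear_combination -h

theorem B_inv (y y' : Y) : d.Bf y y'⁻¹ = - d.Bf y y' := by
  have h := d.B_right y y' y'⁻¹
  rw [mul_inv_cancel, B_one] at h
  linear_combination -h

variable (hz : ∀ t, d.z t = 1)
include hz

theorem sm_add' (s t : F) (y : Y) : d.sm (s + t) y = d.sm t y * d.sm s y := by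
  rw [d.sm_add, hz, mul_one]

theorem ycomm (y y' : Y) : y * y' = y' * y := by
  have h := d.sm_mul (1 + 1) y y'
  simp only [sm_add' d hz, d.sm_one] at h
  have h2 : y * (y' * y) * y' = y * (y * y') * y' := by
    calc y * (y' * y) * y' = y * y' * (y * y') := by group
      _ = y * y * (y' * y') := h
      _ = _ := by group
  exact (mul_left_cancel (mul_right_cancel h2)).symm

theorem sm_neg (y : Y) : d.sm (-1) y = y⁻¹ := by
  have h := sm_add' d hz 1 (-1) y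
  rw [add_neg_cancel, d.sm_zero, d.sm_one] at h
  exact eq_inv_of_mul_eq_one_left h.symm

theorem B_symm (y y' : Y) : d.Bf y y' = d.Bf y' y := by
  have h1 := d.Q_mul y y'
  have h2 := d.Q_mul y' y
  rw [ycomm d hz y' y] at h2
  linear_combination h2 - h1

theorem key (t : F) (y : Y) : (t + d.σ t) * d.Q y = d.σ t * d.Bf y y := by
  have h := d.Q_sm (1 + t) y
  rw [sm_add' d hz, d.sm_one, d.Q_mul, d.Q_sm, d.B_sml, map_add, map_one] at h
  linear_combination -h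

theorem B_self (y : Y) : d.Bf y y = 2 * d.Q y := by
  have h := key d hz 1 y
  rw [map_one] at h
  linear_combination -h

theorem sigma_id {y : Y} (hy : y ≠ 1) (t : F) : d.σ t = t := by
  have h := key d hz t y
  rw [B_self d hz] at h
  have h0 : d.Q y ≠ 0 := fun h => hy (d.Q_ne y h)
  have : (d.σ t - t) * d.Q y = 0 := by linear_combination -h
  exact sub_eq_zero.1 ((mul_eq_zero.1 this).resolve_right h0)

theorem Q_inv (y : Y) : d.Q y⁻¹ = d.Q y := by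
  rw [← sm_neg d hz, d.Q_sm, map_neg, map_one]; ring

/-- Over the field with three elements: a vector orthogonal to a subgroup of constant norm. -/
theorem exists_perp (h3 : ∀ c : F, c = 0 ∨ c = 1 ∨ c = -1) (h30 : (3 : F) = 0) [Finite Y]
    (hY : 3 < Nat.card Y) {t0 : F} (ht0 : t0 ≠ 0) (W : Subgroup Y)
    (hW : ∀ y ∈ W, y ≠ 1 → d.Q y = t0) :
    ∃ y2, d.Q y2 = t0 ∧ ∀ y ∈ W, d.Bf y y2 = 0 := by
  have h2 : (2 : F) ≠ 0 := fun h => one_ne_zero (by linear_combination h30 - h : (1 : F) = 0)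
  have out : ∀ y : Y, ∃ y', y' ≠ 1 ∧ y' ≠ y ∧ y' ≠ y⁻¹ := by
    intro y
    classical
    by_contra hc
    push Not at hc
    have := Fintype.ofFinite Y
    have hsub : (Finset.univ : Finset Y) ⊆ {1, y, y⁻¹} := by
      intro y' _
      simp only [Finset.mem_insert, Finset.mem_singleton]
      by_cases a1 : y' = 1
      · exact Or.inl a1
      by_cases a2 : y' = y
      · exact Or.inr (Or.inl a2)
      exact Or.inr (Or.inr (hc y' a1 a2))
    have h1 := Finset.card_le_card hsub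
    have h4 : ({1, y, y⁻¹} : Finset Y).card ≤ 3 := Finset.card_le_three
    rw [Finset.card_univ, ← Nat.card_eq_fintype_card] at h1
    omega
  -- constant norm on a subgroup forces it to be cyclic
  have cyc : ∀ (V : Subgroup Y) (c : F), c ≠ 0 → (∀ y ∈ V, y ≠ 1 → d.Q y = c) →
      ∀ y ∈ V, ∀ y' ∈ V, y ≠ 1 → y' = 1 ∨ y' = y ∨ y' = y⁻¹ := by
    intro V c hc hV y hy y' hy' h1
    by_contra hn
    push Not at hn
    obtain ⟨n1, n2, n3⟩ := hn
    have e1 := hV (y' * y) (V.mul_mem hy' hy) (fun h => n3 (eq_inv_of_mul_eq_one_left h))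
    have e2 := hV (y' * y⁻¹) (V.mul_mem hy' (V.inv_mem hy)) (fun h => n2 (mul_inv_eq_one.1 h))
    rw [d.Q_mul, hV y hy h1, hV y' hy' n1] at e1
    rw [d.Q_mul, Q_inv d hz, B_inv, hV y hy h1, hV y' hy' n1] at e2
    exact (mul_ne_zero h2 hc) (by linear_combination e1 + e2)
  have val : ∀ y : Y, y ≠ 1 → d.Q y = t0 ∨ d.Q y = -t0 := by
    intro y hy
    have h0 : d.Q y ≠ 0 := fun h => hy (d.Q_ne y h)
    rcases h3 (d.Q y) with h | h | h
    · exact absurd h h0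
    all_goals
      rcases h3 t0 with h' | h' | h'
      · exact absurd h' ht0
      all_goals simp [h, h']
  have ex1 : ∃ y1, d.Q y1 = t0 ∧ ∀ y ∈ W, y = 1 ∨ y = y1 ∨ y = y1⁻¹ := by
    by_cases hb : ∃ y ∈ W, y ≠ 1
    · obtain ⟨y, hy, h1⟩ := hb
      exact ⟨y, hW y hy h1, fun y' hy' => cyc W t0 ht0 hW y hy y' hy' h1⟩
    · push Not at hb
      by_contra hc
      push Not at hc
      have hall : ∀ y ∈ (⊤ : Subgroup Y), y ≠ 1 → d.Q y = -t0 := by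
        intro y _ hy
        refine (val y hy).resolve_left fun h => ?_
        obtain ⟨y', hy', n1, -⟩ := hc y h
        exact n1 (hb y' hy')
      obtain ⟨y, hy, -⟩ := out 1
      obtain ⟨y', n1, n2, n3⟩ := out y
      rcases cyc ⊤ (-t0) (neg_ne_zero.2 ht0) hall y trivial y' trivial hy with h | h | h
      exacts [n1 h, n2 h, n3 h]
  obtain ⟨y1, hy1, hW1⟩ := ex1
  obtain ⟨y', n1, n2, n3⟩ := out y1
  obtain ⟨m, hm⟩ : ∃ m : F, d.Bf y1 y' + m * (2 * t0) = 0 :=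
    ⟨-d.Bf y1 y' / (2 * t0), by field_simp; ring⟩
  have hp : d.Bf y1 (y' * d.sm m y1) = 0 := by
    rw [d.B_right, d.B_smr, B_self d hz, hy1, hm]
  have hnot : ∀ c : F, y' ≠ d.sm c y1 := by
    intro c hc
    rcases h3 c with h | h | h
    · rw [h, d.sm_zero] at hc; exact n1 hc
    · rw [h, d.sm_one] at hc; exact n2 hc
    · rw [h, sm_neg d hz] at hc; exact n3 hc
  have hinv : ∀ c : F, (d.sm c y1)⁻¹ = d.sm (-c) y1 := by
    intro c
    rw [← sm_neg d hz, d.sm_sm]; simp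
  have hne : y' * d.sm m y1 ≠ 1 := fun h => hnot (-m) (by
    rw [← hinv]; exact eq_inv_of_mul_eq_one_left h)
  refine ⟨y' * d.sm m y1, ?_, ?_⟩
  · refine (val _ hne).resolve_right fun h => ?_
    have h1 : d.Q (y1 * (y' * d.sm m y1)) = 0 := by rw [d.Q_mul, hp, h, hy1]; ring
    have h4 := d.Q_ne _ h1
    refine hnot (-(1 + m)) ?_
    rw [← hinv, sm_add' d hz, d.sm_one]
    refine eq_inv_of_mul_eq_one_left ?_
    rw [← h4, ycomm d hz y1, mul_assoc]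
  · intro y hy
    rcases hW1 y hy with h | h | h
    · rw [h, B_symm d hz, B_one]
    · rw [h, hp]
    · rw [h, B_symm d hz, B_inv, B_symm d hz, hp, neg_zero]

end QD

section Win

variable {G : Type} [Group G] {p n : ℕ} {S : Sys G p n}

/-- The basic facts that are used. -/
structure Fx (S : Sys G p n) : Prop where
  dec : ∀ b ∈ S.B, ∃ u ∈ S.U, ∃ t ∈ S.T, b = u * t
  anti : ∀ J K, J ⊆ K → S.Q K ≤ S.Q J
  QU : ∀ J, S.Q J ≤ S.U
  XQ : ∀ i, S.X i ⊔ S.Q {i} = S.U ∧ S.X i ⊓ S.Q {i} = ⊥ ∧ S.X i ≠ ⊥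
  XJ : ∀ J k, k ∉ J → S.X k ≤ S.Q J
  Pi : ∀ i g, g ∈ S.P {i} ↔ g ∈ S.B ∨ ∃ y ∈ S.X i, ∃ b ∈ S.B, g = y * S.s i * b

/-- The ladder facts that are used. -/
structure Lx (S : Sys G p n) (H : Subgroup G) (i j k : Fin n) : Prop where
  ne : j ≠ k
  inf : S.HJ H {j, k} ⊓ S.U = (H ⊓ S.U) ⊔ S.Q {j, k}
  tr : ∀ J, ∀ g ∈ S.P J, ∃ h ∈ H ⊓ S.P J, ∃ b ∈ S.B, g = h * b
  tor : S.T ⊓ (S.L i ⊔ S.L j) ≤ H
  full : S.Full H {j}

theorem nP {J : Finset (Fin n)} {g r : G} (hg : g ∈ S.P J) (hr : r ∈ S.Q J) :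
    g * r * g⁻¹ ∈ S.Q J :=
  (Subgroup.mem_normalizer_iff.1 (S.sp.U_normal _ hg) r).1 hr

theorem BP (J : Finset (Fin n)) : S.B ≤ S.P J := BN.B_le_PJ _

theorem Pmono {J K : Finset (Fin n)} (h : J ⊆ K) : S.P J ≤ S.P K :=
  BN.PJ_mono (Finset.map_subset_map.2 h)

theorem UB : S.U ≤ S.B := S.sp.U_le _

theorem sN (i : Fin n) : S.s i ∈ S.bn.N := S.bn.subset (S.e i).2

theorem sT (i : Fin n) {t : G} (ht : t ∈ S.T) : (S.s i)⁻¹ * t * S.s i ∈ S.T :=
  ⟨BN.conj_mem_B (sN i) ht, S.bn.N.mul_mem (S.bn.N.mul_mem (inv_mem (sN i)) ht.2) (sN i)⟩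

theorem ssT (i : Fin n) : S.s i * S.s i ∈ S.T :=
  ⟨S.bn.sq_mem _ (S.e i).2, S.bn.N.mul_mem (sN i) (sN i)⟩

theorem TX (i : Fin n) {t y : G} (ht : t ∈ S.T) (hy : y ∈ S.X i) : t * y * t⁻¹ ∈ S.X i :=
  (Subgroup.mem_normalizer_iff.1 (S.X_T i ht) y).1 hy

theorem mem_cn {g y : G} {K : Subgroup G} : y ∈ cn g K ↔ g⁻¹ * y * g ∈ K := by
  constructor
  · rintro ⟨x, hx, rfl⟩
    simpa [mul_assoc] using hx
  · intro h
    exact ⟨_, h, by simp [mul_assoc]⟩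

theorem Fx.XU (f : Fx S) (i : Fin n) : S.X i ≤ S.U := (f.XQ i).1 ▸ le_sup_left

theorem Fx.sP (f : Fx S) (i : Fin n) : S.s i ∈ S.P {i} :=
  (f.Pi i _).2 (Or.inr ⟨1, one_mem _, 1, one_mem _, by simp⟩)

variable {i j k : Fin n} {F : Type} [Field F] (D : S.Quad i j k F)

/-- Coordinates. -/
def e (s : F) (y : S.X k) (t : F) : G := D.x1 s * D.a y * D.x3 t

theorem x1_zero : D.x1 0 = 1 := by
  have h := D.rel.add1 0 0
  rw [add_zero] at h
  exact mul_eq_left.1 h.symm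

theorem x3_zero : D.x3 0 = 1 := by
  have h := D.rel.add3 0 0
  rw [add_zero] at h
  exact mul_eq_left.1 h.symm

theorem x1_neg (s : F) : D.x1 (-s) = (D.x1 s)⁻¹ :=
  eq_inv_of_mul_eq_one_left (by rw [← D.rel.add1, neg_add_cancel, x1_zero])

theorem x3_neg (s : F) : D.x3 (-s) = (D.x3 s)⁻¹ :=
  eq_inv_of_mul_eq_one_left (by rw [← D.rel.add3, neg_add_cancel, x3_zero])

theorem x1_mem (s : F) : D.x1 s ∈ S.X j := (D.rel.mem1 _).2 ⟨s, rfl⟩

theorem x3_mem (s : F) : D.x3 s ∈ S.Y j k := (D.rel.mem3 _).2 ⟨s, rfl⟩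

theorem a_mem (y : S.X k) : D.a y ∈ S.Y k j := D.rel.mem2 ▸ ⟨y, rfl⟩

theorem e_one : e D 0 1 0 = 1 := by simp [e, x1_zero, x3_zero]

theorem e_x1 (s : F) : e D s 1 0 = D.x1 s := by simp [e, x3_zero]

theorem e_x3 (t : F) : e D 0 1 t = D.x3 t := by simp [e, x1_zero]

theorem e_a (y : S.X k) : e D 0 y 0 = D.a y := by simp [e, x1_zero, x3_zero]

theorem e_h {c : F} (hc : c ≠ 0) (s : F) (y : S.X k) (t : F) :
    D.h c * e D s y t * (D.h c)⁻¹ = e D (c * s) (D.d.sm c y) (c * t) := by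
  unfold e
  rw [← D.h1 c hc, ← D.h2 c hc, ← D.h3 c hc]; group

theorem e_h' {c : F} (hc : c ≠ 0) (s : F) (y : S.X k) (t : F) :
    D.h' c * e D s y t * (D.h' c)⁻¹ = e D (c⁻¹ * s) y (D.d.σ c * t) := by
  unfold e
  rw [← D.k1 c hc, ← D.k3 c hc]
  conv_rhs => rw [← D.k2 c hc y]
  group

theorem x3_ex {t : F} : ∃ s, (S.s k)⁻¹ * D.x3 t * S.s k = D.x1 s := by
  obtain ⟨s, hs⟩ := (D.rel.mem1 _).1 (mem_cn.1 (x3_mem D t))
  exact ⟨s, hs.symm⟩

theorem x1_ex {s : F} : ∃ t, (S.s k)⁻¹ * D.x3 t * S.s k = D.x1 s := by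
  have : S.s k * D.x1 s * (S.s k)⁻¹ ∈ S.Y j k := mem_cn.2 (by simpa [mul_assoc] using x1_mem D s)
  obtain ⟨t, ht⟩ := (D.rel.mem3 _).1 this
  exact ⟨t, by rw [ht]; group⟩

theorem T_x3 {τ : G} (hτ : τ ∈ S.T) (t : F) : ∃ t', τ * D.x3 t * τ⁻¹ = D.x3 t' := by
  have : τ * D.x3 t * τ⁻¹ ∈ S.Y j k := by
    refine mem_cn.2 ?_
    have h := TX j (sT k hτ) (mem_cn.1 (x3_mem D t))
    convert h using 1
    group
  obtain ⟨t', ht⟩ := (D.rel.mem3 _).1 this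
  exact ⟨t', ht.symm⟩

variable (hz : ∀ t, D.d.z t = 1)

include hz in
theorem c13 (s t : F) : D.x1 s * D.x3 t = D.x3 t * D.x1 s := by
  have h := D.rel.r13 s t
  rw [hz, map_one, one_mul] at h
  exact mul_inv_eq_iff_eq_mul.1 h

include hz in
theorem e_mul (s : F) (y : S.X k) (t s' : F) (y' : S.X k) (t' : F) :
    e D s y t * e D s' y' t' = e D (s + s') (y * y') (t + t') := by
  unfold e
  rw [D.rel.add1, D.rel.add3, map_mul]
  calc D.x1 s * D.a y * D.x3 t * (D.x1 s' * D.a y' * D.x3 t')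
      = D.x1 s * D.a y * (D.x3 t * D.x1 s') * D.a y' * D.x3 t' := by group
    _ = D.x1 s * (D.a y * D.x1 s') * (D.x3 t * D.a y') * D.x3 t' := by rw [← c13 D hz]; group
    _ = _ := by rw [← D.rel.c12, ← D.rel.c23]; group

include hz in
theorem e_inv (s : F) (y : S.X k) (t : F) : (e D s y t)⁻¹ = e D (-s) y⁻¹ (-t) := by
  refine (eq_inv_of_mul_eq_one_left ?_).symm
  rw [e_mul D hz, neg_add_cancel, neg_add_cancel, inv_mul_cancel, e_one]

include hz in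
theorem e_pt (s : F) (y : S.X k) :
    (y : G) * D.x1 s * (y : G)⁻¹ = e D s (D.d.sm (-s) y) (-s * D.d.Q y) := by
  have h := D.rel.r14 (-s) y
  rw [x1_neg, inv_inv] at h
  unfold e
  calc (y : G) * D.x1 s * (y : G)⁻¹ = D.x1 s * ((D.x1 s)⁻¹ * y * D.x1 s) * (y : G)⁻¹ := by group
    _ = _ := by rw [h]; group

include hz in
theorem e_uniq {s t s' t' : F} {y y' : S.X k} {r r' : G} (hr : r ∈ S.Q {j, k})
    (hr' : r' ∈ S.Q {j, k}) (h : e D s y t * r = e D s' y' t' * r') :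
    s = s' ∧ y = y' ∧ t = t' := by
  have h1 : (e D s' y' t')⁻¹ * e D s y t ∈ S.Q {j, k} := by
    have : (e D s' y' t')⁻¹ * e D s y t = r' * r⁻¹ := by
      calc _ = (e D s' y' t')⁻¹ * (e D s y t * r) * r⁻¹ := by group
        _ = _ := by rw [h]; group
    rw [this]; exact mul_mem hr' (inv_mem hr)
  rw [e_inv D hz, e_mul D hz] at h1
  obtain ⟨a1, a2, a3, -⟩ := D.uniq (-s' + s) (y'⁻¹ * y) (-t' + t) 1 (by
    rw [OneMemClass.coe_one, mul_one]; exact h1)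
  exact ⟨by linear_combination a1, (inv_mul_eq_one.1 a2).symm, by linear_combination a3⟩

variable {H : Subgroup G} (f : Fx S) (l : Lx S H i j k)

include f l in
theorem x1_Qk (s : F) : D.x1 s ∈ S.Q {k} := f.XJ _ j (by simpa using l.ne) (x1_mem D s)

include f l in
theorem x3_Qk (t : F) : D.x3 t ∈ S.Q {k} := by
  have h := nP (f.sP k) (f.XJ {k} j (by simpa using l.ne) (mem_cn.1 (x3_mem D t)))
  convert h using 1
  group

include f l in
theorem a_Qk (y : S.X k) : D.a y ∈ S.Q {k} := by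
  have h := D.rel.r14 1 y
  rw [D.d.sm_one] at h
  have h1 : D.a y = D.x1 1 * ((y : G) * (D.x1 1)⁻¹ * (y : G)⁻¹) * (D.x3 (1 * D.d.Q y))⁻¹ := by
    calc D.a y = D.a y * D.x3 (1 * D.d.Q y) * y * (y : G)⁻¹ * (D.x3 (1 * D.d.Q y))⁻¹ := by group
      _ = _ := by rw [← h]; group
  rw [h1]
  exact mul_mem (mul_mem (x1_Qk D f l 1) (nP (BP _ (UB (f.XU k y.2))) (inv_mem (x1_Qk D f l 1))))
    (inv_mem (x3_Qk D f l _))

include f l in
theorem e_Qk (s : F) (y : S.X k) (t : F) : e D s y t ∈ S.Q {k} :=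
  mul_mem (mul_mem (x1_Qk D f l s) (a_Qk D f l y)) (x3_Qk D f l t)

include f l in
theorem Qk_nf {g : G} (hg : g ∈ S.Q {k}) : ∃ s y t, ∃ r ∈ S.Q {j, k}, g = e D s y t * r := by
  obtain ⟨s, y, t, y', r, hr, h⟩ := D.nf g (f.QU _ hg)
  have hr' : r ∈ S.Q {k} := f.anti _ _ (by simp) hr
  have h1 : (y' : G) ∈ S.X k ⊓ S.Q {k} := by
    refine Subgroup.mem_inf.2 ⟨y'.2, ?_⟩
    have : (y' : G) = (e D s y t)⁻¹ * g * r⁻¹ := by rw [h, e]; group
    rw [this]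
    exact mul_mem (mul_mem (inv_mem (e_Qk D f l s y t)) hg) (inv_mem hr')
  rw [(f.XQ k).2.1, Subgroup.mem_bot] at h1
  exact ⟨s, y, t, r, hr, by rw [h, h1, mul_one, e]⟩

include f l in
theorem y_Qj (y : S.X k) : (y : G) ∈ S.Q {j} := f.XJ _ k (by simpa using l.ne.symm) y.2

include f l in
theorem a_Qj (y : S.X k) : D.a y ∈ S.Q {j} := by
  have h := nP (f.sP j) (f.XJ {j} k (by simpa using l.ne.symm) (mem_cn.1 (a_mem D y)))
  convert h using 1
  group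

include f in
theorem exists_ne : ∃ y : S.X k, y ≠ 1 := by
  obtain ⟨y, hy⟩ := (Subgroup.ne_bot_iff_exists_ne_one).1 (f.XQ k).2.2
  exact ⟨y, hy⟩

include f l in
theorem x3_Qj (t : F) : D.x3 t ∈ S.Q {j} := by
  obtain ⟨y, hy⟩ := exists_ne (k := k) f
  have h0 : D.d.Q y ≠ 0 := fun h => hy (D.d.Q_ne y h)
  have h := D.rel.r14 (t / D.d.Q y) y
  rw [div_mul_cancel₀ _ h0] at h
  have h1 : D.x3 t = (D.a (D.d.sm (t / D.d.Q y) y))⁻¹ *
      (D.x1 (t / D.d.Q y) * y * (D.x1 (t / D.d.Q y))⁻¹) * (y : G)⁻¹ := by rw [h]; group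
  rw [h1]
  exact mul_mem (mul_mem (inv_mem (a_Qj D f l _))
    (nP (BP _ (UB (f.XU j (x1_mem D _)))) (y_Qj f l y))) (inv_mem (y_Qj f l y))

include f l hz in
theorem B_x3 {b : G} (hb : b ∈ S.B) (t : F) :
    ∃ t', ∃ r ∈ S.Q {j, k}, b * D.x3 t * b⁻¹ = D.x3 t' * r := by
  obtain ⟨u, hu, τ, hτ, rfl⟩ := f.dec b hb
  obtain ⟨t', ht'⟩ := T_x3 D hτ t
  obtain ⟨s, y, t1, y', r, hr, rfl⟩ := D.nf u hu
  have hc : D.x1 s * D.a y * D.x3 t1 * y' * D.x3 t' = D.x3 t' * (D.x1 s * D.a y * D.x3 t1 * y') := by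
    have c3 : D.x3 t1 * D.x3 t' = D.x3 t' * D.x3 t1 := by
      rw [← D.rel.add3, ← D.rel.add3, add_comm]
    calc D.x1 s * D.a y * D.x3 t1 * y' * D.x3 t'
        = D.x1 s * D.a y * D.x3 t1 * (y' * D.x3 t') := by group
      _ = D.x1 s * D.a y * (D.x3 t1 * D.x3 t') * y' := by rw [← D.rel.c34]; group
      _ = D.x1 s * (D.a y * D.x3 t') * D.x3 t1 * y' := by rw [c3]; group
      _ = (D.x1 s * D.x3 t') * D.a y * D.x3 t1 * y' := by rw [D.rel.c23]; group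
      _ = _ := by rw [c13 D hz]; group
  have hcU : D.x1 s * D.a y * D.x3 t1 * y' ∈ S.U :=
    mul_mem (f.QU _ (e_Qk D f l s y t1)) (f.XU k y'.2)
  generalize D.x1 s * D.a y * D.x3 t1 * y' = c at hc hcU
  have h3 : D.x3 t' ∈ S.P {j, k} := BP _ (UB (f.QU _ (x3_Qk D f l t')))
  refine ⟨t', c * ((D.x3 t')⁻¹ * r * (D.x3 t')⁻¹⁻¹ * r⁻¹) * c⁻¹,
    nP (BP _ (UB hcU)) (mul_mem (nP (inv_mem h3) hr) (inv_mem hr)), ?_⟩
  calc c * r * τ * D.x3 t * (c * r * τ)⁻¹ = c * r * (τ * D.x3 t * τ⁻¹) * r⁻¹ * c⁻¹ := by group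
    _ = (c * D.x3 t') * ((D.x3 t')⁻¹ * r * (D.x3 t')⁻¹⁻¹ * r⁻¹) * c⁻¹ := by rw [ht']; group
    _ = _ := by rw [hc]; group

theorem QK {r : G} (hr : r ∈ S.Q {j, k}) : r ∈ S.HJ H {j, k} := Subgroup.mem_sup_right hr

theorem HK {g : G} (hg : g ∈ H) (hg' : g ∈ S.P {j, k}) : g ∈ S.HJ H {j, k} :=
  Subgroup.mem_sup_left (Subgroup.mem_inf.2 ⟨hg, hg'⟩)

theorem Pk : S.P {k} ≤ S.P {j, k} := Pmono (by simp)

theorem Pj : S.P {j} ≤ S.P {j, k} := Pmono (by simp)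

include f l hz in
theorem pt {g0 : G} (hg0 : g0 ∈ S.P {k}) (h0 : ∀ t, g0 * D.x3 t * g0⁻¹ ∈ S.HJ H {j, k})
    {g : G} (hg : g ∈ S.P {k}) (t : F) : g * D.x3 t * g⁻¹ ∈ S.HJ H {j, k} := by
  have h3 : ∀ t, D.x3 t ∈ S.HJ H {j, k} := by
    intro t
    obtain ⟨h, hh, b, hb, rfl⟩ := l.tr _ g0 hg0
    obtain ⟨t', r, hr, e1⟩ := B_x3 D hz f l (inv_mem hb) t
    have hK : h ∈ S.HJ H {j, k} := HK hh.1 (Pk hh.2)
    have : D.x3 t = h⁻¹ * (h * b * D.x3 t' * (h * b)⁻¹) * h * (b * r * b⁻¹) := by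
      calc D.x3 t = b * (b⁻¹ * D.x3 t * b⁻¹⁻¹) * b⁻¹ := by group
        _ = _ := by rw [e1]; group
    rw [this]
    exact mul_mem (mul_mem (mul_mem (inv_mem hK) (h0 t')) hK) (QK (nP (BP _ hb) hr))
  obtain ⟨h, hh, b, hb, rfl⟩ := l.tr _ g hg
  obtain ⟨t', r, hr, e1⟩ := B_x3 D hz f l hb t
  have hK : h ∈ S.HJ H {j, k} := HK hh.1 (Pk hh.2)
  have : h * b * D.x3 t * (h * b)⁻¹ = h * (D.x3 t' * r) * h⁻¹ := by rw [← e1]; group
  rw [this]
  exact mul_mem (mul_mem hK (mul_mem (h3 t') (QK hr))) (inv_mem hK)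

include f in
theorem ys_mem (y : S.X k) : (y : G) * (S.s k)⁻¹ ∈ S.P {k} :=
  mul_mem (BP _ (UB (f.XU k y.2))) (inv_mem (f.sP k))

include f l hz in
theorem fin {g0 : G} (hg0 : g0 ∈ S.P {k}) (h0 : ∀ t, g0 * D.x3 t * g0⁻¹ ∈ S.HJ H {j, k}) :
    S.Full H {j, k} := by
  have h3 : ∀ t, D.x3 t ∈ S.HJ H {j, k} := fun t => by
    simpa using pt D hz f l hg0 h0 (one_mem _) t
  have h1 : ∀ (y : S.X k) s, (y : G) * D.x1 s * (y : G)⁻¹ ∈ S.HJ H {j, k} := by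
    intro y s
    obtain ⟨t, ht⟩ := x1_ex D (s := s)
    have := pt D hz f l hg0 h0 (ys_mem f y) t
    rw [← ht]
    convert this using 1
    group
  have h1' : ∀ s, D.x1 s ∈ S.HJ H {j, k} := fun s => by simpa using h1 1 s
  have h2 : ∀ y, D.a y ∈ S.HJ H {j, k} := by
    intro y
    have h := h1 y (-1)
    rw [e_pt D hz, neg_neg, D.d.sm_one, e] at h
    exact (mul_mem_cancel_left (h1' _)).1 ((mul_mem_cancel_right (h3 _)).1 h)
  have hQ : S.Q {k} ≤ S.HJ H {j, k} := by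
    intro g hg
    obtain ⟨s, y, t, r, hr, rfl⟩ := Qk_nf D f l hg
    exact mul_mem (mul_mem (mul_mem (h1' s) (h2 y)) (h3 t)) (QK hr)
  have h4 : ∀ y : S.X k, (y : G) ∈ S.HJ H {j, k} := by
    intro y
    obtain ⟨h, hh, b, hb, e1⟩ := l.tr _ _ (inv_mem (f.sP j))
    have hm : S.s j * y * (S.s j)⁻¹ ∈ S.Y k j := mem_cn.2 (by simp [mul_assoc])
    rw [← D.rel.mem2] at hm
    obtain ⟨y', hy'⟩ := hm
    have hK : h ∈ S.HJ H {j, k} := HK hh.1 (Pj hh.2)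
    have : (y : G) = h * (b * D.a y' * b⁻¹) * h⁻¹ := by
      calc (y : G) = (S.s j)⁻¹ * (S.s j * y * (S.s j)⁻¹) * ((S.s j)⁻¹)⁻¹ := by group
        _ = _ := by rw [← hy', e1]; group
    rw [this]
    exact mul_mem (mul_mem hK (hQ (nP (BP _ hb) (a_Qk D f l y')))) (inv_mem hK)
  unfold Sys.Full
  rw [← l.inf]
  refine inf_eq_right.2 fun u hu => ?_
  obtain ⟨s, y, t, y', r, hr, rfl⟩ := D.nf u hu
  exact mul_mem (mul_mem (mul_mem (mul_mem (h1' s) (h2 y)) (h3 t)) (h4 y')) (QK hr)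

include l in
theorem hK {c : F} (hc : c ≠ 0) : D.h c ∈ S.HJ H {j, k} ∧ D.h' c ∈ S.HJ H {j, k} :=
  ⟨HK (l.tor (D.hT c hc).1) (BP _ (D.hT c hc).1.1.1),
    HK (l.tor (D.hT c hc).2) (BP _ (D.hT c hc).2.1.1)⟩

include l in
theorem scal {s t : F} {y : S.X k} (h : e D s y t ∈ S.HJ H {j, k}) (c : F) :
    e D (c * s) (D.d.sm c y) (c * t) ∈ S.HJ H {j, k} := by
  by_cases hc : c = 0
  · rw [hc, zero_mul, zero_mul, D.d.sm_zero, e_one]; exact one_mem _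
  · rw [← e_h D hc]
    exact mul_mem (mul_mem (hK D l hc).1 h) (inv_mem (hK D l hc).1)

include l hz in
theorem sub {s t s' t' : F} {y y' : S.X k} (h : e D s y t ∈ S.HJ H {j, k})
    (h' : e D s' y' t' ∈ S.HJ H {j, k}) : e D (s - s') (y * y'⁻¹) (t - t') ∈ S.HJ H {j, k} := by
  have := mul_mem h (inv_mem h')
  rwa [e_inv D hz, e_mul D hz, ← sub_eq_add_neg, ← sub_eq_add_neg] at this

include f l hz in
theorem start {c : F} (hc : c ≠ 0) (hc1 : c ≠ 1) : ∃ y t, e D 1 y t ∈ S.HJ H {j, k} := by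
  have h1 : D.x1 1 ∈ (H ⊓ S.U) ⊔ S.Q {j} := by rw [l.full]; exact f.XU j (x1_mem D 1)
  have hn : H ⊓ S.U ≤ Subgroup.normalizer (S.Q {j} : Set G) :=
    inf_le_right.trans (UB.trans ((BP _).trans (S.sp.U_normal _)))
  rw [← SetLike.mem_coe, Subgroup.coe_mul_of_left_le_normalizer_right _ _ hn] at h1
  obtain ⟨v, hv, q, hq, e1⟩ := h1
  obtain ⟨s, y, t, y', r, hr, rfl⟩ := D.nf v hv.2
  have hs : s = 1 := by
    have hm : D.x1 (-s + 1) ∈ S.X j ⊓ S.Q {j} := by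
      refine Subgroup.mem_inf.2 ⟨x1_mem D _, ?_⟩
      have : D.x1 (-s + 1) = D.a y * D.x3 t * y' * r * q := by
        rw [D.rel.add1, x1_neg, ← e1]; group
      rw [this]
      exact mul_mem (mul_mem (mul_mem (mul_mem (a_Qj D f l y) (x3_Qj D f l t)) (y_Qj f l y'))
        (f.anti _ _ (by simp) hr)) hq
    rw [(f.XQ j).2.1, Subgroup.mem_bot, ← x1_zero D] at hm
    linear_combination -D.rel.inj1 hm
  subst hs
  have hv' : e D 1 y t * y' ∈ S.HJ H {j, k} :=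
    (mul_mem_cancel_right (QK hr)).1 (HK hv.1 (BP _ (UB hv.2)))
  have h2 : e D (c * 1) (D.d.sm c y) (c * t) * y' ∈ S.HJ H {j, k} := by
    have := mul_mem (mul_mem (hK D l hc).1 hv') (inv_mem (hK D l hc).1)
    rw [← e_h D hc, ← D.h4 c hc y']
    convert this using 1
    group
  have h3 : e D (c * 1) (D.d.sm c y) (c * t) * (e D 1 y t)⁻¹ ∈ S.HJ H {j, k} := by
    have := mul_mem h2 (inv_mem hv')
    convert this using 1
    group
  rw [e_inv D hz, e_mul D hz] at h3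
  have h4 := scal D l h3 (c - 1)⁻¹
  have : (c - 1)⁻¹ * (c * 1 + -1) = 1 := by
    have := sub_ne_zero.2 hc1
    field_simp
    ring
  rw [this] at h4
  exact ⟨_, _, h4⟩

include f l hz in
theorem step {t : F} {y : S.X k} (h : e D 1 y t ∈ S.HJ H {j, k}) {c : F} (hc : c ≠ 0)
    (hc1 : c ≠ 1) : e D 1 1 (-c * t) ∈ S.HJ H {j, k} := by
  obtain ⟨y0, hy0⟩ := exists_ne (k := k) f
  have h1 := mul_mem (mul_mem (hK D l hc).2 h) (inv_mem (hK D l hc).2)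
  rw [e_h' D hc, sigma_id D.d hz hy0] at h1
  have h2 := scal D l (sub D hz l h1 h) (c / (1 - c))
  have h3 := sub_ne_zero.2 hc1.symm
  rw [mul_inv_cancel, sm_one'] at h2
  convert h2 using 2
  · field_simp
  · field_simp
    ring

include f l hz in
theorem sing {t : F} {y : S.X k} (h : e D 1 y t ∈ S.HJ H {j, k}) (hq : t + D.d.Q y = 0) :
    S.Full H {j, k} := by
  refine fin D hz f l (ys_mem f y⁻¹) fun t' => ?_
  obtain ⟨s, hs⟩ := x3_ex D (t := t')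
  have h1 : ((y⁻¹ : S.X k) : G) * (S.s k)⁻¹ * D.x3 t' * (((y⁻¹ : S.X k) : G) * (S.s k)⁻¹)⁻¹ =
      ((y⁻¹ : S.X k) : G) * D.x1 s * ((y⁻¹ : S.X k) : G)⁻¹ := by rw [← hs]; group
  rw [h1, e_pt D hz, Q_inv D.d hz, ← sm_neg D.d hz, D.d.sm_sm]
  convert scal D l h s using 2
  · ring
  · congr 1; ring
  · linear_combination -s * hq

include f l hz in
theorem qf1 {c c' : F} (hc : c ≠ 0) (hc1 : c ≠ 1) (hc' : c' ≠ 0) (hc1' : c' ≠ 1) (hne : c ≠ c') :
    S.Full H {j, k} := by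
  obtain ⟨y, t, h⟩ := start D hz f l hc hc1
  have h1 := sub D hz l (scal D l (step D hz f l h hc hc1) c') (scal D l (step D hz f l h hc' hc1') c)
  have h2 := scal D l h1 (c' - c)⁻¹
  have h3 := sub_ne_zero.2 hne.symm
  simp only [sm_one', inv_one, mul_one] at h2
  rw [inv_mul_cancel₀ h3] at h2
  refine sing D hz f l h2 ?_
  rw [Q_one]; ring

include f l hz in
theorem sing_pt {g : G} (hg : g ∈ S.P {k}) (t : F) : ∃ s y t', s * t' + D.d.Q y = 0 ∧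
    ∃ r ∈ S.Q {j, k}, g * D.x3 t * g⁻¹ = e D s y t' * r := by
  rcases (f.Pi k g).1 hg with hb | ⟨y, hy, b, hb, rfl⟩
  · obtain ⟨t', r, hr, e1⟩ := B_x3 D hz f l hb t
    exact ⟨0, 1, t', by rw [Q_one]; ring, r, hr, by rw [e1, e_x3]⟩
  · obtain ⟨y0, hy0⟩ := exists_ne (k := k) f
    obtain ⟨t', r, hr, e1⟩ := B_x3 D hz f l (mul_mem (ssT k).1 hb) t
    obtain ⟨s, hs⟩ := x3_ex D (t := t')
    have hP := ys_mem f ⟨y, hy⟩
    refine ⟨s, D.d.sm (-s) ⟨y, hy⟩, -s * D.d.Q ⟨y, hy⟩, ?_, _, nP (Pk hP) hr, ?_⟩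
    · rw [D.d.Q_sm, sigma_id D.d hz hy0]; ring
    · rw [← e_pt D hz, ← hs]
      calc y * S.s k * b * D.x3 t * (y * S.s k * b)⁻¹
          = y * (S.s k)⁻¹ * (S.s k * S.s k * b * D.x3 t * (S.s k * S.s k * b)⁻¹) *
            (y * (S.s k)⁻¹)⁻¹ := by group
        _ = _ := by rw [e1]; group

include f l hz in
theorem qf3 [Finite G] (h3 : ∀ c : F, c = 0 ∨ c = 1 ∨ c = -1) (h30 : (3 : F) = 0)
    (hY : 3 < Nat.card (S.X k)) : S.Full H {j, k} := by
  by_contra hn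
  have h2 : (2 : F) ≠ 0 := fun h => one_ne_zero (by linear_combination h30 - h : (1 : F) = 0)
  have hm0 : (-1 : F) ≠ 0 := neg_ne_zero.2 one_ne_zero
  have hm1 : (-1 : F) ≠ 1 := fun h => h2 (by linear_combination -h)
  obtain ⟨y0, hy0⟩ := exists_ne (k := k) f
  obtain ⟨y, t0, h⟩ := start D hz f l hm0 hm1
  have w0 := step D hz f l h hm0 hm1
  rw [neg_neg, one_mul] at w0
  have ht0 : t0 ≠ 0 := fun h0 => hn (sing D hz f l w0 (by rw [h0, Q_one, add_zero]))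
  let W : Subgroup (S.X k) := (S.HJ H {j, k}).comap D.a
  have hW : ∀ y ∈ W, y ≠ 1 → D.d.Q y = t0 := by
    intro y hy h1
    have hy' : e D 0 y 0 ∈ S.HJ H {j, k} := by rw [e_a]; exact hy
    have h4 := mul_mem w0 hy'
    rw [e_mul D hz, add_zero, add_zero, one_mul] at h4
    have h5 : t0 + D.d.Q y ≠ 0 := fun h0 => hn (sing D hz f l h4 h0)
    have h6 : D.d.Q y ≠ 0 := fun h0 => h1 (D.d.Q_ne y h0)
    rcases h3 (D.d.Q y) with a | a | a
    · exact absurd a h6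
    all_goals
      rcases h3 t0 with a' | a' | a'
      · exact absurd a' ht0
      all_goals simp_all
  have str : ∀ s y t, e D s y t ∈ S.HJ H {j, k} → y ∈ W ∧ t = s * t0 := by
    intro s y t hv
    have h1 := mul_mem (mul_mem (hK D l hm0).2 hv) (inv_mem (hK D l hm0).2)
    rw [e_h' D hm0, sigma_id D.d hz hy0] at h1
    have hy : y ∈ W := by
      have h5 := mul_mem hv h1
      rw [e_mul D hz] at h5
      have h6 := scal D l h5 2⁻¹
      have a1 : (2 : F)⁻¹ * (s + (-1)⁻¹ * s) = 0 := by simp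
      have a2 : (2 : F)⁻¹ * (t + -1 * t) = 0 := by simp
      have a3 : D.d.sm 2⁻¹ (y * y) = y := by
        rw [D.d.sm_mul, ← sm_add' D.d hz, show (2 : F)⁻¹ + 2⁻¹ = 1 by field_simp; ring, D.d.sm_one]
      rw [a1, a2, a3, e_a] at h6
      exact h6
    refine ⟨hy, by_contra fun hne => ?_⟩
    have hy' : e D 0 y 0 ∈ S.HJ H {j, k} := by rw [e_a]; exact hy
    have h7 := sub D hz l (sub D hz l hv hy') (scal D l w0 s)
    have h8 := sub_ne_zero.2 hne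
    refine hn (fin D hz f l (one_mem _) fun t' => ?_)
    have h9 := scal D l h7 (t' / (t - s * t0))
    simp only [sm_one', mul_inv_cancel, inv_one, mul_one, sub_zero, sub_self, mul_zero] at h9
    rw [div_mul_cancel₀ _ h8, e_x3] at h9
    simpa using h9
  obtain ⟨y2, hy2, hp⟩ := exists_perp D.d hz h3 h30 hY ht0 W hW
  obtain ⟨g, hg, b, hb, e1⟩ := l.tr _ _ (ys_mem f y2)
  have hgK : g ∈ S.HJ H {j, k} := HK hg.1 (Pk hg.2)
  -- the image of `w0`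
  obtain ⟨μ, y, t, r2, hr2, e2⟩ := Qk_nf D f l (nP hg.2 (e_Qk D f l 1 1 t0))
  have hv : e D μ y t ∈ S.HJ H {j, k} := by
    have := mul_mem (mul_mem hgK w0) (inv_mem hgK)
    rw [e2] at this
    exact (mul_mem_cancel_right (QK hr2)).1 this
  obtain ⟨hyW, rfl⟩ := str _ _ _ hv
  -- the image of `x3 (-t0)`
  obtain ⟨t1, r1, hr1, e3⟩ := B_x3 D hz f l (inv_mem hb) (-t0)
  obtain ⟨lam, hl⟩ := x3_ex D (t := t1)
  have hP := ys_mem f y2
  have e4 : g * D.x3 (-t0) * g⁻¹ = e D lam (D.d.sm (-lam) y2) (-lam * D.d.Q y2) *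
      (y2 * (S.s k)⁻¹ * r1 * (y2 * (S.s k)⁻¹)⁻¹) := by
    rw [← e_pt D hz, ← hl]
    calc g * D.x3 (-t0) * g⁻¹ = g * b * (b⁻¹ * D.x3 (-t0) * b⁻¹⁻¹) * (g * b)⁻¹ := by group
      _ = _ := by rw [e3, ← e1]; group
  have hr1' := nP (Pk (j := j) hP) hr1
  generalize (y2 : G) * (S.s k)⁻¹ * r1 * (y2 * (S.s k)⁻¹)⁻¹ = r3 at e4 hr1'
  -- the image of `x1 1`
  obtain ⟨t2, ht2⟩ := x1_ex D (s := 1)
  obtain ⟨s', y', t', hq, r4, hr4, e5⟩ := sing_pt D hz f l (mul_mem hg.2 (inv_mem (f.sP k))) t2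
  have hE : e D lam (D.d.sm (-lam) y2) (-lam * D.d.Q y2) ∈ S.P {j, k} :=
    BP _ (UB (f.QU _ (e_Qk D f l _ _ _)))
  have e6 : e D s' y' t' * r4 = e D (μ + lam) (y * D.d.sm (-lam) y2) (μ * t0 + -lam * D.d.Q y2) *
      ((e D lam (D.d.sm (-lam) y2) (-lam * D.d.Q y2))⁻¹ * r2 *
        (e D lam (D.d.sm (-lam) y2) (-lam * D.d.Q y2))⁻¹⁻¹ * r3) := by
    have a1 : D.x1 1 = e D 1 1 t0 * D.x3 (-t0) := by
      rw [← e_x3, e_mul D hz, add_zero, mul_one, add_neg_cancel, e_x1]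
    rw [← e5, ← e_mul D hz]
    calc g * (S.s k)⁻¹ * D.x3 t2 * (g * (S.s k)⁻¹)⁻¹
        = g * ((S.s k)⁻¹ * D.x3 t2 * S.s k) * g⁻¹ := by group
      _ = (g * e D 1 1 t0 * g⁻¹) * (g * D.x3 (-t0) * g⁻¹) := by rw [ht2, a1]; group
      _ = _ := by rw [e2, e4]; group
  obtain ⟨rfl, rfl, rfl⟩ := e_uniq D hz hr4 (mul_mem (nP (inv_mem hE) hr2) hr1') e6
  rw [D.d.Q_mul, D.d.Q_sm, D.d.B_smr, hp y hyW, sigma_id D.d hz hy0, hy2] at hq
  have hq' : μ * μ * t0 + D.d.Q y = 0 := by linear_combination hq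
  have hy1 : y = 1 := by
    by_contra h1
    rw [hW y hyW h1] at hq'
    rcases h3 μ with a | a | a <;> rw [a] at hq'
    · exact ht0 (by linear_combination hq')
    all_goals exact mul_ne_zero h2 ht0 (by linear_combination hq')
  subst hy1
  rw [Q_one, add_zero] at hq'
  have hμ : μ = 0 := by simpa [ht0] using hq'
  rw [hμ, zero_mul, e_one, one_mul] at e2
  have h9 : e D 1 1 t0 * 1 = e D 0 1 0 * (g⁻¹ * r2 * g⁻¹⁻¹) := by rw [e_one, ← e2]; group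
  exact one_ne_zero (e_uniq D hz (one_mem _) (nP (inv_mem (Pk hg.2)) hr2) h9).1

end Win

section Main

variable {G : Type} [Group G] [Finite G] [IsSimpleGroup G] {p n : ℕ} [Fact p.Prime]

theorem fx (hb : Bas1Stmt) (S : Sys G p n) : Fx S := by
  obtain ⟨-, -, -, -, -, a1, -, -, a2, a3, a4, a5, a6, -⟩ := hb S
  exact ⟨a1, a2, a3, fun i => ⟨(a4 i).1, (a4 i).2.1, (a4 i).2.2.1⟩, a5, a6⟩

theorem lx (hb : Bas1Stmt) (hl : LadStmt) (S : Sys G p n) {i j k : Fin n} (hjk : S.m j k = 4)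
    {H : Subgroup G} (hH : S.Setup H) (hf : S.Full H {i, j}) : Lx S H i j k := by
  obtain ⟨-, -, -, -, -, -, -, -, -, -, -, -, -, -, -, -, -, a1, -⟩ := hb S
  obtain ⟨-, b1, b2, b3, b4, -⟩ := hl S H hH
  refine ⟨?_, (b1 _).1, b2, le_trans (inf_le_inf_left _ (sup_le ?_ ?_)) (b3 _ hf).2,
    b4 _ _ (by simp) hf⟩
  · rintro rfl
    rw [a1] at hjk
    omega
  · exact le_iSup₂_of_le (f := fun l (_ : l ∈ ({i, j} : Finset (Fin n))) => S.L l) i (by simp) le_rfl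
  · exact le_iSup₂_of_le (f := fun l (_ : l ∈ ({i, j} : Finset (Fin n))) => S.L l) j (by simp) le_rfl

end Main

/-- **QF1** -/
theorem qf1Stmt (hb : Bas1Stmt) (hl : LadStmt) : Qf1Stmt := by
  intro G _ _ _ p n _ S i j k _ hjk _ F _ _ D hz h4 H hH hf
  classical
  have := Fintype.ofFinite F
  have h2 : 1 < ((Finset.univ : Finset F) \ {0, 1}).card := by
    rw [Finset.card_univ_diff, Finset.card_pair zero_ne_one, ← Nat.card_eq_fintype_card]
    omega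
  obtain ⟨c, hc, c', hc', hne⟩ := Finset.one_lt_card.1 h2
  simp only [Finset.mem_sdiff, Finset.mem_univ, Finset.mem_insert, Finset.mem_singleton, true_and,
    not_or] at hc hc'
  exact qf1 D hz (fx hb S) (lx hb hl S hjk hH hf) hc.1 hc.2 hc'.1 hc'.2 hne

/-- **QF3** -/
theorem qf3Stmt (hb : Bas1Stmt) (hl : LadStmt) : Qf3Stmt := by
  intro G _ _ _ p n _ S i j k _ hjk _ F _ _ D hz h3 h9 H hH hf
  have := Fintype.ofFinite F
  rw [Nat.card_eq_fintype_card] at h3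
  refine qf3 D hz (fx hb S) (lx hb hl S hjk hH hf) (fun c => ?_) ?_ ?_
  · have h := FiniteField.pow_card c
    rw [h3] at h
    have h' : c * (c - 1) * (c + 1) = 0 := by linear_combination h
    rcases mul_eq_zero.1 h' with h' | h'
    · rcases mul_eq_zero.1 h' with h' | h'
      · exact Or.inl h'
      · exact Or.inr (Or.inl (sub_eq_zero.1 h'))
    · exact Or.inr (Or.inr (eq_neg_of_add_eq_zero_left h'))
  · have h := FiniteField.cast_card_eq_zero F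
    rw [h3] at h
    exact_mod_cast h
  · have h9' : Nat.card (S.X k) = 9 := h9
    omega

end Cfsg.Agent.H76.CksQf1
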