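import Cfsg.Agent.H76.GenFun

/-!
# Numerical bounds for class numbers of `SL_n(q)` and `SU_n(q)`
-/

set_option autoImplicit false

namespace Cfsg.Agent.H76

open Finset

theorem kk_nonneg {q a : ℚ} (hq : 0 ≤ q) (ha : 0 ≤ a) (n : ℕ) : 0 ≤ kk q a n :=
  nn_prod (fun _ _ => nn_fac hq ha _) n

theorem mem_gcd_divisors_erase {n a d : ℕ} (h : d ∈ (Nat.gcd n a).divisors.erase 1) :
    2 ≤ d ∧ d ∣ n ∧ d ∣ a := by
  have h1 := mem_erase.1 h
  have h2 := Nat.pos_of_mem_divisors h1.2
  have h3 := Nat.dvd_of_mem_divisors h1.2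
  exact ⟨by omega, h3.trans (Nat.gcd_dvd_left _ _), h3.trans (Nat.gcd_dvd_right _ _)⟩

theorem sum_le_of_subset {T S : Finset ℕ} (h : T ⊆ S) {f g : ℕ → ℚ} (hf : ∀ d ∈ T, f d ≤ g d)
    (hg : ∀ d ∈ S, 0 ≤ g d) : ∑ d ∈ T, f d ≤ ∑ d ∈ S, g d :=
  (sum_le_sum hf).trans (sum_le_sum_of_subset_of_nonneg h fun d hd _ => hg d hd)

theorem sq_sub_one_nonneg {d : ℕ} (hd : 1 ≤ d) : (0 : ℚ) ≤ (d : ℚ) ^ 2 - 1 := by
  have : (1 : ℚ) ≤ d := by exact_mod_cast hd
  nlinarith

section SL

variable {q : ℕ} {K : ℚ}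

/-- the upper bound for `(q - 1) k(SL_n(q))` -/
noncomputable def slBd (q a n : ℕ) : ℚ :=
  kk q a n + ∑ d ∈ (Nat.gcd n a).divisors.erase 1, ((d : ℚ) ^ 2 - 1) * kk q a (n / d)

theorem slBd_one (q a : ℕ) : slBd q a 1 = a := by simp [slBd, kk_one]

theorem slBd_prime_le (q a : ℕ) {r : ℕ} (hr : r.Prime) {c : ℚ} (hc : 0 ≤ c)
    (h : r ∣ a → (r : ℚ) ^ 2 - 1 ≤ c) : slBd q a r ≤ kk q a r + c * a := by
  rw [slBd]
  gcongr
  refine (sum_le_of_subset (S := {r}) (g := fun _ => c * a) (fun d hd => ?_) (fun d hd => ?_)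
    fun _ _ => by positivity).trans (by simp)
  · obtain ⟨h1, h2, -⟩ := mem_gcd_divisors_erase hd
    exact mem_singleton.2 ((hr.eq_one_or_self_of_dvd d h2).resolve_left (by omega))
  · obtain ⟨h1, h2, h3⟩ := mem_gcd_divisors_erase hd
    obtain rfl := (hr.eq_one_or_self_of_dvd d h2).resolve_left (by omega)
    rw [Nat.div_self hr.pos, kk_one]
    gcongr
    exact h h3

theorem sl_two_le (hq : 2 ≤ q) (h : ((q - 1 : ℕ) : ℚ) * K ≤ slBd q (q - 1) 2) :
    K ≤ q + 4 ∧ 2 * K ≤ 5 * q := by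
  have ha : (0 : ℚ) < ((q - 1 : ℕ) : ℚ) := by exact_mod_cast (show 0 < q - 1 by omega)
  have h1 : K ≤ q + 4 := by
    have := h.trans (slBd_prime_le q (q - 1) Nat.prime_two (c := 3) (by norm_num) (by norm_num))
    rw [kk_two] at this
    exact le_of_mul_le_mul_left (by linarith) ha
  refine ⟨h1, ?_⟩
  rcases hq.eq_or_lt with rfl | hq
  · have := h.trans (slBd_prime_le 2 (2 - 1) Nat.prime_two (c := 0) le_rfl (by norm_num))
    rw [kk_two] at this
    norm_num at this ⊢
    linarith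
  · have : (3 : ℚ) ≤ q := by exact_mod_cast hq
    linarith

theorem sl_sum_le (hq : 2 ≤ q) {n : ℕ} (hn : 4 ≤ n) :
    ∑ d ∈ (Nat.gcd n (q - 1)).divisors.erase 1, ((d : ℚ) ^ 2 - 1) * q ^ (n / d) ≤
      (2 * (q : ℚ) - 3) * q ^ (n - 2) := by
  have hq' : (2 : ℚ) ≤ q := by exact_mod_cast hq
  rcases hq.eq_or_lt with rfl | hq3
  · simp
    norm_num
  have hq3' : (3 : ℚ) ≤ q := by exact_mod_cast hq3
  have h2 : (((2 : ℕ) : ℚ) ^ 2 - 1) * q ^ (n / 2) ≤ 3 * q ^ (n - 2) := by
    norm_num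
    exact pow_le_pow_right₀ (by linarith) (by omega)
  rcases hn.eq_or_lt with rfl | hn5
  · refine (sum_le_of_subset (S := {2, 4})
      (g := fun d => if d = 2 then 3 * q ^ 2 else (2 * q - 6) * q ^ 2) (fun d hd => ?_)
      (fun d hd => ?_) fun d _ => ?_).trans (le_of_eq ?_)
    · obtain ⟨h1, h3, -⟩ := mem_gcd_divisors_erase hd
      have := Nat.le_of_dvd (by norm_num) h3
      interval_cases d <;> simp_all
    · obtain ⟨h1, h3, h4⟩ := mem_gcd_divisors_erase hd
      have := Nat.le_of_dvd (by norm_num) h3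
      split_ifs with h
      · subst h; exact h2
      · obtain rfl : d = 4 := by interval_cases d <;> simp_all
        have : (5 : ℚ) ≤ q := by
          have := Nat.le_of_dvd (by omega) h4
          exact_mod_cast (show 5 ≤ q by omega)
        norm_num
        nlinarith
    · split_ifs
      · positivity
      · have : (0 : ℚ) ≤ 2 * q - 6 := by linarith
        positivity
    · simp
      ring
  · refine (sum_le_of_subset (S := insert 2 (Icc 3 (q - 1)))
      (g := fun d => if d = 2 then 3 * q ^ (n - 2) else 2 * q ^ (n - 2)) (fun d hd => ?_)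
      (fun d hd => ?_) fun d _ => by split_ifs <;> positivity).trans (le_of_eq ?_)
    · obtain ⟨h1, -, h4⟩ := mem_gcd_divisors_erase hd
      have := Nat.le_of_dvd (by omega) h4
      simp only [mem_insert, mem_Icc]
      omega
    · obtain ⟨h1, h3, h4⟩ := mem_gcd_divisors_erase hd
      split_ifs with h
      · subst h; exact h2
      · have h5 : (d : ℚ) ≤ q := by
          have := Nat.le_of_dvd (by omega) h4
          exact_mod_cast (show d ≤ q by omega)
        have h6 : n / d + 2 ≤ n - 2 := by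
          have h7 : n / d ≤ n / 3 := Nat.div_le_div_left (by omega) (by norm_num)
          rcases (by omega : n = 5 ∨ 6 ≤ n) with rfl | h8
          · have := Nat.le_of_dvd (by norm_num) h3
            interval_cases d <;> simp_all
          · omega
        calc _ ≤ (q : ℚ) ^ 2 * q ^ (n / d) := by
              gcongr
              have : (0 : ℚ) ≤ d := by positivity
              nlinarith
          _ ≤ q ^ (n - 2) := by
              rw [← pow_add]
              exact pow_le_pow_right₀ (by linarith) (by omega)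
          _ ≤ _ := by
              have : (0 : ℚ) ≤ q ^ (n - 2) := by positivity
              linarith
    · rw [sum_insert (by simp), if_pos rfl, sum_congr rfl (g := fun _ => 2 * (q : ℚ) ^ (n - 2))
        fun d hd => if_neg (by have := (mem_Icc.1 hd).1; omega), sum_const, Nat.card_Icc,
        nsmul_eq_mul, show q - 1 + 1 - 3 = q - 3 by omega, Nat.cast_sub hq3]
      push_cast
      ring

theorem sl_le (hq : 2 ≤ q) {n : ℕ} (hn : 3 ≤ n) (h : ((q - 1 : ℕ) : ℚ) * K ≤ slBd q (q - 1) n) :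
    K ≤ q ^ (n - 1) + 3 * q ^ (n - 2) := by
  have hq' : (2 : ℚ) ≤ q := by exact_mod_cast hq
  have ha' : ((q - 1 : ℕ) : ℚ) = q - 1 := by rw [Nat.cast_sub (by omega), Nat.cast_one]
  have ha : (0 : ℚ) < ((q - 1 : ℕ) : ℚ) := by linarith
  refine le_of_mul_le_mul_left (h.trans ?_) ha
  rcases hn.eq_or_lt with rfl | hn4
  · refine (slBd_prime_le q (q - 1) Nat.prime_three (c := 2 * q) (by positivity) fun h => ?_).trans
      (le_of_eq ?_)
    · have := Nat.le_of_dvd (by omega) h
      have : (4 : ℚ) ≤ q := by exact_mod_cast (show 4 ≤ q by omega)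
      norm_num
      linarith
    · rw [kk_three, ha']
      norm_num
      ring
  · have h1 := sl_sum_le hq hn4
    have h2 : slBd q (q - 1) n ≤ q ^ n + (2 * q - 3) * q ^ (n - 2) := by
      rw [slBd, ha']
      refine add_le_add (kk_gl_le hq' n) (le_trans (sum_le_sum fun d hd => ?_) h1)
      have := sq_sub_one_nonneg (d := d) (by have := (mem_gcd_divisors_erase hd).1; omega)
      gcongr
      exact kk_gl_le hq' _
    refine h2.trans (le_of_eq ?_)
    obtain ⟨m, rfl⟩ : ∃ m, n = m + 2 := ⟨n - 2, by omega⟩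
    rw [ha', Nat.add_sub_cancel, show m + 2 - 1 = m + 1 by omega]
    ring

theorem sl_le' (hq : 2 ≤ q) {n : ℕ} (hn : 2 ≤ n) (h : ((q - 1 : ℕ) : ℚ) * K ≤ slBd q (q - 1) n) :
    2 * K ≤ 5 * q ^ (n - 1) := by
  have hq' : (2 : ℚ) ≤ q := by exact_mod_cast hq
  rcases hn.eq_or_lt with rfl | hn3
  · simpa using (sl_two_le hq h).2
  · have h1 := sl_le hq hn3 h
    obtain ⟨m, rfl⟩ : ∃ m, n = m + 2 := ⟨n - 2, by omega⟩
    rw [Nat.add_sub_cancel, show m + 2 - 1 = m + 1 by omega, pow_succ] at *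
    have : (0 : ℚ) ≤ q ^ m := by positivity
    nlinarith

theorem su_sum_le (hq : 3 ≤ q) {n : ℕ} (hn : 2 ≤ n) :
    ∑ d ∈ (Nat.gcd n (q + 1)).divisors.erase 1, ((d : ℚ) ^ 2 - 1) * q ^ (n / d) ≤
      ((q : ℚ) + 2) * q ^ (n - 1) := by
  have hq' : (3 : ℚ) ≤ q := by exact_mod_cast hq
  rcases le_or_gt n 4 with hn4 | hn5
  · refine (sum_le_of_subset (S := n.divisors.erase 1) (fun d hd => ?_) (fun d _ => le_rfl)
      fun d hd => ?_).trans ?_
    · obtain ⟨h1, h2, -⟩ := mem_gcd_divisors_erase hd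
      exact mem_erase.2 ⟨by omega, Nat.mem_divisors.2 ⟨h2, by omega⟩⟩
    · have := sq_sub_one_nonneg (Nat.pos_of_mem_divisors (mem_erase.1 hd).2)
      positivity
    · interval_cases n
      · rw [show (Nat.divisors 2).erase 1 = {2} by decide]
        norm_num
        nlinarith
      · rw [show (Nat.divisors 3).erase 1 = {3} by decide]
        norm_num
        nlinarith
      · rw [show (Nat.divisors 4).erase 1 = {2, 4} by decide]
        norm_num
        have h1 : (9 : ℚ) ≤ q ^ 2 := by nlinarith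
        have h2 : (0 : ℚ) ≤ q * (q ^ 2 - 9) := mul_nonneg (by positivity) (by linarith)
        have h3 : (0 : ℚ) ≤ q ^ 2 * (q ^ 2 - 9) := mul_nonneg (by positivity) (by linarith)
        nlinarith
  · refine (sum_le_of_subset (S := Icc 2 (q + 1)) (g := fun _ => (q + 2) * q ^ (n - 2))
      (fun d hd => ?_) (fun d hd => ?_) fun d _ => by positivity).trans (le_of_eq ?_)
    · obtain ⟨h1, -, h4⟩ := mem_gcd_divisors_erase hd
      exact mem_Icc.2 ⟨h1, Nat.le_of_dvd (by omega) h4⟩
    · obtain ⟨h1, -, h4⟩ := mem_gcd_divisors_erase hd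
      have h5 : (d : ℚ) ≤ q + 1 := by exact_mod_cast Nat.le_of_dvd (by omega) h4
      have h7 : n / d ≤ n / 2 := Nat.div_le_div_left h1 (by norm_num)
      calc _ ≤ ((q + 2) * q) * (q : ℚ) ^ (n / d) := by
            gcongr
            have : (0 : ℚ) ≤ d := by positivity
            nlinarith
        _ ≤ _ := by
            rw [mul_assoc, ← pow_succ']
            gcongr
            · linarith
            · omega
    · rw [sum_const, Nat.card_Icc, nsmul_eq_mul, show q + 1 + 1 - 2 = q by omega,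
        show n - 1 = n - 2 + 1 by omega]
      ring

theorem su_le (hq : 2 ≤ q) {n : ℕ} (hn : 2 ≤ n) (h : ((q + 1 : ℕ) : ℚ) * K ≤ slBd q (q + 1) n) :
    100 * K ≤ 826 * q ^ (n - 1) := by
  obtain ⟨m, rfl⟩ : ∃ m, n = m + 1 := ⟨n - 1, by omega⟩
  rw [Nat.add_sub_cancel]
  rcases hq.eq_or_lt with rfl | hq3
  · have h1 : ∑ d ∈ (Nat.gcd (m + 1) (2 + 1)).divisors.erase 1,
        ((d : ℚ) ^ 2 - 1) * kk (2 : ℕ) ((2 + 1 : ℕ) : ℚ) ((m + 1) / d) ≤ 6 * 2 ^ m := by
      refine (sum_le_of_subset (S := {3}) (g := fun _ => 6 * 2 ^ m) (fun d hd => ?_)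
        (fun d hd => ?_) fun _ _ => by positivity).trans (by simp)
      · obtain ⟨h1, -, h2⟩ := mem_gcd_divisors_erase hd
        exact mem_singleton.2 ((Nat.prime_three.eq_one_or_self_of_dvd d h2).resolve_left (by omega))
      · obtain ⟨h1, h3, h2⟩ := mem_gcd_divisors_erase hd
        obtain rfl := (Nat.prime_three.eq_one_or_self_of_dvd d h2).resolve_left (by omega)
        rcases (by omega : m = 2 ∨ m = 5 ∨ (m + 1) / 3 + 4 ≤ m) with rfl | rfl | h4
        · norm_num [kk_one]
        · norm_num [kk_two]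
        · have h5 := kk_gu_two_le ((m + 1) / 3)
          have h6 : (2 : ℚ) ^ ((m + 1) / 3 + 4) ≤ 2 ^ m := pow_le_pow_right₀ one_le_two h4
          rw [pow_add] at h6
          push_cast
          have : (0 : ℚ) ≤ 2 ^ ((m + 1) / 3) := by positivity
          linarith
    have h2 := kk_gu_two_le (m + 1)
    rw [slBd] at h
    rw [pow_succ] at h2
    push_cast at h h1 ⊢
    have : (0 : ℚ) ≤ 2 ^ m := by positivity
    norm_num at h h1 h2 ⊢
    linarith
  · have hq' : (3 : ℚ) ≤ q := by exact_mod_cast hq3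
    have h1 := su_sum_le hq3 hn
    have h2 : slBd q (q + 1) (m + 1) ≤ 4 * q ^ (m + 1) + 4 * ((q + 2) * q ^ m) := by
      rw [slBd, Nat.cast_add_one]
      refine add_le_add (kk_gu_le hq' _) (le_trans (sum_le_sum (g := fun d : ℕ =>
        4 * (((d : ℚ) ^ 2 - 1) * q ^ ((m + 1) / d))) fun d hd => ?_) ?_)
      · have := sq_sub_one_nonneg (d := d) (by have := (mem_gcd_divisors_erase hd).1; omega)
        rw [mul_left_comm]
        gcongr
        exact kk_gu_le hq' _
      · rw [← mul_sum]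
        gcongr
        exact h1
    have h3 := h.trans h2
    rw [Nat.cast_add_one, pow_succ] at h3
    have : (0 : ℚ) ≤ q ^ m := by positivity
    refine le_of_mul_le_mul_left (a := (q : ℚ) + 1) ?_ (by linarith)
    nlinarith

end SL

end Cfsg.Agent.H76
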