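import Cfsg.Agent.H76.GenFun

/-!
# Generating functions of weighted sets and parity-sensitive coefficient bounds
-/

set_option autoImplicit false

namespace Cfsg.Agent.H76

open PowerSeries Finset

section GF

variable {S T : Type*}

/-- The generating function of the elements satisfying `P`, by size. -/
noncomputable def gf (P : T → Prop) (sz : T → ℕ) : ℚ⟦X⟧ :=
  PowerSeries.mk fun b => (Nat.card {x // P x ∧ sz x = b} : ℚ)

/-- There are finitely many elements of each size. -/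
def FinSz (P : T → Prop) (sz : T → ℕ) : Prop := ∀ b, Finite {x // P x ∧ sz x = b}

theorem coeff_gf (P : T → Prop) (sz : T → ℕ) (b : ℕ) :
    coeff b (gf P sz) = Nat.card {x // P x ∧ sz x = b} := coeff_mk _ _

theorem gf_prod {P : S → Prop} {R : T → Prop} {sz : S → ℕ} {sz' : T → ℕ} (h : FinSz P sz)
    (h' : FinSz R sz') : FinSz (fun x : S × T => P x.1 ∧ R x.2) (fun x => sz x.1 + sz' x.2) ∧
      gf (fun x : S × T => P x.1 ∧ R x.2) (fun x => sz x.1 + sz' x.2) = gf P sz * gf R sz' := by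
  have E : ∀ b, {x : S × T // (P x.1 ∧ R x.2) ∧ sz x.1 + sz' x.2 = b} ≃
      Σ p : HasAntidiagonal.antidiagonal b, {x // P x ∧ sz x = p.1.1} × {y // R y ∧ sz' y = p.1.2} :=
    fun b =>
    { toFun := fun x => ⟨⟨(sz x.1.1, sz' x.1.2), HasAntidiagonal.mem_antidiagonal.2 x.2.2⟩,
        ⟨x.1.1, x.2.1.1, rfl⟩, ⟨x.1.2, x.2.1.2, rfl⟩⟩
      invFun := fun y => ⟨(y.2.1.1, y.2.2.1), ⟨y.2.1.2.1, y.2.2.2.1⟩, by
        rw [y.2.1.2.2, y.2.2.2.2]; exact HasAntidiagonal.mem_antidiagonal.1 y.1.2⟩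
      left_inv := fun _ => rfl
      right_inv := by
        rintro ⟨⟨⟨i, j⟩, hp⟩, ⟨x, hx, hx'⟩, ⟨y, hy, hy'⟩⟩
        dsimp only at hx' hy'
        subst hx' hy'
        rfl }
  have : ∀ b, Finite {x // P x ∧ sz x = b} := h
  have : ∀ b, Finite {x // R x ∧ sz' x = b} := h'
  refine ⟨fun b => Finite.of_equiv _ (E b).symm, PowerSeries.ext fun b => ?_⟩
  rw [coeff_gf, Nat.card_congr (E b), Nat.card_sigma, coeff_mul]
  simp only [Nat.card_prod, coeff_gf]
  push_cast
  exact Finset.sum_coe_sort (HasAntidiagonal.antidiagonal b) fun p =>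
    (Nat.card {x // P x ∧ sz x = p.1} : ℚ) * Nat.card {y // R y ∧ sz' y = p.2}

theorem gf_pi {ι : Type*} [Fintype ι] {P : ι → T → Prop} {sz : ι → T → ℕ}
    (h : ∀ e, FinSz (P e) (sz e)) :
    FinSz (fun f : ι → T => ∀ e, P e (f e)) (fun f => ∑ e, sz e (f e)) ∧
      gf (fun f : ι → T => ∀ e, P e (f e)) (fun f => ∑ e, sz e (f e)) = ∏ e, gf (P e) (sz e) := by
  have E1 : ∀ e b, {x : {x // P e x} // sz e x = b} ≃ {x // P e x ∧ sz e x = b} := fun e b =>
    Equiv.subtypeSubtypeEquivSubtypeInter (P e) fun x => sz e x = b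
  have E : ∀ b, {f : ∀ e, {x // P e x} // ∑ e, sz e (f e) = b} ≃
      {f : ι → T // (∀ e, P e (f e)) ∧ ∑ e, sz e (f e) = b} := fun b =>
    { toFun := fun f => ⟨fun e => f.1 e, fun e => (f.1 e).2, f.2⟩
      invFun := fun f => ⟨fun e => ⟨f.1 e, f.2.1 e⟩, f.2.2⟩
      left_inv := fun _ => rfl
      right_inv := fun _ => rfl }
  have h1 := card_pi_size (fun e => {x // P e x}) (fun e x => sz e x)
    fun e b => have := h e b; Finite.of_equiv _ (E1 e b).symm
  refine ⟨fun b => have := (h1 b).1; Finite.of_equiv _ (E b), PowerSeries.ext fun b => ?_⟩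
  rw [coeff_gf, ← Nat.card_congr (E b), (h1 b).2]
  simp only [Nat.card_congr (E1 _ _)]
  rfl

theorem gf_fintype [Fintype T] (P : T → Prop) [DecidablePred P] (sz : T → ℕ) :
    FinSz P sz ∧ gf P sz = ∑ x ∈ univ.filter P, X ^ sz x := by
  refine ⟨fun _ => inferInstance, PowerSeries.ext fun b => ?_⟩
  rw [coeff_gf, map_sum, Nat.card_eq_fintype_card, Fintype.card_subtype]
  simp only [coeff_X_pow, sum_boole, filter_filter, eq_comm]

theorem gf_eq (a : T) {sz : T → ℕ} (h : sz a = 0) : FinSz (· = a) sz ∧ gf (· = a) sz = 1 := by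
  refine ⟨fun _ => Finite.of_injective (fun _ => ()) fun x y _ => Subtype.ext (x.2.1.trans y.2.1.symm),
    PowerSeries.ext fun b => ?_⟩
  rw [coeff_gf, coeff_one]
  split_ifs with hb
  · have : Unique {x // x = a ∧ sz x = b} := ⟨⟨⟨a, rfl, h.trans hb.symm⟩⟩, fun x => Subtype.ext x.2.1⟩
    rw [Nat.card_unique, Nat.cast_one]
  · have : IsEmpty {x // x = a ∧ sz x = b} := ⟨fun x => hb (by rw [← x.2.2, x.2.1, h])⟩
    rw [Nat.card_of_isEmpty, Nat.cast_zero]

end GF

section Bd2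

/-- Bounds for the even and the odd coefficients. -/
def Bd2 (q a b : ℚ) (f : ℚ⟦X⟧) : Prop :=
  0 ≤ a ∧ 0 ≤ b ∧ ∀ n, coeff (2 * n) f ≤ a * q ^ n ∧ coeff (2 * n + 1) f ≤ b * q ^ n

variable {q r a b : ℚ} {f : ℚ⟦X⟧}

theorem Bd2.mono {a' b' : ℚ} (h : Bd2 q a b f) (hq : 0 ≤ q) (ha : a ≤ a') (hb : b ≤ b') :
    Bd2 q a' b' f := ⟨h.1.trans ha, h.2.1.trans hb, fun n =>
  ⟨(h.2.2 n).1.trans (by gcongr), (h.2.2 n).2.trans (by gcongr)⟩⟩

theorem bd2_geo (hq : 1 ≤ q) {e : ℕ} (he : 0 < e) : Bd2 q 1 0 (geo q (2 * e)) :=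
  ⟨zero_le_one, le_rfl, fun n => by
    simp only [geo, coeff_mk]
    refine ⟨?_, by rw [if_neg fun h => by have := (dvd_mul_right 2 e).trans h; omega]; simp⟩
    split_ifs
    · rw [one_mul, Nat.mul_div_mul_left _ _ two_pos]
      exact pow_le_pow_right₀ hq (Nat.div_le_self _ _)
    · positivity⟩

theorem pow_sub_le (hr : 0 < r) (hq : r ≤ q) {n k : ℕ} (h : k ≤ n) :
    q ^ (n - k) ≤ q ^ n / r ^ k := by
  rw [le_div_iff₀ (by positivity), ← Nat.sub_add_cancel h, pow_add, Nat.add_sub_cancel]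
  have := hr.le.trans hq
  gcongr

theorem Bd2.shift_even (h : Bd2 q a b f) (hr : 0 < r) (hq : r ≤ q) (k : ℕ) :
    Bd2 q (a / r ^ k) (b / r ^ k) (f * X ^ (2 * k)) := by
  obtain ⟨ha, hb, h⟩ := h
  have h0 := hr.le.trans hq
  refine ⟨by positivity, by positivity, fun n => ?_⟩
  rw [coeff_mul_X_pow', coeff_mul_X_pow']
  constructor <;> split_ifs with hn
  · rw [← Nat.mul_sub, div_mul_eq_mul_div, mul_div_assoc]
    exact (h _).1.trans (mul_le_mul_of_nonneg_left (pow_sub_le hr hq (by omega)) ha)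
  · positivity
  · rw [show 2 * n + 1 - 2 * k = 2 * (n - k) + 1 by omega, div_mul_eq_mul_div, mul_div_assoc]
    exact (h _).2.trans (mul_le_mul_of_nonneg_left (pow_sub_le hr hq (by omega)) hb)
  · positivity

theorem Bd2.shift_odd (h : Bd2 q a b f) (hr : 0 < r) (hq : r ≤ q) (k : ℕ) :
    Bd2 q (b / r ^ (k + 1)) (a / r ^ k) (f * X ^ (2 * k + 1)) := by
  obtain ⟨ha, hb, h⟩ := h
  have h0 := hr.le.trans hq
  refine ⟨by positivity, by positivity, fun n => ?_⟩
  rw [coeff_mul_X_pow', coeff_mul_X_pow']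
  constructor <;> split_ifs with hn
  · rw [show 2 * n - (2 * k + 1) = 2 * (n - (k + 1)) + 1 by omega, div_mul_eq_mul_div,
      mul_div_assoc]
    exact (h _).2.trans (mul_le_mul_of_nonneg_left (pow_sub_le hr hq (by omega)) hb)
  · positivity
  · rw [show 2 * n + 1 - (2 * k + 1) = 2 * (n - k) by omega, div_mul_eq_mul_div, mul_div_assoc]
    exact (h _).1.trans (mul_le_mul_of_nonneg_left (pow_sub_le hr hq (by omega)) ha)
  · positivity

theorem Bd2.add {a' b' : ℚ} {g : ℚ⟦X⟧} (h : Bd2 q a b f) (h' : Bd2 q a' b' g) :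
    Bd2 q (a + a') (b + b') (f + g) :=
  ⟨add_nonneg h.1 h'.1, add_nonneg h.2.1 h'.2.1, fun n => by
    simp only [map_add, add_mul]
    exact ⟨add_le_add (h.2.2 n).1 (h'.2.2 n).1, add_le_add (h.2.2 n).2 (h'.2.2 n).2⟩⟩

theorem Bd2.mul_even (h : Bd2 q a b f) (hr : 0 < r) (hq : r ≤ q) (k : ℕ) :
    Bd2 q (a + a / r ^ k) (b + b / r ^ k) (f * (1 + X ^ (2 * k))) := by
  rw [mul_add, mul_one]
  exact h.add (h.shift_even hr hq k)

theorem Bd2.mul_odd (h : Bd2 q a b f) (hr : 0 < r) (hq : r ≤ q) (k : ℕ) :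
    Bd2 q (a + b / r ^ (k + 1)) (b + a / r ^ k) (f * (1 + X ^ (2 * k + 1))) := by
  rw [mul_add, mul_one]
  exact h.add (h.shift_odd hr hq k)

theorem Bd2.mul_geo (h : Bd2 q a b f) (hr : 1 < r) (hq : r ≤ q) {e : ℕ} (he : 0 < e) :
    Bd2 q (a / (1 - 1 / r ^ e)) (b / (1 - 1 / r ^ e)) (f * geo q (2 * (e + 1))) := by
  obtain ⟨ha, hb, h⟩ := h
  have h0 : 0 < q := by linarith
  have h1 : 0 < 1 - 1 / r ^ e := by
    rw [sub_pos, div_lt_one (by positivity)]; exact one_lt_pow₀ hr he.ne'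
  have h2 : f * geo q (2 * (e + 1)) = f + C q * (f * geo q (2 * (e + 1)) * X ^ (2 * (e + 1))) := by
    linear_combination f * geo_eq q (k := 2 * (e + 1)) (by omega)
  have key : ∀ (c : ℚ) (i : ℕ), i < 2 → 0 ≤ c → (∀ n, coeff (2 * n + i) f ≤ c * q ^ n) → ∀ n,
      coeff (2 * n + i) (f * geo q (2 * (e + 1))) ≤ c / (1 - 1 / r ^ e) * q ^ n := by
    intro c i hi hc h n
    induction n using Nat.strong_induction_on with | _ n ih => ?_
    rw [h2, map_add, coeff_C_mul, coeff_mul_X_pow']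
    have h3 : c / (1 - 1 / r ^ e) * q ^ n = c * q ^ n + c / (1 - 1 / r ^ e) * (q ^ n / r ^ e) := by
      rw [div_eq_mul_one_div (q ^ n)]
      have := h1.ne'
      generalize 1 / r ^ e = y at *
      field_simp
      ring
    rw [h3]
    refine add_le_add (h n) ?_
    split_ifs with hn
    · rw [show 2 * n + i - 2 * (e + 1) = 2 * (n - (e + 1)) + i by omega]
      refine (mul_le_mul_of_nonneg_left (ih _ (by omega)) h0.le).trans ?_
      rw [mul_left_comm, ← pow_succ', show n - (e + 1) + 1 = n - e by omega]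
      exact mul_le_mul_of_nonneg_left (pow_sub_le (by linarith) hq (by omega)) (by positivity)
    · rw [mul_zero]
      positivity
  exact ⟨by positivity, by positivity, fun n => ⟨key a 0 two_pos ha (fun n => (h n).1) n,
    key b 1 one_lt_two hb (fun n => (h n).2) n⟩⟩

/-- Multiplication by `G` multiplies the bounds by `1 + c x`. -/
def St (q a b c x : ℚ) (G : ℚ⟦X⟧) : Prop :=
  ∀ T g, 0 ≤ T → Bd2 q (a * T) (b * T) g → Bd2 q (a * (T * (1 + c * x))) (b * (T * (1 + c * x))) (g * G)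

theorem St.mul {c c' x x₀ : ℚ} {G G' : ℚ⟦X⟧} (h : St q a b c x G) (h' : St q a b c' x G')
    (hq : 0 ≤ q) (ha : 0 ≤ a) (hb : 0 ≤ b) (hc : 0 ≤ c) (hc' : 0 ≤ c') (hx : 0 ≤ x) (hx₀ : x ≤ x₀) :
    St q a b (c + c' + c * c' * x₀) x (G * G') := fun T g hT hg => by
  rw [← mul_assoc g]
  have : T * (1 + c * x) * (1 + c' * x) ≤ T * (1 + (c + c' + c * c' * x₀) * x) := by
    rw [mul_assoc]
    refine mul_le_mul_of_nonneg_left ?_ hT
    have : c * c' * x * x ≤ c * c' * x₀ * x := by gcongr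
    linarith
  exact (h' _ _ (by positivity) (h T g hT hg)).mono hq (by gcongr) (by gcongr)

theorem St.mono {c c' x : ℚ} {G : ℚ⟦X⟧} (h : St q a b c x G) (hq : 0 ≤ q) (ha : 0 ≤ a) (hb : 0 ≤ b)
    (hc : c ≤ c') (hx : 0 ≤ x) : St q a b c' x G := fun T g hT hg =>
  (h T g hT hg).mono hq (by gcongr) (by gcongr)

theorem st_even (hr : 0 < r) (hq : r ≤ q) (k : ℕ) :
    St q a b (1 / r) (1 / r ^ k) (1 + X ^ (2 * (k + 1))) := fun T g _ hg =>
  (hg.mul_even hr hq (k + 1)).mono (hr.le.trans hq) (le_of_eq (by field_simp; ring))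
    (le_of_eq (by field_simp; ring))

theorem st_odd (hr : 0 < r) (hq : r ≤ q) {c : ℚ} (h1 : a ≤ b * c) (h2 : b ≤ a * c * r) (k : ℕ) :
    St q a b c (1 / r ^ k) (1 + X ^ (2 * k + 1)) := fun T g hT hg => by
  refine (hg.mul_odd hr hq k).mono (hr.le.trans hq) ?_ ?_
  · have : b * T / r ^ (k + 1) ≤ a * c * r * T / r ^ (k + 1) := by gcongr
    refine (add_le_add_right this _).trans (le_of_eq ?_)
    field_simp
    ring
  · have : a * T / r ^ k ≤ b * c * T / r ^ k := by gcongr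
    refine (add_le_add_right this _).trans (le_of_eq ?_)
    field_simp

theorem st_geo (hr : 1 < r) (hq : r ≤ q) {c x x₀ : ℚ} (hx : 0 ≤ x) (hx₀ : x ≤ x₀) (h1 : x₀ < 1)
    (hc : x₀ ≤ c * (1 - x₀ ^ 2)) {e : ℕ} (he : 0 < e) (h : 1 / r ^ e ≤ x ^ 2) :
    St q a b c x (geo q (2 * (e + 1))) := fun T g hT hg => by
  have h2 : 0 < 1 - x₀ ^ 2 := by nlinarith
  have h3 : x ^ 2 ≤ x₀ ^ 2 := by gcongr
  have h4 : 0 ≤ c := by
    by_contra! h
    nlinarith
  have key : ∀ a, 0 ≤ a * T → a * T / (1 - 1 / r ^ e) ≤ a * (T * (1 + c * x)) := fun a ha => by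
    rw [div_le_iff₀ (by linarith), ← mul_assoc, mul_assoc (a * T)]
    refine le_mul_of_one_le_right ha ?_
    have h5 : x ≤ c * (1 - x ^ 2) := hx₀.trans (hc.trans (by gcongr))
    have h6 : (1 + c * x) * (1 - x ^ 2) ≤ (1 + c * x) * (1 - 1 / r ^ e) := by gcongr
    nlinarith
  exact (hg.mul_geo hr hq he).mono (by linarith) (key a hg.1) (key b hg.2.1)

theorem coeff_prod_le (hr : 1 < r) (hq : r ≤ q) {F : ℕ → ℚ⟦X⟧} (hF : ∀ i, NN (F i - 1)) {l l' : ℚ}
    (hl : l' * r ≤ l * (r - 1)) (hl' : 0 ≤ l') (ha : 0 ≤ a) (hb : 0 ≤ b) {K : ℕ} (hK : l ≤ r ^ K)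
    (hst : ∀ k, K ≤ k → St q a b l' (1 / r ^ k) (F (2 * k) * F (2 * k + 1)))
    (h0 : Bd2 q (a * (1 - l / r ^ K)) (b * (1 - l / r ^ K)) (∏ i ∈ range (2 * K), F i)) (N : ℕ) :
    Bd2 q a b (∏ i ∈ range N, F i) := by
  have hr0 : 0 < r := by linarith
  have hl0 : 0 ≤ l := by nlinarith
  have key : ∀ k, K ≤ k → Bd2 q (a * (1 - l / r ^ k)) (b * (1 - l / r ^ k))
      (∏ i ∈ range (2 * k), F i) := fun k hk => by
    induction hk with
    | refl => exact h0
    | @step k hk ih =>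
      have h1 : l ≤ r ^ k := hK.trans (pow_le_pow_right₀ hr.le hk)
      have h3 : 0 ≤ 1 - l / r ^ k := by rw [sub_nonneg, div_le_one (by positivity)]; exact h1
      have h4 : (1 - l / r ^ k) * (1 + l' * (1 / r ^ k)) ≤ 1 - l / r ^ (k + 1) := by
        rw [pow_succ, ← sub_nonneg]
        have hy : 0 < r ^ k := by positivity
        generalize r ^ k = y at *
        have : 1 - l / (y * r) - (1 - l / y) * (1 + l' * (1 / y)) =
            ((l * (r - 1) - l' * r) * y + l * l' * r) / (y * y * r) := by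
          field_simp
          ring
        rw [this]
        have := sub_nonneg.2 hl
        positivity
      rw [Nat.succ_eq_add_one, mul_add, mul_one, prod_range_succ, prod_range_succ, mul_assoc]
      exact (hst k hk _ _ h3 ih).mono (by linarith) (by gcongr) (by gcongr)
  have h1 := (key (N + K) (Nat.le_add_left _ _)).mono (a' := a) (b' := b) (by linarith)
    (mul_le_of_le_one_right ha (sub_le_self _ (by positivity)))
    (mul_le_of_le_one_right hb (sub_le_self _ (by positivity)))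
  exact ⟨ha, hb, fun n => ⟨(coeff_prod_mono hF _ (by omega)).trans (h1.2.2 n).1,
    (coeff_prod_mono hF _ (by omega)).trans (h1.2.2 n).2⟩⟩

theorem nn_geo_sub_one (hq : 0 ≤ q) {e : ℕ} (he : 0 < e) : NN (geo q e - 1) := by
  rw [geo_eq q he, add_sub_cancel_left]
  exact ((nn_C hq).mul (nn_X_pow _)).mul (nn_geo hq _)

theorem NN.mul_sub_one {f g : ℚ⟦X⟧} (hf : NN (f - 1)) (hg : NN (g - 1)) : NN (f * g - 1) := by
  rw [show f * g - 1 = (f - 1) * (g - 1) + (f - 1) + (g - 1) by ring]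
  exact ((hf.mul hg).add hf).add hg

theorem nn_one_add_pow_sub_one (e k : ℕ) : NN ((1 + X ^ e) ^ k - 1) := by
  induction k with
  | zero => intro n; simp
  | succ k ih => rw [pow_succ]; exact ih.mul_sub_one (by simpa using nn_X_pow e)

end Bd2

section Numbers

variable {q : ℚ}

theorem one_div_pow_le {k K : ℕ} (h : K ≤ k) : (1 : ℚ) / 3 ^ k ≤ 1 / 3 ^ K := by gcongr; norm_num

theorem st_geo_three (hq : 3 ≤ q) {a b c : ℚ} {k K : ℕ} (hK : 0 < K) (hk : K ≤ k)
    (hc : 1 / 3 ^ K ≤ c * (1 - (1 / 3 ^ K) ^ 2)) {e : ℕ} (he : 2 * k ≤ e) :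
    St q a b c (1 / 3 ^ k) (geo q (2 * (e + 1))) :=
  st_geo (by norm_num) hq (by positivity) (one_div_pow_le hk)
    (by rw [div_lt_one (by positivity)]; exact one_lt_pow₀ (by norm_num) hK.ne') hc (by omega)
    (by rw [div_pow, one_pow, ← pow_mul, mul_comm]; exact one_div_pow_le he)

/-- the generating function for symplectic groups -/
theorem bd2_sp (hq : 3 ≤ q) (N : ℕ) : Bd2 q (54 / 5) (54 / 5) (∏ i ∈ range N,
    geo q (2 * (i + 1)) * if Even (i + 1) then (1 + X ^ (i + 1)) ^ 4 else 1) := by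
  have h0 : 0 ≤ q := by linarith
  have h3 : (0 : ℚ) < 3 := by norm_num
  have h1 : (1 : ℚ) < 3 := by norm_num
  refine coeff_prod_le h1 hq (fun i => (nn_geo_sub_one h0 (by omega)).mul_sub_one ?_) (l := 2.1)
    (l' := 1.4) (K := 6) (by norm_num) (by norm_num) (by norm_num) (by norm_num) (by norm_num)
    (fun k hk => ?_) ?_ N
  · split_ifs
    · exact nn_one_add_pow_sub_one _ _
    · intro n; simp
  · rw [if_neg (by simp), if_pos (by simp [parity_simps]), mul_one]
    have e := st_even (a := 54 / 5) (b := 54 / 5) h3 hq k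
    have x0 := one_div_pow_le hk
    have x1 : (0 : ℚ) ≤ 1 / 3 ^ k := by positivity
    have g1 := st_geo_three (a := 54 / 5) (b := 54 / 5) (c := 1 / 100) hq (by norm_num) hk
      (by norm_num) (le_refl _)
    have g2 := st_geo_three (a := 54 / 5) (b := 54 / 5) (c := 1 / 100) hq (by norm_num) hk
      (by norm_num) (Nat.le_succ _)
    have e2 := e.mul e h0 (by norm_num) (by norm_num) (by norm_num) (by norm_num) x1 x0
    have := (g1.mul (g2.mul (e2.mul e2 h0 (by norm_num) (by norm_num) (by norm_num) (by norm_num)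
      x1 x0) h0 (by norm_num) (by norm_num) (by norm_num) (by norm_num) x1 x0) h0 (by norm_num)
      (by norm_num) (by norm_num) (by norm_num) x1 x0).mono (c' := 1.4) h0 (by norm_num)
      (by norm_num) (by norm_num) x1
    convert this using 3
    ring
  · have key : ∀ {a b : ℚ} {f : ℚ⟦X⟧} (k : ℕ), Bd2 q a b f →
        Bd2 q (a * (1 + 1 / 3 ^ k) ^ 4) (b * (1 + 1 / 3 ^ k) ^ 4) (f * (1 + X ^ (2 * k)) ^ 4) :=
      fun k h => by
        convert (((h.mul_even h3 hq k).mul_even h3 hq k).mul_even h3 hq k).mul_even h3 hq k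
          using 1 <;> ring
    have := key 6 (((key 5 (((key 4 (((key 3 (((key 2 (((key 1 ((bd2_geo (e := 1) (by linarith)
      one_pos).mul_geo h1 hq (e := 1) one_pos)).mul_geo h1 hq (e := 2) two_pos).mul_geo h1 hq
      (e := 3) (by omega))).mul_geo h1 hq (e := 4) (by omega)).mul_geo h1 hq (e := 5)
      (by omega))).mul_geo h1 hq (e := 6) (by omega)).mul_geo h1 hq (e := 7)
      (by omega))).mul_geo h1 hq (e := 8) (by omega)).mul_geo h1 hq (e := 9)
      (by omega))).mul_geo h1 hq (e := 10) (by omega)).mul_geo h1 hq (e := 11) (by omega))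
    convert this.mono h0 _ _ using 1
    · simp +decide [prod_range_succ, mul_assoc]
    all_goals norm_num

/-- the generating function for orthogonal groups -/
theorem bd2_o (hq : 3 ≤ q) (N : ℕ) : Bd2 q 17 (59 / 2) (∏ i ∈ range N,
    geo q (2 * (i + 1)) * if Odd (i + 1) then (1 + X ^ (i + 1)) ^ 4 else 1) := by
  have h0 : 0 ≤ q := by linarith
  have h3 : (0 : ℚ) < 3 := by norm_num
  have h1 : (1 : ℚ) < 3 := by norm_num
  refine coeff_prod_le h1 hq (fun i => (nn_geo_sub_one h0 (by omega)).mul_sub_one ?_) (l := 3.6)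
    (l' := 2.4) (K := 4) (by norm_num) (by norm_num) (by norm_num) (by norm_num) (by norm_num)
    (fun k hk => ?_) ?_ N
  · split_ifs
    · exact nn_one_add_pow_sub_one _ _
    · intro n; simp
  · rw [if_pos (by simp), if_neg (by simp [parity_simps]), mul_one]
    have e := st_odd (a := 17) (b := 59 / 2) (c := 0.58) h3 hq (by norm_num) (by norm_num) k
    have x0 := one_div_pow_le hk
    have x1 : (0 : ℚ) ≤ 1 / 3 ^ k := by positivity
    have g1 := st_geo_three (a := 17) (b := 59 / 2) (c := 1 / 80) hq (by norm_num) hk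
      (by norm_num) (le_refl _)
    have g2 := st_geo_three (a := 17) (b := 59 / 2) (c := 1 / 80) hq (by norm_num) hk
      (by norm_num) (Nat.le_succ _)
    have e2 := e.mul e h0 (by norm_num) (by norm_num) (by norm_num) (by norm_num) x1 x0
    have := ((g1.mul (e2.mul e2 h0 (by norm_num) (by norm_num) (by norm_num) (by norm_num)
      x1 x0) h0 (by norm_num) (by norm_num) (by norm_num) (by norm_num) x1 x0).mul g2 h0
      (by norm_num) (by norm_num) (by norm_num) (by norm_num) x1 x0).mono (c' := 2.4) h0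
      (by norm_num) (by norm_num) (by norm_num) x1
    convert this using 3
    ring
  · have key : ∀ {a b : ℚ} {f : ℚ⟦X⟧} (k : ℕ), Bd2 q a b f →
        Bd2 q (a * (1 + 2 * (1 / 3 ^ k) ^ 2 + (1 / 3 ^ k) ^ 4 / 9) +
          b * (4 / 3 * (1 / 3 ^ k) + 4 / 9 * (1 / 3 ^ k) ^ 3))
          (b * (1 + 2 * (1 / 3 ^ k) ^ 2 + (1 / 3 ^ k) ^ 4 / 9) +
          a * (4 * (1 / 3 ^ k) + 4 / 3 * (1 / 3 ^ k) ^ 3))
          (f * (1 + X ^ (2 * k + 1)) ^ 4) := fun {a b f} k h => by
      convert (((h.mul_odd h3 hq k).mul_odd h3 hq k).mul_odd h3 hq k).mul_odd h3 hq k using 1 <;>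
        ring
    have := (key 3 (((key 2 (((key 1 (((key 0 (bd2_geo (e := 1) (by linarith)
      one_pos)).mul_geo h1 hq (e := 1) one_pos).mul_geo h1 hq (e := 2) two_pos)).mul_geo h1 hq
      (e := 3) (by omega)).mul_geo h1 hq (e := 4) (by omega))).mul_geo h1 hq (e := 5)
      (by omega)).mul_geo h1 hq (e := 6) (by omega))).mul_geo h1 hq (e := 7) (by omega)
    convert this.mono h0 _ _ using 1
    · simp +decide [prod_range_succ, mul_assoc]
    all_goals norm_num

theorem bd2_free (hq : 3 ≤ q) (N : ℕ) :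
    Bd2 q (19 / 10) (19 / 10) (∏ i ∈ range N, geo q (2 * (i + 1))) := by
  have h0 : 0 ≤ q := by linarith
  have h1 : (1 : ℚ) < 3 := by norm_num
  refine coeff_prod_le h1 hq (fun i => nn_geo_sub_one h0 (by omega)) (l := 0.36)
    (l' := 0.24) (K := 2) (by norm_num) (by norm_num) (by norm_num) (by norm_num) (by norm_num)
    (fun k hk => ?_) ?_ N
  · have x1 : (0 : ℚ) ≤ 1 / 3 ^ k := by positivity
    have g1 := st_geo_three (a := 19 / 10) (b := 19 / 10) (c := 9 / 80) hq (by norm_num) hk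
      (by norm_num) (le_refl _)
    have g2 := st_geo_three (a := 19 / 10) (b := 19 / 10) (c := 9 / 80) hq (by norm_num) hk
      (by norm_num) (Nat.le_succ _)
    exact (g1.mul g2 h0 (by norm_num) (by norm_num) (by norm_num) (by norm_num) x1
      (one_div_pow_le hk)).mono h0 (by norm_num) (by norm_num) (by norm_num) x1
  · have := (((bd2_geo (e := 1) (by linarith) one_pos).mul_geo h1 hq (e := 1) one_pos).mul_geo h1 hq
      (e := 2) two_pos).mul_geo h1 hq (e := 3) (by omega)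
    convert this.mono h0 _ _ using 1
    · simp +decide [prod_range_succ, mul_assoc]
    all_goals norm_num

theorem bd2_split (hq : 3 ≤ q) (N : ℕ) : Bd2 q (13 / 5) (9 / 2) (∏ i ∈ range N,
    if Odd (i + 1) then (1 + X ^ (i + 1)) ^ 2 else geo q (2 * (i + 1))) := by
  have h0 : 0 ≤ q := by linarith
  have h3 : (0 : ℚ) < 3 := by norm_num
  have h1 : (1 : ℚ) < 3 := by norm_num
  refine coeff_prod_le h1 hq (fun i => ?_) (l := 2.1)
    (l' := 1.4) (K := 2) (by norm_num) (by norm_num) (by norm_num) (by norm_num) (by norm_num)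
    (fun k hk => ?_) ?_ N
  · split_ifs
    · exact nn_one_add_pow_sub_one _ _
    · exact nn_geo_sub_one h0 (by omega)
  · rw [if_pos (by simp), if_neg (by simp [parity_simps])]
    have e := st_odd (a := 13 / 5) (b := 9 / 2) (c := 0.58) h3 hq (by norm_num) (by norm_num) k
    have x0 := one_div_pow_le hk
    have x1 : (0 : ℚ) ≤ 1 / 3 ^ k := by positivity
    have g2 := st_geo_three (a := 13 / 5) (b := 9 / 2) (c := 9 / 80) hq (by norm_num) hk
      (by norm_num) (Nat.le_succ _)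
    rw [sq]
    exact ((e.mul e h0 (by norm_num) (by norm_num) (by norm_num) (by norm_num) x1 x0).mul g2 h0
      (by norm_num) (by norm_num) (by norm_num) (by norm_num) x1 x0).mono h0
      (by norm_num) (by norm_num) (by norm_num) x1
  · have := (((((bd2_geo (e := 2) (by linarith) two_pos).mul_odd h3 hq 0).mul_odd h3 hq 0).mul_odd
      h3 hq 1).mul_odd h3 hq 1).mul_geo h1 hq (e := 3) (by omega)
    convert this.mono h0 _ _ using 1
    · simp +decide only [prod_range_succ, prod_range_zero, if_true, if_false]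
      ring
    all_goals norm_num

end Numbers

end Cfsg.Agent.H76
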