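import Cfsg.Agent.H76.FConj
import Cfsg.Agent.H76.GenFun2

/-!
# Encoding of Jordan data with signs
-/

set_option autoImplicit false

namespace Cfsg.Agent.H76

open Finset

universe u w

section Part

variable {A : Type*} [CommGroup A] {Q : ℤ} {good : ℕ → Prop} {n : ℕ}

theorem fadm_iff_part [DecidableEq A] {s : Multiset (A × ℕ)} : FAdm good Q n s ↔
    (∀ x ∈ s, 0 < x.2) ∧ wt s = n ∧ ∀ e, (part e s).map (fun α => α ^ Q) = part e s ∧
      (part e s).map (fun α => α⁻¹) = part e s ∧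
      (¬ good e → ∀ α : A, α ^ 2 = 1 → Even ((part e s).count α)) := by
  have h1 : s.map (frob (-1)) = s ↔ ∀ e, (part e s).map (fun α => α⁻¹) = part e s := by
    rw [← map_eq_self_iff_part]
    exact Eq.congr_left (Multiset.map_congr rfl fun x _ => by simp [frob])
  simp only [count_part]
  exact ⟨fun h => ⟨h.adm.pos, h.adm.wt_eq, fun e => ⟨(adm_iff_part.1 h.adm).2.2 e, h1.1 h.inv e,
    fun he α hα => h.par' α hα e he⟩⟩, fun ⟨h2, h3, h4⟩ =>
    ⟨adm_iff_part.2 ⟨h2, h3, fun e => (h4 e).1⟩, h1.2 fun e => (h4 e).2.1,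
      fun α hα e he => by convert (h4 e).2.2 he α hα⟩⟩

end Part

section Field

variable {L : Type w} [Field L] {Q : ℤ} {good : ℕ → Prop} {n : ℕ}

theorem fadm_tag_of_ev {u : Multiset Lˣ} (hu : Ev Q u) {e : ℕ} (he : 0 < e) :
    FAdm good Q (e * Multiset.card u) (tag e u) := by
  classical
  refine fadm_iff_part.2 ⟨fun x hx => (mem_tag.1 hx).2 ▸ he, wt_tag _ _, fun j => ?_⟩
  by_cases hj : e = j
  · subst hj
    rw [part_tag]
    exact ⟨hu.stab, hu.inv, fun _ => (ev_iff.1 hu).2.2⟩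
  · simp [part_tag_of_ne hj]

theorem FAdm.ev_part {s : Multiset (Lˣ × ℕ)} (hs : FAdm good Q n s) {e : ℕ} (he : ¬ good e) :
    Ev Q (part e s) := by
  classical
  obtain ⟨h1, h2, h3⟩ := (fadm_iff_part.1 hs).2.2 e
  exact ev_iff.2 ⟨h1, h2, h3 he⟩

theorem card_semisimple_eq (hg : ¬ good 1) (P : Multiset (Lˣ × ℕ) → Prop) :
    Nat.card {s : Multiset (Lˣ × ℕ) // (FAdm good Q n s ∧ ∀ x ∈ s, x.2 = 1) ∧ P s} =
      Nat.card {u : Multiset Lˣ // (Ev Q u ∧ Multiset.card u = n) ∧ P (tag 1 u)} := by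
  refine (Nat.card_congr (Equiv.ofBijective (fun u => ⟨tag 1 u.1, ⟨(fadm_tag_of_ev u.2.1.1
    one_pos).cast (by rw [one_mul, u.2.1.2]), fun x hx => (mem_tag.1 hx).2⟩, u.2.2⟩) ⟨?_, ?_⟩)).symm
  · intro u v huv
    have := congrArg (fun s => part 1 s.1) huv
    exact Subtype.ext (by simpa [part_tag] using this)
  · rintro ⟨s, ⟨h1, h2⟩, h3⟩
    have h4 : tag 1 (part 1 s) = s := by rw [tag_part, Multiset.filter_eq_self.2 h2]
    refine ⟨⟨part 1 s, ⟨h1.ev_part hg, ?_⟩, by rwa [h4]⟩, Subtype.ext h4⟩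
    rw [← h1.adm.wt_eq, ← h4, wt_tag, one_mul, part_tag]

/-- the number of extra blocks -/
def ex (b : Bool × ℤˣ) : ℕ := (if b.1 then 1 else 0) + if b.2 = 1 then 0 else 1

/-- The code of the blocks of one size. -/
abbrev Cd (L : Type w) [Field L] := Multiset Lˣ × (Bool × ℤˣ) × (Bool × ℤˣ)

/-- the eigenvalues described by a code -/
def Cd.ms (x : Cd L) : Multiset Lˣ :=
  x.1 + Multiset.replicate (ex x.2.1) 1 + Multiset.replicate (ex x.2.2) (-1)

theorem Cd.card_ms (x : Cd L) :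
    Multiset.card x.ms = Multiset.card x.1 + (ex x.2.1 + ex x.2.2) := by
  simp [Cd.ms, add_assoc]

theorem exists_ex {m : ℕ} {σ : ℤˣ} (h : σ ≠ 1 → 0 < m) :
    ∃ b k, m = 2 * k + ex (b, σ) := by
  rcases Nat.even_or_odd' m with ⟨k, rfl | rfl⟩ <;> by_cases hσ : σ = 1
  · exact ⟨false, k, by simp [ex, hσ]⟩
  · exact ⟨true, k - 1, by have := h hσ; simp [ex, hσ]; omega⟩
  · exact ⟨true, k, by simp [ex, hσ]⟩
  · exact ⟨false, k, by simp [ex, hσ]⟩

theorem ex_inj {b b' : Bool} {σ : ℤˣ} {m m' : ℕ} (hm : Even m) (hm' : Even m')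
    (h : m + ex (b, σ) = m' + ex (b', σ)) : b = b' := by
  rw [Nat.even_iff] at hm hm'
  cases b <;> cases b' <;> simp [ex] at h ⊢ <;> omega

theorem Cd.ext_ms (h1 : (-1 : Lˣ) ≠ 1) {x y : Cd L} (hx : Ev Q x.1) (hy : Ev Q y.1)
    (h : x.ms = y.ms) (h2 : x.2.1.2 = y.2.1.2) (h3 : x.2.2.2 = y.2.2.2) : x = y := by
  classical
  obtain ⟨u, ⟨b, σ⟩, c, τ⟩ := x
  obtain ⟨v, ⟨b', σ'⟩, c', τ'⟩ := y
  dsimp only at hx hy h2 h3
  subst h2 h3
  have h4 := congrArg (Multiset.count 1) h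
  have h5 := congrArg (Multiset.count (-1)) h
  simp only [Cd.ms, Multiset.count_add, Multiset.count_replicate, h1, h1.symm, if_true, if_false,
    add_zero] at h4 h5
  obtain rfl := ex_inj ((ev_iff.1 hx).2.2 1 (one_pow 2)) ((ev_iff.1 hy).2.2 1 (one_pow 2)) h4
  obtain rfl := ex_inj ((ev_iff.1 hx).2.2 _ neg_one_sq) ((ev_iff.1 hy).2.2 _ neg_one_sq) h5
  simpa [Cd.ms] using h

/-- admissible codes -/
def CdOK (Q : ℤ) (gd : Prop) (x : Cd L) : Prop := Ev Q x.1 ∧ (gd ∨ x.2 = ((false, 1), (false, 1)))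

theorem exists_cd [DecidableEq Lˣ] (h1 : (-1 : Lˣ) ≠ 1) (hQ : Odd Q) {gd : Prop} {u : Multiset Lˣ}
    (h2 : u.map (fun α => α ^ Q) = u) (h3 : u.map (fun α => α⁻¹) = u)
    (h4 : ¬ gd → ∀ α : Lˣ, α ^ 2 = 1 → Even (u.count α)) {σ τ : ℤˣ} (h5 : σ ≠ 1 → gd ∧ 1 ∈ u)
    (h6 : τ ≠ 1 → gd ∧ -1 ∈ u) : ∃ x : Cd L, CdOK Q gd x ∧ x.ms = u ∧ x.2.1.2 = σ ∧ x.2.2.2 = τ := by
  by_cases hg : gd
  · obtain ⟨b, k, hk⟩ := exists_ex fun h => Multiset.count_pos.2 (h5 h).2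
    obtain ⟨c, l, hl⟩ := exists_ex fun h => Multiset.count_pos.2 (h6 h).2
    obtain ⟨v, rfl⟩ := Multiset.le_iff_exists_add.1 (show Multiset.replicate (ex (b, σ)) 1 +
        Multiset.replicate (ex (c, τ)) (-1) ≤ u from Multiset.le_iff_count.2 fun α => by
      rw [Multiset.count_add, Multiset.count_replicate, Multiset.count_replicate]
      split_ifs with h7 h8 h8
      · exact absurd (h8.trans h7.symm) h1
      · subst h7; omega
      · subst h8; omega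
      · omega)
    simp only [Multiset.map_add, Multiset.map_replicate, one_zpow, hQ.neg_one_zpow, inv_one,
      inv_neg, add_right_inj, Multiset.count_add, Multiset.count_replicate, h1, h1.symm, if_true,
      if_false, add_zero, zero_add] at h2 h3 hk hl
    refine ⟨(v, (b, σ), c, τ), ⟨ev_iff.2 ⟨h2, h3, fun α hα => ?_⟩, Or.inl hg⟩,
      by rw [Cd.ms, add_assoc, add_comm], rfl, rfl⟩
    rcases units_sq_eq_one_iff.1 hα with rfl | rfl
    exacts [⟨k, by dsimp only; omega⟩, ⟨l, by dsimp only; omega⟩]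
  · exact ⟨(u, (false, 1), false, 1), ⟨ev_iff.2 ⟨h2, h3, h4 hg⟩, Or.inr rfl⟩, by simp [Cd.ms, ex],
      by_contra fun h => hg (h5 (Ne.symm h)).1, by_contra fun h => hg (h6 (Ne.symm h)).1⟩

/-- the label described by a code -/
def decode (f : Fin n → Cd L) : Multiset (Lˣ × ℕ) × (ℕ → ℤˣ × ℤˣ) :=
  (glue fun e => (f e).ms, fun j => if h : j < n then ((f ⟨j, h⟩).2.1.2, (f ⟨j, h⟩).2.2.2) else 1)

/-- the weight of a code -/
def cwt (f : Fin n → Cd L) : ℕ := ∑ e : Fin n, (e + 1) * Multiset.card (f e).ms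

theorem part_glue_of_not {T : Type*} {f : Fin n → Multiset T} {e : ℕ} (h : ¬ (0 < e ∧ e ≤ n)) :
    part e (glue f) = 0 := part_eq_zero fun _ hx h' => h (h' ▸ mem_glue hx)

theorem decode_spec (hQ : Odd Q) {f : Fin n → Cd L} (hf : ∀ e : Fin n, CdOK Q (good (e + 1)) (f e)) :
    FAdm good Q (cwt f) (decode f).1 ∧ LabOK good (decode f).1 (decode f).2 := by
  classical
  refine ⟨fadm_iff_part.2 ⟨fun x hx => (mem_glue hx).1, wt_glue _, fun e => ?_⟩, fun j => ?_⟩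
  · by_cases he : 0 < e ∧ e ≤ n
    · obtain ⟨e, rfl⟩ := Nat.exists_eq_add_one.2 he.1
      have h1 := part_glue (fun e => (f e).ms) ⟨e, he.2⟩
      obtain ⟨h2, h3⟩ := hf ⟨e, he.2⟩
      rw [decode, h1]
      refine ⟨by simp [Cd.ms, h2.stab, hQ.neg_one_zpow], by simp [Cd.ms, h2.inv], fun h => ?_⟩
      simpa [Cd.ms, h3.resolve_left h, ex] using (ev_iff.1 h2).2.2
    · simp [decode, part_glue_of_not he]
  · simp only [decode, ← mem_part]
    split_ifs with hj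
    · have h1 := part_glue (fun e => (f e).ms) ⟨j, hj⟩
      rw [h1]
      exact ⟨fun h => ⟨(hf ⟨j, hj⟩).2.resolve_right fun h' => h (by rw [h']),
        by simp [Cd.ms, ex, show ¬ _ = _ from h]⟩, fun h => ⟨(hf ⟨j, hj⟩).2.resolve_right
          fun h' => h (by rw [h']), by simp [Cd.ms, ex, show ¬ _ = _ from h]⟩⟩
    · simp

theorem decode_inj (h1 : (-1 : Lˣ) ≠ 1) {f g : Fin n → Cd L} (hf : ∀ e, Ev Q (f e).1)
    (hg : ∀ e, Ev Q (g e).1) (h : decode f = decode g) : f = g := funext fun e => by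
  have h2 := congrFun (congrArg Prod.snd h) e
  simp only [decode, e.2, dif_pos, Prod.mk.injEq] at h2
  refine Cd.ext_ms h1 (hf e) (hg e) ?_ h2.1 h2.2
  rw [← part_glue (fun e => (f e).ms), ← part_glue (fun e => (g e).ms)]
  exact congrArg (fun x => part _ x.1) h

theorem exists_decode (h1 : (-1 : Lˣ) ≠ 1) (hQ : Odd Q) {s : Multiset (Lˣ × ℕ)}
    {τ : ℕ → ℤˣ × ℤˣ} (hs : FAdm good Q n s) (hτ : LabOK good s τ) :
    ∃ f : Fin n → Cd L, (∀ e : Fin n, CdOK Q (good (e + 1)) (f e)) ∧ cwt f = n ∧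
      decode f = (s, τ) := by
  classical
  have h2 := (fadm_iff_part.1 hs).2.2
  choose f h3 h4 h5 h6 using fun e : Fin n => exists_cd h1 hQ (h2 (e + 1)).1 (h2 (e + 1)).2.1
    (h2 (e + 1)).2.2 (fun h => by rw [mem_part]; exact (hτ e).1 h)
    (fun h => by rw [mem_part]; exact (hτ e).2 h)
  have h7 : glue (fun e => (f e).ms) = s := by
    simp only [h4]
    exact glue_part fun x hx => ⟨hs.adm.pos x hx, hs.adm.le hx⟩
  refine ⟨f, h3, by rw [cwt, ← wt_glue, h7, hs.adm.wt_eq], Prod.ext h7 (funext fun j => ?_)⟩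
  simp only [decode]
  split_ifs with hj
  · rw [h5, h6]
  · exact Prod.ext (by_contra fun h => hj (hs.adm.le ((hτ j).1 (Ne.symm h)).2))
      (by_contra fun h => hj (hs.adm.le ((hτ j).2 (Ne.symm h)).2))

theorem gf_ex (e : ℕ) : FinSz (fun _ : Bool × ℤˣ => True) (fun b => e * ex b) ∧
    gf (fun _ : Bool × ℤˣ => True) (fun b => e * ex b) = (1 + PowerSeries.X ^ e) ^ 2 := by
  refine ⟨(gf_fintype _ _).1, ?_⟩
  rw [(gf_fintype _ _).2, filter_true, Fintype.sum_prod_type]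
  simp [ex, UnitsInt.univ]
  ring

theorem gf_cd {P : Multiset Lˣ → Prop} {R S : Bool × ℤˣ → Prop} {e : ℕ}
    (hP : FinSz P fun u => e * Multiset.card u) (hR : FinSz R fun b => e * ex b)
    (hS : FinSz S fun b => e * ex b) :
    FinSz (fun x : Cd L => P x.1 ∧ R x.2.1 ∧ S x.2.2) (fun x => e * Multiset.card x.ms) ∧
    gf (fun x : Cd L => P x.1 ∧ R x.2.1 ∧ S x.2.2) (fun x => e * Multiset.card x.ms) =
      gf P (fun u => e * Multiset.card u) * (gf R (fun b => e * ex b) * gf S fun b => e * ex b) := by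
  simp only [Cd.card_ms, mul_add]
  rw [← (gf_prod hR hS).2]
  exact gf_prod hP (gf_prod hR hS).1

variable [IsAlgClosed L] {p : ℕ} [hp : Fact p.Prime] [CharP L p] {r : ℕ}

theorem gf_ev (hr : 0 < r) {e : ℕ} (he : 0 < e) :
    FinSz (Ev (A := Lˣ) ((p ^ r : ℕ) : ℤ)) (fun u => e * Multiset.card u) ∧
    gf (Ev (A := Lˣ) ((p ^ r : ℕ) : ℤ)) (fun u => e * Multiset.card u) = geo (p ^ r : ℕ) (2 * e) :=
  ⟨fun b => (card_ev_mul hr he b).1, PowerSeries.ext fun b => by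
    rw [coeff_gf, (card_ev_mul hr he b).2]⟩

theorem gf_cdOK (hr : 0 < r) (gd : Prop) [Decidable gd] {e : ℕ} (he : 0 < e) :
    FinSz (CdOK (L := L) ((p ^ r : ℕ) : ℤ) gd) (fun x => e * Multiset.card x.ms) ∧
    gf (CdOK (L := L) ((p ^ r : ℕ) : ℤ) gd) (fun x => e * Multiset.card x.ms) =
      geo (p ^ r : ℕ) (2 * e) * if gd then (1 + PowerSeries.X ^ e) ^ 4 else 1 := by
  split_ifs with h
  · have := gf_cd (gf_ev (L := L) hr he).1 (gf_ex e).1 (gf_ex e).1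
    rw [(gf_ev hr he).2, (gf_ex e).2, ← pow_add] at this
    convert this <;> simp [CdOK, h]
  · have h1 := gf_eq ((false, 1) : Bool × ℤˣ) (sz := fun b => e * ex b) (by simp [ex])
    have := gf_cd (gf_ev (L := L) hr he).1 h1.1 h1.1
    rw [(gf_ev hr he).2, h1.2, mul_one] at this
    convert this <;> simp [CdOK, h, Prod.ext_iff]

theorem card_codes (hr : 0 < r) (good : ℕ → Prop) [DecidablePred good] (n m : ℕ) :
    Finite {f : Fin n → Cd L //
      (∀ e : Fin n, CdOK ((p ^ r : ℕ) : ℤ) (good (e + 1)) (f e)) ∧ cwt f = m} ∧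
    (Nat.card {f : Fin n → Cd L //
      (∀ e : Fin n, CdOK ((p ^ r : ℕ) : ℤ) (good (e + 1)) (f e)) ∧ cwt f = m} : ℚ) =
      PowerSeries.coeff m (∏ i ∈ range n, geo (p ^ r : ℕ) (2 * (i + 1)) *
        if good (i + 1) then (1 + PowerSeries.X ^ (i + 1)) ^ 4 else 1) := by
  have h := gf_pi fun e : Fin n => (gf_cdOK (L := L) hr (good (e + 1)) (Nat.add_one_pos e)).1
  refine ⟨h.1 m, ?_⟩
  rw [← Fin.prod_univ_eq_prod_range fun i => geo (p ^ r : ℕ) (2 * (i + 1)) *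
    if good (i + 1) then (1 + PowerSeries.X ^ (i + 1)) ^ 4 else 1]
  simp only [← (gf_cdOK (L := L) hr _ (Nat.add_one_pos _)).2, ← h.2, coeff_gf]
  rfl

theorem card_labels (hr : 0 < r) (hp2 : p ≠ 2) (good : ℕ → Prop) [DecidablePred good] (n : ℕ) :
    Finite {t : Multiset (Lˣ × ℕ) × (ℕ → ℤˣ × ℤˣ) //
      FAdm good ((p ^ r : ℕ) : ℤ) n t.1 ∧ LabOK good t.1 t.2} ∧
    (Nat.card {t : Multiset (Lˣ × ℕ) × (ℕ → ℤˣ × ℤˣ) //
      FAdm good ((p ^ r : ℕ) : ℤ) n t.1 ∧ LabOK good t.1 t.2} : ℚ) =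
      PowerSeries.coeff n (∏ i ∈ range n, geo (p ^ r : ℕ) (2 * (i + 1)) *
        if good (i + 1) then (1 + PowerSeries.X ^ (i + 1)) ^ 4 else 1) := by
  have h1 : (-1 : Lˣ) ≠ 1 := neg_one_ne_one_of_two fun h => hp2 ((two_eq_zero_iff L p).1 h)
  have hQ : Odd ((p ^ r : ℕ) : ℤ) := by exact_mod_cast (hp.out.odd_of_ne_two hp2).pow
  have E : {f : Fin n → Cd L //
      (∀ e : Fin n, CdOK ((p ^ r : ℕ) : ℤ) (good (e + 1)) (f e)) ∧ cwt f = n} ≃
      {t : Multiset (Lˣ × ℕ) × (ℕ → ℤˣ × ℤˣ) //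
        FAdm good ((p ^ r : ℕ) : ℤ) n t.1 ∧ LabOK good t.1 t.2} :=
    Equiv.ofBijective (fun f => ⟨decode f.1, (decode_spec hQ f.2.1).1.cast f.2.2,
      (decode_spec hQ f.2.1).2⟩) ⟨fun f g h => Subtype.ext (decode_inj h1 (fun e => (f.2.1 e).1)
        (fun e => (g.2.1 e).1) (congrArg Subtype.val h)), fun t => by
      obtain ⟨f, h2, h3, h4⟩ := exists_decode h1 hQ t.2.1 t.2.2
      exact ⟨⟨f, h2, h3⟩, Subtype.ext h4⟩⟩
  have h := card_codes (L := L) hr good n n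
  exact ⟨have := h.1; Finite.of_equiv _ E, by rw [← Nat.card_congr E, h.2]⟩

end Field

end Cfsg.Agent.H76
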