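import Cfsg.Agent.H96.D4Defs

/-! Odd order groups of automorphisms of the Sylow `2`-subgroup of `³D₄(2)`. -/

set_option autoImplicit false

namespace Cfsg.Agent.H76.D4As2

open Cfsg.Agent.H96.DF Subgroup

universe u

theorem conj_p {G : Type*} [Group G] [Finite G] {p : ℕ} [Fact p.Prime] {P R : Subgroup G}
    (hP : Nat.card P = p) (hG : ¬ p ^ 2 ∣ Nat.card G) (hR : IsPGroup p R) :
    ∃ g : G, ∀ r ∈ R, g⁻¹ * r * g ∈ P := by
  have h1 : IsPGroup p P := IsPGroup.of_card (n := 1) (by rw [hP, pow_one])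
  have h2 : ¬ p ∣ P.index := fun h => hG (by
    rw [← P.card_mul_index, hP, pow_two]; exact mul_dvd_mul_left _ h)
  obtain ⟨S, hS⟩ := hR.exists_le_sylow
  obtain ⟨g, hg⟩ := MulAction.exists_smul_eq G (h1.toSylow h2) S
  refine ⟨g, fun r hr => ?_⟩
  have k : r ∈ (S : Subgroup G) := hS hr
  rw [← hg, Sylow.coe_subgroup_smul, mem_pointwise_smul_iff_inv_smul_mem] at k
  simpa using k

theorem odd_conj {G : Type*} [Group G] [Finite G] (hG : Nat.card G ∣ 168) {M S H : Subgroup G}
    (hM : Nat.card M = 7) (hS : Nat.card S = 3) (hH : Odd (Nat.card H)) :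
    ∃ g : G, ∀ h ∈ H, (∀ m ∈ M, g⁻¹ * h * g * m * (g⁻¹ * h * g)⁻¹ ∈ M) ∨ g⁻¹ * h * g ∈ S := by
  have : Fact (Nat.Prime 7) := ⟨by norm_num⟩
  have : Fact (Nat.Prime 3) := ⟨by norm_num⟩
  have h21 : Nat.card H ∣ 21 := by
    have h1 : Nat.card H ∣ 2 ^ 3 * 21 := H.card_subgroup_dvd_card.trans hG
    exact (Nat.Coprime.pow_right 3 (Nat.coprime_two_right.2 hH)).dvd_of_dvd_mul_left h1
  by_cases h7 : 7 ∣ Nat.card H
  · obtain ⟨P⟩ : Nonempty (Sylow 7 H) := inferInstance
    have c1 : 7 ∣ Nat.card P := P.dvd_card_of_dvd_card h7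
    have c2 := (P : Subgroup H).card_mul_index
    have c3 : (P : Subgroup H).index ∣ 3 := by
      have : 7 * (P : Subgroup H).index ∣ 7 * 3 :=
        (mul_dvd_mul_right c1 _).trans (c2 ▸ h21)
      exact Nat.dvd_of_mul_dvd_mul_left (by norm_num) this
    have c4 : Nat.card (Sylow 7 H) = 1 := by
      have a := card_sylow_modEq_one 7 H
      have b := P.card_dvd_index.trans c3
      rcases (Nat.dvd_prime (by norm_num)).1 b with k | k
      · exact k
      · rw [k] at a; exact absurd a (by decide)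
    have : Subsingleton (Sylow 7 H) := (Nat.card_eq_one_iff_unique.1 c4).1
    have hn := P.normal_of_subsingleton
    obtain ⟨g, hg⟩ := conj_p (R := (P : Subgroup H).map H.subtype) hM
      (fun h => absurd (h.trans hG) (by decide)) (P.isPGroup'.map _)
    let f : P → M := fun r => ⟨g⁻¹ * r.1.1 * g, hg _ ⟨r.1, r.2, rfl⟩⟩
    have fi : Function.Injective f := fun a b e => by
      have := congrArg Subtype.val e
      simp only [f, mul_left_inj, mul_right_inj] at this
      exact Subtype.ext (Subtype.ext this)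
    have fs := (fi.bijective_of_nat_card_le (hM.le.trans (Nat.le_of_dvd Nat.card_pos c1))).2
    refine ⟨g, fun h hh => Or.inl fun m hm => ?_⟩
    obtain ⟨r, hr⟩ := fs ⟨m, hm⟩
    have e : g⁻¹ * r.1.1 * g = m := congrArg Subtype.val hr
    have := hg _ ⟨_, hn.conj_mem r.1 r.2 ⟨h, hh⟩, rfl⟩
    rw [← e]
    convert this using 1
    simp [mul_assoc]
  · have h3 : Nat.card H ∣ 3 ^ 1 :=
      ((Nat.Prime.coprime_iff_not_dvd (by norm_num)).2 h7).symm.dvd_of_dvd_mul_left (n := 3 ^ 1) h21
    obtain ⟨n, -, hn⟩ := (Nat.dvd_prime_pow (by norm_num)).1 h3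
    obtain ⟨g, hg⟩ := conj_p (R := H) hS (fun h => absurd (h.trans hG) (by decide)) (IsPGroup.of_card hn)
    exact ⟨g, fun h hh => Or.inr (hg h hh)⟩

variable {F K : Type u} [Field F] [Field K] [Algebra F K] {C : Tri F K}

theorem two (q : Nat.card F = 2) (c : F) : c = 0 ∨ c = 1 := by
  obtain ⟨y, -, hy⟩ := (Nat.card_eq_two_iff' (0 : F)).1 q
  by_cases h : c = 0
  exacts [Or.inl h, Or.inr ((hy c h).trans (hy 1 one_ne_zero).symm)]

theorem t_eq (h : ChS C) (β : MulAut (U C)) (g : U C) : (β g).t = (β (xt C g.t)).t := by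
  have k := mem_Q.1 (h.q β ((xt C g.t)⁻¹ * g) (by simp [mem_Q, xt]))
  rw [map_mul, map_inv, U.mul_t, U.inv_t] at k
  exact (neg_add_eq_zero.1 k).symm

theorem u_eq (h : ChS C) (q : Nat.card F = 2) (β : MulAut (U C)) (g : U C) : (β g).u = g.u := by
  rcases two q g.u with a | a
  · exact (h.e β g a).trans a.symm
  · rcases two q (β g).u with b | b
    · have := mem_E.1 (h.e β⁻¹ _ b)
      rw [MulAut.inv_apply_self, a] at this
      exact absurd this one_ne_zero
    · rw [a, b]

/-- the action on `U / Q` -/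
def τ0 (h : ChS C) (q : Nat.card F = 2) : MulAut (U C) →* Module.End F K where
  toFun β :=
    { toFun := fun t => (β (xt C t)).t
      map_add' := fun s t => by
        rw [← U.mul_t, ← map_mul, t_eq h β (_ * _)]; rfl
      map_smul' := fun c t => by
        rcases two q c with rfl | rfl
        · rw [zero_smul, show xt C 0 = 1 from rfl, map_one]; simp
        · simp }
  map_one' := LinearMap.ext fun _ => rfl
  map_mul' β γ := LinearMap.ext fun t => t_eq h β (γ (xt C t))

/-- the action on `U / Q` -/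
def τ (h : ChS C) (q : Nat.card F = 2) : MulAut (U C) →* (Module.End F K)ˣ := (τ0 h q).toHomUnits

theorem τ_apply (h : ChS C) (q : Nat.card F = 2) (β : MulAut (U C)) (g : U C) :
    (τ h q β).1 g.t = (β g).t := (t_eq h β g).symm

theorem lam_of (h : ChS C) (q : Nat.card F = 2) {β : MulAut (U C)} {c : Kˣ} {φ : RingAut K}
    (e : ∀ t, (τ h q β).1 t = c * φ t) : Lam C β := by
  refine ⟨(c, 1), φ, fun g => ⟨?_, ?_⟩⟩
  · change -((c : K) * φ g.t) + (β g).t = 0
    rw [← τ_apply h q, e, neg_add_cancel]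
  · change -((1 : F) * fF C φ g.u) + (β g).u = 0
    rw [u_eq h q]
    rcases two q g.u with a | a <;> simp [a]

include C in
theorem card_gl [Finite K] (q : Nat.card F = 2) : Nat.card (Module.End F K)ˣ = 168 := by
  have : Finite F := Finite.of_injective _ (algebraMap F K).injective
  have := Fintype.ofFinite F
  classical
  have b := Module.finBasisOfFinrankEq F K C.finrank
  rw [← Nat.card_congr (Matrix.GeneralLinearGroup.toLin' b).toEquiv, Matrix.card_GL_field,
    ← Nat.card_eq_fintype_card, q]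
  decide

theorem as2 [Finite K] (h : ChS C) : AS2Stmt C := by
  intro q L hL
  have : Finite (Module.End F K) := Finite.of_injective _ DFunLike.coe_injective
  let π := (τ h q).rangeRestrict
  have πs : Function.Surjective π := (τ h q).rangeRestrict_surjective
  have hG : Nat.card (τ h q).range ∣ 168 := card_gl (C := C) q ▸ (τ h q).range.card_subgroup_dvd_card
  let μ : Kˣ →* (τ h q).range := π.comp ((tor C).comp (MonoidHom.inl _ _))
  have μa : ∀ c t, (μ c).1.1 t = c * t := fun c t => rfl
  have hM : Nat.card μ.range = 7 := by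
    rw [← Nat.card_congr (MonoidHom.ofInjective (f := μ) fun a b e => Units.ext (by
      have := μa a 1
      rw [e, μa] at this
      simpa using this.symm)).toEquiv, Nat.card_units, C.card, q]
    norm_num
  let ν : RingAut K →* (τ h q).range := π.comp (fld C)
  have νa : ∀ φ t, (ν φ).1.1 t = φ t := fun φ t => rfl
  have νi : Function.Injective ν := fun a b e => RingEquiv.ext fun t => by rw [← νa, e, νa]
  have hS : Nat.card ((zpowers (C.σ : RingAut K)).map ν) = 3 := by
    have : Fact (Nat.Prime 3) := ⟨by norm_num⟩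
    rw [card_map_of_injective νi, Nat.card_zpowers]
    refine orderOf_eq_prime (RingEquiv.ext fun t => C.σ3 t) fun e => ?_
    obtain ⟨a, ha⟩ := C.exists_not_fix
    exact ha (RingEquiv.congr_fun e a)
  obtain ⟨g, hg⟩ := odd_conj hG hM hS (H := L.map π) (hL.of_dvd_nat (card_map_dvd _ _))
  obtain ⟨β, rfl⟩ := πs g
  refine ⟨β, fun l hl => ?_⟩
  have k := hg _ ⟨l, hl, rfl⟩
  rw [← map_inv, ← map_mul, ← map_mul] at k
  generalize β⁻¹ * l * β = γ at k
  rcases k with k | ⟨φ, -, k⟩
  · set f := (π γ).1 with hf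
    have fi : Function.Injective f.1 := ((Module.End.isUnit_iff _).1 f.isUnit).1
    have f1 : f.1 1 ≠ 0 := fun e => one_ne_zero (fi (e.trans (map_zero _).symm))
    have fm : ∀ c d, f.1 (c * d) * f.1 1 = f.1 c * f.1 d := fun c d => by
      by_cases hc : c = 0
      · simp [hc]
      obtain ⟨c', e⟩ := k _ ⟨Units.mk0 c hc, rfl⟩
      have e1 : ∀ t, f.1 (c * t) = c' * f.1 t := fun t => by
        have e2 : μ c' * π γ = π γ * μ (Units.mk0 c hc) := by rw [e]; group
        exact (congrArg (fun x : (τ h q).range => x.1.1 t) e2).symm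
      have := e1 1
      rw [mul_one] at this
      rw [e1, this]; ring
    let φ0 : K →+* K :=
      { toFun := fun t => f.1 t / f.1 1
        map_one' := div_self f1
        map_mul' := fun a b => by field_simp; exact fm a b
        map_zero' := by simp
        map_add' := fun a b => by rw [map_add, add_div] }
    refine lam_of h q (c := Units.mk0 _ f1)
      (φ := RingEquiv.ofBijective φ0 (Finite.injective_iff_bijective.1 φ0.injective)) fun t => ?_
    exact (mul_div_cancel₀ _ f1).symm
  · exact lam_of h q (c := 1) (φ := φ) fun t => by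
      rw [Units.val_one, one_mul, ← νa, k]; rfl

end Cfsg.Agent.H76.D4As2
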