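import Cfsg.Agent.H99.E72Defs
import Cfsg.Agent.S2457
import Cfsg.Agent.S2251
import Cfsg.Agent.S1163
import Cfsg.Agent.S2238
import Cfsg.Agent.H39.SzOvoid

/-!
# `Sz(8)` is `(5, 5, 2)`-generated
-/

set_option autoImplicit false

namespace Cfsg.Agent.H76.E72Gens

open Cfsg Cfsg.Agent.H99.E72 Subgroup

universe u

theorem cen {Γ : Type*} [Group Γ] [Finite Γ] {U : Subgroup Γ} (hU : IsCyclic U) {b : Γ}
    (hb : b ∈ normalizer (U : Set Γ)) (h5 : b ^ 5 = 1) (hc : Nat.Coprime 5 (Nat.card U).totient) :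
    b ∈ centralizer (U : Set Γ) := by
  have h1 : orderOf (U.normalizerMonoidHom ⟨b, hb⟩) ∣ 5 := orderOf_dvd_of_pow_eq_one (by
    rw [← map_pow, show (⟨b, hb⟩ : normalizer (U : Set Γ)) ^ 5 = 1 from Subtype.ext h5, map_one])
  have h2 := orderOf_dvd_natCard (U.normalizerMonoidHom ⟨b, hb⟩)
  rw [IsCyclic.card_mulAut] at h2
  have h3 : (⟨b, hb⟩ : normalizer (U : Set Γ)) ∈ U.normalizerMonoidHom.ker :=
    orderOf_eq_one_iff.1 (Nat.eq_one_of_dvd_coprimes hc h1 h2)
  rwa [normalizerMonoidHom_ker] at h3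

theorem gens : GenSStmt.{u} := by
  intro F _ _ hF
  have hF' : Fintype.card F = 2 ^ (2 * 1 + 1) := hF
  suffices H : ∀ n : ℕ, n = 2 ^ (1 + 1) → Gen552 (Lie.Sz F n) from H 4 rfl
  intro n hn
  subst hn
  obtain ⟨hc, S, -, hS, -⟩ := S1163.result le_rfl hF'
  have hc : Nat.card (Lie.Sz F (2 ^ (1 + 1))) = 29120 := hc
  have hS : (normalizer ((S : Subgroup (Lie.Sz F (2 ^ (1 + 1)))) : Set (Lie.Sz F (2 ^ (1 + 1))))).index
    = 65 := hS
  have : Fact (Nat.Prime 2) := ⟨Nat.prime_two⟩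
  have : Fact (Nat.Prime 5) := ⟨Nat.prime_five⟩
  obtain ⟨x, hx⟩ := exists_prime_orderOf_dvd_card' (G := Lie.Sz F (2 ^ (1 + 1))) 5 (by rw [hc]; norm_num)
  obtain ⟨a, ha⟩ := exists_prime_orderOf_dvd_card' (G := Lie.Sz F (2 ^ (1 + 1))) 2 (by rw [hc]; norm_num)
  obtain ⟨p, q, e⟩ := S2457.result 1 le_rfl hF' x (by omega) a (fun h => by simp [h] at ha)
  have ob : ∀ p : Lie.Sz F (2 ^ (1 + 1)), orderOf (p * x * p⁻¹) = 5 := fun p =>
    (MulEquiv.orderOf_eq (MulAut.conj p) x).trans hx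
  have hb := ob p
  have hc' := ob q
  generalize p * x * p⁻¹ = b at e hb
  generalize q * x * q⁻¹ = c at e hc'
  refine ⟨b, c, hb ▸ pow_orderOf_eq_one b, hc' ▸ pow_orderOf_eq_one c,
    e ▸ orderOf_dvd_iff_pow_eq_one.1 ha.dvd, ?_⟩
  by_contra hne
  let f := H39.szEquivLieSz (F := F) le_rfl hF'
  have cΓ : Nat.card (Sz F 1) = 29120 := (Nat.card_congr f.toEquiv).trans hc
  have hM : (closure {b, c}).comap f.toMonoidHom ≠ ⊤ := fun h => hne (eq_top_iff.2 fun y _ => by
    have : f.symm y ∈ (closure {b, c}).comap f.toMonoidHom := h ▸ mem_top _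
    simpa using this)
  have mb : f.symm b ∈ (closure {b, c}).comap f.toMonoidHom := by
    simpa using subset_closure (Set.mem_insert b {c})
  have mc : f.symm c ∈ (closure {b, c}).comap f.toMonoidHom := by
    simpa using subset_closure (Set.mem_insert_of_mem b (Set.mem_singleton c))
  have hb' : orderOf (f.symm b) = 5 := (f.symm.orderOf_eq b).trans hb
  have hc'' : orderOf (f.symm c) = 5 := (f.symm.orderOf_eq c).trans hc'
  have ha' : orderOf (f.symm b * f.symm c) = 2 := by
    rw [← map_mul, ← e, f.symm.orderOf_eq, ha]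
  rcases S2251.result le_rfl hF' _ hM with ⟨P, hP⟩ | ⟨U, hU, cU, hP⟩ | ⟨_, _, _, k, k1, k2, -⟩
  · let P' := P.mapSurjective (f := f.toMonoidHom) f.surjective
    have h1 : b ∈ normalizer (P' : Set (Lie.Sz F (2 ^ (1 + 1)))) :=
      le_normalizer_map f.toMonoidHom ⟨f.symm b, hP mb, by simp⟩
    have h2 := card_mul_index (normalizer (P' : Set (Lie.Sz F (2 ^ (1 + 1)))))
    rw [← P'.card_eq_index_normalizer, S.card_eq_index_normalizer.trans hS, hc] at h2
    have h3 := Subgroup.orderOf_dvd_natCard _ h1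
    rw [hb] at h3
    generalize Nat.card (normalizer (P' : Set (Lie.Sz F (2 ^ (1 + 1))))) = n at h2 h3
    omega
  · have hb := hP mb
    have hc := hP mc
    generalize f.symm b = b at hb hb' ha'
    generalize f.symm c = c at hc hc'' ha'
    have key : ∀ n, Nat.card U = n → Nat.Coprime 5 n.totient → Nat.Coprime n 5 → n ≠ 1 → False := by
      intro n hn h1 h2 h3
      have h4 := cen hU hb (hb' ▸ pow_orderOf_eq_one b) (hn ▸ h1)
      obtain ⟨⟨y, hy⟩, oy⟩ := hU.exists_ofOrder_eq_natCard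
      have oy : orderOf y = n := (Subgroup.orderOf_coe (⟨y, hy⟩ : U)).trans (oy.trans hn)
      have h5 : orderOf (y * b) = n * 5 := by
        rw [Commute.orderOf_mul_eq_mul_orderOf_of_coprime (mem_centralizer_iff.1 h4 y hy)
          (by rwa [oy, hb']), oy, hb']
      obtain ⟨W, ⟨hW, mW⟩, -⟩ := S2238.result le_rfl hF' (y * b) (fun h => by
        rw [h, orderOf_one] at h5; omega)
      have h6 := orderOf_dvd_natCard _ mW
      rw [h5] at h6
      rcases hW with ⟨Q, rfl⟩ | ⟨-, hW⟩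
      · obtain ⟨j, hj⟩ := IsPGroup.iff_card.1 Q.isPGroup'
        rw [hj] at h6
        exact absurd (Nat.prime_five.dvd_of_dvd_pow ((Dvd.intro_left _ rfl).trans h6)) (by norm_num)
      · have hW : Nat.card W = 7 ∨ Nat.card W = 13 ∨ Nat.card W = 5 := hW
        have h7 := (Dvd.intro_left _ rfl).trans h6
        rcases hW with hW | hW | hW <;> rw [hW] at h6 h7
        · omega
        · omega
        · exact h3 (Nat.dvd_one.1 (Nat.dvd_of_mul_dvd_mul_right (by norm_num : 0 < 5) (by simpa using h6)))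
    have cU : Nat.card U = 7 ∨ Nat.card U = 13 ∨ Nat.card U = 5 := cU
    rcases cU with cU | cU | cU
    · exact key 7 cU (by decide) (by decide) (by decide)
    · exact key 13 cU (by decide) (by decide) (by decide)
    · have hp : IsPGroup 5 U := IsPGroup.of_card (n := 1) cU
      have hi : ¬ 5 ∣ U.index := by
        have := card_mul_index U
        rw [cU, cΓ] at this
        omega
      have m : ∀ y, y ∈ normalizer (U : Set (Sz F 1)) → orderOf y = 5 → y ∈ U := fun y hy oy => by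
        have h1 : IsPGroup 5 (zpowers y) := IsPGroup.of_card (n := 1) (by rw [Nat.card_zpowers, oy]; rfl)
        have h2 := h1.inf_normalizer_sylow (hp.toSylow hi)
        exact (h2.le ⟨mem_zpowers y, hy⟩).2
      have := orderOf_dvd_natCard _ (mul_mem (m b hb hb') (m c hc hc''))
      rw [ha', cU] at this
      omega
  · omega

end Cfsg.Agent.H76.E72Gens
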