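import Mathlib
import Cfsg.Agent.H37.FkTF
import Cfsg.Agent.H40.RootSL2
import Cfsg.Agent.H40.Cent2
import Cfsg.Agent.H80.TwBase

/-!
# Root `SL₂`'s in the fixed points of an automorphism of a Chevalley group
-/

set_option autoImplicit false

namespace Cfsg.Agent.H76.Te6

open Equiv Cfsg.Lie Cfsg.Agent.H37 Cfsg.Agent.H34 Cfsg.Agent.H34.Split Cfsg.Agent.H40
  Cfsg.Agent.H37.FK Matrix Subgroup

section sl2

variable {E F : Type} [Field E] [Field F] {G : Type*} [Group G]

theorem slW_eq : (slW : SL2 F) = slX 1 * slY (-1) * slX 1 := by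
  ext i j; fin_cases i <;> fin_cases j <;>
    simp [coe_slY, coe_slX, coe_slW, Matrix.mul_apply, Fin.sum_univ_two]

theorem sl_ext {f g : SL2 F →* G} (h1 : ∀ t, f (slX t) = g (slX t)) (h2 : ∀ t, f (slY t) = g (slY t))
    (a : SL2 F) : f a = g a :=
  sl2_induction (P := fun a => f a = g a) h1 (by simp only [slW_eq, map_mul, h1, h2])
    (fun a b ha hb => by simp only [map_mul, ha, hb]) a

/-- change of field -/
abbrev mp (f : E →+* F) : SL2 E →* SL2 F := SpecialLinearGroup.map f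

theorem mp_apply (f : E →+* F) (a : SL2 E) (i j : Fin 2) : mp f a i j = f (a i j) := rfl

theorem mp_X (f : E →+* F) (t : E) : mp f (slX t) = slX (f t) := by
  ext i j; rw [mp_apply]; fin_cases i <;> fin_cases j <;> simp [slX]

theorem mp_Y (f : E →+* F) (t : E) : mp f (slY t) = slY (f t) := by
  ext i j; rw [mp_apply]; fin_cases i <;> fin_cases j <;> simp [slY]

theorem mp_W (f : E →+* F) : mp f slW = slW := by
  simp only [slW_eq, map_mul, mp_X, mp_Y, map_one, map_neg]

theorem mp_neg_one (f : E →+* F) : mp f (-1) = -1 := by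
  ext i j; fin_cases i <;> fin_cases j <;> simp [mp_apply]

theorem mp_inj (f : E →+* F) : Function.Injective (mp f) := fun a b h => by
  ext i j; exact f.injective (by rw [← mp_apply, h, mp_apply])

theorem exists_mp (k : Subfield F) (a : SL2 F) (h : ∀ i j, a i j ∈ k) : ∃ b, mp k.subtype b = a :=
  ⟨⟨Matrix.of fun i j => ⟨a i j, h i j⟩, k.subtype.injective (by
    rw [RingHom.map_det, map_one]; exact a.det_coe)⟩, Subtype.ext (by ext i j; rfl)⟩

theorem slW_sq : (slW : SL2 F) * slW = -1 := by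
  ext i j; fin_cases i <;> fin_cases j <;> simp [coe_slW, Matrix.mul_apply, Fin.sum_univ_two]

theorem two_W : Two (slW : SL2 F) :=
  ⟨2, by rw [show 2 ^ 2 = 2 * 2 from rfl, pow_mul, pow_two slW, slW_sq]; simp⟩

theorem neg_one_ne (h2 : (2 : F) ≠ 0) : (-1 : SL2 F) ≠ 1 := fun e => h2 (by
  have := congrArg (fun a : SL2 F => a 0 0) e
  simp at this
  linear_combination -this)

theorem hasD8 (h2 : (2 : F) ≠ 0) (f : SL2 F →* G) (hf : Function.Injective f) {h : G}
    (hh : h * h = 1) (ha : ActsAs h f (-1)) : HasD8 G := by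
  have e : h * f slW * h⁻¹ = (f slW)⁻¹ := by
    have e1 : (slW : SL2 F)⁻¹ = slX (-1) * slY 1 * slX (-1) := by
      rw [inv_eq_iff_mul_eq_one]
      ext i j; fin_cases i <;> fin_cases j <;>
        simp [coe_slY, coe_slX, coe_slW, Matrix.mul_apply, Fin.sum_univ_two]
    have a1 : h * f (up 1) * h⁻¹ = f (up (-1)) := by simpa using ha.1 1
    have a2 : h * f (lo (-1)) * h⁻¹ = f (lo 1) := by simpa using ha.2 (-1)
    change h * f (slX 1) * h⁻¹ = f (slX (-1)) at a1
    change h * f (slY (-1)) * h⁻¹ = f (slY 1) at a2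
    rw [← map_inv, e1, map_mul, map_mul, ← a1, ← a2, slW_eq, map_mul, map_mul]
    group
  have hi : h⁻¹ = h := inv_eq_of_mul_eq_one_right hh
  rw [hi] at e
  refine ⟨h, h * f slW, hh, ?_, ?_, fun e' => ?_⟩
  · rw [← mul_assoc, e, inv_mul_cancel]
  · rw [← mul_assoc, hh, one_mul]; exact two_W.map f
  · rw [← mul_assoc, hh, one_mul, e, eq_inv_iff_mul_eq_one, ← map_mul, slW_sq] at e'
    exact neg_one_ne h2 (hf (e'.trans f.map_one.symm))

end sl2

section maps

variable {K G : Type*} [Group K] [Group G] {A B C : Subgroup K} {g h : K}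

theorem maps_inv (m : Maps g A B) : Maps g⁻¹ B A := fun x => by
  rw [m]; simp [mul_assoc]

theorem maps_mul (m : Maps g A B) (m' : Maps h B C) : Maps (h * g) A C := fun x => by
  rw [m, m']; simp [mul_assoc]

theorem maps_comap (j : K →* G) {A B : Subgroup G} (m : Maps (j g) A B) :
    Maps g (A.comap j) (B.comap j) := fun x => by
  rw [mem_comap, mem_comap, m, map_mul, map_mul, map_inv]

theorem reach_of_maps (m : Maps g A B) {x : K} (hx : x ∈ B) (t : Two x) :
    Reach {x | x ∈ A ∧ Two x} x := by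
  have := Reach.conj g (Reach.base (A := {x | x ∈ A ∧ Two x}) (x := g⁻¹ * x * g⁻¹⁻¹)
    ⟨(maps_inv m x).1 hx, t.conj _⟩)
  simpa [mul_assoc] using this

/-- a homomorphism into the image of an injective homomorphism -/
noncomputable def lf {A : Type*} [Group A] (j : K →* G) (hj : Function.Injective j) (f : A →* G)
    (hf : ∀ a, f a ∈ j.range) : A →* K :=
  (MonoidHom.ofInjective hj).symm.toMonoidHom.comp (f.codRestrict _ hf)

theorem j_lf {A : Type*} [Group A] (j : K →* G) (hj : Function.Injective j) (f : A →* G)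
    (hf : ∀ a, f a ∈ j.range) (a : A) : j (lf j hj f hf a) = f a :=
  MonoidHom.apply_ofInjective_symm hj _

end maps

section chev

variable {D : ChevalleyDatum} (C : Cert D) {F : Type} [Field F]

theorem τ_eq {r s k : Fin D.nroots}
    (h : ∀ i < D.rank, D.cartan i k = D.cartan i s - D.pairing r s * D.cartan i r) :
    C.R.τ r s = k := by
  apply C.R.rc_inj
  rw [C.R.rc_τ, ← sub_eq_zero]
  refine C.wtv_inj _ fun i => ?_
  rw [map_sub, map_sub, map_smul, pair_eq, smul_eq_mul]
  show C.R.wt s i - _ * C.R.wt r i - C.R.wt k i = 0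
  rw [C.wt_eq, C.wt_eq, C.wt_eq, h i i.2, sub_self]

variable (F) in
/-- the root `SL₂` -/
noncomputable def Jh (r : Fin D.nroots) : Subgroup (D.group F) :=
  (C.split F).X r ⊔ (C.split F).X (C.S.neg r)

theorem Jh_neg (r : Fin D.nroots) : Jh C F (C.S.neg r) = Jh C F r := by
  rw [Jh, C.S.neg_neg, sup_comm, Jh]

theorem range_rk (r : Fin D.nroots) : (rk C F r.2).hom.range = Jh C F r := by
  refine le_antisymm (rk_range_le r.2 (fun t => mem_sup_left (Cert.xg_mem_X r t)) fun t =>
    mem_sup_right (Cert.mem_X.2 ⟨t, by rw [sgn_neg, C.neg_val]⟩)) (sup_le ?_ ?_)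
  · intro x hx
    obtain ⟨t, rfl⟩ := Cert.mem_X.1 hx
    exact ⟨_, RankOneRel.hom_X _ t⟩
  · intro x hx
    obtain ⟨t, rfl⟩ := Cert.mem_X.1 hx
    exact ⟨_, by rw [RankOneRel.hom_Y, sgn_neg, C.neg_val]⟩

variable {C}

theorem maps_N {n : D.group F} (hn : n ∈ (C.split F).N) (r : Fin D.nroots) :
    Maps n (Jh C F r) (Jh C F ((C.split F).ν n r)) := fun x => by
  have : Jh C F ((C.split F).ν n r) = (Jh C F r).map (MulAut.conj n).toMonoidHom := by
    rw [Jh, Jh, Subgroup.map_sup, map_conj_X hn, map_conj_X hn,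
      C.S.map_neg ((C.split F).ν_mem n hn)]
  rw [this]
  exact (mem_map_iff_mem (f := (MulAut.conj n).toMonoidHom) (MulAut.conj n).injective).symm

theorem rk_dg {r : ℕ} (hr : r < D.nroots) (t : Fˣ) : (rk C F hr).hom (dg t) = C.hg F r t := by
  show RankOneRel.phi _ _ _ = _
  rw [RankOneRel.phi, if_pos (by simp [dg])]
  simp [Cert.xg_zero, dg]; rfl

theorem hg_par {r s : ℕ} (hr : r < D.nroots) (hs : s < D.nroots) (t : F) :
    C.hg F r (-1) * C.xg F s t * (C.hg F r (-1))⁻¹ =
      C.xg F s (if D.pairing r s % 2 = 0 then t else -t) := by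
  rw [Cert.hg_conj hr hs (by simp)]
  split_ifs with h
  · rw [Even.neg_one_zpow (Int.even_iff.2 h), one_mul]
  · rw [Odd.neg_one_zpow (Int.odd_iff.2 (by omega)), neg_one_mul]

theorem eq_zero_of_neg (h2 : (2 : F) ≠ 0) {t : F} (h : -t = t) : t = 0 :=
  (mul_eq_zero.1 (show 2 * t = 0 by linear_combination -h)).resolve_left h2

/-- `± r` is the only component of type `A₁` among the roots which pair evenly with `r` -/
def Isol (D : ChevalleyDatum) (r : ℕ) : Prop :=
  D.pairing r r % 2 = 0 ∧ ∀ s < D.nroots, D.pairing r s % 2 = 0 → s = r ∨ s = D.neg r ∨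
    (Cert.Orth D r s ∧ D.pairing r s = 0 ∧ ∃ t < D.nroots, D.pairing r t % 2 = 0 ∧ t ≠ s ∧
      t ≠ D.neg s ∧ D.pairing s t ≠ 0)

instance (D : ChevalleyDatum) (r : ℕ) : Decidable (Isol D r) := by unfold Isol; infer_instance

theorem cent_le (h2 : (2 : F) ≠ 0) {r : Fin D.nroots} (h : Isol D r) :
    centralizer {C.hg F r (-1)} ≤ normalizer (Jh C F r : Set (D.group F)) := by
  set z := C.hg F r (-1) with hz
  have zH : z ∈ (C.split F).H := Cert.hg_mem_H r.2 (by simp)
  have cz : ∀ {g}, g ∈ centralizer {z} ↔ z * g * z⁻¹ = g := by simp [mem_cent_iff]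
  have eq1 : ∀ s : Fin D.nroots, D.pairing r s % 2 ≠ 0 → ∀ x ∈ (C.split F).X s,
      x ∈ centralizer {z} → x = 1 := fun s hs x hx hc => by
    obtain ⟨t, rfl⟩ := Cert.mem_X.1 hx
    rw [cz, hz, hg_par r.2 s.2, if_neg hs] at hc
    rw [eq_zero_of_neg h2 (Cert.xg_injective s.2 hc), Cert.xg_zero]
  have xle : ∀ s : Fin D.nroots, D.pairing r s % 2 = 0 →
      (C.split F).X s ≤ normalizer (Jh C F r : Set (D.group F)) := fun s hs x hx => by
    rcases h.2 s s.2 hs with e | e | e
    · exact le_normalizer (mem_sup_left (Fin.ext e ▸ hx))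
    · exact le_normalizer (mem_sup_right
        ((Fin.ext (e.trans (C.neg_val r).symm) : s = C.S.neg r) ▸ hx))
    · refine centralizer_le_normalizer _ fun y hy => ?_
      exact rk_commute r.2 s.2 e.1 y ((range_rk C r).ge hy) x ((range_rk C s).ge (mem_sup_left hx))
  have hU : ∀ u ∈ (C.split F).Up, u ∈ centralizer {z} →
      u ∈ normalizer (Jh C F r : Set (D.group F)) := fun u hu hc => by
    obtain ⟨L, hL, hLA⟩ := Filt.exists_list (Set.toFinite {s | C.S.pos s})
    obtain ⟨y, h1, -, rfl⟩ := (filt (P := C.split F) C.S.cl_pos).exists_prod hL hLA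
      ((Split.U_eq_gen _).le hu)
    refine Subgroup.list_prod_mem _ fun x hx => ?_
    obtain ⟨s, hs, rfl⟩ := List.mem_map.1 hx
    by_cases h3 : D.pairing r s % 2 = 0
    · exact xle s h3 (h1 s)
    rw [eq1 s h3 _ (h1 s) (cz.2 ?_)]
    · exact one_mem _
    refine Split.prod_inj (P := C.split F) (y := fun r => z * y r * z⁻¹) hL
      (fun r hr => (hLA r).1 hr) (fun r _ => ?_) (fun r _ => h1 r) ?_ s hs
    · simpa [ν_H zH] using (C.split F).conj z (H_le_N zH) r _ (h1 r)
    · rw [← cz.1 hc]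
      exact ((map_list_prod (MulAut.conj z) (L.map y)).trans (by rw [List.map_map]; rfl)).symm
  have key : ∀ n ∈ (C.split F).N, n ∈ centralizer {z} → ∀ s : Fin D.nroots,
      D.pairing r s % 2 = 0 → D.pairing r ((C.split F).ν n s) % 2 = 0 := fun n hn hc s hs => by
    by_contra h3
    have := eq1 _ h3 _ ((C.split F).conj n hn s _ (Cert.xg_mem_X s 1))
      (cj1 _ hc (cz.2 (by rw [hz, hg_par r.2 s.2, if_pos hs])))
    exact one_ne_zero ((Cert.xg_eq_one_iff (C := C) (F := F) s.2).1 (by simpa using this))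
  intro g hg
  obtain ⟨a, ha, n, hn, u, hu, rfl⟩ := (C.split F).bruhat g
  have e : (C.split F).ν (z * n * z⁻¹) = (C.split F).ν n := by
    rw [(C.split F).ν_mul _ (mul_mem (H_le_N zH) hn) _ (H_le_N (inv_mem zH)),
      (C.split F).ν_mul _ (H_le_N zH) _ hn, ν_H zH, ν_H (inv_mem zH), one_mul, mul_one]
  obtain ⟨b1, b2, b3⟩ := bruhat_unique (conj_U_H zH ha) (cj1 _ (H_le_N zH) hn)
    (e ▸ conj_U_H zH hu) ha hn hu (by rw [← cz.1 hg]; group)
  refine mul_mem (mul_mem (hU a ha (cz.2 b1)) ?_) (hU u (Uinv_le_Up hu) (cz.2 b3))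
  have hW := (C.split F).ν_mem n hn
  have e2 : Jh C F ((C.split F).ν n r) = Jh C F r := by
    rcases h.2 _ (Fin.is_lt _) (key n hn (cz.2 b2) r h.1) with e | e | ⟨-, -, t, ht, t1, t2, t3, t4⟩
    · rw [Fin.ext e]
    · rw [(Fin.ext (e.trans (C.neg_val r).symm) : _ = C.S.neg r), Jh_neg]
    have k1 := key _ (inv_mem hn) (inv_mem (cz.2 b2)) ⟨t, ht⟩ t1
    rw [ν_inv hn] at k1
    obtain ⟨t', et⟩ := ((C.split F).ν n).surjective ⟨t, ht⟩
    rw [← et, perm_inv_app] at k1
    obtain rfl : t = (C.split F).ν n t' := (congrArg Fin.val et).symm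
    rw [pairing_W C hW] at t4
    rcases h.2 _ t'.2 k1 with e | e | e
    · exact absurd (by rw [Fin.ext e]) t2
    · refine absurd ?_ t3
      rw [(Fin.ext (e.trans (C.neg_val r).symm) : _ = C.S.neg r), sgn_neg, C.R.W_neg hW, C.neg_val]
    · exact absurd e.2.1 t4
  have := maps_N hn r
  rw [e2] at this
  exact mem_normalizer_iff.2 this

theorem tm_xor (m m' : ℕ) : tm C F m * tm C F m' = tm C F (m ^^^ m') := by
  rw [tm, tm, tm, ← map_mul]
  congr 1; funext i
  simp only [Pi.mul_apply, Nat.testBit_xor]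
  cases m.testBit i <;> cases m'.testBit i <;> simp

theorem exists_tm' {c : Fin D.rank → Fˣ} (h1 : c * c = 1) :
    ∃ m < 2 ^ D.rank, C.tg F c = tm C F m := by
  classical
  refine ⟨Nat.ofBits fun i => decide (c i ≠ 1), Nat.ofBits_lt_two_pow _,
    congrArg (C.tg F) (funext fun i => ?_)⟩
  rw [Nat.testBit_ofBits_lt _ _ i.2]
  have h2 : c i = 1 ∨ c i = -1 := by
    simpa only [Units.ext_iff, Units.val_mul, Units.val_one, Units.val_neg, mul_self_eq_one_iff,
      Pi.mul_apply, Pi.one_apply] using congrFun h1 i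
  rcases h2 with e | e
  · simp [e]
  · by_cases e' : c i = 1
    · simp [e']
    · rw [if_pos (by simpa using e'), e]

end chev

end Cfsg.Agent.H76.Te6
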