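import Mathlib
import Cfsg.Agent.H76.FkTe6a

/-!
# Long and short root `SL₂`'s of a twisted group
-/

set_option autoImplicit false

namespace Cfsg.Agent.H76.Te6

open Equiv Cfsg.Lie Cfsg.Agent.H37 Cfsg.Agent.H34 Cfsg.Agent.H34.Split Cfsg.Agent.H40
  Cfsg.Agent.H37.FK Matrix Subgroup

variable {D : ChevalleyDatum} {F : Type} [Field F] {K : Type*} [Group K]

/-- `K` is the group of fixed points of `σ` -/
structure Tw (σ : D.group F →* D.group F) (j : K →* D.group F) : Prop where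
  inj : Function.Injective j
  rng : ∀ g, g ∈ j.range ↔ σ g = g

/-- `σ` maps the root `SL₂` of `r` to the one of `s` -/
structure Pr (C : Cert D) (φ : F →+* F) (σ : D.group F →* D.group F) (r s : Fin D.nroots) :
    Prop where
  inj : Function.Injective (rk C F r.2).hom
  x : ∀ t, σ (C.xg F r t) = C.xg F s (φ t)
  y : ∀ t, σ (C.xg F (D.neg r) t) = C.xg F (D.neg s) (φ t)

/-- the fixed field -/
abbrev kf (φ : F →+* F) : Subfield F := φ.eqLocusField (RingHom.id F)

variable {C : Cert D} {φ : F →+* F} {σ : D.group F →* D.group F} {j : K →* D.group F}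
  {r s : Fin D.nroots}

theorem Tw.fix (T : Tw σ j) (g : K) : σ (j g) = j g := (T.rng _).1 ⟨g, rfl⟩

theorem Pr.map (h : Pr C φ σ r s) (a : SL2 F) :
    σ ((rk C F r.2).hom a) = (rk C F s.2).hom (mp φ a) :=
  sl_ext (f := σ.comp (rk C F r.2).hom) (g := (rk C F s.2).hom.comp (mp φ))
    (fun t => by simp only [MonoidHom.comp_apply, mp_X, RankOneRel.hom_X, h.x])
    (fun t => by simp only [MonoidHom.comp_apply, mp_Y, RankOneRel.hom_Y, h.y]) a

theorem mp_sub (a : SL2 (kf φ)) : mp φ (mp (kf φ).subtype a) = mp (kf φ).subtype a := by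
  ext i k; exact (a i k).2

/-- the long root `SL₂` -/
noncomputable def lg (T : Tw σ j) (h : Pr C φ σ r r) : SL2 (kf φ) →* K :=
  lf j T.inj ((rk C F r.2).hom.comp (mp (kf φ).subtype)) fun a =>
    (T.rng _).2 (by rw [MonoidHom.comp_apply, h.map, mp_sub])

section long

variable (T : Tw σ j) (h : Pr C φ σ r r)

theorem j_lg (a : SL2 (kf φ)) : j (lg T h a) = (rk C F r.2).hom (mp (kf φ).subtype a) :=
  j_lf _ _ _ _ _

theorem lg_inj : Function.Injective (lg T h) := fun a b e =>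
  mp_inj _ (h.inj (by rw [← j_lg T h, e, j_lg]))

theorem j_up (t : kf φ) : j (lg T h (up t)) = C.xg F r t :=
  (j_lg T h _).trans ((congrArg _ (mp_X _ t)).trans (RankOneRel.hom_X _ _))

theorem j_lo (t : kf φ) : j (lg T h (lo t)) = C.xg F (D.neg r) t :=
  (j_lg T h _).trans ((congrArg _ (mp_Y _ t)).trans (RankOneRel.hom_Y _ _))

theorem j_W : j (lg T h slW) = C.ng F r 1 := by
  rw [j_lg, mp_W, RankOneRel.hom_W]; rfl

theorem j_z : j (lg T h (-1)) = C.hg F r (-1) := by rw [j_lg, mp_neg_one, rk_neg_one r.2]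

theorem j_dg (t : (kf φ)ˣ) : j (lg T h (dg t)) = C.hg F r (t : kf φ) := by
  rw [j_lg, show mp (kf φ).subtype (dg t) = dg (Units.map (kf φ).subtype.toMonoidHom t) by
    ext i k; rw [mp_apply]; fin_cases i <;> fin_cases k <;> simp [dg], rk_dg r.2]
  rfl

theorem range_lg : (lg T h).range = (Jh C F r).comap j := by
  refine le_antisymm ?_ fun x hx => ?_
  · rintro _ ⟨a, rfl⟩
    exact (range_rk C r).le ⟨_, (j_lg T h a).symm⟩
  · obtain ⟨a, e⟩ := (range_rk C r).ge hx
    have e2 := T.fix x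
    rw [← e, h.map] at e2
    obtain ⟨b, rfl⟩ := exists_mp (kf φ) a fun i k => congrArg (fun a : SL2 F => a i k) (h.inj e2)
    exact ⟨b, T.inj ((j_lg T h b).trans e)⟩

theorem acts_of {g : K} (hg : j g ∈ (C.split F).H) {d : (kf φ)ˣ}
    (hd : ((d : kf φ) : F) = ch (j g) r) : ActsAs g (lg T h) d := by
  refine ⟨fun t => T.inj ?_, fun t => T.inj ?_⟩
  · rw [map_mul, map_mul, map_inv, j_up, j_up, ch_conj hg r.2, ← hd]; rfl
  · rw [map_mul, map_mul, map_inv, j_lo, j_lo, ch_conj hg (C.V.basic.neg_lt _ r.2),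
      H80.ch_neg hg r.2, ← hd]
    simp

theorem exists_acts {g : K} (hg : j g ∈ (C.split F).H) : ∃ d, ActsAs g (lg T h) d := by
  have e := congrArg σ (ch_conj hg r.2 1)
  rw [map_mul, map_mul, map_inv, T.fix, h.x, h.x, map_one, ch_conj hg r.2, mul_one] at e
  exact ⟨Units.mk0 ⟨ch (j g) r, (Cert.xg_injective r.2 e).symm⟩ fun e' =>
    ch_ne_zero hg r.2 (congrArg Subtype.val e'), acts_of T h hg rfl⟩

theorem acts_dg (h' : Pr C φ σ s s) (e : D.pairing s r = 1) (t : (kf φ)ˣ) :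
    ActsAs (lg T h' (dg t)) (lg T h) t := by
  have ht : ((t : kf φ) : F) ≠ 0 := fun e => t.ne_zero (Subtype.ext e)
  refine acts_of T h (j_dg T h' t ▸ Cert.hg_mem_H s.2 ht) ?_
  rw [j_dg, ch_hg s.2 r.2 ht, e, zpow_one]

theorem maps_lg (h' : Pr C φ σ s s) {g : K} (hg : j g ∈ (C.split F).N)
    (e : (C.split F).ν (j g) r = s) : Maps g (lg T h).range (lg T h').range := by
  rw [range_lg, range_lg, ← e]
  exact maps_comap j (maps_N hg r)

theorem maps_τ (h' : Pr C φ σ s s) {k : Fin D.nroots} (h'' : Pr C φ σ k k)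
    (e : ∀ i < D.rank, D.cartan i s = D.cartan i r - D.pairing k r * D.cartan i k) :
    Maps (lg T h'' slW) (lg T h).range (lg T h').range :=
  maps_lg T h h' (j_W T h'' ▸ Cert.ng_mem_N k.2 one_ne_zero)
    (by rw [j_W, ν_ng_τ k one_ne_zero, τ_eq C e])

theorem lg_comm (h' : Pr C φ σ s s) (o : Cert.Orth D r s) (a b : SL2 (kf φ)) :
    lg T h a * lg T h' b = lg T h' b * lg T h a := T.inj (by
  simp only [map_mul, j_lg]
  exact rk_commute r.2 s.2 o _ ⟨_, rfl⟩ _ ⟨_, rfl⟩)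

theorem lg_cent (h2 : (2 : F) ≠ 0) (hI : Isol D r) :
    centralizer {lg T h (-1)} ≤ normalizer ((lg T h).range : Set K) := fun g hg => by
  rw [range_lg]
  refine mem_normalizer_iff.2 (maps_comap j (mem_normalizer_iff.1 (cent_le h2 hI ?_)))
  rw [mem_centralizer_singleton_iff] at hg ⊢
  rw [← j_z T h, ← map_mul, hg, map_mul]

theorem norm_H {g : K} (hg : j g ∈ (C.split F).N) :
    g ∈ normalizer ((C.split F).H.comap j : Set K) :=
  mem_normalizer_iff.2 (maps_comap j fun x => ⟨fun hx => conj_mem_H hg hx, fun hx => by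
    simpa [mul_assoc] using conj_mem_H (inv_mem hg) hx⟩)

end long

section short

variable (T : Tw σ j) (h : Pr C φ σ r s) (h' : Pr C φ σ s r) (o : Cert.Orth D r s)
  (hφ : ∀ t, φ (φ t) = t)

include o in
theorem rk_comm (a b : SL2 F) : Commute ((rk C F r.2).hom a) ((rk C F s.2).hom b) :=
  rk_commute r.2 s.2 o _ ⟨_, rfl⟩ _ ⟨_, rfl⟩

/-- the short root `SL₂` -/
noncomputable def sh : SL2 F →* K :=
  lf j T.inj (MonoidHom.mk' (fun a => (rk C F r.2).hom a * (rk C F s.2).hom (mp φ a)) fun a b => by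
    simp only [map_mul]
    exact (rk_comm o _ _).mul_mul_mul_comm _ _) fun a => (T.rng _).2 (by
      have : mp φ (mp φ a) = a := by ext i k; exact hφ _
      rw [MonoidHom.mk'_apply, map_mul, h.map, h'.map, this, (rk_comm o _ _).eq])

theorem j_sh (a : SL2 F) :
    j (sh T h h' o hφ a) = (rk C F r.2).hom a * (rk C F s.2).hom (mp φ a) := j_lf _ _ _ _ _

theorem j_shW : j (sh T h h' o hφ slW) = C.ng F r 1 * C.ng F s 1 := by
  rw [j_sh, mp_W, RankOneRel.hom_W, RankOneRel.hom_W]; rfl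

theorem sh_ker : (sh T h h' o hφ).ker ≤ center _ := fun a ha => by
  have e := j_sh T h h' o hφ a
  rw [(MonoidHom.mem_ker).1 ha, map_one, eq_comm, mul_eq_one_iff_eq_inv] at e
  refine mem_center_iff.2 fun b => h.inj ?_
  rw [map_mul, map_mul, e]
  exact (rk_comm o _ _).inv_right.eq

theorem sh_conj {g : K} (hg : j g ∈ (C.split F).H) {a b : SL2 F}
    (e : j g * (rk C F r.2).hom a * (j g)⁻¹ = (rk C F r.2).hom b) :
    g * sh T h h' o hφ a * g⁻¹ = sh T h h' o hφ b := T.inj (by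
  have e2 := congrArg σ e
  rw [map_mul, map_mul, map_inv, T.fix, h.map, h.map] at e2
  rw [map_mul, map_mul, map_inv, j_sh, j_sh, ← e, ← e2]
  group)

theorem sh_norm {g : K} (hg : j g ∈ (C.split F).H) :
    g ∈ normalizer ((sh T h h' o hφ).range : Set K) := by
  have key : ∀ g : K, j g ∈ (C.split F).H → ∀ x ∈ (sh T h h' o hφ).range,
      g * x * g⁻¹ ∈ (sh T h h' o hφ).range := by
    rintro g hg _ ⟨a, rfl⟩
    have m := maps_N (H_le_N hg) r ((rk C F r.2).hom a)
    rw [ν_H hg, Perm.one_apply, ← range_rk] at m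
    obtain ⟨b, e⟩ := m.1 ⟨a, rfl⟩
    exact ⟨b, (sh_conj T h h' o hφ hg e.symm).symm⟩
  refine mem_normalizer_iff.2 fun x => ⟨key g hg x, fun hx => ?_⟩
  simpa [mul_assoc] using key g⁻¹ (by rw [map_inv]; exact inv_mem hg) _ hx

theorem reach_sh [Fintype F] (hF : Odd (Fintype.card F)) {A : Set K} {k : Fin D.nroots}
    (hk : Pr C φ σ k k) (e : D.pairing k r % 2 ≠ 0) (hz : Reach A (lg T hk (-1))) :
    Reach A (sh T h h' o hφ slW) := by
  have h2 : (2 : F) ≠ 0 := two_ne_zero_of_odd (by rwa [Nat.card_eq_fintype_card])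
  have hH : j (lg T hk (-1)) ∈ (C.split F).H := j_z T hk ▸ Cert.hg_mem_H k.2 (by simp)
  refine Reach.sl2 hF _ (sh_ker T h h' o hφ) hz (sh_norm T h h' o hφ hH) ⟨slX 1, fun e' => ?_⟩ _
    (two_W.map _)
  have e1 := sh_conj T h h' o hφ hH (a := slX 1) (b := slX (-1)) (by
    rw [j_z, RankOneRel.hom_X, RankOneRel.hom_X, hg_par k.2 r.2, if_neg e])
  rw [e', mul_inv_cancel_right, ← mul_inv_eq_one, ← map_inv, ← map_mul] at e1
  have e2 : (slX 1 * (slX (-1))⁻¹ : SL2 F) 0 1 = 2 := by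
    simp [coe_slX, Matrix.mul_apply, Fin.sum_univ_two, adjugate_fin_two]; norm_num
  rcases sl2_center (sh_ker T h h' o hφ e1) with e3 | e3 <;> rw [e3] at e2 <;>
    exact h2 (by simpa using e2.symm)

end short

end Cfsg.Agent.H76.Te6
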