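import Mathlib
import Cfsg.Agent.H76.FkTe6b
import Cfsg.Agent.H35.E6Rel
import Cfsg.Agent.H81.FkOrd
import Cfsg.Agent.S1066

/-!
# The frame of four commuting `SL₂(q)` in the twisted group of type `E₆`
-/

set_option autoImplicit false

namespace Cfsg.Agent.H76.Te6

open Equiv Cfsg.Lie Cfsg.Agent.H37 Cfsg.Agent.H34 Cfsg.Agent.H34.Split Cfsg.Agent.H40
  Cfsg.Agent.H37.FK Matrix Subgroup Cfsg.Agent.H35.E6

section perm

/-- generators of a dihedral group of order 8 -/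
def sg : Fin 2 → Perm (Fin 4) := ![swap 0 1, swap 0 2 * swap 1 3]

theorem mem_W {π : Perm (Fin 4)} :
    π ∈ closure (Set.range sg) ↔ (π 0 : ℕ) / 2 = (π 1 : ℕ) / 2 := by
  refine ⟨fun h => ?_, fun h => ?_⟩
  · induction h using closure_induction with
    | mem x hx => obtain ⟨k, rfl⟩ := hx; revert k; decide
    | one => decide
    | mul x y _ _ hx hy => clear * - hx hy; revert x y; decide +kernel
    | inv x _ hx => clear * - hx; revert x; decide +kernel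
  · have a : sg 0 ∈ closure (Set.range sg) := subset_closure ⟨0, rfl⟩
    have b : sg 1 ∈ closure (Set.range sg) := subset_closure ⟨1, rfl⟩
    have : ∀ π : Perm (Fin 4), (π 0 : ℕ) / 2 = (π 1 : ℕ) / 2 → ∃ i : Fin 4, ∃ l : Fin 2,
        π = (sg 0 * sg 1) ^ (i : ℕ) * sg 0 ^ (l : ℕ) := by decide +kernel
    obtain ⟨i, l, rfl⟩ := this π h
    exact mul_mem (pow_mem (mul_mem a b) _) (pow_mem a _)

theorem card_W : Nat.card (closure (Set.range sg)) = 8 := by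
  rw [Nat.card_congr (Equiv.subtypeEquivRight fun _ => mem_W), Nat.card_eq_fintype_card]
  decide +kernel

theorem f3_W (π : Perm (Fin 4)) (ho : Odd (orderOf π))
    (h : ∀ x ∈ closure (Set.range sg), π * x * π⁻¹ ∈ closure (Set.range sg)) : π = 1 := by
  have := mem_W.1 (h _ (subset_closure ⟨0, rfl⟩))
  refine Two.eq_one ⟨2, ?_⟩ ho
  clear * - this; revert π; decide +kernel

end perm

theorem arith {q : ℕ} (hq : Odd q) : ∃ m, Odd m ∧
    q ^ 36 * (q ^ 2 - 1) * (q ^ 5 + 1) * (q ^ 6 - 1) * (q ^ 8 - 1) * (q ^ 9 + 1) * (q ^ 12 - 1) =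
      (q ^ 2 - 1) ^ 2 * (q - 1) ^ 2 * (q + 1) ^ 4 * 8 * m := by
  obtain ⟨m, hm, e⟩ := H81.Fk.f4_arith hq
  obtain ⟨a, ea⟩ : ∃ a, q ^ 5 + 1 = (q + 1) * (2 * a + 1) := by
    obtain ⟨k, rfl⟩ := hq
    exact ⟨(2 * k + 1) * k * ((2 * k + 1) ^ 2 + 1), by ring⟩
  obtain ⟨b, eb⟩ : ∃ b, q ^ 9 + 1 = (q + 1) * (2 * b + 1) := by
    obtain ⟨k, rfl⟩ := hq
    exact ⟨(2 * k + 1) * k * ((2 * k + 1) ^ 6 + (2 * k + 1) ^ 4 + (2 * k + 1) ^ 2 + 1), by ring⟩
  refine ⟨q ^ 36 * m * (2 * a + 1) * (2 * b + 1),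
    ((hq.pow.mul hm).mul (odd_two_mul_add_one _)).mul (odd_two_mul_add_one _), ?_⟩
  have e2 : q ^ 2 - 1 = (q + 1) * (q - 1) := Nat.sq_sub_sq q 1
  calc _ = q ^ 36 * (q ^ 5 + 1) * (q ^ 9 + 1) *
        ((q ^ 2 - 1) * (q ^ 6 - 1) * (q ^ 8 - 1) * (q ^ 12 - 1)) := by ring
    _ = _ := by rw [e, ea, eb, e2]; ring

/-- the graph automorphism maps the root `r` to `s`, without signs -/
def PrC (r s : ℕ) : Prop := chevE6.IsPosRoot r ∧ s < chevE6.nroots ∧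
  (∃ t < chevE6.nroots, chevE6.pairing r t = 1) ∧ piT grTE6 r = s ∧ etaT grTE6 r = 1 ∧
  piT grTE6 (chevE6.neg r) = chevE6.neg s ∧ etaT grTE6 (chevE6.neg r) = 1

noncomputable instance (r s : ℕ) : Decidable (PrC r s) := by unfold PrC; infer_instance

/-- the reflection in `g` maps `r` to `s` -/
def Rf (g r s : ℕ) : Prop := ∀ i < chevE6.rank,
  chevE6.cartan i s = chevE6.cartan i r - chevE6.pairing g r * chevE6.cartan i g

instance (g r s : ℕ) : Decidable (Rf g r s) := by unfold Rf; infer_instance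

/-- four orthogonal long roots -/
def al : Fin 4 → ℕ := ![39, 44, 60, 71]

/-- their differences with the root 70 -/
def ga : Fin 4 → ℕ := ![69, 65, 53, 46]

theorem pAl : ∀ i, PrC (al i) (al i) := by decide +kernel
theorem pGa : ∀ i, PrC (ga i) (ga i) := by decide +kernel
theorem p70 : PrC 70 70 := by decide +kernel
theorem p47 : PrC 47 47 := by decide +kernel
theorem p63 : PrC 63 63 := by decide +kernel
theorem p42 : PrC 42 37 := by decide +kernel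
theorem p37 : PrC 37 42 := by decide +kernel
theorem p56 : PrC 56 36 := by decide +kernel
theorem o42 : Cert.Orth chevE6 42 37 := by decide +kernel

variable {K : Type} [Field K] {φ : K →+* K} (h2 : ∀ t, φ (φ t) = t) {q : ℕ} (hφ : ∀ t, φ t = t ^ q)

theorem tw : Tw (sE6 φ).σ (jE h2 hφ) :=
  ⟨(twE6 φ h2 hφ).j_inj, fun _ => ⟨by rintro ⟨x, rfl⟩; exact σ_jE x, exists_jE⟩⟩

variable (φ) in
theorem PrC.pr {r s : ℕ} (h : PrC r s) : Pr cE6 φ (sE6 φ).σ ⟨r, h.1.1⟩ ⟨s, h.2.1⟩ where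
  inj := let ⟨_, h1, h3⟩ := h.2.2.1; rk_injective h.1 h1 h3
  x t := ((sE6 φ).map r h.1.1 t).trans (congrArg₂ _ h.2.2.2.1 (sE6_f φ h.2.2.2.2.1 t))
  y t := ((sE6 φ).map _ (cE6.V.basic.neg_lt _ h.1.1) t).trans
    (congrArg₂ _ h.2.2.2.2.2.1 (sE6_f φ h.2.2.2.2.2.2 t))

/-- the long root `SL₂` -/
noncomputable abbrev L {r : ℕ} (h : PrC r r) : SL2 (kf φ) →* twistedE6 K q := lg (tw h2 hφ) (h.pr φ)

/-- two elements permuting the four `SL₂`'s -/
noncomputable def nn : Fin 2 → twistedE6 K q :=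
  ![sh (tw h2 hφ) (p42.pr φ) (p37.pr φ) o42 h2 slW, L h2 hφ p47 slW * L h2 hφ p63 slW]

theorem j_nn (k : Fin 2) : ∃ b c : Fin chevE6.nroots, (b : ℕ) = ![42, 47] k ∧ (c : ℕ) = ![37, 63] k ∧
    jE h2 hφ (nn h2 hφ k) = cE6.ng K b 1 * cE6.ng K c 1 := by
  fin_cases k
  · exact ⟨_, _, rfl, rfl, j_shW (tw h2 hφ) (p42.pr φ) (p37.pr φ) o42 h2⟩
  · exact ⟨⟨_, p47.1.1⟩, ⟨_, p63.1.1⟩, rfl, rfl, (map_mul _ _ _).trans
      (congrArg₂ _ (j_W (tw h2 hφ) (p47.pr φ)) (j_W (tw h2 hφ) (p63.pr φ)))⟩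

theorem nn_N (k : Fin 2) : jE h2 hφ (nn h2 hφ k) ∈ (cE6.split K).N := by
  obtain ⟨b, c, -, -, e⟩ := j_nn h2 hφ k
  exact e ▸ mul_mem (Cert.ng_mem_N b.2 one_ne_zero) (Cert.ng_mem_N c.2 one_ne_zero)

theorem nn_J (k : Fin 2) (i : Fin 4) :
    Maps (nn h2 hφ k) (L h2 hφ (pAl i)).range (L h2 hφ (pAl (sg k i))).range := by
  refine maps_lg _ _ _ (nn_N h2 hφ k) ?_
  obtain ⟨b, c, hb, hc, e⟩ := j_nn h2 hφ k
  obtain ⟨m, hm, e1, e2⟩ : ∃ m < chevE6.nroots, Rf (![37, 63] k) (al i) m ∧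
      Rf (![42, 47] k) m (al (sg k i)) := by clear * -; revert k i; decide +kernel
  rw [← hc] at e1
  rw [← hb] at e2
  rw [e, (cE6.split K).ν_mul _ (Cert.ng_mem_N b.2 one_ne_zero) _ (Cert.ng_mem_N c.2 one_ne_zero),
    ν_ng_τ b one_ne_zero, ν_ng_τ c one_ne_zero, Perm.mul_apply,
    τ_eq cE6 (r := c) (s := ⟨_, (pAl i).1.1⟩) (k := ⟨m, hm⟩) e1]
  exact τ_eq cE6 e2

theorem maps_rf {g r s : ℕ} (hg : PrC g g) (hr : PrC r r) (hs : PrC s s) (e : Rf g r s) :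
    Maps (L h2 hφ hg slW) (L h2 hφ hr).range (L h2 hφ hs).range := maps_τ _ _ _ _ e

theorem maps_al (i k : Fin 4) : ∃ g, Maps g (L h2 hφ (pAl i)).range (L h2 hφ (pAl k)).range :=
  have e : ∀ i, Rf (ga i) (al i) 70 := by decide +kernel
  ⟨_, maps_mul (maps_rf h2 hφ (pGa i) _ p70 (e i)) (maps_inv (maps_rf h2 hφ (pGa k) _ p70 (e k)))⟩

theorem hom_al (hK : (2 : K) ≠ 0) {h : twistedE6 K q} (hh : jE h2 hφ h ∈ (cE6.split K).H)
    (h1 : h * h = 1) (ha : ∀ i, ActsAs h (L h2 hφ (pAl i)) 1) :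
    h ∈ closure (Set.range fun i => L h2 hφ (pAl i) (-1)) := by
  obtain ⟨m, hm, e⟩ : ∃ m < 2 ^ chevE6.rank, jE h2 hφ h = tm cE6 K m := by
    obtain ⟨c, ec⟩ := Cert.mem_H_iff.1 hh
    have e1 : cE6.tg K c * cE6.tg K c = 1 := by rw [ec, ← map_mul, h1, map_one]
    obtain ⟨z, z3, e2⟩ := (kerE6_iff (c * c)).1 ((map_mul _ _ _).trans e1)
    obtain ⟨m, hm, e3⟩ := exists_tm' (C := cE6) (c := c * c * c) (by
      rw [show c * c * c * (c * c * c) = (c * c) ^ 3 by rw [pow_three]; ac_rfl, e2]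
      have z6 : (z ^ 2) ^ 3 = 1 := by rw [← pow_mul, mul_comm, pow_mul, z3, one_pow]
      exact funext fun i : Fin 6 => by fin_cases i; exacts [z3, one_pow 3, z6, one_pow 3, z3, z6])
    exact ⟨m, hm, by rw [← e3, map_mul, map_mul, e1, one_mul, ec]⟩
  have ne : (-1 : K) ≠ 1 := fun e => one_ne_zero (eq_zero_of_neg hK e)
  have c1 : ∀ i, (tabOf chevE6).sgv m (al i) % 2 = 0 := fun i => by
    have := congrArg (jE h2 hφ) ((ha i).1 1)
    rw [map_mul, map_mul, map_inv, j_up, j_up, e, tm_conj m (pAl i).1.1] at this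
    by_contra h3
    exact ne (by simpa [h3] using Cert.xg_injective (pAl i).1.1 this)
  have c2 : ∀ {r s}, PrC r s →
      ((tabOf chevE6).sgv m r % 2 = 0 ↔ (tabOf chevE6).sgv m s % 2 = 0) := fun {r s} p => by
    have := congrArg (sE6 φ).σ (tm_conj (C := cE6) m p.1.1 (1 : K))
    rw [map_mul, map_mul, map_inv, ← e, σ_jE, (p.pr φ).x, (p.pr φ).x, e, tm_conj m p.2.1] at this
    have := Cert.xg_injective p.2.1 this
    refine ⟨fun h3 => ?_, fun h3 => ?_⟩ <;> by_contra h4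
    · exact ne (by simpa [h3, h4] using this)
    · exact ne (by simpa [h3, h4] using this.symm)
  obtain ⟨a, b, c, rfl⟩ : ∃ a b c : Bool, m = cond a 8 0 ^^^ cond b 28 0 ^^^ cond c 61 0 := by
    have := c2 p42
    have := c2 p56
    clear * - hm c1 this
    revert m; decide +kernel
  have z : ∀ (i : Fin 4) (a : Bool), ∃ x ∈ closure (Set.range fun i => L h2 hφ (pAl i) (-1)),
      jE h2 hφ x = tm cE6 K (cond a (![8, 28, 61, 41] i) 0) := fun i a => by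
    cases a
    · exact ⟨1, one_mem _, (map_one _).trans tm_zero.symm⟩
    · exact ⟨_, subset_closure ⟨i, rfl⟩, (j_z _ _).trans (hg_neg_one_eq_tm (pAl i).1.1
        (by clear * -; revert i; decide +kernel))⟩
  obtain ⟨x, hx, ex⟩ := z 0 a
  obtain ⟨y, hy, ey⟩ := z 1 b
  obtain ⟨w, hw, ew⟩ := z 2 c
  rw [(tw h2 hφ).inj (e.trans (by rw [map_mul, map_mul, ex, ey, ew, tm_xor, tm_xor]; rfl) :
    _ = jE h2 hφ (x * y * w))]
  exact mul_mem (mul_mem hx hy) hw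

theorem z_inj (hK : (2 : K) ≠ 0) : Function.Injective fun i => L h2 hφ (pAl i) (-1) := by
  intro i k e
  by_contra ne
  obtain ⟨s, hs, e1, e2⟩ : ∃ s < chevE6.nroots, chevE6.pairing (al i) s % 2 = 0 ∧
      chevE6.pairing (al k) s % 2 ≠ 0 := by clear * - ne; revert i k; decide +kernel
  have h3 := hg_par (C := cE6) (pAl i).1.1 hs (1 : K)
  have h4 : cE6.hg K (al i) (-1) = cE6.hg K (al k) (-1) :=
    (j_z (tw h2 hφ) ((pAl i).pr φ)).symm.trans
      ((congrArg (jE h2 hφ) e).trans (j_z (tw h2 hφ) ((pAl k).pr φ)))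
  rw [h4, hg_par (pAl k).1.1 hs, if_pos e1, if_neg e2] at h3
  exact one_ne_zero (eq_zero_of_neg hK (Cert.xg_injective hs h3))

variable [Fintype K] (hq : IsPrimePow q) (hK : Fintype.card K = q ^ 2) (ho : Odd q)

noncomputable instance : Fintype (kf φ) := Fintype.ofFinite _

include hφ hq hK in
theorem card_kf : Fintype.card (kf φ) = q := by
  rw [← Nat.card_eq_fintype_card, ← card_fixed hq.one_lt.le hK]
  exact Nat.card_congr (Equiv.subtypeEquivRight fun t => by rw [← hφ]; rfl)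

include hq hK ho in
theorem card_two (e : ℕ) (h : 2 ^ e ∣ Nat.card (twistedE6 K q)) :
    2 ^ e ∣ Nat.card ((cE6.split K).H.comap (jE h2 hφ)) * (q + 1) ^ 4 * 8 := by
  obtain ⟨m, hm, e1⟩ := arith ho
  have e2 : Nat.card ((cE6.split K).H.comap (jE h2 hφ)) =
      Nat.card ↥(chevE6.diagonalSubgroup K ⊓ twistedE6 K q) := by
    rw [← Nat.card_congr (subgroupOfEquivOfLe inf_le_right).toEquiv, inf_subgroupOf_right]
    rfl
  rw [← S1066.result hq hK, ← E6_card_H φ h2 hφ hq.one_lt.le hK, ← e2, mul_assoc, mul_assoc,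
    mul_assoc, Nat.mul_right_inj (Nat.gcd_pos_of_pos_left _ three_pos).ne'] at e1
  refine H81.Fk.two_pow_dvd_of_odd hm ?_
  rwa [mul_assoc, mul_assoc, ← e1]

/-- the frame -/
noncomputable def fr : Frame (twistedE6 K q) where
  ι := Fin 4
  F _ := kf φ
  odd _ := (card_kf hφ hq hK).symm ▸ ho
  φ i := L h2 hφ (pAl i)
  inj _ := lg_inj _ _
  comm i k h := lg_comm _ _ _ (by clear * - h; revert i k; decide +kernel)
  H := (cE6.split K).H.comap (jE h2 hφ)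
  hab a ha b hb := (tw h2 hφ).inj (by
    rw [map_mul, map_mul]; exact Cert.H_comm (C := cE6) _ ha _ hb)
  hact _ hh _ := exists_acts _ _ hh
  hdg i t := mem_comap.2 (j_dg (tw h2 hφ) ((pAl i).pr φ) t ▸ Cert.hg_mem_H (pAl i).1.1
    fun e => t.ne_zero (Subtype.ext e))
  hom _ hh := hom_al h2 hφ (two_ne_zero_of_odd (by
    rw [Nat.card_eq_fintype_card, hK]; exact ho.pow)) hh
  κ := Fin 2
  n := nn h2 hφ
  σ := sg
  nJ := nn_J h2 hφ
  nH k := norm_H (nn_N h2 hφ k)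
  two := IsPGroup.of_card (n := 3) card_W
  card e h := by
    rw [card_W, Finset.prod_const, card_kf hφ hq hK]
    exact card_two h2 hφ hq hK ho e h

/-- **TE6** -/
theorem te6 : TE6Stmt := by
  intro K _ _ q hq hK ho
  obtain ⟨φ, hφ, h2, -⟩ := exists_frob2 hq hK
  have hO : Odd (Fintype.card K) := hK ▸ ho.pow
  have h0 : (2 : K) ≠ 0 := two_ne_zero_of_odd (by rwa [Nat.card_eq_fintype_card])
  have p70' : ∀ i, chevE6.pairing 70 (al i) = 1 := by decide +kernel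
  have rj : ∀ (i : Fin 4) {r} (hr : PrC r r) (k : Fin 4), Rf 46 (al k) r → ∀ a, Two a →
      Reach {x | x ∈ (L h2 hφ (pAl i)).range ∧ Two x} (L h2 hφ hr a) := fun i r hr k e a t =>
    let ⟨_, m⟩ := maps_al h2 hφ i k
    reach_of_maps (maps_mul m (maps_rf h2 hφ (pGa 3) _ hr e)) ⟨a, rfl⟩ (t.map _)
  refine ⟨fr h2 hφ hq hK ho, ⟨⟨(0 : Fin 4)⟩, Or.inl ⟨z_inj h2 hφ h0, maps_al h2 hφ, (3 : Fin 4),
    lg_cent (tw h2 hφ) ((pAl 3).pr φ) h0 (show Isol chevE6 71 by decide +kernel)⟩, fun i k a t => ?_, fun i k => ?_,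
    f3_W, ?_⟩, fun i => ?_⟩
  · exact let ⟨_, m⟩ := maps_al h2 hφ i k; reach_of_maps m ⟨a, rfl⟩ t
  · revert k
    refine (Fin.forall_fin_two (p := fun k => Reach _ (nn h2 hφ k))).2 ⟨?_, ?_⟩
    · refine reach_sh _ _ _ _ _ hO ((pAl 0).pr φ)
        (show chevE6.pairing 39 42 % 2 ≠ 0 by decide +kernel) ?_
      exact let ⟨_, m⟩ := maps_al h2 hφ i 0
        reach_of_maps m ⟨_, rfl⟩ ((Two.of_sq (by simp)).map _)
    · exact (rj i p47 0 (by decide +kernel) _ two_W).mul (rj i p63 2 (by decide +kernel) _ two_W)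
        (lg_comm _ _ _ (show Cert.Orth chevE6 47 63 by decide +kernel) _ _)
  · refine hasD8 (fun e => h0 (congrArg Subtype.val e)) _ (lg_inj (tw h2 hφ) ((pAl 0).pr φ)) ?_
      (acts_dg _ _ (p70.pr φ) (p70' 0) (-1))
    rw [← map_mul, show (dg (-1) : SL2 (kf φ)) = -1 by
      ext i k; fin_cases i <;> fin_cases k <;> simp [dg], neg_mul_neg, one_mul, map_one]
  · obtain ⟨d, hd⟩ := FiniteField.exists_nonsquare (F := kf φ) fun e =>
      h0 (congrArg Subtype.val (show (2 : kf φ) = 0 from (ringChar.spec (kf φ) 2).2 e.dvd))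
    have d0 : d ≠ 0 := fun e => hd (e ▸ IsSquare.zero)
    exact ⟨_, mem_comap.2 (j_dg (tw h2 hφ) (p70.pr φ) (Units.mk0 d d0) ▸ Cert.hg_mem_H p70.1.1
      fun e => d0 (Subtype.ext e)), Units.mk0 d d0, hd,
      acts_dg (tw h2 hφ) ((pAl i).pr φ) (p70.pr φ) (p70' i) _⟩

end Cfsg.Agent.H76.Te6
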