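import Cfsg.Agent.H76.FzG
import Cfsg.Agent.H11.CyDefs

/-! Project CY, chapter SP: for `p = 3` the centre of a line group fixes only the line. -/

set_option autoImplicit false

namespace Cfsg.Agent.H76.Fz3

open Subgroup MulAction Cfsg.Agent.H76.FzG Cfsg.Agent.H11.Cy
open scoped MatrixGroups

section
variable {G : Type*} [Group G]

structure DS (D : Set G) : Prop where
  cube : ∀ a ∈ D, a * a * a = 1
  ne : ∀ a ∈ D, a ≠ 1
  inv : ∀ a ∈ D, a⁻¹ ∈ D
  cj : ∀ g : G, ∀ a ∈ D, g * a * g⁻¹ ∈ D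
  br : ∀ a ∈ D, ∀ b ∈ D, Br a b ∨ Br a b⁻¹

def Uni (D : Set G) (a b c : G) : Prop :=
  zz a b * zz a c * (zz a b * zz a c) * (zz a b * zz a c) = 1 ∧ ∃ e ∈ D, Br a e ∧
    (∀ g, Commute g a → Commute g b → Commute g c → Commute g e) ∧
    zz a b * zz a c * zz a e * (zz a b * zz a c * zz a e) = a

def Gd (a b c : G) : Prop :=
  Commute (zz a b) c ∧ Commute (zz a c) b ∧ ∃ r s t, r ∈ closure {a, b} ∧ s ∈ closure {a, b} ∧
    t ∈ closure {a, b} ∧ Br a (r * c * r⁻¹) ∧ Br a (s * c * s⁻¹) ∧ Br a (t * c * t⁻¹) ∧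
    zz a b * zz a c * zz a (r * c * r⁻¹) * zz a (s * c * s⁻¹) * zz a (t * c * t⁻¹) = 1

theorem cz {g a b : G} (h1 : Commute g a) (h2 : Commute g b) : Commute g (zz a b) :=
  ((h1.mul_right h2).mul_right (h1.mul_right h2)).mul_right (h1.mul_right h2)

variable {D : Set G} (h : DS D) {a : G} (ha : a ∈ D)
include h ha

theorem uni1 {b c : G} (hb : b ∈ D) (hc : c ∈ D) (ab : Br a b) (ac : Br a c) (h1 : Br c b)
    (h2 : Br c (a * b * a⁻¹)⁻¹) (h3 : Br c (a⁻¹ * b * a)⁻¹) : Uni D a b c := by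
  obtain ⟨k1, k2, k3⟩ := uni (h.cube a ha) (h.cube b hb) (h.cube c hc) ab ac h1 h2 h3
  exact ⟨k1, _, h.cj _ _ (h.inv c hc), k2, fun g _ gb gc =>
    (gb.inv_right.mul_right gc.inv_right).mul_right gb.inv_right.inv_right, k3⟩

theorem uni2 {b c g : G} (hb : b ∈ D) (ab : Br a b) (ga : g = a ∨ g = a⁻¹)
    (u : Br a (g * b * g⁻¹) → Uni D a (g * b * g⁻¹) c) : Uni D a b c := by
  have c1 : g * a * g⁻¹ = a := by rcases ga with rfl | rfl <;> group
  have e : zz a (g * b * g⁻¹) = zz a b := by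
    have k := (za (h.cube a ha) (h.cube b hb) ab).eq
    have : Commute (zz a b) g := by
      rcases ga with rfl | rfl
      exacts [k, Commute.inv_right k]
    calc _ = zz (g * a * g⁻¹) (g * b * g⁻¹) := by rw [c1]
      _ = g * zz a b * g⁻¹ := by simp only [zz, conj_mul]
      _ = _ := by rw [← this.eq, mul_inv_cancel_right]
  obtain ⟨k1, x, hx, k2, k3, k4⟩ := u (by
    have := congrArg (fun x => g * x * g⁻¹) ab
    simp only [← conj_mul, c1] at this
    exact this)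
  rw [e] at k1 k4
  refine ⟨k1, x, hx, k2, fun y ya yb yc => k3 y ya ?_ yc, k4⟩
  have : Commute y g := by
    rcases ga with rfl | rfl
    exacts [ya, ya.inv_right]
  exact (this.mul_right yb).mul_right this.inv_right

theorem tri {b c : G} (hb : b ∈ D) (hc : c ∈ D) (ab : Br a b) (ac : Br a c) :
    Gd a b c ∨ Uni D a b c := by
  have a3 := h.cube a ha
  have b3 := h.cube b hb
  have c3 := h.cube c hc
  have m2 := h.cj a b hb
  have m3 : a⁻¹ * b * a ∈ D := by simpa using h.cj a⁻¹ b hb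
  have e1 : a * a = a⁻¹ := eq_inv_of_mul_eq_one_left a3
  have e2 : a⁻¹ * a⁻¹ = a := by rw [← mul_inv_rev, e1, inv_inv]
  have ma : a ∈ closure ({a, b} : Set G) := subset_closure (by simp)
  have mb : b ∈ closure ({a, b} : Set G) := subset_closure (by simp)
  rcases h.br c hc b hb with h1 | h1 <;> rcases h.br c hc _ m2 with h2 | h2 <;>
    rcases h.br c hc _ m3 with h3 | h3
  · obtain ⟨k1, k2, k3, k4, k5, k6⟩ := good a3 b3 c3 ab ac h1 h2 h3
    exact Or.inl ⟨k1, k2, _, _, _, mul_mem ma (inv_mem mb), mul_mem (inv_mem ma) mb,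
      mul_mem (mul_mem ma (inv_mem mb)) (mul_mem (inv_mem ma) mb), k3, k4, k5, k6⟩
  · exact absurd (c110 a3 b3 c3 ab ac h1 h2 h3) (h.ne a ha)
  · exact absurd (c101 a3 b3 c3 ab ac h1 h2 h3) (h.ne a ha)
  · exact Or.inr (uni1 h ha hb hc ab ac h1 h2 h3)
  · exact absurd (c011 a3 b3 c3 ab ac h1 h2 h3) (h.ne a ha)
  · refine Or.inr (uni2 h ha hb ab (Or.inl rfl) fun k => uni1 h ha m2 hc k ac h2 ?_ ?_)
    · rwa [show a * (a * b * a⁻¹) * a⁻¹ = a * a * b * (a⁻¹ * a⁻¹) by group, e1, e2]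
    · rwa [show a⁻¹ * (a * b * a⁻¹) * a = b by group]
  · refine Or.inr (uni2 h ha hb ab (Or.inr rfl) fun k => ?_)
    rw [inv_inv] at k ⊢
    refine uni1 h ha m3 hc k ac h3 ?_ ?_
    · rwa [show a * (a⁻¹ * b * a) * a⁻¹ = b by group]
    · rwa [show a⁻¹ * (a⁻¹ * b * a) * a = a⁻¹ * a⁻¹ * b * (a * a) by simp only [mul_assoc], e1, e2]
  · exact absurd (c000 a3 b3 c3 ab ac h1 h2 h3) (h.ne a ha)

theorem sym {b c : G} (hb : b ∈ D) (hc : c ∈ D) (ab : Br a b) (ac : Br a c)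
    (k : Commute (zz a b) c) : Commute (zz a c) b := by
  rcases tri h ha hb hc ab ac with g | ⟨u, -⟩
  · exact g.2.1
  have k1 := cz (za (h.cube a ha) (h.cube b hb) ab) k
  have k2 : zz a b * zz a c * (zz a b * zz a c) = 1 := by
    rw [k1.symm.mul_mul_mul_comm, z2 (h.cube a ha) (h.cube b hb) ab,
      z2 (h.cube a ha) (h.cube c hc) ac, one_mul]
  rw [k2, one_mul] at u
  rw [eq_inv_of_mul_eq_one_right u]
  exact (zb (h.cube a ha) (h.cube b hb) ab).inv_left

theorem nu {b c d : G} (hb : b ∈ D) (hc : c ∈ D) (hd : d ∈ D) (ab : Br a b) (ac : Br a c)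
    (ad : Br a d) (ne : b ≠ a) (k1 : Commute (zz a b) c) (k2 : Commute (zz a b) d) :
    ¬ Uni D a c d := by
  rintro ⟨-, e, he, ae, k3, k4⟩
  have s1 := sym h ha hb hc ab ac k1
  have s2 := sym h ha hb hd ab ad k2
  have s3 := sym h ha hb he ab ae (k3 _ (za (h.cube a ha) (h.cube b hb) ab) k1 k2)
  have s := ((s1.mul_left s2).mul_left s3).mul_left ((s1.mul_left s2).mul_left s3)
  rw [k4] at s
  have : a * b * a = b * a * b := ab
  rw [s.eq, mul_right_inj] at this
  exact ne this.symm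

theorem trans {b c d : G} (hb : b ∈ D) (hc : c ∈ D) (hd : d ∈ D) (ab : Br a b) (ac : Br a c)
    (ad : Br a d) (ne : b ≠ a) (k1 : Commute (zz a b) c) (k2 : Commute (zz a b) d) :
    Commute (zz a c) d :=
  ((tri h ha hc hd ac ad).resolve_right (nu h ha hb hc hd ab ac ad ne k1 k2)).1

theorem main0 {b e d : G} (hb : b ∈ D) (he : e ∈ D) (hd : d ∈ D) (ab : Br a b) (ae : Br a e)
    (ad : Br a d) (ne : b ≠ a) (k : Commute (zz a b) e) (n : e ∉ closure {a, b}) :
    Commute (zz a b) d := by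
  by_contra nd
  have a3 := h.cube a ha
  have zb' := zb a3 (h.cube b hb) ab
  have ma : a ∈ closure ({a, b} : Set G) := subset_closure (by simp)
  obtain ⟨-, -, r, s, t, hr, hs, ht, ar, as, at', five⟩ :=
    (tri h ha hb he ab ae).resolve_right (nu h ha hb hb he ab ab ae ne zb' k)
  have cc : ∀ r ∈ closure ({a, b} : Set G), Commute (zz a b) r := fun r hr =>
    (mem_centralizer_singleton_iff.1 ((closure_le (centralizer {zz a b})).2 (by
      rintro _ (rfl | rfl)
      exacts [mem_centralizer_singleton_iff.2 (za a3 (h.cube b hb) ab).symm.eq,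
        mem_centralizer_singleton_iff.2 zb'.symm.eq]) hr)).symm
  let P : G → Prop := fun x => x ∈ D ∧ Br a x ∧ x ≠ a ∧ Commute (zz a b) x
  have pc : ∀ r ∈ closure ({a, b} : Set G), Br a (r * e * r⁻¹) → P (r * e * r⁻¹) := fun r hr br =>
    ⟨h.cj r e he, br, fun q => n (by
      rw [show e = r⁻¹ * (r * e * r⁻¹) * r by group, q]
      exact mul_mem (mul_mem (inv_mem hr) ma) hr), ((cc r hr).mul_right k).mul_right (cc r hr).inv_right⟩
  have pb : P b := ⟨hb, ab, ne, zb'⟩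
  have pe : P e := ⟨he, ae, fun q => n (q ▸ ma), k⟩
  have p3 : ∀ x, P x → zz a x * zz a d * (zz a x * zz a d) * (zz a x * zz a d) = 1 :=
    fun x px => ((tri h ha px.1 hd px.2.1 ad).resolve_left fun g => nd
      (trans h ha px.1 hb hd px.2.1 ab ad px.2.2.1 (sym h ha hb px.1 ab px.2.1 px.2.2.2) g.1)).1
  have p2 : ∀ x, P x → zz a x * zz a x = 1 := fun x px => z2 a3 (h.cube x px.1) px.2.1
  have pm : ∀ x y, P x → P y → Commute (zz a x) (zz a y) := fun x y px py =>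
    cz (za a3 (h.cube x px.1) px.2.1) (trans h ha hb px.1 py.1 ab px.2.1 py.2.1 ne px.2.2.2 py.2.2.2)
  have pr := pc r hr ar
  have ps := pc s hs as
  have pt := pc t ht at'
  have := star (p2 _ pb) (p2 _ pe) (p2 _ pr) (p2 _ ps) (z2 a3 (h.cube d hd) ad) (pm _ _ pb pe)
    (pm _ _ pb pr) (pm _ _ pb ps) (pm _ _ pe pr) (pm _ _ pe ps) (pm _ _ pr ps) (p3 _ pb) (p3 _ pe)
    (p3 _ pr) (p3 _ ps) (by
      rw [eq_inv_of_mul_eq_one_left five, inv_eq_of_mul_eq_one_right (p2 _ pt)]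
      exact p3 _ pt)
  exact nd (sym h ha hd hb ad ab (this ▸ Commute.one_left b))

theorem main {b e d : G} (hb : b ∈ D) (he : e ∈ D) (hd : d ∈ D) (ab : Br a b) (ne : b ≠ a)
    (k : Commute (zz a b) e) (n : e ∉ closure {a, b}) : Commute (zz a b) d := by
  have k1 : ∀ d ∈ D, Br a d → Commute (zz a b) d := fun d hd ad => by
    rcases h.br a ha e he with ae | ae
    · exact main0 h ha hb he hd ab ae ad ne k n
    · exact main0 h ha hb (h.inv e he) hd ab ae ad ne k.inv_right fun q => n (inv_mem_iff.1 q)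
  rcases h.br a ha d hd with ad | ad
  · exact k1 d hd ad
  · simpa using (k1 _ (h.inv d hd) ad).inv_right

end

theorem sl1 : ∀ a b : SL(2, ZMod 3), a * a * a = 1 → b * b * b = 1 → a ≠ 1 → b ≠ 1 →
    a * b * a = b * a * b ∨ a * b⁻¹ * a = b⁻¹ * a * b⁻¹ := by decide +kernel

theorem sl2 : ∀ a b : SL(2, ZMod 3), a * a * a = 1 → a ≠ 1 → a * b * a = b * a * b → b ≠ a →
    ∀ z, z ≠ 1 → z * a = a * z → z * b = b * z → z = a * b * (a * b) * (a * b) := by decide +kernel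

theorem sl {M : Type} [Group M] (h : IsSL2 M 3) : Nonempty (M ≃* SL(2, ZMod 3)) := by
  obtain ⟨F, _, _, hF, ⟨e⟩⟩ := h
  have : Fact (Nat.Prime 3) := ⟨by norm_num⟩
  have r : F ≃+* ZMod 3 := FiniteField.ringEquivOfCardEq (by rw [hF, ZMod.card])
  exact ⟨e.trans (MonoidHom.toMulEquiv (Matrix.SpecialLinearGroup.map r.toRingHom)
    (Matrix.SpecialLinearGroup.map r.symm.toRingHom) (by ext g i j; simp) (by ext g i j; simp))⟩

theorem fz3 : All fun _ _ _ _ p A => Mc p A → Multi A → TyS p A → p = 3 → ∀ x y, x ≠ y →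
    ∀ z ∈ Fl A x y, z ∈ Kl A x y → z ≠ 1 → ∀ w, z • w = w → w ∈ Ln A x y := by
  intro G _ _ Ω _ _ p A S mc _ ty p3 x y hxy z hz hk z1 w hw
  subst p3
  have : Fact (Nat.Prime 3) := ⟨by norm_num⟩
  have cube : ∀ v, ∀ a ∈ A v, a * a * a = 1 := fun v a ha => by
    have := congrArg Subtype.val (pow_card_eq_one' (G := A v) (x := ⟨a, ha⟩))
    rwa [S.card, coe_pow, pow_three'] at this
  have gen : ∀ v, ∀ a ∈ A v, a ≠ 1 → ∀ b ∈ A v, b ∈ zpowers a := fun v a ha a1 b hb => by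
    obtain ⟨n, hn⟩ := mem_zpowers_of_prime_card (G := A v) (S.card v) (g := ⟨a, ha⟩) (g' := ⟨b, hb⟩)
      fun e => a1 (congrArg Subtype.val e)
    exact ⟨n, congrArg Subtype.val hn⟩
  have ex : ∀ v, ∃ a ∈ A v, a ≠ 1 := fun v => by
    by_contra! n
    have := S.card v
    rw [(eq_bot_iff_forall _).2 n, card_bot] at this
    omega
  have brr : ∀ u v, u ≠ v → ∀ a ∈ A u, ∀ b ∈ A v, a ≠ 1 → b ≠ 1 → Br a b ∨ Br a b⁻¹ :=
    fun u v uv a ha b hb a1 b1 => by
      obtain ⟨e⟩ := sl (ty u v uv).1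
      have := sl1 (e ⟨a, mem_sup_left ha⟩) (e ⟨b, mem_sup_right hb⟩)
        (by rw [← map_mul, ← map_mul, map_eq_one_iff _ e.injective]; exact Subtype.ext (cube u a ha))
        (by rw [← map_mul, ← map_mul, map_eq_one_iff _ e.injective]; exact Subtype.ext (cube v b hb))
        (fun q => a1 (congrArg Subtype.val ((map_eq_one_iff _ e.injective).1 q)))
        (fun q => b1 (congrArg Subtype.val ((map_eq_one_iff _ e.injective).1 q)))
      simp only [← map_inv, ← map_mul, e.injective.eq_iff] at this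
      exact this.imp (congrArg Subtype.val) (congrArg Subtype.val)
  have ds : DS {a : G | a ≠ 1 ∧ ∃ v, a ∈ A v} :=
    ⟨fun a ⟨_, v, ha⟩ => cube v a ha, fun a ha => ha.1,
      fun a ⟨h1, v, ha⟩ => ⟨inv_ne_one.2 h1, v, inv_mem ha⟩,
      fun g a ⟨h1, v, ha⟩ => ⟨fun q => h1 (conj_eq_one_iff.1 q), _, S.eqv g v a ha⟩,
      fun a ⟨a1, u, ha⟩ b ⟨b1, v, hb⟩ => by
        by_cases uv : u = v
        · subst uv
          obtain ⟨n, rfl⟩ := gen u a ha a1 b hb
          have a3 : a ^ (3 : ℤ) = 1 := by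
            rw [← cube u a ha, ← pow_three']; exact zpow_natCast a 3
          obtain ⟨k, rfl | rfl | rfl⟩ : ∃ k, n = 3 * k ∨ n = 3 * k + 1 ∨ n = 3 * k - 1 :=
            ⟨(n + 1) / 3, by omega⟩
          · exact absurd (by simp only [zpow_mul, a3, one_zpow]) b1
          · left; simp only [zpow_add, zpow_mul, a3, one_zpow, one_mul, zpow_one, Br]
          · right; simp only [zpow_sub, zpow_mul, a3, one_zpow, one_mul, zpow_one, Br, inv_inv]
        · exact brr u v uv a ha b hb a1 b1⟩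
  obtain ⟨a, ha, a1⟩ := ex x
  obtain ⟨b, hb, b1, ab⟩ : ∃ b ∈ A y, b ≠ 1 ∧ Br a b := by
    obtain ⟨b, hb, b1⟩ := ex y
    rcases brr x y hxy a ha b hb a1 b1 with h | h
    exacts [⟨b, hb, b1, h⟩, ⟨b⁻¹, inv_mem hb, inv_ne_one.2 b1, h⟩]
  have ne : b ≠ a := fun q => (S.semi x y a ha (S.fix y a (q ▸ hb))).elim a1 hxy.symm
  have ez : z = zz a b := by
    obtain ⟨e⟩ := sl (ty x y hxy).1
    have := sl2 (e ⟨a, mem_sup_left ha⟩) (e ⟨b, mem_sup_right hb⟩)
      (by rw [← map_mul, ← map_mul, map_eq_one_iff _ e.injective]; exact Subtype.ext (cube x a ha))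
      (fun q => a1 (congrArg Subtype.val ((map_eq_one_iff _ e.injective).1 q)))
      (by simp only [← map_mul, e.injective.eq_iff]; exact Subtype.ext ab)
      (fun q => ne (congrArg Subtype.val (e.injective q))) (e ⟨z, hz⟩)
      (fun q => z1 (congrArg Subtype.val ((map_eq_one_iff _ e.injective).1 q)))
      (by simp only [← map_mul, e.injective.eq_iff]; exact Subtype.ext (hk a (mem_sup_left ha)).symm)
      (by simp only [← map_mul, e.injective.eq_iff]; exact Subtype.ext (hk b (mem_sup_right hb)).symm)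
    simp only [← map_mul, e.injective.eq_iff] at this
    exact congrArg Subtype.val this
  by_contra nw
  have xl : x ∈ Ln A x y := (le_sup_left : A x ≤ _)
  have xw : x ≠ w := fun q => nw (q ▸ xl)
  obtain ⟨c, hc, c1⟩ := ex w
  have zk := mc.ep.eps x w xw z ⟨(mc.ep.kfix x y hxy z).1 hk x xl, hw⟩
    fun g hg => hk g (mem_sup_left hg)
  refine z1 (S.faith z fun v => (mc.ep.nA v z).1 (centralizer_le_normalizer _ fun d hd => ?_))
  by_cases d1 : d = 1
  · simp [d1]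
  rw [ez]
  exact (main ds ⟨a1, x, ha⟩ ⟨b1, y, hb⟩ ⟨c1, w, hc⟩ ⟨d1, v, hd⟩ ab ne
    (ez ▸ (zk c (mem_sup_right hc)).symm) fun q => nw fun g hg => zpowers_le.2
      ((closure_le (Fl A x y)).2 (by
        rintro _ (rfl | rfl)
        exacts [mem_sup_left ha, mem_sup_right hb]) q) (gen w c hc c1 g hg)).symm.eq

end Cfsg.Agent.H76.Fz3
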