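import Cfsg.Agent.H76.FzT
import Cfsg.Agent.H76.FzU

/-! Classes of elements of order three in which any two elements satisfy a braid relation. -/

set_option autoImplicit false

namespace Cfsg.Agent.H76.FzG

open Subgroup Cfsg.Agent.H44

variable {G : Type*} [Group G]

def Br (a b : G) : Prop := a * b * a = b * a * b
def zz (a b : G) : G := a * b * (a * b) * (a * b)

theorem Br.rel {a b : G} (h : Br a b) : a * b * a * (b * a * b)⁻¹ = 1 := mul_inv_eq_one.2 h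

def g3 (a b c : G) : ℕ → G
  | 1 => a
  | 2 => a⁻¹
  | 3 => b
  | 4 => b⁻¹
  | 5 => c
  | _ => c⁻¹

def g5 (a b c d t : G) : ℕ → G
  | 1 => a
  | 2 => b
  | 3 => c
  | 4 => d
  | _ => t

theorem key {C : Cert} {R : List (List ℕ)} (h : Checked C R []) {g : ℕ → G} (hg : Sat g R)
    (w : List ℕ) (hw : lettersIn C.nc w = true ∧
      Nat.beq (trW C.row C.EB (2 ^ C.EB - 1) (2 ^ C.W - 1) w 0) 0 = true) : ev g w = 1 :=
  mem_bot.1 (h.mem_of_trW hg (H := ⊥) (fun _ hs => nomatch hs) rfl rfl hw.1 hw.2)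

/-- closes `ev g w = 1` from a relation -/
local macro "rel " h:term : tactic =>
  `(tactic| (refine Eq.trans ?_ $h; simp only [ev_cons, ev_nil, g3, g5]; group))

local macro "ext_w " h:term : tactic =>
  `(tactic| (refine Eq.trans ?_ $h; simp only [ev_cons, ev_nil, g3, g5, zz]; group))

section
variable {a b c : G} (ha : a * a * a = 1) (hb : b * b * b = 1) (hc : c * c * c = 1)
  (ab : Br a b) (ac : Br a c)
include ha hb ab

theorem satS : Sat (g3 a b 1) FzT.S.R := by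
  intro r hr
  simp only [FzT.S.R, List.mem_cons, List.not_mem_nil, or_false] at hr
  rcases hr with rfl | rfl | rfl | rfl | rfl
  · rel (mul_inv_cancel a)
  · rel (mul_inv_cancel b)
  · rel ha
  · rel hb
  · rel ab.rel

theorem z2 : zz a b * zz a b = 1 := by
  ext_w (key FzT.S.checked (satS ha hb ab) [1, 3, 1, 3, 1, 3, 1, 3, 1, 3, 1, 3] (by decide +kernel))

theorem za : Commute (zz a b) a := mul_inv_eq_one.1 (by
  ext_w (key FzT.S.checked (satS ha hb ab) [1, 3, 1, 3, 1, 3, 1, 4, 2, 4, 2, 4, 2, 2] (by decide +kernel)))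

theorem zb : Commute (zz a b) b := mul_inv_eq_one.1 (by
  ext_w (key FzT.S.checked (satS ha hb ab) [1, 3, 1, 3, 1, 3, 3, 4, 2, 4, 2, 4, 2, 4] (by decide +kernel)))

include hc ac

theorem sat3 {p q r : G} (hp : Br c p) (hq : Br c q) (hr : Br c r) {u v w : List ℕ}
    (e1 : ev (g3 a b c) u = c * p * c * (p * c * p)⁻¹) (e2 : ev (g3 a b c) v = c * q * c * (q * c * q)⁻¹)
    (e3 : ev (g3 a b c) w = c * r * c * (r * c * r)⁻¹) : Sat (g3 a b c)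
      [[1, 2], [3, 4], [5, 6], [1, 1, 1], [3, 3, 3], [5, 5, 5], [1, 3, 1, 4, 2, 4], [1, 5, 1, 6, 2, 6],
        u, v, w] := by
  intro s hs
  simp only [List.mem_cons, List.not_mem_nil, or_false] at hs
  rcases hs with rfl | rfl | rfl | rfl | rfl | rfl | rfl | rfl | rfl | rfl | rfl
  · rel (mul_inv_cancel a)
  · rel (mul_inv_cancel b)
  · rel (mul_inv_cancel c)
  · rel ha
  · rel hb
  · rel hc
  · rel ab.rel
  · rel ac.rel
  exacts [e1.trans hp.rel, e2.trans hq.rel, e3.trans hr.rel]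

local macro "evg" : tactic => `(tactic| (simp only [ev_cons, ev_nil, g3]; group))

theorem good (h1 : Br c b) (h2 : Br c (a * b * a⁻¹)) (h3 : Br c (a⁻¹ * b * a)) :
    Commute (zz a b) c ∧ Commute (zz a c) b ∧ Br a (a * b⁻¹ * c * (a * b⁻¹)⁻¹) ∧
    Br a (a⁻¹ * b * c * (a⁻¹ * b)⁻¹) ∧ Br a (a * b⁻¹ * (a⁻¹ * b) * c * (a * b⁻¹ * (a⁻¹ * b))⁻¹) ∧
    zz a b * zz a c * zz a (a * b⁻¹ * c * (a * b⁻¹)⁻¹) * zz a (a⁻¹ * b * c * (a⁻¹ * b)⁻¹) *
      zz a (a * b⁻¹ * (a⁻¹ * b) * c * (a * b⁻¹ * (a⁻¹ * b))⁻¹) = 1 := by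
  have s : Sat (g3 a b c) FzT.P111.R := sat3 ha hb hc ab ac h1 h2 h3 (by evg) (by evg) (by evg)
  refine ⟨mul_inv_eq_one.1 ?_, mul_inv_eq_one.1 ?_, mul_inv_eq_one.1 ?_, mul_inv_eq_one.1 ?_,
    mul_inv_eq_one.1 ?_, ?_⟩
  · ext_w (key FzT.P111.checked s [1, 3, 1, 3, 1, 3, 5, 4, 2, 4, 2, 4, 2, 6] (by decide +kernel))
  · ext_w (key FzT.P111.checked s [1, 5, 1, 5, 1, 5, 3, 6, 2, 6, 2, 6, 2, 4] (by decide +kernel))
  · ext_w (key FzT.P111.checked s [1, 1, 4, 5, 3, 2, 1, 1, 4, 6, 3, 2, 2, 1, 4, 6, 3, 2] (by decide +kernel))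
  · ext_w (key FzT.P111.checked s [1, 2, 3, 5, 4, 1, 1, 2, 3, 6, 4, 1, 2, 2, 3, 6, 4, 1] (by decide +kernel))
  · ext_w (key FzT.P111.checked s [1, 1, 4, 2, 3, 5, 4, 1, 3, 2, 1, 1, 4, 2, 3, 6, 4, 1, 3, 2, 2, 1, 4, 2, 3, 6, 4, 1, 3, 2] (by decide +kernel))
  · ext_w (key FzT.P111.checked s [1, 3, 1, 3, 1, 3, 1, 5, 1, 5, 1, 5, 1, 1, 4, 5, 3, 2, 1, 1, 4, 5, 3, 2, 1, 1, 4, 5, 3, 2, 1, 2, 3, 5, 4, 1, 1, 2, 3, 5, 4, 1, 1, 2, 3, 5, 4, 1, 1, 1, 4, 2, 3, 5, 4, 1, 3, 2, 1, 1, 4, 2, 3, 5, 4, 1, 3, 2, 1, 1, 4, 2, 3, 5, 4, 1, 3, 2] (by decide +kernel))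

theorem uni (h1 : Br c b) (h2 : Br c (a * b * a⁻¹)⁻¹) (h3 : Br c (a⁻¹ * b * a)⁻¹) :
    zz a b * zz a c * (zz a b * zz a c) * (zz a b * zz a c) = 1 ∧ Br a (b⁻¹ * c⁻¹ * b⁻¹⁻¹) ∧
    zz a b * zz a c * zz a (b⁻¹ * c⁻¹ * b⁻¹⁻¹) * (zz a b * zz a c * zz a (b⁻¹ * c⁻¹ * b⁻¹⁻¹)) = a := by
  have s : Sat (g3 a b c) FzU.R := sat3 ha hb hc ab ac h1 h2 h3 (by evg) (by evg) (by evg)
  refine ⟨?_, mul_inv_eq_one.1 ?_, mul_inv_eq_one.1 ?_⟩
  · ext_w (key FzU.checked s [1, 3, 1, 3, 1, 3, 1, 5, 1, 5, 1, 5, 1, 3, 1, 3, 1, 3, 1, 5, 1, 5, 1, 5, 1, 3, 1, 3, 1, 3, 1, 5, 1, 5, 1, 5] (by decide +kernel))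
  · ext_w (key FzU.checked s [1, 4, 6, 3, 1, 4, 5, 3, 2, 4, 5, 3] (by decide +kernel))
  · ext_w (key FzU.checked s [1, 3, 1, 3, 1, 3, 1, 5, 1, 5, 1, 5, 1, 4, 6, 3, 1, 4, 6, 3, 1, 4, 6, 3, 1, 3, 1, 3, 1, 3, 1, 5, 1, 5, 1, 5, 1, 4, 6, 3, 1, 4, 6, 3, 1, 4, 6, 3, 2] (by decide +kernel))

theorem c110 (h1 : Br c b) (h2 : Br c (a * b * a⁻¹)) (h3 : Br c (a⁻¹ * b * a)⁻¹) : a = 1 := by
  have s : Sat (g3 a b c) FzT.P110.R := sat3 ha hb hc ab ac h1 h2 h3 (by evg) (by evg) (by evg)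
  ext_w (key FzT.P110.checked s [1] (by decide +kernel))

theorem c101 (h1 : Br c b) (h2 : Br c (a * b * a⁻¹)⁻¹) (h3 : Br c (a⁻¹ * b * a)) : a = 1 := by
  have s : Sat (g3 a b c) FzT.P101.R := sat3 ha hb hc ab ac h1 h2 h3 (by evg) (by evg) (by evg)
  ext_w (key FzT.P101.checked s [1] (by decide +kernel))

theorem c011 (h1 : Br c b⁻¹) (h2 : Br c (a * b * a⁻¹)) (h3 : Br c (a⁻¹ * b * a)) : a = 1 := by
  have s : Sat (g3 a b c) FzT.P011.R := sat3 ha hb hc ab ac h1 h2 h3 (by evg) (by evg) (by evg)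
  ext_w (key FzT.P011.checked s [1] (by decide +kernel))

theorem c000 (h1 : Br c b⁻¹) (h2 : Br c (a * b * a⁻¹)⁻¹) (h3 : Br c (a⁻¹ * b * a)⁻¹) : a = 1 := by
  have s : Sat (g3 a b c) FzT.P000.R := sat3 ha hb hc ab ac h1 h2 h3 (by evg) (by evg) (by evg)
  ext_w (key FzT.P000.checked s [1] (by decide +kernel))

end

theorem star {a b c d t : G} (ha : a * a = 1) (hb : b * b = 1) (hc : c * c = 1) (hd : d * d = 1)
    (ht : t * t = 1) (ab : Commute a b) (ac : Commute a c) (ad : Commute a d) (bc : Commute b c)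
    (bd : Commute b d) (cd : Commute c d) (h1 : a * t * (a * t) * (a * t) = 1)
    (h2 : b * t * (b * t) * (b * t) = 1) (h3 : c * t * (c * t) * (c * t) = 1)
    (h4 : d * t * (d * t) * (d * t) = 1)
    (h5 : a * b * c * d * t * (a * b * c * d * t) * (a * b * c * d * t) = 1) : t = 1 := by
  have k : ∀ {x y : G}, x * x = 1 → y * y = 1 → Commute x y → x * y * (x * y) = 1 := fun hx hy h => by
    rw [h.symm.mul_mul_mul_comm, hx, hy, one_mul]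
  have s : Sat (g5 a b c d t) FzT.Star.R := by
    intro r hr
    simp only [FzT.Star.R, List.mem_cons, List.not_mem_nil, or_false] at hr
    rcases hr with rfl | rfl | rfl | rfl | rfl | rfl | rfl | rfl | rfl | rfl | rfl | rfl | rfl |
      rfl | rfl | rfl
    · rel ha
    · rel hb
    · rel hc
    · rel hd
    · rel ht
    · rel (k ha hb ab)
    · rel (k ha hc ac)
    · rel (k ha hd ad)
    · rel (k hb hc bc)
    · rel (k hb hd bd)
    · rel (k hc hd cd)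
    · rel h1
    · rel h2
    · rel h3
    · rel h4
    · rel h5
  ext_w (key FzT.Star.checked s [5] (by decide +kernel))

end Cfsg.Agent.H76.FzG
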