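import Cfsg.Agent.H78.G40B
import Cfsg.Agent.H27.SympBasic

/-! Project L40G, piece MO2: the symplectic model. -/

set_option autoImplicit false

noncomputable section

namespace Cfsg.Agent.H76.G40Mo2

open Subgroup Matrix Cfsg.Agent.H46.L40 Cfsg.Agent.H78.G40
open Cfsg.Agent.H46.S94 (Inn)
open Cfsg.Agent.H27 (spTv tvMat)

abbrev Vc := Fin 3 ⊕ Fin 3 → ZMod 3
abbrev M6 := Matrix (Fin 3 ⊕ Fin 3) (Fin 3 ⊕ Fin 3) (ZMod 3)

def vv (a b c d e f : ZMod 3) : Vc := Sum.elim ![a, b, c] ![d, e, f]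

theorem ex_vv (v : Vc) : ∃ a b c d e f, v = vv a b c d e f :=
  ⟨v (.inl 0), v (.inl 1), v (.inl 2), v (.inr 0), v (.inr 1), v (.inr 2), funext fun i => by
    rcases i with i | i <;> fin_cases i <;> rfl⟩

def ix (v : Vc) : ℕ := (v (.inl 0)).val + 3 * ((v (.inl 1)).val + 3 * ((v (.inl 2)).val + 3 *
  ((v (.inr 0)).val + 3 * ((v (.inr 1)).val + 3 * (v (.inr 2)).val))))

def tD : ℕ := 0x78898677a79576766a97a77aaa488889687a87678867a88a88998388966799a55677889999a99a664886788789768786768899878a9488787877968987777998978999366788999a87956689999a88967587978988a778769879997897aa577977a88a87978978a998988a9498a99aa9baab99a9aa4455565567968786687788765789897889a4877788689778687679798879a9356677899967766788999989967487889677988568767979978999369888677a7968685798796899a28895669aa45578899a89999a56488977977976967968989798799478978979a88887978a8887989a478899a8999aa88999a34445545576967989565967998487a789aa378977988578986978589997a99288999a67698978877599a899783788878995677868894899979ba297978999586978a985a8a89aaa1999a99776998989675aaa99a783995995aa48848959a3aa69a6bb29969869959a5996894aa7aa7aa0443444554332443454221333340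

def tC : ℕ := 0x151450c81220c4cc2dc29185a32228c10c2db32150c6da49b6604916110da6585208808108846db8546d10a24a28e24cc51c2936604a03124926e36d36db8c44040221036db6487008dc5008c40db6db2436d90522db6d97248418e36883214105122994e16c86a40900501135237206d991292069249b2db68b60846405152145c64128a0e285445986464170c5086d951b6612936db6da7188dc9008046dc6db2440e310070000405b6d901b6c829181b69b90490c6da0929100244a369b46431280a8906529134db30241c2913224928db6da45b6800a04240a46db6e431c0825102a28a369450849c25292148245b69b48b6c04440140898e36d930270406088b4246db6c40db6d929b68a254121860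

def ds (v : Vc) : ℕ := (tD >>> (4 * ix v)) % 16
def ch (v : Vc) : Fin 5 := Fin.ofNat 5 ((tC >>> (3 * ix v)) % 8)

def gM : Fin 5 → M6 := ![fromBlocks !![1, 1, 0; 0, 1, 0; 0, 0, 1] !![0, 0, 0; 0, 0, 0; 0, 0, 0] !![0, 0, 0; 0, 0, 0; 0, 0, 0] !![1, 0, 0; 2, 1, 0; 0, 0, 1],
  fromBlocks !![1, 0, 0; 1, 1, 0; 0, 0, 1] !![0, 0, 0; 0, 0, 0; 0, 0, 0] !![0, 0, 0; 0, 0, 0; 0, 0, 0] !![1, 2, 0; 0, 1, 0; 0, 0, 1],
  fromBlocks !![1, 0, 0; 0, 1, 1; 0, 0, 1] !![0, 0, 0; 0, 0, 0; 0, 0, 0] !![0, 0, 0; 0, 0, 0; 0, 0, 0] !![1, 0, 0; 0, 1, 0; 0, 2, 1],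
  fromBlocks !![1, 0, 0; 0, 1, 0; 0, 1, 1] !![0, 0, 0; 0, 0, 0; 0, 0, 0] !![0, 0, 0; 0, 0, 0; 0, 0, 0] !![1, 0, 0; 0, 1, 2; 0, 0, 1],
  fromBlocks !![0, 0, 0; 0, 0, 0; 0, 0, 1] !![0, 1, 0; 1, 0, 0; 0, 0, 0] !![0, 2, 0; 2, 0, 0; 0, 0, 0] !![0, 0, 0; 0, 0, 0; 0, 0, 1]]

def gS : Fin 5 → Sp6 := ![E2 x12, E2 x21, E2 x23, E2 x32, S6]

theorem gS_val : ∀ k, (gS k).1 = gM k := by decide +kernel

def bs : Vc := vv 0 0 0 1 0 0

theorem tab : ∀ a b c d e f : ZMod 3, (vv a b c d e f = 0 ∨ vv a b c d e f = bs) ∨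
    ds (gM (ch (vv a b c d e f)) *ᵥ vv a b c d e f) < ds (vv a b c d e f) := by decide +kernel

def x31 : S3 := ⟨!![1, 0, 0; 0, 1, 0; 1, 0, 1], by decide⟩

theorem lng : spTv bs 2 * (E2 x31 * (S6 * E2 x23 * (S6 * S6 * S6))) =
    S6 * E2 x23 * (S6 * S6 * S6) * E2 x31 := Subtype.ext (by decide +kernel)

theorem gen6 : Gn E2 {S6} = ⊤ := by
  have hE : ∀ m, E2 m ∈ Gn E2 {S6} := fun m => subset_closure (Or.inl ⟨m, rfl⟩)
  have hS : S6 ∈ Gn E2 {S6} := subset_closure (Or.inr rfl)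
  have hg : ∀ k, gS k ∈ Gn E2 {S6} := fun k => by
    fin_cases k
    exacts [hE _, hE _, hE _, hE _, hS]
  have h2 : spTv bs 2 ∈ Gn E2 {S6} := by
    have k := mul_mem (mul_mem hS (hE x23)) (mul_mem (mul_mem hS hS) hS)
    rw [eq_mul_inv_iff_mul_eq.2 lng]
    exact mul_mem (mul_mem k (hE x31)) (inv_mem (mul_mem (hE x31) k))
  have hb : ∀ c, spTv bs c ∈ Gn E2 {S6} := fun c => by
    have : c = 0 ∨ c = 2 ∨ c = 2 + 2 := by revert c; decide
    rcases this with rfl | rfl | rfl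
    · rw [H27.spTv_zero]; exact one_mem _
    · exact h2
    · rw [← H27.spTv_mul]; exact mul_mem h2 h2
  have H : ∀ n v, ds v = n → ∀ c, spTv v c ∈ Gn E2 {S6} := fun n => by
    induction n using Nat.strong_induction_on with
    | _ n ih =>
      intro v hv c
      obtain ⟨a, b, c', d, e, f, rfl⟩ := ex_vv v
      rcases tab a b c' d e f with (h | h) | h
      · rw [h, H27.spTv_zero_vec]; exact one_mem _
      · rw [h]; exact hb c
      · generalize vv a b c' d e f = v at h hv ⊢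
        generalize ch v = j at h
        rw [hv, ← gS_val] at h
        have k := ih _ h ((gS j).1 *ᵥ v) rfl c
        rw [← H27.spTv_conj] at k
        have k2 := mul_mem (mul_mem (inv_mem (hg j)) k) (hg j)
        rwa [← mul_assoc, ← mul_assoc, inv_mul_cancel, one_mul, inv_mul_cancel_right] at k2
  exact H27.sp_eq_top_of_spTv_mem _ fun w c => H _ w rfl c

theorem to1 : ∀ a b c d e f : ZMod 3,
    (D6 * tvMat bs 1 * D6) (.inr 0) (.inl 0) ≠ tvMat (vv a b c d e f) 1 (.inr 0) (.inl 0) ∧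
    ((D6 * tvMat bs 1 * D6) (.inl 1) (.inl 1) ≠ (-tvMat (vv a b c d e f) 1) (.inl 1) (.inl 1) ∨
    (D6 * tvMat bs 1 * D6) (.inl 1) (.inr 1) ≠ (-tvMat (vv a b c d e f) 1) (.inl 1) (.inr 1)) := by
  decide +kernel

theorem tau_out : ¬ Inn τ2 := by
  rintro ⟨c, h⟩
  obtain ⟨g, rfl⟩ := QuotientGroup.mk'_surjective _ c
  have k : mk2 (T2 (spTv bs 1)) = mk2 (g * spTv bs 1 * g⁻¹) := by
    rw [map_mul, map_mul, map_inv]
    exact congrArg (fun α : MulAut X2 => α (mk2 (spTv bs 1))) h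
  rw [H27.spTv_conj, mk2_eq] at k
  obtain ⟨a, b, c, d, e, f, hv⟩ := ex_vv (g.1 *ᵥ bs)
  rw [hv] at k
  obtain ⟨h1, h2⟩ := to1 a b c d e f
  rcases k with k | k
  · exact h1 (congrFun (congrFun k _) _)
  · exact h2.elim (fun h => h (congrFun (congrFun k _) _)) fun h => h (congrFun (congrFun k _) _)

theorem rl1 : S6 * S6 = E2 z0 ∧ S6 * E2 n23 * S6 = E2 n23 * S6 * E2 n23 := by decide +kernel

theorem cj {s x y : Sp6} (h : (s * x).1 = (y * s).1 ∨ (s * x).1 = -(y * s).1) :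
    mk2 s * mk2 x * (mk2 s)⁻¹ = mk2 y := by
  rw [mul_inv_eq_iff_eq_mul, ← map_mul, ← map_mul, mk2_eq]; exact h

theorem mo2 : Mo2S := fun _ h => by
  have hf : Finite X2 := Nat.finite_of_card_ne_zero (by rw [h.2.2.1]; norm_num)
  refine ⟨⟨hf, h.1, h.2.1, ?_, ?_, ?_, ?_, ?_, ?_, fun m => ?_, ?_, tau_out, fun m => ?_, ?_⟩, gen6⟩
  · refine eq_top_iff.2 fun x _ => ?_
    obtain ⟨g, rfl⟩ := QuotientGroup.mk'_surjective _ x
    have : Gn E2 {S6} ≤ (Gn e2 {σ2}).comap mk2 := (closure_le _).2 (by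
      rintro _ (⟨m, rfl⟩ | rfl)
      exacts [subset_closure (Or.inl ⟨m, rfl⟩), subset_closure (Or.inr rfl)])
    exact this (gen6.ge (mem_top g))
  · exact (map_mul mk2 S6 S6).symm.trans (congrArg mk2 rl1.1)
  · exact cj (s := S6) (x := E2 a0) (y := E2 (a0 * z0)) (by decide +kernel)
  · exact cj (s := S6) (x := E2 x12) (y := E2 (a0 * x12 * a0⁻¹)) (by decide +kernel)
  · exact cj (s := S6) (x := E2 x21) (y := E2 (a0 * x21 * a0⁻¹)) (by decide +kernel)
  · change mk2 S6 * mk2 (E2 n23) * mk2 S6 = mk2 (E2 n23) * mk2 S6 * mk2 (E2 n23)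
    simp only [← map_mul, rl1.2]
  · change mk2 (T2 (E2 m)) = mk2 (E2 m)
    refine congrArg mk2 (Subtype.ext ?_)
    change D6 * fromBlocks m.1 0 0 (tr m).1 * D6 = fromBlocks m.1 0 0 (tr m).1
    simp [D6, fromBlocks_multiply]
  · change mk2 (T2 S6) = (mk2 S6)⁻¹
    rw [eq_inv_iff_mul_eq_one, ← map_mul, ← map_one mk2, mk2_eq]
    decide +kernel
  · have ht : tr (tr m) = m := (itr (Fin 3) (ZMod 3)).left_inv m
    refine cj (s := J6) (x := E2 m) (y := E2 (tr m)) (Or.inl ?_)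
    change J (Fin 3) (ZMod 3) * fromBlocks m.1 0 0 (tr m).1 =
      fromBlocks (tr m).1 0 0 (tr (tr m)).1 * J (Fin 3) (ZMod 3)
    simp [ht, J, fromBlocks_multiply]
  · exact cj (s := J6) (x := S6) (y := S6) (by decide +kernel)

end Cfsg.Agent.H76.G40Mo2
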