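import Cfsg.Agent.H76.HBDefs
import Cfsg.Agent.H9.Dihedral

/-! Project HB: counting lemmas. -/

set_option autoImplicit false

namespace Cfsg.Agent.H76.HB

open MulAction Subgroup Cfsg.Agent.H83 Cfsg.Agent.H56.TT
open Cfsg.Agent.H56.W2 (Fix mem_Fix)
open scoped Cfsg.Agent.H63

universe u v

variable {G : Type u} [Group G]

section gen
variable {X : Type v} [MulAction G X]

theorem modp [Finite X] {p : ℕ} [Fact p.Prime] {U : Subgroup G} (hU : IsPGroup p U) {Φ : Set X}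
    (hΦ : ∀ x ∈ U, ∀ c ∈ Φ, x • c ∈ Φ) : Φ.ncard ≡ (Φ ∩ Fix X U).ncard [MOD p] := by
  let T : SubMulAction U X := ⟨Φ, fun k c hc => hΦ k k.2 c hc⟩
  have h1 := hU.card_modEq_card_fixedPoints T
  have h2 : Nat.card (fixedPoints U T) = (Φ ∩ Fix X U).ncard := by
    rw [← Nat.card_coe_set_eq]
    exact Nat.card_congr ⟨fun c => ⟨c.1.1, c.1.2, fun x hx => congrArg Subtype.val (c.2 ⟨x, hx⟩)⟩,
      fun c => ⟨⟨c.1, c.2.1⟩, fun x => Subtype.ext (c.2.2 x x.2)⟩, fun _ => rfl, fun _ => rfl⟩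
  rw [h2] at h1
  exact h1

theorem fixP [Finite X] {p : ℕ} (hp : p.Prime) {U : Subgroup G} (hU : IsPGroup p U) {Φ : Set X}
    (hΦ : ∀ x ∈ U, ∀ c ∈ Φ, x • c ∈ Φ) (hn : ¬ p ∣ Φ.ncard) : ∃ c ∈ Φ, ∀ x ∈ U, x • c = c := by
  have := Fact.mk hp
  by_contra hc
  have h := modp hU hΦ
  rw [show Φ ∩ Fix X U = ∅ from Set.eq_empty_of_forall_notMem fun c h => hc ⟨c, h.1, h.2⟩,
    Set.ncard_empty] at h
  exact hn ((Nat.modEq_zero_iff_dvd).1 h)

theorem dvdP [Finite X] (U : Subgroup G) (s : ℕ) (Φ : Set X) (hΦ : ∀ x ∈ U, ∀ c ∈ Φ, x • c ∈ Φ)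
    (hs : ∀ c ∈ Φ, Nat.card ↥(U ⊓ stabilizer G c) = s) : Nat.card U ∣ Φ.ncard * s := by
  induction hn : Φ.ncard using Nat.strong_induction_on generalizing Φ with
  | _ n ih =>
  rcases Φ.eq_empty_or_nonempty with rfl | ⟨c, hc⟩
  · rw [← hn]; simp
  set O : Set X := {y | ∃ k ∈ U, k • c = y}
  have hO : O ⊆ Φ := by rintro _ ⟨k, hk, rfl⟩; exact hΦ k hk c hc
  have h1 := H65.OT.card_orb U c (S := O) fun y => Iff.rfl
  rw [hs c hc] at h1
  have h2 := Set.ncard_diff_add_ncard_of_subset hO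
  have h3 : 0 < O.ncard := (Set.ncard_pos).2 ⟨c, 1, U.one_mem, one_smul _ _⟩
  have h4 := ih (Φ \ O).ncard (by omega) (Φ \ O) (fun x hx d hd => ⟨hΦ x hx d hd.1, fun ⟨k, hk, e⟩ =>
    hd.2 ⟨x⁻¹ * k, U.mul_mem (U.inv_mem hx) hk, by rw [mul_smul, e, inv_smul_smul]⟩⟩)
    (fun d hd => hs d hd.1) rfl
  rw [← hn, ← h2, add_mul, ← h1]
  exact dvd_add h4 dvd_rfl

theorem dvdP1 [Finite X] (U : Subgroup G) (Φ : Set X) (hΦ : ∀ x ∈ U, ∀ c ∈ Φ, x • c ∈ Φ)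
    (hs : ∀ c ∈ Φ, ∀ x ∈ U, x • c = c → x = 1) : Nat.card U ∣ Φ.ncard := by
  have := dvdP U 1 Φ hΦ fun c hc => by
    rw [card_eq_one, eq_bot_iff]
    exact fun x hx => hs c hc x hx.1 hx.2
  rwa [mul_one] at this

/-- a semiregular group of the right order is transitive -/
theorem trP [Finite X] [Finite G] (U : Subgroup G) (Φ : Set X) (hΦ : ∀ x ∈ U, ∀ c ∈ Φ, x • c ∈ Φ)
    {c : X} (hc : c ∈ Φ) (hs : ∀ x ∈ U, x • c = c → x = 1) (hn : Φ.ncard ≤ Nat.card U) :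
    ∀ d ∈ Φ, ∃ x ∈ U, x • c = d := by
  set O : Set X := {y | ∃ k ∈ U, k • c = y}
  have hO : O ⊆ Φ := by rintro _ ⟨k, hk, rfl⟩; exact hΦ k hk c hc
  have h1 := H65.OT.card_orb U c (S := O) fun y => Iff.rfl
  have h2 : Nat.card ↥(U ⊓ stabilizer G c) = 1 := by
    rw [card_eq_one, eq_bot_iff]
    exact fun x hx => hs x hx.1 hx.2
  rw [h2, mul_one] at h1
  have := Set.eq_of_subset_of_ncard_le hO (h1 ▸ hn)
  exact fun d hd => (this ▸ hd : d ∈ O)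

/-- the number of elements without fixed points in a Frobenius-like action -/
theorem frob [Finite X] [Finite G] {U K : Subgroup G} {Φ : Set X} (hK : K ≤ U)
    (hΦ : ∀ x ∈ U, ∀ c ∈ Φ, x • c ∈ Φ) (htr : ∀ c ∈ Φ, ∀ d ∈ Φ, ∃ x ∈ U, x • c = d)
    (hKΦ : ∀ x ∈ K, ∀ c ∈ Φ, x • c = c)
    (h2 : ∀ x ∈ U, ∀ c ∈ Φ, ∀ d ∈ Φ, c ≠ d → x • c = c → x • d = d → x ∈ K) (hne : Φ.Nonempty) :
    {x | x ∈ U ∧ ∀ c ∈ Φ, x • c ≠ c}.ncard + Nat.card K = Φ.ncard * Nat.card K := by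
  obtain ⟨a, ha⟩ := hne
  have orb : ∀ c ∈ Φ, Nat.card U = Φ.ncard * Nat.card ↥(U ⊓ stabilizer G c) := fun c hc =>
    H65.OT.card_orb U c fun y => ⟨fun hy => htr c hc y hy, fun ⟨k, hk, e⟩ => e ▸ hΦ k hk c hc⟩
  have hpos : 0 < Φ.ncard := (Set.ncard_pos).2 ⟨a, ha⟩
  set s := Nat.card ↥(U ⊓ stabilizer G a)
  set A : Set G := {x | (x ∈ U ∧ x ∉ K) ∧ ∃ c ∈ Φ, x • c = c}
  have hKs : ∀ c ∈ Φ, (K : Set G) ⊆ (U ⊓ stabilizer G c : Subgroup G) :=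
    fun c hc x hx => ⟨hK hx, hKΦ x hx c hc⟩
  have h3 := H65.A45.dcount A Φ (fun x c => x • c = c) 1 (s - Nat.card K)
    (fun x hx => by
      obtain ⟨c, hc, e⟩ := hx.2
      rw [Set.ncard_eq_one]
      refine ⟨c, Set.eq_singleton_iff_unique_mem.2 ⟨⟨hc, e⟩, fun d hd => ?_⟩⟩
      by_contra hne
      exact hx.1.2 (h2 x hx.1.1 d hd.1 c hc hne hd.2 e))
    (fun c hc => by
      have e1 : Nat.card ↥(U ⊓ stabilizer G c) = s :=
        Nat.eq_of_mul_eq_mul_left hpos ((orb c hc).symm.trans (orb a ha))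
      rw [← e1, ← SetLike.coe_sort_coe, ← SetLike.coe_sort_coe, Nat.card_coe_set_eq,
        Nat.card_coe_set_eq, ← Set.ncard_diff (hKs c hc)]
      congr 1
      ext x
      exact ⟨fun h => ⟨⟨h.1.1.1, h.2⟩, h.1.1.2⟩, fun h => ⟨⟨⟨h.1.1, h.2⟩, c, hc, h.1.2⟩, h.1.2⟩⟩)
  have h4 : Nat.card K ≤ s := card_le_of_le (hKs a ha)
  have h5 : (U : Set G) = ({x | x ∈ U ∧ ∀ c ∈ Φ, x • c ≠ c} ∪ K) ∪ A := by
    ext x
    constructor
    · intro hx
      by_cases h : ∀ c ∈ Φ, x • c ≠ c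
      · exact .inl (.inl ⟨hx, h⟩)
      · push Not at h
        by_cases h' : x ∈ K
        · exact .inl (.inr h')
        · exact .inr ⟨⟨hx, h'⟩, h⟩
    · rintro ((h | h) | h)
      exacts [h.1, hK h, h.1.1]
  have h6 : Nat.card U = ({x | x ∈ U ∧ ∀ c ∈ Φ, x • c ≠ c}.ncard + Nat.card K) + A.ncard := by
    rw [← SetLike.coe_sort_coe, ← SetLike.coe_sort_coe, Nat.card_coe_set_eq, Nat.card_coe_set_eq, h5,
      Set.ncard_union_eq, Set.ncard_union_eq]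
    · exact Set.disjoint_left.2 fun x hx hx' => hx.2 a ha (hKΦ x hx' a ha)
    · refine Set.disjoint_left.2 fun x hx hx' => hx.elim (fun h => ?_) hx'.1.2
      obtain ⟨c, hc, e⟩ := hx'.2
      exact h.2 c hc e
  have h7 : Nat.card U = Φ.ncard * s := orb a ha
  rw [mul_one, Nat.mul_sub] at h3
  have h8 := Nat.mul_le_mul_left Φ.ncard h4
  omega

end gen

/-- `G` with the conjugation action -/
def El (G : Type u) : Type u := G

instance instMulActionEl : MulAction G (El G) where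
  smul g x := (g * (show G from x) * g⁻¹ : G)
  one_smul x := (by simp : ∀ x : G, 1 * x * 1⁻¹ = x) x
  mul_smul g h x := (by intro x; group : ∀ x : G, g * h * x * (g * h)⁻¹ = g * (h * x * h⁻¹) * g⁻¹) x

instance instFiniteEl [Finite G] : Finite (El G) := inferInstanceAs (Finite G)

/-- the subgroups with the conjugation action -/
def Sb (G : Type u) [Group G] : Type u := Subgroup G

instance instMulActionSb : MulAction G (Sb G) where
  smul g x := cj g x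
  one_smul x := cj_one x
  mul_smul g h x := cj_mul g h x

instance instFiniteSb [Finite G] : Finite (Sb G) := inferInstanceAs (Finite (Subgroup G))

theorem conj_eq_iff {g x : G} : g * x * g⁻¹ = x ↔ g * x = x * g := mul_inv_eq_iff_eq_mul

variable [Finite G]

theorem fixE {p : ℕ} (hp : p.Prime) {U : Subgroup G} (hU : IsPGroup p U) {Φ : Set G}
    (hΦ : ∀ x ∈ U, ∀ c ∈ Φ, x * c * x⁻¹ ∈ Φ) (hn : ¬ p ∣ Φ.ncard) :
    ∃ c ∈ Φ, ∀ x ∈ U, x * c = c * x := by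
  obtain ⟨c, hc, h⟩ := fixP (X := El G) hp hU hΦ hn
  exact ⟨c, hc, fun x hx => conj_eq_iff.1 (h x hx)⟩

theorem fixS {p : ℕ} (hp : p.Prime) {U : Subgroup G} (hU : IsPGroup p U) {Φ : Set (Subgroup G)}
    (hΦ : ∀ x ∈ U, ∀ c ∈ Φ, cj x c ∈ Φ) (hn : ¬ p ∣ Φ.ncard) :
    ∃ c ∈ Φ, U ≤ N[c] := by
  obtain ⟨c, hc, h⟩ := fixP (X := Sb G) hp hU hΦ hn
  exact ⟨c, hc, fun x hx => cj_eq_self_iff.1 (h x hx)⟩

theorem dvdE (U : Subgroup G) (Φ : Set G) (hΦ : ∀ x ∈ U, ∀ c ∈ Φ, x * c * x⁻¹ ∈ Φ)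
    (hs : ∀ c ∈ Φ, ∀ x ∈ U, x * c = c * x → x = 1) : Nat.card U ∣ Φ.ncard :=
  dvdP1 (X := El G) U Φ hΦ fun c hc x hx e => hs c hc x hx (conj_eq_iff.1 e)

theorem dvdS (U : Subgroup G) (s : ℕ) (Φ : Set (Subgroup G)) (hΦ : ∀ x ∈ U, ∀ c ∈ Φ, cj x c ∈ Φ)
    (hs : ∀ c ∈ Φ, Nat.card ↥(U ⊓ N[c]) = s) : Nat.card U ∣ Φ.ncard * s :=
  dvdP (X := Sb G) U s Φ hΦ fun c hc => by
    rw [← hs c hc]
    congr 2
    ext x
    exact and_congr_right fun _ => cj_eq_self_iff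

theorem dvdS1 (U : Subgroup G) (Φ : Set (Subgroup G)) (hΦ : ∀ x ∈ U, ∀ c ∈ Φ, cj x c ∈ Φ)
    (hs : ∀ c ∈ Φ, ∀ x ∈ U, x ∈ N[c] → x = 1) : Nat.card U ∣ Φ.ncard :=
  dvdP1 (X := Sb G) U Φ hΦ fun c hc x hx e => hs c hc x hx (cj_eq_self_iff.1 e)

theorem trE (U : Subgroup G) (Φ : Set G) (hΦ : ∀ x ∈ U, ∀ c ∈ Φ, x * c * x⁻¹ ∈ Φ)
    {c : G} (hc : c ∈ Φ) (hs : ∀ x ∈ U, x * c = c * x → x = 1) (hn : Φ.ncard ≤ Nat.card U) :
    ∀ d ∈ Φ, ∃ x ∈ U, x * c * x⁻¹ = d :=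
  trP (X := El G) U Φ hΦ hc (fun x hx e => hs x hx (conj_eq_iff.1 e)) hn

omit [Finite G] in
theorem card_eq_ncard (H : Subgroup G) : Nat.card H = (H : Set G).ncard :=
  Nat.card_coe_set_eq (H : Set G)

theorem ncard_diff {A B : Subgroup G} (h : B ≤ A) :
    ((A : Set G) \ B).ncard + Nat.card B = Nat.card A := by
  rw [card_eq_ncard, card_eq_ncard]
  exact Set.ncard_diff_add_ncard_of_subset h

theorem ncard_sharp (A : Subgroup G) : ((A : Set G) \ {1}).ncard + 1 = Nat.card A := by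
  have := ncard_diff (bot_le : ⊥ ≤ A)
  rwa [card_bot, coe_bot] at this

/-- a 2-group normalising a non-trivial 2-group centralises a non-trivial element -/
theorem exists_cent {U V : Subgroup G} (hU : IsPGroup 2 U) (hV : IsPGroup 2 V) (hn : U ≤ N[V])
    (h1 : V ≠ ⊥) : ∃ v ∈ V, v ≠ 1 ∧ ∀ x ∈ U, x * v = v * x := by
  obtain ⟨k, hk⟩ := IsPGroup.iff_card.1 hV
  have h2 := ncard_sharp V
  have h3 : k ≠ 0 := fun e => h1 (card_eq_one.1 (by rw [hk, e, pow_zero]))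
  have h4 : 2 ∣ 2 ^ k := dvd_pow_self 2 h3
  obtain ⟨c, hc, h⟩ := fixE Nat.prime_two hU (Φ := (V : Set G) \ {1})
    (fun x hx c hc => ⟨conj_mem hn hx hc.1, fun e => hc.2 (by
      have : x * c * x⁻¹ = 1 := e
      simpa using this)⟩) (by omega)
  exact ⟨c, hc.1, hc.2, h⟩

/-- the elements of `A` centralised by `y` modulo `B` -/
def cm (A B : Subgroup G) (y : G) (hA : A ≤ N[B]) : Subgroup G where
  carrier := {t | t ∈ A ∧ t⁻¹ * (y * t * y⁻¹) ∈ B}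
  one_mem' := ⟨A.one_mem, by simp⟩
  mul_mem' := by
    rintro s t ⟨hs, hs'⟩ ⟨ht, ht'⟩
    refine ⟨A.mul_mem hs ht, ?_⟩
    have := B.mul_mem (conj_mem' hA ht hs') ht'
    convert this using 1; group
  inv_mem' := by
    rintro t ⟨ht, ht'⟩
    refine ⟨A.inv_mem ht, ?_⟩
    have := B.inv_mem (conj_mem hA ht ht')
    convert this using 1; group

omit [Finite G] in
theorem mem_cm {A B : Subgroup G} {y : G} {hA : A ≤ N[B]} {t : G} :
    t ∈ cm A B y hA ↔ t ∈ A ∧ t⁻¹ * (y * t * y⁻¹) ∈ B := Iff.rfl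

omit [Finite G] in
/-- fibre counting -/
theorem ncard_le_fib {α β γ : Type*} [Finite α] [Finite β] [Finite γ] (S : Set α) (T : Set β)
    (K : Set γ) (f : α → β) (hf : ∀ a ∈ S, f a ∈ T) (g : α → α → γ)
    (hg : ∀ a ∈ S, ∀ x ∈ S, f x = f a → g a x ∈ K)
    (hi : ∀ a ∈ S, ∀ x ∈ S, ∀ y ∈ S, f x = f a → f y = f a → g a x = g a y → x = y) :
    S.ncard ≤ T.ncard * K.ncard := by
  classical
  have := Fintype.ofFinite α
  have := Fintype.ofFinite β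
  have := Fintype.ofFinite γ
  rw [Set.ncard_eq_toFinset_card', Set.ncard_eq_toFinset_card' T, mul_comm]
  refine Finset.card_le_mul_card_image_of_maps_to (f := f) (fun a ha => by
    simpa using hf a (by simpa using ha)) _ fun b _ => ?_
  by_cases h : ∃ s ∈ S, f s = b
  · obtain ⟨s, hs, rfl⟩ := h
    rw [Set.ncard_eq_toFinset_card']
    refine Finset.card_le_card_of_injOn (g s) (fun t ht => ?_) fun x hx y hy e => ?_
    · simp only [Finset.coe_filter, Set.mem_toFinset, Set.mem_setOf_eq, Set.coe_toFinset] at ht ⊢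
      exact hg s hs t ht.1 ht.2
    · simp only [Finset.coe_filter, Set.mem_toFinset, Set.mem_setOf_eq] at hx hy
      exact hi s hs x hx.1 y hy.1 hx.2 hy.2 e
  · rw [Finset.card_eq_zero.2]
    · exact Nat.zero_le _
    · exact Finset.filter_eq_empty_iff.2 fun t ht e => h ⟨t, by simpa using ht, e⟩

/-- a map constant only on the cosets of `K` -/
theorem card_le_of_fib {A K : Subgroup G} {Y : Type*} [Finite Y] (S : Set Y) (f : G → Y)
    (hf : ∀ t ∈ A, f t ∈ S) (hK : ∀ s ∈ A, ∀ t ∈ A, f t = f s → s⁻¹ * t ∈ K) :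
    Nat.card A ≤ S.ncard * Nat.card K := by
  rw [card_eq_ncard, card_eq_ncard]
  exact ncard_le_fib (A : Set G) S (K : Set G) f hf (fun s t => s⁻¹ * t) hK
    fun _ _ _ _ _ _ _ _ e => mul_left_cancel e

omit [Finite G] in
theorem com_of_sq {A B : Subgroup G} (hsq : ∀ t ∈ A, t * t ∈ B) {s t : G} (hs : s ∈ A) (ht : t ∈ A) :
    s⁻¹ * t⁻¹ * s * t ∈ B := by
  have := B.mul_mem (B.mul_mem (hsq _ (A.inv_mem hs)) (hsq _ (A.mul_mem hs (A.inv_mem ht))))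
    (hsq _ ht)
  convert this using 1; group

/-- An involution acting on an elementary abelian section `A / B` fixes at least the square root. -/
theorem sq_le_cm {A B : Subgroup G} {y : G} (hB : B ≤ A) (hA : A ≤ N[B])
    (hsq : ∀ t ∈ A, t * t ∈ B) (hyA : y ∈ N[A]) (hyB : y ∈ N[B])
    (h2 : ∀ t ∈ A, y * y * t = t * (y * y)) :
    Nat.card A * Nat.card B ≤ Nat.card (cm A B y hA) ^ 2 := by
  set M := cm A B y hA
  have hy : ∀ t ∈ A, y * t * y⁻¹ ∈ A := fun t ht => (mem_normalizer_iff.1 hyA t).1 ht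
  have hBM : B ≤ M := fun b hb => ⟨hB hb, B.mul_mem (B.inv_mem hb)
    ((mem_normalizer_iff.1 hyB b).1 hb)⟩
  have h3 := ncard_le_fib ((A : Set G) ×ˢ (B : Set G)) (M : Set G) (M : Set G)
    (fun p => p.1⁻¹ * (y * p.1 * y⁻¹) * p.2) (fun p hp => M.mul_mem ?_ (hBM hp.2))
    (fun p r => p.1⁻¹ * r.1) (fun p hp r hr e => ?_) (fun p _ r _ r' _ e e' e'' => ?_)
  · rwa [Set.ncard_prod, ← card_eq_ncard, ← card_eq_ncard, ← card_eq_ncard, ← sq] at h3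
  · have ht : p.1 ∈ A := hp.1
    refine ⟨A.mul_mem (A.inv_mem ht) (hy _ ht), ?_⟩
    have e : y * (y * p.1 * y⁻¹) * y⁻¹ = p.1 := by
      rw [show y * (y * p.1 * y⁻¹) * y⁻¹ = y * y * p.1 * (y * y)⁻¹ by group, h2 _ ht]; group
    rw [show (p.1⁻¹ * (y * p.1 * y⁻¹))⁻¹ * (y * (p.1⁻¹ * (y * p.1 * y⁻¹)) * y⁻¹) =
      (y * p.1 * y⁻¹)⁻¹ * p.1 * ((y * p.1 * y⁻¹)⁻¹ * (y * (y * p.1 * y⁻¹) * y⁻¹)) by group, e]
    exact hsq _ (A.mul_mem (A.inv_mem (hy _ ht)) ht)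
  · have hs : p.1 ∈ A := hp.1
    have ht : r.1 ∈ A := hr.1
    refine ⟨A.mul_mem (A.inv_mem hs) ht, ?_⟩
    have e1 : (p.1⁻¹ * (y * p.1 * y⁻¹))⁻¹ * (r.1⁻¹ * (y * r.1 * y⁻¹)) = p.2 * r.2⁻¹ := by
      rw [eq_mul_inv_iff_mul_eq, mul_assoc, e]; group
    have c1 := com_of_sq hsq ht (A.inv_mem (A.mul_mem hs (A.inv_mem (hy _ hs))))
    have c2 := com_of_sq hsq (A.inv_mem hs) (hy _ hs)
    have := B.mul_mem (B.mul_mem c1 c2) (e1 ▸ B.mul_mem hp.2 (B.inv_mem hr.2))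
    convert this using 1; group
  · have e1 : r.1 = r'.1 := mul_left_cancel e''
    refine Prod.ext e1 ?_
    have := e.trans e'.symm
    rw [e1] at this
    exact mul_left_cancel this

/-- the case `B = 1` -/
theorem sq_le_cent {A : Subgroup G} {y : G} (hsq : ∀ t ∈ A, t * t = 1) (hyA : y ∈ N[A])
    (h2 : ∀ t ∈ A, y * y * t = t * (y * y)) : Nat.card A ≤ Nat.card ↥(A ⊓ C1[y]) ^ 2 := by
  have h0 : ∀ g : G, g ∈ N[(⊥ : Subgroup G)] := fun g => cj_eq_self_iff.1 (cj_bot g)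
  have := sq_le_cm (A := A) (B := ⊥) (y := y) bot_le (fun g _ => h0 g) hsq hyA (h0 y) h2
  rw [card_bot, mul_one] at this
  refine this.trans (Nat.pow_le_pow_left (card_le_of_le fun t ht => ?_) 2)
  rw [mem_cm] at ht
  refine mem_inf.2 ⟨ht.1, ?_⟩
  have e : t⁻¹ * (y * t * y⁻¹) = 1 := ht.2
  rw [mem_centralizer_singleton_iff, ← conj_eq_iff.1 (inv_mul_eq_one.1 e).symm]

/-- kernel and image of `t ↦ [t, y]` -/
theorem card_le_com {A : Subgroup G} {y : G} (S : Set G)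
    (hS : ∀ t ∈ A, t⁻¹ * (y * t * y⁻¹) ∈ S) :
    Nat.card A ≤ S.ncard * Nat.card ↥(A ⊓ C1[y]) := by
  rw [card_eq_ncard, card_eq_ncard]
  refine ncard_le_fib (A : Set G) S _ (fun t => t⁻¹ * (y * t * y⁻¹)) hS (fun s t => t * s⁻¹)
    (fun s hs t ht e => mem_inf.2 ⟨A.mul_mem ht (A.inv_mem hs), ?_⟩)
    fun _ _ _ _ _ _ _ _ e => mul_right_cancel e
  rw [mem_centralizer_singleton_iff]
  have e' : t⁻¹ * (y * t * y⁻¹) = s⁻¹ * (y * s * y⁻¹) := e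
  calc t * s⁻¹ * y = t * (s⁻¹ * (y * s * y⁻¹)) * y * s⁻¹ := by group
    _ = y * (t * s⁻¹) := by rw [← e']; group

end Cfsg.Agent.H76.HB
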