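import Cfsg.Agent.H76.HBKit

/-! Project HB: statements of further pieces (paper proofs: `stubs/notes/h76_s2208b.md`). -/

set_option autoImplicit false

namespace Cfsg.Agent.H76.HB

open MulAction Subgroup Cfsg.Agent.H83 Cfsg.Agent.H56.TT
open scoped Cfsg.Agent.H63

universe u v

def A6Stmt : Prop :=
  ∀ (G : Type u) [Group G] [Finite G] (N P : Subgroup G) (q i : ℕ), BS N q i → Syl N P →
    ∀ g ∈ N[N], g ∈ C[P] → ∃ z ∈ zz P, z⁻¹ * g ∈ C[N]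

def A7Stmt : Prop :=
  ∀ (G : Type u) [Group G] [Finite G] (N P Q : Subgroup G) (q i : ℕ), BS N q i → Syl N P →
    Syl N Q → Q ≠ P → ∀ y ∈ N[N], y ∈ N[P] → y ∈ N[Q] → (∃ k : ℕ, y ^ 2 ^ k = 1) →
    y ∈ C[dd N P Q] → y ∈ C[N]

def A8Stmt : Prop :=
  ∀ (G : Type u) [Group G] [Finite G] (N P : Subgroup G) (q i : ℕ), BS N q i → Syl N P →
    ∀ w ∈ N[N], w ∈ N[P] → w * w = 1 → w ∉ C[P] →
    (i ≠ 3 → Nat.card ↥(zz P ⊓ C1[w]) ^ 2 = q) ∧ (i = 3 → w ∈ C[zz P])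

def O1Stmt : Prop :=
  ∀ (G : Type u) [Group G] [Finite G] (N P : Subgroup G) (q i : ℕ), BS N q i → Syl N P →
    ∀ w ∈ N[N], ∀ w' ∈ N[N], w ∈ N[P] → w' ∈ N[P] → w * w = 1 → w' * w' = 1 →
    w * w' * (w * w') = 1 → w ∈ C[P] ∨ w' ∈ C[P] ∨ w * w' ∈ C[P]

/-- `N^a` and `N^b` have a common Sylow 2-subgroup -/
def Lin {G : Type u} [Group G] {Ω : Type v} (NN : Ω → Subgroup G) : Prop :=
  ∀ a b : Ω, a ≠ b → ∃ P, Syl (NN a) P ∧ Syl (NN b) P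

def LinStmt : Prop :=
  ∀ (G : Type u) (Ω : Type v) [Group G] [Finite G] [Finite Ω] [MulAction G Ω] [FaithfulSMul G Ω]
    (NN : Ω → Subgroup G) (q i : ℕ), St NN q i → Gam NN → Even (Nat.card Ω) → Lin NN

def S1Task : Prop := A6Stmt.{u} → A8Stmt.{u} → O1Stmt.{u} → S1Stmt.{u, v}

def S3Task : Prop := A7Stmt.{u} → A8Stmt.{u} → O1Stmt.{u} → S3Stmt.{u, v} ∧ LinStmt.{u, v}

end Cfsg.Agent.H76.HB
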