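import Cfsg.Agent.H76.HBOut

/-! Project HB, even degree: the geometry of lines `Fix P`. -/

set_option autoImplicit false

namespace Cfsg.Agent.H76.HB

open MulAction Subgroup Cfsg.Agent.H83 Cfsg.Agent.H56.TT
open Cfsg.Agent.H65.A45 (ord2 dcount)
open Cfsg.Agent.H56.W2 (Fix mem_Fix)
open scoped Cfsg.Agent.H63

universe u v

variable {G : Type u} [Group G] {Ω : Type v} [MulAction G Ω] {NN : Ω → Subgroup G}
  {P Q R : Subgroup G} {q i : ℕ}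

/-- line subgroups -/
def Ln (NN : Ω → Subgroup G) (P : Subgroup G) : Prop := ∃ x, Syl (NN x) P

/-- parallel lines -/
structure Par (NN : Ω → Subgroup G) (P R : Subgroup G) : Prop where
  l1 : Ln NN P
  l2 : Ln NN R
  ne : P ≠ R
  ex : ∃ t ∈ P, t ≠ 1 ∧ t ∈ N[R]

theorem fix_cj {c : Ω} (g : G) : g • c ∈ Fix Ω (cj g P) ↔ c ∈ Fix Ω P := H56.W2.mem_Fix_cj g

theorem fix_norm {g : G} (hg : g ∈ N[P]) {c : Ω} (hc : c ∈ Fix Ω P) : g • c ∈ Fix Ω P :=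
  H56.W2.Fix_norm hg hc

theorem Ln.pg (hP : Ln NN P) : IsPGroup 2 P := hP.choose_spec.isPGroup

theorem St.ln_cj (h : St NN q i) (hP : Ln NN P) (g : G) : Ln NN (cj g P) :=
  ⟨_, h.syl g hP.choose_spec⟩

theorem St.syl_fix (h : St NN q i) {x : Ω} (hP : Syl (NN x) P) : x ∈ Fix Ω P :=
  fun _ ht => h.fx (hP.le ht)

theorem St.par_cj (h : St NN q i) (hp : Par NN P R) (g : G) : Par NN (cj g P) (cj g R) := by
  obtain ⟨t, ht, h1, h2⟩ := hp.ex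
  exact ⟨h.ln_cj hp.l1 g, h.ln_cj hp.l2 g, fun e => hp.ne (cj_inj.1 e), _, conj_mem_cj ht,
    by simpa using h1, cj_normalizer g R ▸ conj_mem_cj h2⟩

variable [Finite G]

theorem St.cardP (h : St NN q i) (hP : Ln NN P) : Nat.card P = q ^ i :=
  (h.bs _).cardP hP.choose_spec

theorem St.cardZ (h : St NN q i) (hP : Ln NN P) : Nat.card (zz P) = q :=
  (h.bs _).cardZ hP.choose_spec

theorem St.om (h : St NN q i) (hP : Ln NN P) {x : G} (hx : x ∈ P) : x * x = 1 ↔ x ∈ zz P :=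
  (h.bs _).om hP.choose_spec hx

theorem St.sq (h : St NN q i) (hP : Ln NN P) {x : G} (hx : x ∈ P) : x * x ∈ zz P :=
  (h.bs _).sq hP.choose_spec hx

theorem St.exists_z (h : St NN q i) (hP : Ln NN P) : ∃ z ∈ zz P, z ≠ 1 :=
  (h.bs _).exists_z hP.choose_spec

variable [FaithfulSMul G Ω] (h : St NN q i) (hl : Lin NN)
include h hl

theorem St.syl_of_fix (hP : Ln NN P) {x : Ω} (hx : x ∈ Fix Ω P) : Syl (NN x) P := by
  obtain ⟨a, ha⟩ := hP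
  by_cases e : x = a
  · rwa [e]
  obtain ⟨R, h1, h2⟩ := hl x a e
  rwa [← h.uniq e ha h2 hx (h.syl_fix h1)]

theorem St.line_uniq (hP : Ln NN P) (hR : Ln NN R) {a b : Ω} (hab : a ≠ b) (h1 : a ∈ Fix Ω P)
    (h2 : b ∈ Fix Ω P) (h3 : a ∈ Fix Ω R) (h4 : b ∈ Fix Ω R) : P = R :=
  h.uniq hab.symm (h.syl_of_fix hl hR h3) (h.syl_of_fix hl hP h1) h4 h2

theorem St.line_ex {a b : Ω} (hab : a ≠ b) : ∃ P, Ln NN P ∧ a ∈ Fix Ω P ∧ b ∈ Fix Ω P := by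
  obtain ⟨P, h1, h2⟩ := hl a b hab
  exact ⟨P, ⟨a, h1⟩, h.syl_fix h1, h.syl_fix h2⟩

theorem St.norm_of_two (hP : Ln NN P) {a b : Ω} (hab : a ≠ b) (h1 : a ∈ Fix Ω P)
    (h2 : b ∈ Fix Ω P) {g : G} (h3 : g • a ∈ Fix Ω P) (h4 : g • b ∈ Fix Ω P) : g ∈ N[P] :=
  cj_eq_self_iff.1 (h.line_uniq hl (h.ln_cj hP g) hP (fun e => hab (smul_left_cancel g e))
    ((fix_cj g).2 h1) ((fix_cj g).2 h2) h3 h4)

theorem St.fix_elt (hP : Ln NN P) {t : G} (ht : t ∈ P) (h1 : t ≠ 1) {x : Ω} (hx : t • x = x) :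
    x ∈ Fix Ω P := by
  obtain ⟨a, ha⟩ := hP
  by_cases e : x = a
  · rw [e]; exact h.syl_fix ha
  obtain ⟨R, h2, h3⟩ := hl x a e
  by_cases e' : R = P
  · rw [← e']; exact h.syl_fix h2
  refine absurd ((h.bs a).reg ha h3 e' ht (h.norm_of_two hl ⟨a, h3⟩ e (h.syl_fix h2) (h.syl_fix h3)
    ?_ ?_)) h1
  · rw [hx]; exact h.syl_fix h2
  · rw [h.fx (ha.le ht)]; exact h.syl_fix h3

theorem St.ti (hP : Ln NN P) (hR : Ln NN R) {t : G} (ht : t ∈ P) (ht' : t ∈ R) (h1 : t ≠ 1) :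
    P = R := by
  obtain ⟨a, ha⟩ := hP
  exact (h.bs a).ti _ _ ha (h.syl_of_fix hl hR (h.fix_elt hl hR ht' h1 (h.fx (ha.le ht)))) t ht ht' h1

theorem St.normL (hP : Ln NN P) {t g : G} (ht : t ∈ P) (h1 : t ≠ 1) (hg : g * t = t * g) :
    g ∈ N[P] :=
  cj_eq_self_iff.1 (h.ti hl (h.ln_cj hP g) hP (conj_mem_cj ht) (by rwa [conj_eq_iff.2 hg])
    (by simpa using h1))

theorem St.exists_second (hP : Ln NN P) {a : Ω} (ha : a ∈ Fix Ω P) : ∃ b ∈ Fix Ω P, b ≠ a := by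
  obtain ⟨b, hb⟩ : ∃ b, b ≠ a := by
    by_contra hc
    push Not at hc
    obtain ⟨z, -, hz⟩ := h.exists_z hP
    exact hz (eq_of_smul_eq_smul (α := Ω) fun c => (hc _).trans (hc _).symm)
  obtain ⟨R, h1, h2⟩ := hl a b hb.symm
  obtain ⟨n, hn, rfl⟩ := h1.exists_conj (h.syl_of_fix hl hP ha)
  exact ⟨n • b, (fix_cj n).2 (h.syl_fix h2), fun e => hb (smul_left_cancel n (e.trans (h.fx hn).symm))⟩

theorem St.ln_conj (hP : Ln NN P) (hR : Ln NN R) : ∃ g : G, cj g P = R := by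
  have ha := h.syl_fix hP.choose_spec
  have hc := h.syl_fix hR.choose_spec
  obtain ⟨b, hb, h1⟩ := h.exists_second hl hP ha
  obtain ⟨d, hd, h2⟩ := h.exists_second hl hR hc
  obtain ⟨g, e1, e2⟩ := h.two _ _ _ _ h1 h2
  exact ⟨g, h.line_uniq hl (h.ln_cj hP g) hR h2 (e1 ▸ (fix_cj g).2 hb) (e2 ▸ (fix_cj g).2 ha) hd hc⟩

theorem St.delta_eq (hP : Ln NN P) (hR : Ln NN R) : (Fix Ω R).ncard = (Fix Ω P).ncard := by
  obtain ⟨g, rfl⟩ := h.ln_conj hl hP hR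
  exact H56.W2.ncard_Fix_cj g P

theorem St.exists_off (hP : Ln NN P) : ∃ x, x ∉ Fix Ω P := by
  obtain ⟨z, hz, h1⟩ := h.exists_z hP
  by_contra hc
  push Not at hc
  exact h1 (eq_of_smul_eq_smul (α := Ω) fun c => (hc c z hz.1).trans (one_smul _ _).symm)

theorem St.C_step {a b : Ω} (hab : b ≠ a) {c : G} (hc : c ∈ C[NN a]) (hb : c • b = b) :
    c ∈ C[NN b] := by
  obtain ⟨P, h1, h2⟩ := hl a b hab.symm
  obtain ⟨z, hz, hz'⟩ := a6 G _ P q i (h.bs b) h2 c (h.norm hb) (cent_anti h1.le hc)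
  obtain ⟨Q, hQ, hne⟩ := (h.bs a).ne P h1
  obtain ⟨n, hn, rfl⟩ := h1.exists_conj hQ
  have h3 : n • b ∉ Fix Ω P := fun e => hne (h.uniq (b := n • b)
    (fun e => hab (smul_left_cancel n (e.trans (h.fx hn).symm))) h1 hQ e
    ((fix_cj n).2 (h.syl_fix h2)))
  have h8 : b ≠ n • b := fun e => h3 (e ▸ h.syl_fix h2)
  obtain ⟨R, h4, h5⟩ := hl b (n • b) h8
  have h6 : c ∈ N[R] := h.norm_of_two hl ⟨b, h4⟩ h8 (h.syl_fix h4)
    (h.syl_fix h5) (by rw [hb]; exact h.syl_fix h4)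
    (by rw [← mul_smul, ← hc n hn, mul_smul, hb]; exact h.syl_fix h5)
  have h7 := (h.bs b).reg h2 h4 (fun e => h3 (e ▸ h.syl_fix h5)) hz.1 (by
    simpa using mul_mem h6 (inv_mem (C_le_N (cent_anti h4.le hz'))))
  simpa [h7] using hz'

/-- `C(N^a)` is semiregular on the other points -/
theorem St.Csemi {a b : Ω} (hab : b ≠ a) {c : G} (hc : c ∈ C[NN a]) (hb : c • b = b) : c = 1 := by
  have ha := h.fix_of_C hc
  have key : ∀ x, c • x = x → c ∈ C[NN x] := fun x hx => by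
    by_cases e : x = a
    · rwa [e]
    · exact h.C_step hl e hc hx
  refine eq_of_smul_eq_smul (α := Ω) fun y => ?_
  rw [one_smul]
  by_contra hy
  obtain ⟨R, hR, h1, h2⟩ := h.line_ex hl (Ne.symm hy)
  have key2 : ∀ x, c • x = x → x ∈ Fix Ω R := fun x hx => by
    obtain ⟨P, h3, h4⟩ := hl x y (by rintro rfl; exact hy hx)
    rw [h.line_uniq hl hR ⟨x, h3⟩ (Ne.symm hy) h1 h2 (h.syl_fix h4)
      (fix_norm (C_le_N (cent_anti h3.le (key x hx))) (h.syl_fix h4))]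
    exact h.syl_fix h3
  have h3 := h.syl_of_fix hl hR (key2 a ha)
  obtain ⟨Q, hQ, hne⟩ := (h.bs a).ne R h3
  obtain ⟨n, hn, rfl⟩ := h3.exists_conj hQ
  exact hne (h.uniq (b := n • b) (fun e => hab (smul_left_cancel n (e.trans (h.fx hn).symm))) h3 hQ
    (key2 _ (by rw [← mul_smul, ← hc n hn, mul_smul, hb])) ((fix_cj n).2 (key2 b hb)))

theorem St.par_disj (hp : Par NN P R) {x : Ω} (h1 : x ∈ Fix Ω P) (h2 : x ∈ Fix Ω R) : False := by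
  obtain ⟨t, ht, h3, h4⟩ := hp.ex
  exact h3 ((h.bs x).reg (h.syl_of_fix hl hp.l1 h1) (h.syl_of_fix hl hp.l2 h2) hp.ne.symm ht h4)

theorem St.par_symm (hp : Par NN P R) : Par NN R P := by
  obtain ⟨t, ht, h3, h4⟩ := hp.ex
  obtain ⟨z, hz, h5⟩ := h.exists_z hp.l2
  obtain ⟨v, hv, h6, h7⟩ := exists_cent (hp.l1.pg.to_le (zpowers_le_of_mem ht)) hp.l2.pg
    (zpowers_le_of_mem h4) fun e => h5 (mem_bot.1 (e ▸ hz.1))
  exact ⟨hp.l2, hp.l1, hp.ne.symm, v, hv, h6, h.normL hl hp.l1 ht h3 (h7 t (mem_zpowers t)).symm⟩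

theorem St.par_comm (hp : Par NN P R) {s t : G} (hs : s ∈ P) (hs' : s ∈ N[R]) (ht : t ∈ R)
    (ht' : t ∈ N[P]) : s * t = t * s := by
  by_contra hc
  refine hp.ne (h.ti hl hp.l1 hp.l2 (t := s * t * s⁻¹ * t⁻¹) ?_ (R.mul_mem (nconj hs' ht)
    (R.inv_mem ht)) fun e => hc (by rwa [mul_inv_eq_one, mul_inv_eq_iff_eq_mul] at e))
  simpa only [mul_assoc] using P.mul_mem hs (nconj ht' (P.inv_mem hs))

theorem St.par_semi (hp : Par NN P R) {t : G} (ht : t ∈ R) {x : Ω} (hx : x ∈ Fix Ω P)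
    (e : t • x = x) : t = 1 := by
  by_contra h1
  exact h.par_disj hl hp hx (h.fix_elt hl hp.l2 ht h1 e)

theorem St.par_inv (hp : Par NN P R) : ∃ z ∈ zz P, z ≠ 1 ∧ z ∈ N[R] := by
  obtain ⟨t, ht, h3, h4⟩ := hp.ex
  by_cases e : t * t = 1
  · exact ⟨t, (h.om hp.l1 ht).1 e, h3, h4⟩
  · exact ⟨_, h.sq hp.l1 ht, e, mul_mem h4 h4⟩

/-- the injection `t ↦ [s, t]` -/
theorem St.par_inj (hp : Par NN P R) {s : G} (hs : s ∉ N[R]) {X K : Subgroup G} (hX : X ≤ R)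
    (hK : ∀ t ∈ X, s⁻¹ * (t * s * t⁻¹) ∈ K) : Nat.card X ≤ Nat.card K := by
  have := card_le_of_fib (A := X) (K := ⊥) (K : Set G) (fun t => s⁻¹ * (t * s * t⁻¹)) hK
    fun a ha b hb e => by
      by_contra h1
      have e' : b * s * b⁻¹ = a * s * a⁻¹ := mul_left_cancel e
      refine hs (h.normL hl hp.l2 (hX (X.mul_mem (X.inv_mem ha) hb)) h1 ?_)
      calc s * (a⁻¹ * b) = a⁻¹ * (a * s * a⁻¹) * b := by group
        _ = _ := by rw [← e']; group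
  rwa [card_bot, mul_one, ← card_eq_ncard] at this

theorem St.par_card_le (hp : Par NN P R) : Nat.card ↥(R ⊓ N[P]) ≤ Nat.card ↥(P ⊓ N[R]) := by
  by_cases hPR : P ≤ N[R]
  · rw [inf_eq_left.2 hPR, h.cardP hp.l1, ← h.cardP hp.l2]
    exact card_le_of_le inf_le_left
  have h1 := H65.OT.card_orb (X := Sb G) P R (S := {Y | ∃ k ∈ P, cj k R = Y}) fun _ => Iff.rfl
  have h2 : P ⊓ stabilizer G (show Sb G from R) = P ⊓ N[R] := by
    ext x; exact and_congr_right fun _ => cj_eq_self_iff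
  rw [h2] at h1
  have h3 := Set.ncard_sdiff_singleton_add_one (s := {Y | ∃ k ∈ P, cj k R = Y}) (a := R)
    ⟨1, P.one_mem, cj_one R⟩
  obtain ⟨Y, ⟨⟨s, hs, rfl⟩, hY⟩, hn⟩ := fixS Nat.prime_two (U := R ⊓ N[P])
    (hp.l2.pg.to_le inf_le_left) (Φ := {Y | ∃ k ∈ P, cj k R = Y} \ {R})
    (by
      rintro x hx _ ⟨⟨k, hk, rfl⟩, hY⟩
      refine ⟨⟨_, nconj hx.2 hk, ?_⟩, fun e => hY ?_⟩
      · rw [cj_mul, cj_mul, cj_eq_self (le_normalizer (R.inv_mem hx.1))]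
      · exact cj_inj.1 ((show cj x (cj k R) = R from e).trans (cj_eq_self (le_normalizer hx.1)).symm))
    (by
      intro hd
      obtain ⟨k, hk⟩ := IsPGroup.iff_card.1 hp.l1.pg
      obtain ⟨j, -, hj⟩ := (Nat.dvd_prime_pow Nat.prime_two).1 (hk ▸ Dvd.intro _ h1.symm)
      rcases j with _ | j
      · apply hPR
        have h4 : {Y : Subgroup G | ∃ k ∈ P, cj k R = Y}.ncard = 1 := hj
        have h5 : Nat.card P = {Y : Subgroup G | ∃ k ∈ P, cj k R = Y}.ncard * _ := h1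
        rw [h4, one_mul] at h5
        exact inf_eq_left.1 (eq_of_le_of_card_ge inf_le_left h5.le)
      · have h4 : {Y : Subgroup G | ∃ k ∈ P, cj k R = Y}.ncard = 2 ^ (j + 1) := hj
        rw [h4, pow_succ] at h3
        omega)
  refine h.par_inj hl hp (s := s) (fun e => hY (cj_eq_self e)) inf_le_left fun t ht =>
    mem_inf.2 ⟨P.mul_mem (P.inv_mem hs) (nconj ht.2 hs), ?_⟩
  have := hn ht
  rw [← cj_normalizer, mem_cj] at this
  simpa only [mul_assoc] using mul_mem this (le_normalizer (R.inv_mem ht.1))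

theorem St.par_card (hp : Par NN P R) : Nat.card ↥(R ⊓ N[P]) = Nat.card ↥(P ⊓ N[R]) :=
  le_antisymm (h.par_card_le hl hp) (h.par_card_le hl (h.par_symm hl hp))

theorem St.zline (hP : Ln NN P) {z : G} (hz : z ∈ zz P) (h1 : z ≠ 1) {x : Ω} (hx : x ∉ Fix Ω P) :
    ∃ R, Par NN P R ∧ x ∈ Fix Ω R ∧ z ∈ N[R] := by
  have h2 : x ≠ z • x := fun e => hx (h.fix_elt hl hP hz.1 h1 e.symm)
  obtain ⟨R, hR, h3, h4⟩ := h.line_ex hl h2
  have h5 := h.norm_of_two hl hR h2 h3 h4 h4 (by rwa [← mul_smul, (h.om hP hz.1).2 hz, one_smul])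
  exact ⟨R, ⟨hP, hR, fun e => hx (e ▸ h3), z, hz.1, h1, h5⟩, h3, h5⟩

theorem St.zline_uniq (hP : Ln NN P) {z : G} (hz : z ∈ P) (h1 : z ≠ 1) {x : Ω} (hx : x ∉ Fix Ω P)
    (hQ : Ln NN Q) (hR : Ln NN R) (h2 : x ∈ Fix Ω Q) (h3 : x ∈ Fix Ω R) (h4 : z ∈ N[Q])
    (h5 : z ∈ N[R]) : Q = R :=
  h.line_uniq hl hQ hR (fun e => hx (h.fix_elt hl hP hz h1 e.symm)) h2 (fix_norm h4 h2) h3
    (fix_norm h5 h3)

variable [Finite Ω]

theorem St.two_le (hP : Ln NN P) : 2 ≤ (Fix Ω P).ncard := by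
  have ha := h.syl_fix hP.choose_spec
  obtain ⟨b, hb, h1⟩ := h.exists_second hl hP ha
  exact (Set.one_lt_ncard).2 ⟨_, hb, _, ha, h1⟩

theorem St.card_pts (hP : Ln NN P) : Nat.card Ω = (q ^ i + 1) * ((Fix Ω P).ncard - 1) + 1 := by
  have ⟨a, ha⟩ := hP
  have h1 := dcount (Set.univ \ {a}) {R | Syl (NN a) R} (fun x R => x ∈ Fix Ω R) 1
    ((Fix Ω P).ncard - 1)
    (fun x hx => by
      obtain ⟨R, h1, h2⟩ := hl a x (Ne.symm hx.2)
      rw [Set.ncard_eq_one]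
      exact ⟨R, Set.eq_singleton_iff_unique_mem.2 ⟨⟨h1, h.syl_fix h2⟩, fun Q hQ =>
        h.uniq hx.2 h1 hQ.1 (h.syl_fix h2) hQ.2⟩⟩)
    (fun R hR => by
      rw [← h.delta_eq hl hP ⟨a, hR⟩, ← Set.ncard_sdiff_singleton_of_mem (h.syl_fix hR)]
      congr 1
      ext x
      exact ⟨fun hx => ⟨hx.2, hx.1.2⟩, fun hx => ⟨⟨trivial, hx.2⟩, hx.1⟩⟩)
  rw [mul_one, (h.bs a).card_syl] at h1
  rw [← h1, Set.ncard_sdiff_singleton_add_one (Set.mem_univ a), Set.ncard_univ]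

theorem St.count_nu (hP : Ln NN P) {z : G} (hz : z ∈ zz P) (h1 : z ≠ 1) :
    {R | Par NN P R ∧ z ∈ N[R]}.ncard * (Fix Ω P).ncard = q ^ i * ((Fix Ω P).ncard - 1) := by
  have h2 := dcount (Fix Ω P)ᶜ {R | Par NN P R ∧ z ∈ N[R]} (fun x R => x ∈ Fix Ω R) 1
    (Fix Ω P).ncard
    (fun x hx => by
      obtain ⟨R, h2, h3, h4⟩ := h.zline hl hP hz h1 hx
      rw [Set.ncard_eq_one]
      exact ⟨R, Set.eq_singleton_iff_unique_mem.2 ⟨⟨⟨h2, h4⟩, h3⟩, fun Q hQ =>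
        h.zline_uniq hl hP hz.1 h1 hx hQ.1.1.l2 h2.l2 hQ.2 h3 hQ.1.2 h4⟩⟩)
    (fun R hR => by
      rw [← h.delta_eq hl hP hR.1.l2]
      congr 1
      ext x
      exact ⟨fun hx => hx.2, fun hx => ⟨fun e => h.par_disj hl hR.1 e hx, hx⟩⟩)
  have h3 := Set.ncard_add_ncard_compl (Fix Ω P)
  have h4 := h.two_le hl hP
  rw [h.card_pts hl hP, add_mul] at h3
  omega

theorem St.delta_dvd (hP : Ln NN P) : (Fix Ω P).ncard ∣ q ^ i := by
  obtain ⟨z, hz, h1⟩ := h.exists_z hP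
  have h2 := h.two_le hl hP
  exact ((Nat.coprime_self_sub_right (by omega)).2 (Nat.coprime_one_right _)).dvd_of_dvd_mul_right
    (Dvd.intro_left _ (h.count_nu hl hP hz h1))

theorem St.meet_count (hP : Ln NN P) {x : Ω} (hx : x ∉ Fix Ω P) :
    {R | Syl (NN x) R ∧ ∃ y ∈ Fix Ω P, y ∈ Fix Ω R}.ncard = (Fix Ω P).ncard := by
  have := dcount {R | Syl (NN x) R ∧ ∃ y ∈ Fix Ω P, y ∈ Fix Ω R} (Fix Ω P)
    (fun R y => y ∈ Fix Ω R) 1 1
    (fun R hR => by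
      obtain ⟨y, h1, h2⟩ := hR.2
      rw [Set.ncard_eq_one]
      refine ⟨y, Set.eq_singleton_iff_unique_mem.2 ⟨⟨h1, h2⟩, fun w hw => ?_⟩⟩
      by_contra e
      exact hx (h.line_uniq hl hP ⟨x, hR.1⟩ e hw.1 h1 hw.2 h2 ▸ h.syl_fix hR.1))
    (fun y hy => by
      have e : x ≠ y := fun e => hx (e ▸ hy)
      obtain ⟨R, h1, h2⟩ := hl x y e
      rw [Set.ncard_eq_one]
      exact ⟨R, Set.eq_singleton_iff_unique_mem.2 ⟨⟨⟨h1, y, hy, h.syl_fix h2⟩, h.syl_fix h2⟩,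
        fun Q hQ => h.uniq e.symm h1 hQ.1.1 (h.syl_fix h2) hQ.2⟩⟩)
  simpa using this

theorem St.par_dvd (hp : Par NN P R) : Nat.card ↥(R ⊓ N[P]) ∣ (Fix Ω P).ncard :=
  dvdP1 _ _ (fun _ hx _ hc => fix_norm hx.2 hc) fun _ hc _ hx e => h.par_semi hl hp hx.1 hc e

end Cfsg.Agent.H76.HB
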