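import Cfsg.Agent.H76.HBCnt

/-! Project HB: basic facts on a group with the structure `BS`. -/

set_option autoImplicit false

namespace Cfsg.Agent.H76.HB

open MulAction Subgroup Cfsg.Agent.H83 Cfsg.Agent.H56.TT
open Cfsg.Agent.H65.A45 (ord2 dcount)
open scoped Cfsg.Agent.H63

universe u v

variable {G : Type u} [Group G] {N P Q R : Subgroup G} {q i : ℕ}

theorem mem_zz {x : G} : x ∈ zz P ↔ x ∈ P ∧ ∀ s ∈ P, s * x = x * s := Iff.rfl

theorem memC {x : G} : x ∈ C[P] ↔ ∀ s ∈ P, s * x = x * s := Iff.rfl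

theorem memC1 {x y : G} : x ∈ C1[y] ↔ x * y = y * x := mem_centralizer_singleton_iff

theorem nconj {g x : G} (hg : g ∈ N[P]) (hx : x ∈ P) : g * x * g⁻¹ ∈ P :=
  (mem_normalizer_iff.1 hg x).1 hx

theorem nconj' {g x : G} (hg : g ∈ N[P]) (hx : x ∈ P) : g⁻¹ * x * g ∈ P := by
  simpa using nconj (inv_mem hg) hx

theorem N_zz {g : G} (hg : g ∈ N[P]) : g ∈ N[zz P] :=
  le_norm_inf le_rfl (le_norm_cent le_rfl) hg

theorem C_le_N {g : G} (hg : g ∈ C[P]) : g ∈ N[P] := centralizer_le_normalizer _ hg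

theorem N_dd {g : G} (h1 : g ∈ N[N]) (h2 : g ∈ N[P]) (h3 : g ∈ N[Q]) : g ∈ N[dd N P Q] := by
  rw [← cj_eq_self_iff, cj_inf, cj_inf, cj_normalizer, cj_normalizer, cj_eq_self h1, cj_eq_self h2,
    cj_eq_self h3]

theorem memN_of [Finite G] {g : G} (h : ∀ x ∈ P, g * x * g⁻¹ ∈ P) : g ∈ N[P] :=
  cj_eq_self_iff.1 (eq_of_le_of_card_ge (by rintro _ ⟨x, hx, rfl⟩; exact h x hx) (card_cj g P).ge)

theorem BS.four_le (h : BS N q i) : 4 ≤ q := by
  obtain ⟨m, hm, rfl⟩ := h.pow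
  exact Nat.pow_le_pow_right (n := 2) (by norm_num) hm

theorem BS.two_dvd (h : BS N q i) : 2 ∣ q := by
  obtain ⟨m, hm, rfl⟩ := h.pow
  exact dvd_pow_self 2 (by omega)

theorem BS.i_pos (h : BS N q i) : i ≠ 0 := by have := h.ty; omega

theorem BS.q_le (h : BS N q i) : q ≤ q ^ i := Nat.le_self_pow h.i_pos q

theorem BS.normal_eq (h : BS N q i) {K : Subgroup G} (hK : K ≤ N) (hn : N ≤ N[K]) :
    K = ⊥ ∨ K = N := by
  have := h.simple
  have h1 : (K.subgroupOf N).Normal := (normal_subgroupOf_iff hK).2 fun x g hx hg => nconj (hn hg) hx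
  rcases h1.eq_bot_or_eq_top with e | e
  · exact .inl (by rw [subgroupOf_eq_bot, disjoint_iff, inf_eq_left.2 hK] at e; exact e)
  · exact .inr (le_antisymm hK (subgroupOf_eq_top.1 e))

theorem BS.zc (h : BS N q i) {g : G} (hg : g ∈ N) (hc : g ∈ C[N]) : g = 1 := by
  rcases h.normal_eq (K := zz N) inf_le_left (fun x hx => N_zz (le_normalizer hx)) with e | e
  · exact mem_bot.1 (e ▸ (mem_inf.2 ⟨hg, hc⟩ : g ∈ zz N))
  · exact absurd ⟨⟨fun a b => Subtype.ext ((e.ge b.2).2 a a.2)⟩⟩ h.nonab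

theorem BS.syl_eq (h : BS N q i) (hP : Syl N P) (hQ : Syl N Q) {g x : G} (hg : g ∈ N[N])
    (hx : x ∈ P) (h1 : x ≠ 1) (hx' : g * x * g⁻¹ ∈ Q) : cj g P = Q :=
  h.ti _ _ (hP.cj_of_norm hg) hQ _ (conj_mem_cj hx) hx' (by simpa using h1)

theorem BS.normP (h : BS N q i) (hP : Syl N P) {g x : G} (hg : g ∈ N[N])
    (hx : x ∈ P) (h1 : x ≠ 1) (hx' : g * x * g⁻¹ ∈ P) : g ∈ N[P] :=
  cj_eq_self_iff.1 (h.syl_eq hP hP hg hx h1 hx')

theorem BS.normP' (h : BS N q i) (hP : Syl N P) {g x : G} (hg : g ∈ N[N])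
    (hx : x ∈ P) (h1 : x ≠ 1) (hx' : g * x = x * g) : g ∈ N[P] :=
  h.normP hP hg hx h1 (by rwa [conj_eq_iff.2 hx'])

theorem inv_mem_syl (hP : Syl N P) {z : G} (hz : z ∈ N) (h2 : z * z = 1) (hn : z ∈ N[P]) : z ∈ P :=
  hP.mem_of_norm hz (k := 1) (by rw [pow_one, sq, h2]) hn

theorem exists_syl {z : G} (hz : z ∈ N) (h2 : z * z = 1) : ∃ P, Syl N P ∧ z ∈ P := by
  obtain ⟨P, hP, h⟩ := exists_isSylowIn_ge (zpowers_le_of_mem hz) (H56.W2.pg_zpowers h2)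
  exact ⟨P, hP, h (mem_zpowers z)⟩

theorem BS.reg (h : BS N q i) (hP : Syl N P) (hQ : Syl N Q) (hne : Q ≠ P) {t : G} (ht : t ∈ P)
    (hn : t ∈ N[Q]) : t = 1 := by
  by_contra h1
  obtain ⟨k, hk⟩ := isPGroup_iff.1 hP.isPGroup t ht
  exact hne (h.ti _ _ hQ hP t (hQ.mem_of_norm (hP.le ht) hk hn) ht h1)

theorem BS.dec (h : BS N q i) (hP : Syl N P) (hQ : Syl N Q) (hne : Q ≠ P) {g : G} (hg : g ∈ N[N])
    (hn : g ∈ N[P]) : ∃ t ∈ P, t⁻¹ * g ∈ N[Q] := by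
  obtain ⟨t, ht, e⟩ := h.tr P Q (cj g Q) hP hQ (hQ.cj_of_norm hg) hne fun e =>
    hne (cj_inj.1 (e.trans (cj_eq_self hn).symm))
  exact ⟨t, ht, cj_eq_self_iff.1 (by rw [cj_mul, ← e, cj_inv_cj])⟩

theorem BS.dd_two (h : BS N q i) (hP : Syl N P) (hQ : Syl N Q) (hne : Q ≠ P) {d : G}
    (hd : d ∈ dd N P Q) {k : ℕ} (hk : d ^ 2 ^ k = 1) : d = 1 :=
  h.reg hP hQ hne (hP.mem_of_norm hd.1.1 hk hd.1.2) hd.2

theorem BS.dd_sq (h : BS N q i) (hP : Syl N P) (hQ : Syl N Q) (hne : Q ≠ P) {d : G}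
    (hd : d ∈ dd N P Q) (hk : d * d = 1) : d = 1 :=
  h.dd_two hP hQ hne hd (k := 1) (by rw [pow_one, sq, hk])

theorem BP.comm (h : BP N P Q q i) {d e : G} (hd : d ∈ dd N P Q) (he : e ∈ dd N P Q) :
    d * e = e * d := by
  have := h.cyc
  have := congrArg Subtype.val (mul_comm' (⟨d, hd⟩ : dd N P Q) ⟨e, he⟩)
  exact this

theorem BP.zsq (h : BP N P Q q i) {z : G} (hz : z ∈ zz P) : z * z = 1 := (h.om z hz.1).2 hz

/-- an element of `D` fixing an element of `Z#` fixes `Z` -/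
theorem BP.fixZ (h : BP N P Q q i) {d z : G} (hd : d ∈ dd N P Q) (hz : z ∈ zz P) (h1 : z ≠ 1)
    (hc : d * z = z * d) : d ∈ C[zz P] := fun z' hz' => by
  by_cases h2 : z' = 1
  · rw [h2]; simp
  obtain ⟨e, he, rfl⟩ := h.trans z hz z' hz' h1 h2
  have := h.comm hd he
  calc e * z * e⁻¹ * d = e * z * (e⁻¹ * (d * e)) * e⁻¹ := by group
    _ = e * (z * d) * e⁻¹ := by rw [this]; group
    _ = d * e * z * e⁻¹ := by rw [← hc, this]; group
    _ = _ := by group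

theorem BS.A3 (h : BS N q i) {g : G} (hg : g ∈ N[N]) (hs : ∀ P, Syl N P → g ∈ N[P]) :
    g ∈ C[N] := by
  let K : Subgroup G := N ⊓ ⨅ P : {P // Syl N P}, N[P.1]
  have hK : ∀ {x}, x ∈ K ↔ x ∈ N ∧ ∀ P, Syl N P → x ∈ N[P] := by
    intro x; simp only [K, mem_inf, mem_iInf, Subtype.forall]
  have key : ∀ n ∈ N, ∀ x : G, (∀ P, Syl N P → x ∈ N[P]) → ∀ P, Syl N P → n * x * n⁻¹ ∈ N[P] :=
    fun n hn x hx P hP => by
      have := conj_mem_cj (g := n) (hx _ (hP.cj_of_mem (inv_mem hn)))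
      rwa [cj_normalizer, cj_cj_inv] at this
  have hn : N ≤ N[K] := fun n hn => mem_normalizer_iff.2 fun x => ⟨fun hx => hK.2
    ⟨N.mul_mem (N.mul_mem hn (hK.1 hx).1) (N.inv_mem hn), key n hn x (hK.1 hx).2⟩, fun hx => by
      have := key n⁻¹ (inv_mem hn) _ (hK.1 hx).2
      have h2 := N.mul_mem (N.mul_mem (N.inv_mem hn) (hK.1 hx).1) hn
      simp only [mul_assoc, inv_inv, inv_mul_cancel, mul_one, inv_mul_cancel_left] at this h2
      exact hK.2 ⟨h2, this⟩⟩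
  rcases h.normal_eq (K := K) inf_le_left hn with e | e
  · intro n hn
    have : n * g * n⁻¹ * g⁻¹ ∈ K := hK.2 ⟨by
      have := N.mul_mem hn (nconj hg (N.inv_mem hn))
      simpa only [mul_assoc] using this, fun P hP => mul_mem (key n hn g hs P hP) (inv_mem (hs P hP))⟩
    rw [e, mem_bot, mul_inv_eq_one, mul_inv_eq_iff_eq_mul] at this
    exact this
  · obtain ⟨P, hP⟩ := exists_isSylowIn 2 N
    obtain ⟨Q, hQ, hne⟩ := h.ne P hP
    have h1 : Q ≤ P := hP.le_of_norm' hQ.le hQ.isPGroup fun x hx => (hK.1 (e.ge (hQ.le hx))).2 P hP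
    exact absurd (hQ.max P hP.le hP.isPGroup h1).symm hne

theorem BS.A3' (h : BS N q i) (hP : Syl N P) (hQ : Syl N Q) (hne : Q ≠ P) {g : G} (hg : g ∈ N[N])
    (hn : g ∈ N[Q]) (hc : g ∈ C[P]) : g ∈ C[N] := h.A3 hg fun R hR => by
  by_cases e : R = P
  · rw [e]; exact C_le_N hc
  obtain ⟨t, ht, rfl⟩ := h.tr P Q R hP hQ hR hne e
  rw [← cj_eq_self_iff, ← cj_mul, ← hc t ht, cj_mul, cj_eq_self hn]

variable [Finite G]

theorem BS.cardP (h : BS N q i) (hP : Syl N P) : Nat.card P = q ^ i := by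
  obtain ⟨Q, hQ, hne⟩ := h.ne P hP
  exact (h.bp P Q hP hQ hne).card

theorem BS.cardZ (h : BS N q i) (hP : Syl N P) : Nat.card (zz P) = q := by
  obtain ⟨Q, hQ, hne⟩ := h.ne P hP
  exact (h.bp P Q hP hQ hne).cardZ

omit [Finite G] in
theorem BS.om (h : BS N q i) (hP : Syl N P) {x : G} (hx : x ∈ P) : x * x = 1 ↔ x ∈ zz P := by
  obtain ⟨Q, hQ, hne⟩ := h.ne P hP
  exact (h.bp P Q hP hQ hne).om x hx

omit [Finite G] in
theorem BS.zsq (h : BS N q i) (hP : Syl N P) {x : G} (hx : x ∈ zz P) : x * x = 1 :=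
  (h.om hP hx.1).2 hx

omit [Finite G] in
theorem BS.sq (h : BS N q i) (hP : Syl N P) {x : G} (hx : x ∈ P) : x * x ∈ zz P := by
  obtain ⟨Q, hQ, hne⟩ := h.ne P hP
  exact (h.bp P Q hP hQ hne).sq x hx

theorem BS.exists_z (h : BS N q i) (hP : Syl N P) : ∃ z ∈ zz P, z ≠ 1 := by
  have h1 := h.cardZ hP
  have h2 := h.four_le
  by_contra hc
  push Not at hc
  rw [(eq_bot_iff_forall _).2 hc, card_bot] at h1
  omega

theorem BS.zz_eq (h : BS N q i) (hP : Syl N P) (hi : i = 1) : zz P = P :=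
  eq_of_le_of_card_ge inf_le_left (by rw [h.cardP hP, h.cardZ hP, hi, pow_one])

theorem BS.exists_nz (h : BS N q i) (hP : Syl N P) (hi : i ≠ 1) : ∃ t ∈ P, t ∉ zz P := by
  by_contra hc
  push Not at hc
  have h1 := card_le_of_le (show P ≤ zz P from hc)
  rw [h.cardP hP, h.cardZ hP] at h1
  have h2 := h.four_le
  have h3 : q ^ 1 < q ^ i := Nat.pow_lt_pow_right (by omega) (by have := h.i_pos; omega)
  rw [pow_one] at h3
  omega

/-- two Sylow subgroups generate -/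
theorem BS.gen (h : BS N q i) (hP : Syl N P) (hQ : Syl N Q) (hne : Q ≠ P) {X : Subgroup G}
    (h1 : P ≤ X) (h2 : Q ≤ X) : N ≤ X := by
  let K : Subgroup G := sSup {R | Syl N R}
  have hK : K ≤ N := sSup_le fun R hR => hR.le
  have hn : N ≤ N[K] := fun n hn => cj_eq_self_iff.1 (eq_of_le_of_card_ge (cj_le_iff.2
    (sSup_le fun R hR => cj_le_iff.1 (le_sSup (hR.cj_of_mem hn)))) (card_cj n K).ge)
  rcases h.normal_eq hK hn with e | e
  · obtain ⟨z, hz, h3⟩ := h.exists_z hP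
    exact absurd (mem_bot.1 (e ▸ (le_sSup hP : P ≤ K) hz.1)) h3
  · refine e.ge.trans (sSup_le fun R hR => ?_)
    by_cases e : R = P
    · rw [e]; exact h1
    obtain ⟨t, ht, rfl⟩ := h.tr P Q R hP hQ hR hne e
    exact cj_le_of_mem h2 (h1 ht)

/-- one class of involutions -/
theorem BS.one_class (h : BS N q i) {z z' : G} (hz : z ∈ N) (hz' : z' ∈ N) (h1 : orderOf z = 2)
    (h2 : orderOf z' = 2) : ∃ n ∈ N, n * z * n⁻¹ = z' := by
  rw [ord2] at h1 h2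
  obtain ⟨P, hP, hzP⟩ := exists_syl hz h1.1
  obtain ⟨R, hR, hzR⟩ := exists_syl hz' h2.1
  obtain ⟨n, hn, rfl⟩ := hP.exists_conj hR
  obtain ⟨Q, hQ, hne⟩ := h.ne P hP
  rw [mem_cj] at hzR
  obtain ⟨d, hd, e⟩ := (h.bp P Q hP hQ hne).trans z ((h.om hP hzP).1 h1.1) _ ((h.om hP hzR).1 (by
    rw [show n⁻¹ * z' * n * (n⁻¹ * z' * n) = n⁻¹ * (z' * z') * n by group, h2.1]; group)) h1.2
    (fun e => h2.2 (by simpa [mul_assoc] using conj_eq_one_iff.1 (show n⁻¹ * z' * n⁻¹⁻¹ = 1 by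
      rwa [inv_inv])))
  exact ⟨n * d, N.mul_mem hn hd.1.1, by
    rw [show n * d * z * (n * d)⁻¹ = n * (d * z * d⁻¹) * n⁻¹ by group, e]; group⟩

/-- involutions from different Sylow subgroups have a product of odd order -/
theorem BS.odd_mul (h : BS N q i) (hP : Syl N P) (hQ : Syl N Q) (hne : Q ≠ P) {z w : G} (hz : z ∈ P)
    (hw : w ∈ Q) (h1 : orderOf z = 2) (h2 : orderOf w = 2) : Odd (orderOf (z * w)) := by
  rw [ord2] at h1 h2
  by_contra hc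
  obtain ⟨a, b, c⟩ := H9.central_involution h1.1 h2.1 (Nat.not_odd_iff_even.1 hc)
  rw [ord2] at a
  have hu : (z * w) ^ (orderOf (z * w) / 2) ∈ N := N.pow_mem (N.mul_mem (hP.le hz) (hQ.le hw)) _
  exact a.2 (h.reg hP hQ hne (inv_mem_syl hP hu a.1 (h.normP' hP (le_normalizer hu) hz h1.2 b))
    (h.normP' hQ (le_normalizer hu) hw h2.2 c))

theorem BS.conj_in (h : BS N q i) (hP : Syl N P) (hQ : Syl N Q) (hne : Q ≠ P) {z w : G} (hz : z ∈ P)
    (hw : w ∈ Q) (h1 : orderOf z = 2) (h2 : orderOf w = 2) {X : Subgroup G} (hzX : z ∈ X)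
    (hwX : w ∈ X) : ∃ g ∈ X, g * z * g⁻¹ = w := by
  obtain ⟨k, hk⟩ := H9.exists_zpow_conj_of_odd (ord2.1 h1).1 (ord2.1 h2).1
    (h.odd_mul hP hQ hne hz hw h1 h2)
  exact ⟨_, X.zpow_mem (X.mul_mem hzX hwX) k, hk⟩

theorem BS.card_syl (h : BS N q i) : {R | Syl N R}.ncard = q ^ i + 1 := by
  obtain ⟨P, hP⟩ := exists_isSylowIn 2 N
  obtain ⟨Q, hQ, hne⟩ := h.ne P hP
  have h1 := H65.OT.card_orb (X := Sb G) P Q (S := {R | Syl N R} \ {P}) fun R =>
    ⟨fun hR => h.tr P Q R hP hQ hR.1 hne hR.2, fun ⟨t, ht, e⟩ => by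
      rw [← e]
      exact ⟨hQ.cj_of_mem (hP.le ht), fun e => hne (cj_inj.1
        ((show cj t Q = P from e).trans (cj_eq_self (le_normalizer ht)).symm))⟩⟩
  have h2 : P ⊓ stabilizer G (show Sb G from Q) = ⊥ :=
    eq_bot_iff.2 fun t ht => h.reg hP hQ hne ht.1 (cj_eq_self_iff.1 ht.2)
  rw [h2, card_bot, mul_one, h.cardP hP] at h1
  rw [h1]
  exact (Set.ncard_sdiff_singleton_add_one (s := {R | Syl N R}) hP).symm

/-- the number of involutions -/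
theorem BS.ni (h : BS N q i) : {z | z ∈ N ∧ orderOf z = 2}.ncard = (q ^ i + 1) * (q - 1) := by
  have := dcount {z | z ∈ N ∧ orderOf z = 2} {R | Syl N R} (fun z R => z ∈ R) 1 (q - 1)
    (fun z hz => by
      obtain ⟨P, hP, hzP⟩ := exists_syl hz.1 (ord2.1 hz.2).1
      rw [Set.ncard_eq_one]
      exact ⟨P, Set.eq_singleton_iff_unique_mem.2 ⟨⟨hP, hzP⟩, fun R hR =>
        h.ti _ _ hR.1 hP z hR.2 hzP (ord2.1 hz.2).2⟩⟩)
    (fun R hR => by
      have h1 := ncard_sharp (zz R)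
      rw [h.cardZ hR] at h1
      rw [← h1, Nat.add_sub_cancel]
      congr 1
      ext z
      exact ⟨fun hz => ⟨(h.om hR hz.2).1 (ord2.1 hz.1.2).1, (ord2.1 hz.1.2).2⟩, fun hz =>
        ⟨⟨hR.le hz.1.1, ord2.2 ⟨h.zsq hR hz.1, hz.2⟩⟩, hz.1.1⟩⟩)
  rwa [mul_one, h.card_syl] at this

section st
variable {Ω : Type v} [MulAction G Ω] {NN : Ω → Subgroup G}

omit [Finite G] in
theorem St.norm (h : St NN q i) {g : G} {a : Ω} (hg : g • a = a) : g ∈ N[NN a] :=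
  cj_eq_self_iff.1 (by rw [← h.smul, hg])

omit [Finite G] in
theorem St.fx (h : St NN q i) {g : G} {a : Ω} (hg : g ∈ NN a) : g • a = a := h.fix a hg

omit [Finite G] in
theorem St.conj (h : St NN q i) (g : G) {x : G} {a : Ω} (hx : x ∈ NN a) :
    g * x * g⁻¹ ∈ NN (g • a) := h.smul g a ▸ conj_mem_cj hx

omit [Finite G] in
theorem St.syl (h : St NN q i) (g : G) {a : Ω} (hP : Syl (NN a) P) : Syl (NN (g • a)) (cj g P) :=
  h.smul g a ▸ hP.cj g

omit [Finite G] in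
/-- `N^a` fixes only `a` -/
theorem St.only [FaithfulSMul G Ω] (h : St NN q i) {a b : Ω} (hb : NN a ≤ stabilizer G b) :
    b = a := by
  by_contra hne
  apply (h.bs a).nonab
  have key : ∀ n ∈ NN a, n = 1 := fun n hn => eq_of_smul_eq_smul (α := Ω) fun c => by
    rw [one_smul]
    by_cases e : c = a
    · rw [e]; exact h.fx hn
    obtain ⟨g, h1, rfl⟩ := h.two a b a c (Ne.symm hne) (Ne.symm e)
    have := hb (nconj' (h.norm h1) hn)
    rw [mem_stabilizer_iff, mul_smul, mul_smul, inv_smul_eq_iff] at this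
    exact this
  exact ⟨⟨fun x y => Subtype.ext (by rw [key _ (x * y).2, key _ (y * x).2])⟩⟩

omit [Finite G] in
theorem St.fix_of_norm [FaithfulSMul G Ω] (h : St NN q i) {g : G} {a : Ω} (hg : g ∈ N[NN a]) :
    g • a = a := h.only (by rw [← cj_eq_self hg, ← h.smul]; exact h.fix _)

omit [Finite G] in
theorem St.fix_of_C [FaithfulSMul G Ω] (h : St NN q i) {g : G} {a : Ω} (hg : g ∈ C[NN a]) :
    g • a = a := h.fix_of_norm (C_le_N hg)

/-- at most one Sylow subgroup of `N^a` fixes `b` -/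
theorem St.uniq [FaithfulSMul G Ω] (h : St NN q i) {a b : Ω} (hab : b ≠ a) (hP : Syl (NN a) P)
    (hQ : Syl (NN a) Q) (h1 : P ≤ stabilizer G b) (h2 : Q ≤ stabilizer G b) : Q = P := by
  by_contra hne
  exact hab (h.only ((h.bs a).gen hP hQ hne h1 h2))

end st

end Cfsg.Agent.H76.HB
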