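import Cfsg.Agent.H76.HBGeo

/-! Project HB, even degree: a non-commuting parallel pair gives degree 6. -/

set_option autoImplicit false

namespace Cfsg.Agent.H76.HB

open MulAction Subgroup Cfsg.Agent.H83 Cfsg.Agent.H56.TT
open Cfsg.Agent.H65.A45 (ord2 dcount)
open Cfsg.Agent.H56.W2 (Fix mem_Fix)
open scoped Cfsg.Agent.H63

universe u v

variable {G : Type u} [Group G] {Ω : Type v} [MulAction G Ω] {NN : Ω → Subgroup G}
  {N P Q R : Subgroup G} {q i : ℕ} [Finite G]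

theorem BS.three_syl (h : BS N q i) (hi : i = 1) (hP : Syl N P) (hQ : Syl N Q) (hR : Syl N R)
    (h1 : Q ≠ P) (h2 : R ≠ P) (h3 : R ≠ Q) {e : G} (he : e ∈ N) (eP : e ∈ N[P]) (eQ : e ∈ N[Q])
    (eR : e ∈ N[R]) : e = 1 := by
  obtain ⟨t, ht, rfl⟩ := h.tr P Q R hP hQ hR h1 h2
  rw [← cj_normalizer, mem_cj] at eR
  have := h.reg hP hQ h1 (P.mul_mem (P.inv_mem ht) (nconj eP ht)) (by
    simpa only [mul_assoc] using mul_mem eR (inv_mem eQ))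
  exact h.regZ hP hQ h1 (by omega) ⟨⟨he, eP⟩, eQ⟩ ((h.zz_eq hP hi).ge ht)
    (fun e => h3 (by rw [e, cj_one])) (conj_eq_iff.1 (inv_mul_eq_one.1 this).symm)

variable [FaithfulSMul G Ω] [Finite Ω] (h : St NN q i) (hl : Lin NN)
include h hl

theorem St.par_cent (hp : Par NN P R) {t : G} (ht : t ∈ R) (ht' : t ∈ N[P]) (h1 : t ≠ 1)
    {A : Subgroup G} (hA : A ≤ P) : A ⊓ C1[t] = A ⊓ N[R] := by
  ext s
  exact and_congr_right fun hs => ⟨fun e => h.normL hl hp.l2 ht h1 (memC1.1 e),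
    fun e => memC1.2 (h.par_comm hl hp (hA hs) e ht ht')⟩

theorem St.par_sq (hp : Par NN P R) : q ≤ Nat.card ↥(zz P ⊓ N[R]) ^ 2 := by
  obtain ⟨t, ht, h1, h2⟩ := h.par_inv hl (h.par_symm hl hp)
  rw [← h.par_cent hl hp ht.1 h2 h1 inf_le_left, ← h.cardZ hp.l1]
  exact sq_le_cent (fun z hz => (h.om hp.l1 hz.1).2 hz) (N_zz h2) fun s _ => by
    rw [(h.om hp.l2 ht.1).2 ht]; simp

theorem St.nc (hp : Par NN P R) (hn : ¬ zz P ≤ N[R]) : i = 1 ∧ q = 4 ∧ Nat.card Ω = 6 := by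
  obtain ⟨x, hx⟩ := hp.l2
  have hxP : x ∉ Fix Ω P := fun e => h.par_disj hl hp e (h.syl_fix hx)
  have b := h.bs x
  have h4 := b.four_le
  set Λ : Set (Subgroup G) := {Y | Syl (NN x) Y ∧ Par NN P Y} with hΛ
  have hR : R ∈ Λ := ⟨hx, hp⟩
  have zl : ∀ z ∈ zz P, z ≠ 1 → ∃ Y ∈ Λ, z ∈ N[Y] := fun z hz h1 => by
    obtain ⟨Y, a1, a2, a3⟩ := h.zline hl hp.l1 hz h1 hxP
    exact ⟨Y, ⟨h.syl_of_fix hl a1.l2 a2, a1⟩, a3⟩
  have zu : ∀ Y ∈ Λ, ∀ Y' ∈ Λ, ∀ z ∈ P, z ≠ 1 → z ∈ N[Y] → z ∈ N[Y'] → Y = Y' :=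
    fun Y hY Y' hY' z hz h1 a1 a2 =>
      h.zline_uniq hl hp.l1 hz h1 hxP hY.2.l2 hY'.2.l2 (h.syl_fix hY.1) (h.syl_fix hY'.1) a1 a2
  obtain ⟨R', hR', hRR⟩ : ∃ Y ∈ Λ, Y ≠ R := by
    obtain ⟨z, hz, hz'⟩ := SetLike.not_le_iff_exists.1 hn
    obtain ⟨Y, a1, a2⟩ := zl z hz fun e => hz' (e ▸ one_mem _)
    exact ⟨Y, a1, fun e => hz' (e ▸ a2)⟩
  have csq : ∀ Y ∈ Λ, Nat.card ↥(zz P ⊓ N[Y]) ^ 2 = q := fun Y hY => by
    obtain ⟨Y', hY', hne⟩ : ∃ Y' ∈ Λ, Y' ≠ Y := by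
      by_cases e : Y = R
      · exact ⟨R', hR', e ▸ hRR⟩
      · exact ⟨R, hR, Ne.symm e⟩
    have a1 := card_mul_le_inf (A := zz P ⊓ N[Y]) (B := zz P ⊓ N[Y']) inf_le_left inf_le_left
    rw [(eq_bot_iff_forall (zz P ⊓ N[Y] ⊓ (zz P ⊓ N[Y']))).2 fun z hz => by
      by_contra e
      exact hne (zu _ hY' _ hY z hz.1.1.1 e hz.2.2 hz.1.2), card_bot, mul_one, h.cardZ hp.l1] at a1
    have a2 := h.par_sq hl hY.2
    have a3 := h.par_sq hl hY'.2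
    refine le_antisymm (Nat.le_of_mul_le_mul_right (c := q) ?_ (by omega)) a2
    calc _ ≤ Nat.card ↥(zz P ⊓ N[Y]) ^ 2 * Nat.card ↥(zz P ⊓ N[Y']) ^ 2 := Nat.mul_le_mul_left _ a3
      _ ≤ q * q := by rw [← mul_pow, pow_two]; exact Nat.mul_le_mul a1 a1
  obtain ⟨c, hc⟩ : ∃ c, c = Nat.card ↥(zz P ⊓ N[R]) := ⟨_, rfl⟩
  have hq : c ^ 2 = q := hc ▸ csq R hR
  have hc2 : 2 ≤ c := by nlinarith
  have cardΛ : Λ.ncard = c + 1 := by
    have a1 := dcount ((zz P : Set G) \ {1}) Λ (fun z Y => z ∈ N[Y]) 1 (c - 1)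
      (fun z hz => by
        obtain ⟨Y, a1, a2⟩ := zl z hz.1 hz.2
        rw [Set.ncard_eq_one]
        exact ⟨Y, Set.eq_singleton_iff_unique_mem.2 ⟨⟨a1, a2⟩, fun Y' hY' =>
          zu _ hY'.1 _ a1 z hz.1.1 hz.2 hY'.2 a2⟩⟩)
      (fun Y hY => by
        rw [Nat.pow_left_injective (by norm_num) (hq.trans (csq Y hY).symm), ← ncard_sharp,
          Nat.add_sub_cancel]
        congr 1
        ext z
        exact ⟨fun hz => ⟨⟨hz.1.1, hz.2⟩, hz.1.2⟩, fun hz => ⟨⟨hz.1.1, hz.2⟩, hz.1.2⟩⟩)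
    have a2 := ncard_sharp (zz P)
    rw [h.cardZ hp.l1] at a2
    obtain ⟨k, rfl⟩ : ∃ k, c = k + 1 := ⟨c - 1, by omega⟩
    rw [Nat.add_sub_cancel] at a1
    exact Nat.eq_of_mul_eq_mul_right (show 0 < k by omega) (by nlinarith)
  have cardΛ' : (Λ \ {R}).ncard = c := by
    have := Set.ncard_sdiff_singleton_add_one hR
    omega
  have inv : ∀ g ∈ NN x, g ∈ N[P] → g ∈ N[R] → ∀ Y ∈ Λ \ {R}, cj g Y ∈ Λ \ {R} :=
    fun g hg a1 a2 Y hY => ⟨⟨hY.1.1.cj_of_mem hg, cj_eq_self a1 ▸ h.par_cj hY.1.2 g⟩, fun e =>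
      hY.2 (cj_inj.1 ((show cj g Y = R from e).trans (cj_eq_self a2).symm))⟩
  have hT : Nat.card ↥(R ⊓ N[P]) = c := by
    have a1 := dvdS1 (R ⊓ N[P]) _ (fun g hg => inv g (hx.le hg.1) hg.2 (le_normalizer hg.1))
      fun Y hY g hg e => b.reg hx hY.1.1 hY.2 hg.1 e
    rw [cardΛ'] at a1
    refine le_antisymm (Nat.le_of_dvd (by omega) a1) ?_
    rw [h.par_card hl hp, hc]
    exact card_le_of_le (inf_le_inf_right _ inf_le_left)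
  have hi : i = 1 := by
    by_contra hi
    obtain ⟨t, ht, h1, h2⟩ := h.par_inv hl (h.par_symm hl hp)
    have t2 := (h.om hp.l2 ht.1).2 ht
    have a1 := sq_le_cm (A := P) (B := zz P) (y := t) inf_le_left
      (fun s hs => N_zz (le_normalizer hs)) (fun s hs => h.sq hp.l1 hs) h2 (N_zz h2) fun s _ => by
        rw [t2]; simp
    have a2 := card_le_com (A := cm P (zz P) t fun s hs => N_zz (le_normalizer hs)) (y := t)
      (zz P ⊓ C1[t] : Subgroup G) fun s hs => mem_inf.2 ⟨hs.2, memC1.2 (by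
        have a3 := (h.om hp.l1 hs.2.1).2 hs.2
        rw [eq_comm, ← conj_eq_iff]
        calc _ = t * s⁻¹ * t⁻¹ * (t * t) * s * (t * t)⁻¹ := by group
          _ = (s⁻¹ * (t * s * t⁻¹))⁻¹ := by rw [t2]; group
          _ = _ := inv_eq_of_mul_eq_one_right a3)⟩
    rw [← card_eq_ncard, h.par_cent hl hp ht.1 h2 h1 inf_le_left, ← hc] at a2
    have a3 : Nat.card ↥(cm P (zz P) t (fun s hs => N_zz (le_normalizer hs)) ⊓ C1[t]) ≤ c := by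
      rw [← hT, h.par_card hl hp, ← h.par_cent hl hp ht.1 h2 h1 le_rfl]
      exact card_le_of_le (inf_le_inf_right _ fun s hs => hs.1)
    have a4 := a1.trans (Nat.pow_le_pow_left (a2.trans (Nat.mul_le_mul_left _ a3)) 2)
    rw [h.cardP hp.l1, h.cardZ hp.l1, ← pow_two, hq, ← pow_succ] at a4
    have := (Nat.pow_le_pow_iff_right (by omega)).1 a4
    have := b.i_pos
    omega
  have hc' : c = 2 := by
    by_contra hc3
    have inv2 : ∀ Y, Syl (NN x) Y → ∀ u ∈ Y, u ≠ 1 → orderOf u = 2 := fun Y hY u hu h1 =>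
      ord2.2 ⟨b.zsq hY ((b.zz_eq hY hi).ge hu), h1⟩
    have a1 := ncard_sharp (R ⊓ N[P])
    obtain ⟨u, hu, u', hu', huu⟩ := (Set.one_lt_ncard (s := ((R ⊓ N[P] : Subgroup G) : Set G) \ {1})).1
      (by omega)
    obtain ⟨w, hw, hw1, hwP⟩ := (h.par_symm hl hR'.2).ex
    obtain ⟨g1, hg1, e1⟩ := b.conj_in hx hR'.1 hRR hu.1.1 hw (inv2 _ hx _ hu.1.1 hu.2)
      (inv2 _ hR'.1 _ hw hw1) (X := NN x ⊓ N[P]) ⟨hx.le hu.1.1, hu.1.2⟩ ⟨hR'.1.le hw, hwP⟩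
    obtain ⟨g2, hg2, e2⟩ := b.conj_in hR'.1 hx hRR.symm hw hu'.1.1 (inv2 _ hR'.1 _ hw hw1)
      (inv2 _ hx _ hu'.1.1 hu'.2) (X := NN x ⊓ N[P]) ⟨hR'.1.le hw, hwP⟩ ⟨hx.le hu'.1.1, hu'.1.2⟩
    have e3 : g2 * g1 * u * (g2 * g1)⁻¹ = u' := by rw [← e2, ← e1]; group
    have hg : g2 * g1 ∈ NN x ⊓ N[P] ⊓ N[R] := ⟨mul_mem hg2 hg1,
      b.normP hx (le_normalizer (mul_mem hg2.1 hg1.1)) hu.1.1 hu.2 (e3 ▸ hu'.1.1)⟩
    obtain ⟨a, d, ha, hd, e4, ⟨k, hk⟩, hdo⟩ := exists_p_parts (p := 2) (g2 * g1)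
    have ha' := zpowers_le_of_mem hg ha
    have hd' := zpowers_le_of_mem hg hd
    have hd1 : d ≠ 1 := fun e => huu (by
      rw [← e3, e4, e, mul_one]
      exact (conj_eq_iff.2 (((b.zz_eq hx hi).ge hu.1.1).2 a (hx.mem_of_norm ha'.1.1 hk ha'.2))).symm)
    obtain ⟨e, he, he1, hpr, hU⟩ := exists_pp hd1
    have he' := zpowers_le_of_mem (zpowers_le_of_mem hd' he)
    have hp2 : ∀ n, ¬ orderOf e ∣ 2 ^ n := fun n hn => by
      have := (Nat.prime_dvd_prime_iff_eq hpr Nat.prime_two).1 (hpr.dvd_of_dvd_pow hn)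
      have := (hdo.coprime_dvd_left (orderOf_dvd_of_mem_zpowers he))
      simp_all
    obtain ⟨m, -, hm⟩ := b.pow
    obtain ⟨Y, hY, hYe⟩ := fixS hpr hU (fun g hg => inv g (he' hg).1.1 (he' hg).1.2 (he' hg).2)
      (by rw [cardΛ']; exact fun e => hp2 m (hm ▸ hq ▸ dvd_pow e two_ne_zero))
    obtain ⟨y, hy, hye⟩ := fixP hpr hU (Φ := Fix Ω P) (fun g hg y hy => fix_norm (he' hg).1.2 hy)
      fun e => hp2 (m * i) (by rw [pow_mul, ← hm]; exact e.trans (h.delta_dvd hl hp.l1))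
    have hxy : x ≠ y := fun e => hxP (e ▸ hy)
    obtain ⟨W, a2, a3⟩ := hl x y hxy
    have a4 := he' (mem_zpowers e)
    exact he1 (b.three_syl hi hx hY.1.1 a2 hY.2
      (fun e => h.par_disj hl hp hy (e ▸ h.syl_fix a3))
      (fun e => h.par_disj hl hY.1.2 hy (e ▸ h.syl_fix a3)) a4.1.1 a4.2 (hYe (mem_zpowers e))
      (h.norm_of_two hl ⟨x, a2⟩ hxy (h.syl_fix a2) (h.syl_fix a3)
        (by rw [h.fx a4.1.1]; exact h.syl_fix a2)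
        (by rw [hye e (mem_zpowers e)]; exact h.syl_fix a3)))
  have hq4 : q = 4 := by rw [← hq, hc']; rfl
  refine ⟨hi, hq4, ?_⟩
  have a1 := Set.ncard_le_ncard (s := {R | Syl (NN x) R ∧ ∃ y ∈ Fix Ω P, y ∈ Fix Ω R} ∪ Λ)
    (t := {R | Syl (NN x) R}) fun Y hY => hY.elim And.left And.left
  rw [Set.ncard_union_eq (Set.disjoint_left.2 (by
      rintro Y ⟨_, y, a1, a2⟩ hY; exact h.par_disj hl hY.2 a1 a2)),
    h.meet_count hl hp.l1 hxP, cardΛ, b.card_syl, hi, hq4, hc'] at a1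
  have a2 := h.two_le hl hp.l1
  rw [h.card_pts hl hp.l1, show (Fix Ω P).ncard = 2 by omega, hi, hq4]
  rfl

end Cfsg.Agent.H76.HB
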