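import Cfsg.Agent.H76.HBDefs2
import Cfsg.Agent.H63.Frob

/-! Project HB: automorphisms of a `BS` group centralising a lot are trivial (A6, A7). -/

set_option autoImplicit false

namespace Cfsg.Agent.H76.HB

open MulAction Subgroup Cfsg.Agent.H83 Cfsg.Agent.H56.TT
open Cfsg.Agent.H65.A45 (ord2 dcount)
open scoped Cfsg.Agent.H63

universe u v

variable {G : Type u} [Group G] {N P Q R : Subgroup G} {q i : ℕ}

/-- the elements normalising `K` and the coset `t K` -/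
def st (K : Subgroup G) (t : G) : Subgroup G where
  carrier := {y | y ∈ N[K] ∧ t⁻¹ * (y * t * y⁻¹) ∈ K}
  one_mem' := ⟨one_mem _, by simp⟩
  mul_mem' := by
    rintro x y ⟨hx, hx'⟩ ⟨hy, hy'⟩
    refine ⟨mul_mem hx hy, ?_⟩
    have := K.mul_mem hx' (nconj hx hy')
    convert this using 1; group
  inv_mem' := by
    rintro y ⟨hy, hy'⟩
    refine ⟨inv_mem hy, ?_⟩
    have := nconj' hy (K.inv_mem hy')
    convert this using 1; group

theorem mem_st {K : Subgroup G} {t y : G} : y ∈ st K t ↔ y ∈ N[K] ∧ t⁻¹ * (y * t * y⁻¹) ∈ K :=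
  Iff.rfl

theorem st_conj {K : Subgroup G} {t y d : G} (hd : d ∈ N[K]) (h : y ∈ st K t) :
    d * y * d⁻¹ ∈ st K (d * t * d⁻¹) := by
  refine ⟨mul_mem (mul_mem hd h.1) (inv_mem hd), ?_⟩
  have := nconj hd h.2
  convert this using 1; group

theorem ncard_coset (K : Subgroup G) (t : G) : {s | t⁻¹ * s ∈ K}.ncard = Nat.card K := by
  rw [card_eq_ncard, ← Set.ncard_image_of_injective (K : Set G) (mul_right_injective t)]
  congr 1
  ext s
  exact ⟨fun h => ⟨_, h, by simp⟩, by rintro ⟨k, hk, rfl⟩; simpa using hk⟩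

variable [Finite G]

theorem card_mul_le_inf {A B X : Subgroup G} (hA : A ≤ X) (hB : B ≤ X) :
    Nat.card A * Nat.card B ≤ Nat.card X * Nat.card ↥(A ⊓ B) := by
  have := ncard_le_fib ((A : Set G) ×ˢ (B : Set G)) (X : Set G) ((A ⊓ B : Subgroup G) : Set G)
    (fun p => p.1 * p.2) (fun p hp => X.mul_mem (hA hp.1) (hB hp.2)) (fun p r => p.1⁻¹ * r.1)
    (fun p hp r hr e => mem_inf.2 ⟨A.mul_mem (A.inv_mem hp.1) hr.1, by
      have e' : r.1 * r.2 = p.1 * p.2 := e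
      rw [show p.1⁻¹ * r.1 = p.2 * r.2⁻¹ by rw [eq_mul_inv_iff_mul_eq, mul_assoc, e']; group]
      exact B.mul_mem hp.2 (B.inv_mem hr.2)⟩)
    (fun p _ r _ r' _ e e' e'' => by
      have e1 : r.1 = r'.1 := mul_left_cancel e''
      have e2 : r.1 * r.2 = r'.1 * r'.2 := e.trans e'.symm
      rw [e1] at e2
      exact Prod.ext e1 (mul_left_cancel e2))
  rwa [Set.ncard_prod, ← card_eq_ncard, ← card_eq_ncard, ← card_eq_ncard, ← card_eq_ncard] at this

theorem exists_pp {d : G} (h : d ≠ 1) :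
    ∃ e ∈ zpowers d, e ≠ 1 ∧ (orderOf e).Prime ∧ IsPGroup (orderOf e) (zpowers e) := by
  obtain ⟨e, he, hp⟩ := H63.exists_prime_order_mem_of_ne_bot (H63.zpowers_ne_bot' h)
  exact ⟨e, he, H63.ne_one_of_prime_orderOf hp, hp,
    isPGroup_zpowers (k := 1) (by rw [pow_one, pow_orderOf_eq_one])⟩

theorem not_dvd_two {p : ℕ} (hp : p.Prime) (h2 : p ≠ 2) {K : Subgroup G} (hK : IsPGroup 2 K) :
    ¬ p ∣ Nat.card K := by
  obtain ⟨k, hk⟩ := IsPGroup.iff_card.1 hK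
  rw [hk]
  exact fun h => h2 ((Nat.prime_dvd_prime_iff_eq hp Nat.prime_two).1 (hp.dvd_of_dvd_pow h))

section pair
variable (h : BS N q i) (hP : Syl N P) (hQ : Syl N Q) (hne : Q ≠ P)
include h hP hQ hne

theorem BS.dd_odd : (Nat.card (dd N P Q)).Coprime 2 :=
  coprime_card_iff.2 fun _ hd _ hk => h.dd_two hP hQ hne hd hk

theorem BS.dd_ord {d : G} (hd : d ∈ dd N P Q) : orderOf d ≠ 2 := fun e =>
  (ord2.1 e).2 (h.dd_sq hP hQ hne hd (ord2.1 e).1)

/-- `D` is semiregular on the sections of `P` above `Z` -/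
theorem BS.semiK {K : Subgroup G} (h1 : zz P ≤ K) (h2 : K ≤ P) {d t : G} (hd : d ∈ dd N P Q)
    (hd1 : d ≠ 1) (ht : t ∈ P) (hs : d ∈ st K t) : t ∈ K := by
  obtain ⟨e, he, he1, hp, hU⟩ := exists_pp hd1
  have hle : zpowers e ≤ zpowers d := zpowers_le_of_mem he
  have heD : e ∈ dd N P Q := zpowers_le_of_mem hd he
  obtain ⟨c, hc, hce⟩ := fixE hp hU (Φ := {s | t⁻¹ * s ∈ K}) (fun x hx c hc => by
    have hx' := zpowers_le_of_mem hs (hle hx)
    have := K.mul_mem hx'.2 (nconj hx'.1 hc)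
    show _ ∈ K
    convert this using 1; group)
    (by rw [ncard_coset]; exact not_dvd_two hp (h.dd_ord hP hQ hne heD) (hP.isPGroup.to_le h2))
  have hcP : c ∈ P := by simpa using P.mul_mem ht (h2 hc)
  have := K.mul_mem (h1 ((h.bp P Q hP hQ hne).semi e heD he1 c hcP (hce e (mem_zpowers e))))
    (K.inv_mem hc)
  simpa using this

theorem BS.semiZ {d t : G} (hd : d ∈ dd N P Q) (ht : t ∈ P) (ht' : t ∉ zz P) (hs : d ∈ st (zz P) t) :
    d = 1 := by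
  by_contra hd1
  exact ht' (h.semiK hP hQ hne le_rfl inf_le_left hd hd1 ht hs)

theorem BS.card_orbZ {E : Subgroup G} (hE : E ≤ dd N P Q) {z : G} (hz : z ∈ zz P) (h1 : z ≠ 1)
    {S : Set G} (hS : ∀ y, y ∈ S ↔ ∃ d ∈ E, d * z * d⁻¹ = y) :
    Nat.card E = S.ncard * Nat.card ↥(E ⊓ C[zz P]) := by
  rw [H65.OT.card_orb (X := El G) E z (S := S) hS]
  congr 3
  ext d
  exact and_congr_right fun hd => ⟨fun e => (h.bp P Q hP hQ hne).fixZ (hE hd) hz h1
    (conj_eq_iff.1 e), fun e => (conj_eq_iff (x := z)).2 (e z hz).symm⟩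

theorem BS.cardD1 : Nat.card (dd N P Q) = (q - 1) * Nat.card ↥(dd N P Q ⊓ C[zz P]) := by
  obtain ⟨z, hz, h1⟩ := h.exists_z hP
  have h2 := ncard_sharp (zz P)
  rw [h.cardZ hP] at h2
  rw [h.card_orbZ hP hQ hne le_rfl hz h1 (S := (zz P : Set G) \ {1}) fun y =>
    ⟨fun hy => (h.bp P Q hP hQ hne).trans z hz y hy.1 h1 hy.2, fun ⟨d, hd, e⟩ =>
      ⟨e ▸ nconj (N_zz hd.1.2) hz, fun e' => h1 (conj_eq_one_iff.1 (e.trans e'))⟩⟩, ← h2,
    Nat.add_sub_cancel]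

theorem BS.D1_bot (hi : i ≠ 3) {d : G} (hd : d ∈ dd N P Q) (hc : d ∈ C[zz P]) : d = 1 := by
  have h1 := h.cardD1 hP hQ hne
  have h2 := (h.bp P Q hP hQ hne).cardD hi
  have h3 := h.four_le
  have h4 : Nat.card ↥(dd N P Q ⊓ C[zz P]) = 1 :=
    Nat.eq_of_mul_eq_mul_left (show 0 < q - 1 by omega) (by omega)
  exact mem_bot.1 (card_eq_one.1 h4 ▸ (mem_inf.2 ⟨hd, hc⟩ : d ∈ dd N P Q ⊓ C[zz P]))

theorem BS.regZ (hi : i ≠ 3) {d z : G} (hd : d ∈ dd N P Q) (hz : z ∈ zz P) (h1 : z ≠ 1)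
    (hc : d * z = z * d) : d = 1 :=
  h.D1_bot hP hQ hne hi hd ((h.bp P Q hP hQ hne).fixZ hd hz h1 hc)

theorem BS.cardD1' (hi : i = 3) :
    Nat.gcd 3 (q + 1) * Nat.card ↥(dd N P Q ⊓ C[zz P]) = q + 1 := by
  have h1 := h.cardD1 hP hQ hne
  have h2 := (h.bp P Q hP hQ hne).cardD3 hi
  have h3 := h.four_le
  obtain ⟨k, rfl⟩ : ∃ k, q = k + 1 := ⟨q - 1, by omega⟩
  rw [h1, Nat.add_sub_cancel] at h2
  refine Nat.eq_of_mul_eq_mul_left (show 0 < k by omega) ?_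
  nlinarith

theorem BS.exists_D1 (hi : i = 3) : ∃ d ∈ dd N P Q, d ∈ C[zz P] ∧ d ≠ 1 := by
  have h1 := h.cardD1' hP hQ hne hi
  have h3 := h.four_le
  by_contra hc
  push Not at hc
  rw [(eq_bot_iff_forall (dd N P Q ⊓ C[zz P])).2 fun d hd => hc d hd.1 hd.2, card_bot] at h1
  have := Nat.gcd_le_left (m := 3) (q + 1) (by norm_num)
  omega

theorem BS.exists_D : ∃ d ∈ dd N P Q, d ≠ 1 := by
  have h1 := h.cardD1 hP hQ hne
  have h3 := h.four_le
  by_contra hc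
  push Not at hc
  rw [(eq_bot_iff_forall (dd N P Q)).2 hc, card_bot] at h1
  have := Nat.eq_one_of_mul_eq_one_right h1.symm
  omega

/-- `D` is irreducible on `P / Z` -/
theorem BS.irr {X : Subgroup G} (h1 : zz P ≤ X) (h2 : X ≤ P) (hn : dd N P Q ≤ N[X])
    (h3 : X ≠ zz P) : X = P := by
  have b := h.bp P Q hP hQ hne
  have h4 := dvdE (dd N P Q) ((X : Set G) \ zz P) (fun d hd c hc => ⟨nconj (hn hd) hc.1, fun e =>
    hc.2 (by simpa [mul_assoc] using nconj' (N_zz hd.1.2) e)⟩) fun c hc d hd e => by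
      by_contra hd1
      exact hc.2 (b.semi d hd hd1 c (h2 hc.1) e)
  have h5 := ncard_diff h1
  obtain ⟨k, hk⟩ := card_dvd_of_le h1
  have h6 := card_dvd_of_le h2
  have h7 : Nat.card (zz P) < Nat.card X := lt_of_not_ge fun e => h3 (eq_of_le_of_card_ge h1 e).symm
  have h8 := h.four_le
  rw [b.cardZ] at h5 hk h7
  rw [hk] at h5 h6 h7
  have hk1 : 1 < k := by nlinarith
  obtain ⟨k, rfl⟩ : ∃ j, k = j + 1 := ⟨k - 1, by omega⟩
  have h9 : ((X : Set G) \ zz P).ncard = q * k := by nlinarith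
  obtain ⟨m, -, hm⟩ := h.pow
  have h10 : Nat.card (dd N P Q) ∣ k := by
    rw [h9] at h4
    exact (show (Nat.card (dd N P Q)).Coprime q from hm ▸ (h.dd_odd hP hQ hne).pow_right m
      ).dvd_of_dvd_mul_left h4
  have h11 := Nat.le_of_dvd (by omega) h10
  refine eq_of_le_of_card_ge h2 ?_
  rw [b.card] at h6 ⊢
  rw [hk]
  rcases h.ty with rfl | ⟨rfl, -⟩ | rfl
  · rw [pow_one]; nlinarith
  · have := b.cardD (by norm_num)
    nlinarith
  · have h12 := b.cardD3 rfl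
    have h13 : k + 1 ∣ q ^ 2 :=
      Nat.dvd_of_mul_dvd_mul_left (show 0 < q by omega) (by rwa [← pow_succ'])
    rw [pow_succ']
    refine Nat.mul_le_mul_left q ?_
    obtain ⟨c, hc⟩ := h13
    obtain ⟨a, ha⟩ := h10
    have hg := Nat.gcd_le_left (m := 3) (q + 1) (by norm_num)
    by_contra hlt
    have hc2 : 2 ≤ c := by
      rcases c with _ | _ | c
      · nlinarith
      · omega
      · omega
    have h14 : q ^ 2 ≤ 3 * Nat.card (dd N P Q) + 1 := by nlinarith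
    have ha1 : a = 1 := by
      rcases a with _ | _ | a
      · omega
      · rfl
      · nlinarith
    rw [ha1, mul_one] at ha
    rw [← ha] at h12 h14
    have hc3 : c = 2 := by nlinarith
    rw [hc3] at hc
    have : Nat.gcd 3 (q + 1) = 1 ∨ Nat.gcd 3 (q + 1) = 3 :=
      (Nat.dvd_prime Nat.prime_three).1 (Nat.gcd_dvd_left _ _)
    rcases this with e | e <;> rw [e] at h12 <;> nlinarith

theorem BS.A7' {y : G} (hN : y ∈ N[N]) (hyQ : y ∈ N[Q]) (hD : y ∈ C[dd N P Q])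
    (hZ : y ∈ C[zz P]) (hc : ∀ t ∈ P, t⁻¹ * (y * t * y⁻¹) ∈ zz P) : y ∈ C[N] := by
  have b := h.bp P Q hP hQ hne
  refine h.A3' hP hQ hne hN hyQ fun t ht => ?_
  have hom : ∀ s ∈ P, ∀ t ∈ P, (s * t)⁻¹ * (y * (s * t) * y⁻¹) =
      s⁻¹ * (y * s * y⁻¹) * (t⁻¹ * (y * t * y⁻¹)) := fun s hs t ht => by
    have := (hc s hs).2 _ (P.inv_mem ht)
    calc _ = t⁻¹ * (s⁻¹ * (y * s * y⁻¹)) * (y * t * y⁻¹) := by group
      _ = _ := by rw [this]; group
  have eqv : ∀ d ∈ dd N P Q, ∀ t : G, (d * t * d⁻¹)⁻¹ * (y * (d * t * d⁻¹) * y⁻¹) =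
      d * (t⁻¹ * (y * t * y⁻¹)) * d⁻¹ := fun d hd t => by
    have := hD d hd
    calc _ = d * t⁻¹ * d⁻¹ * (y * d) * t * (y * d)⁻¹ := by group
      _ = _ := by rw [← this]; group
  have triv : ∀ z ∈ zz P, z⁻¹ * (y * z * y⁻¹) = 1 := fun z hz => by
    rw [conj_eq_iff.2 (hZ z hz).symm, inv_mul_cancel]
  rcases h.ty with rfl | ⟨rfl, -⟩ | rfl
  · exact hZ t ((h.zz_eq hP rfl).ge ht)
  · by_contra hne'
    have h0 : t⁻¹ * (y * t * y⁻¹) ≠ 1 := fun e =>
      hne' (conj_eq_iff.1 (inv_mul_eq_one.1 e).symm).symm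
    have htZ : t ∉ zz P := fun e => h0 (triv t e)
    obtain ⟨d, hd, e⟩ := b.trans _ (b.sq t ht) _ (hc t ht) (fun e => htZ ((b.om t ht).1 e)) h0
    have key : ∀ s ∈ P, s⁻¹ * (y * s * y⁻¹) = d * (s * s) * d⁻¹ := fun s hs => by
      by_cases hsZ : s ∈ zz P
      · rw [triv s hsZ, b.zsq hsZ]; group
      obtain ⟨c, hc', e'⟩ := b.trans _ (b.sq t ht) _ (b.sq s hs) (fun e => htZ ((b.om t ht).1 e))
        fun e => hsZ ((b.om s hs).1 e)
      have hct := nconj hc'.1.2 ht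
      have h1 := b.inj2 rfl s hs _ hct (by rw [← e']; group)
      have h2 := hom _ h1.1 _ hct
      rw [triv _ h1, one_mul, inv_mul_cancel_right, eqv c hc', ← e] at h2
      rw [h2, ← e']
      have := b.comm hc' hd
      calc _ = c * d * (t * t) * (c * d)⁻¹ := by group
        _ = _ := by rw [this]; group
    refine htZ ⟨ht, fun s hs => ?_⟩
    have h1 := hom s hs t ht
    rw [key _ (P.mul_mem hs ht), key s hs, key t ht] at h1
    have h2 : s * t * (s * t) = s * s * (t * t) := by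
      have : d * (s * t * (s * t)) * d⁻¹ = d * (s * s * (t * t)) * d⁻¹ := by rw [h1]; group
      exact mul_left_cancel (mul_right_cancel this)
    have h3 : s * (t * s) * t = s * (s * t) * t := by simpa only [mul_assoc] using h2
    exact (mul_left_cancel (mul_right_cancel h3)).symm
  · obtain ⟨d, hd, hdZ, hd1⟩ := h.exists_D1 hP hQ hne rfl
    have hK : zz P ≤ P ⊓ C1[y] := fun z hz => mem_inf.2 ⟨hz.1, memC1.2 (hZ z hz)⟩
    have := h.semiK hP hQ hne hK inf_le_left hd hd1 ht ⟨memN_of fun x hx => mem_inf.2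
      ⟨nconj hd.1.2 hx.1, memC1.2 ?_⟩, mem_inf.2 ⟨P.mul_mem (P.inv_mem ht) (nconj hd.1.2 ht),
        memC1.2 ?_⟩⟩
    · exact memC1.1 this.2
    · have h1 := hD d hd
      have h2 : x * y = y * x := memC1.1 hx.2
      calc d * x * d⁻¹ * y = d * x * (d⁻¹ * (y * d)) * d⁻¹ := by group
        _ = d * (x * y) * d⁻¹ := by rw [← h1]; group
        _ = _ := by rw [h2, ← mul_assoc, h1]; group
    · have h1 := hom _ (P.inv_mem ht) _ (nconj hd.1.2 ht)
      have h2 := hom _ (P.inv_mem ht) _ ht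
      rw [eqv d hd, conj_eq_iff.2 (hdZ _ (hc t ht)).symm, ← h2] at h1
      simp only [inv_mul_cancel, inv_one, mul_one, mul_inv_cancel] at h1
      exact (conj_eq_iff.1 (inv_mul_eq_one.1 h1).symm).symm

end pair

theorem a6 : A6Stmt.{u} := fun G _ _ N P q i h hP g hg hc => by
  obtain ⟨Q, hQ, hne⟩ := h.ne P hP
  have b := h.bp P Q hP hQ hne
  obtain ⟨t, ht, hy⟩ := h.dec hP hQ hne hg (C_le_N hc)
  have hyN : t⁻¹ * g ∈ N[N] := mul_mem (le_normalizer (N.inv_mem (hP.le ht))) hg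
  have hyP : t⁻¹ * g ∈ N[P] := mul_mem (le_normalizer (P.inv_mem ht)) (C_le_N hc)
  suffices hz : t ∈ zz P from ⟨t, hz, h.A3' hP hQ hne hyN hy (mul_mem (inv_mem hz.2) hc)⟩
  obtain ⟨d, hd, hd1⟩ := h.exists_D hP hQ hne
  refine h.semiK hP hQ hne le_rfl inf_le_left (inv_mem hd) (inv_ne_one.2 hd1) ht
    ⟨inv_mem (N_zz hd.1.2), ?_⟩
  rw [inv_inv]
  have hs : t⁻¹ * (d⁻¹ * t * d) ∈ P := P.mul_mem (P.inv_mem ht) (nconj' hd.1.2 ht)
  have he := mul_mem (inv_mem (nconj (N_dd hyN hyP hy) hd)) hd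
  have key : ∀ s ∈ P, (t⁻¹ * g * d * (t⁻¹ * g)⁻¹)⁻¹ * d * s * ((t⁻¹ * g * d * (t⁻¹ * g)⁻¹)⁻¹ * d)⁻¹ =
      t⁻¹ * (d⁻¹ * t * d) * s * (t⁻¹ * (d⁻¹ * t * d))⁻¹ := fun s hs => by
    have h1 := hc _ (nconj (le_normalizer ht) (nconj hd.1.2 hs))
    have h2 := hc _ (nconj' hd.1.2 (nconj (le_normalizer ht) (nconj hd.1.2 hs)))
    calc _ = t⁻¹ * g * d⁻¹ * (g⁻¹ * (t * (d * s * d⁻¹) * t⁻¹ * g)) * d * g⁻¹ * t := by group
      _ = t⁻¹ * (g * (d⁻¹ * (t * (d * s * d⁻¹) * t⁻¹) * d)) * g⁻¹ * t := by rw [h1]; group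
      _ = _ := by rw [← h2]; group
  by_cases e1 : (t⁻¹ * g * d * (t⁻¹ * g)⁻¹)⁻¹ * d = 1
  · refine ⟨hs, fun s hs' => ?_⟩
    have := key s hs'
    rw [e1, one_mul, inv_one, mul_one] at this
    exact (conj_eq_iff.1 this.symm).symm
  · exact b.semi _ he e1 _ hs (conj_eq_iff.1 (by rw [key _ hs]; group))

theorem a7 : A7Stmt.{u} := fun G _ _ N P Q q i h hP hQ hne y hN hyP hyQ ⟨k, hk⟩ hD => by
  have b := h.bp P Q hP hQ hne
  have hU := isPGroup_zpowers hk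
  obtain ⟨z0, hz0, h0⟩ := h.exists_z hP
  obtain ⟨z, hz, h1, h2⟩ := exists_cent hU (hP.isPGroup.to_le (inf_le_left : zz P ≤ P))
    (zpowers_le_of_mem (N_zz hyP)) fun e => h0 (mem_bot.1 (e ▸ hz0))
  have h3 := h2 y (mem_zpowers y)
  have hZ : y ∈ C[zz P] := fun z' hz' => by
    by_cases e : z' = 1
    · rw [e]; simp
    obtain ⟨d, hd, rfl⟩ := b.trans z hz z' hz' h1 e
    have h4 := hD d hd
    calc d * z * d⁻¹ * y = d * z * (d⁻¹ * (y * d)) * d⁻¹ := by group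
      _ = d * (z * y) * d⁻¹ := by rw [← h4]; group
      _ = _ := by rw [← h3, ← mul_assoc, h4]; group
  have hPZ : P ≤ N[zz P] := fun t ht => N_zz (le_normalizer ht)
  refine h.A7' hP hQ hne hN hyQ hD hZ fun t ht => ?_
  by_cases e : zz P = P
  · rw [e]; exact P.mul_mem (P.inv_mem ht) (nconj hyP ht)
  obtain ⟨v, hv, hv', hv2⟩ := exists_central_mod hU hP.isPGroup (zpowers_le_of_mem hyP)
    (zpowers_le_of_mem (N_zz hyP)) hPZ (lt_of_le_of_ne inf_le_left e)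
  have hX := h.irr hP hQ hne (X := cm P (zz P) y hPZ) (fun z hz => ⟨hz.1,
    mul_mem (inv_mem hz) (nconj (N_zz hyP) hz)⟩) (fun _ ht => ht.1) (fun d hd => memN_of fun s hs =>
      ⟨nconj hd.1.2 hs.1, by
        have := (st_conj (N_zz hd.1.2) (show y ∈ st (zz P) s from ⟨N_zz hyP, hs.2⟩)).2
        rwa [conj_eq_iff.2 (hD d hd)] at this⟩) fun e => hv' (e.le ⟨hv, by
          have := nconj' (hPZ hv) (hv2 y (mem_sup_left (mem_zpowers y)))
          rw [commutatorElement_def] at this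
          convert this using 1; group⟩)
  exact (hX.ge ht).2

end Cfsg.Agent.H76.HB
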