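import Cfsg.Agent.H76.HBNc

/-! Project HB, even degree: the Suzuki and unitary cases are impossible. -/

set_option autoImplicit false

namespace Cfsg.Agent.H76.HB

open MulAction Subgroup Cfsg.Agent.H83 Cfsg.Agent.H56.TT
open Cfsg.Agent.H65.A45 (ord2 dcount)
open Cfsg.Agent.H56.W2 (Fix mem_Fix)
open scoped Cfsg.Agent.H63

universe u v

variable {G : Type u} [Group G] {Ω : Type v} [MulAction G Ω] {NN : Ω → Subgroup G}
  {N P Q R : Subgroup G} {q i : ℕ}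

/-- subsets with the conjugation action -/
def Ss (G : Type u) : Type u := Set G

instance instMulActionSs : MulAction G (Ss G) where
  smul g S := ({y | g⁻¹ * y * g ∈ (show Set G from S)} : Set G)
  one_smul S := Set.ext fun y => by
    show 1⁻¹ * y * 1 ∈ (show Set G from S) ↔ _
    rw [inv_one, one_mul, mul_one]
  mul_smul g h S := Set.ext fun y => by
    show (g * h)⁻¹ * y * (g * h) ∈ (show Set G from S) ↔ h⁻¹ * (g⁻¹ * y * g) * h ∈ (show Set G from S)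
    rw [show (g * h)⁻¹ * y * (g * h) = h⁻¹ * (g⁻¹ * y * g) * h by group]

instance instFiniteSs [Finite G] : Finite (Ss G) := inferInstanceAs (Finite (Set G))

theorem BP.actZ2 (b : BP N P Q q 2) {g s : G} (hg : g ∈ N[P]) (hc : g ∈ C[zz P]) (hs : s ∈ P) :
    s⁻¹ * (g * s * g⁻¹) ∈ zz P := by
  have := b.inj2 rfl _ (P.inv_mem hs) _ (nconj hg (P.inv_mem hs)) (by
    rw [show g * s⁻¹ * g⁻¹ * (g * s⁻¹ * g⁻¹) = g * (s⁻¹ * s⁻¹) * g⁻¹ by group,
      conj_eq_iff.2 (hc _ (b.sq _ (P.inv_mem hs))).symm])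
  convert this using 1; group

variable [Finite G]

theorem fix_coset {U B : Subgroup G} (hU : IsPGroup 2 U) (hB : U ≤ N[B]) {S : Set G}
    (hS : ∀ x ∈ U, ∀ s ∈ S, x * s * x⁻¹ ∈ S) (hSB : ∀ s ∈ S, ∀ b ∈ B, s * b ∈ S) {k : ℕ}
    (hk : S.ncard = k * Nat.card B) (ho : ¬ 2 ∣ k) : ∃ s ∈ S, ∀ x ∈ U, s⁻¹ * (x * s * x⁻¹) ∈ B := by
  have h1 := dcount S ((fun s => {y | s⁻¹ * y ∈ B}) '' S) (fun y C => y ∈ C) 1 (Nat.card B)
    (fun y hy => by
      rw [Set.ncard_eq_one]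
      refine ⟨{w | y⁻¹ * w ∈ B}, Set.eq_singleton_iff_unique_mem.2 ⟨⟨⟨y, hy, rfl⟩, by simp⟩, ?_⟩⟩
      rintro _ ⟨⟨s, hs, rfl⟩, e⟩
      exact Set.ext fun w => ⟨fun hw => by simpa [mul_assoc] using B.mul_mem (B.inv_mem e) hw,
        fun hw => by simpa [mul_assoc] using B.mul_mem e hw⟩)
    (by
      rintro _ ⟨s, hs, rfl⟩
      rw [← ncard_coset B s]
      congr 1
      exact Set.ext fun y => ⟨fun h => h.2, fun h => ⟨by simpa using hSB s hs _ h, h⟩⟩)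
  rw [hk, mul_one] at h1
  obtain ⟨_, ⟨s, hs, rfl⟩, hf⟩ := fixP (X := Ss G) Nat.prime_two hU
    (Φ := (fun s => {y | s⁻¹ * y ∈ B}) '' S) (by
      rintro x hx _ ⟨s, hs, rfl⟩
      refine ⟨_, hS x hx s hs, Set.ext fun y => ?_⟩
      show (x * s * x⁻¹)⁻¹ * y ∈ B ↔ s⁻¹ * (x⁻¹ * y * x) ∈ B
      rw [mem_normalizer_iff.1 (hB hx) (s⁻¹ * (x⁻¹ * y * x))]
      exact iff_of_eq (by congr 1; group))
    (by rwa [Nat.eq_of_mul_eq_mul_right Nat.card_pos h1] at ho)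
  refine ⟨s, hs, fun x hx => (Set.ext_iff.1 (hf x hx) (x * s * x⁻¹)).1 ?_⟩
  show s⁻¹ * (x⁻¹ * (x * s * x⁻¹) * x) ∈ B
  simp [mul_assoc]

/-- more than three quarters of the elements are inverted -/
theorem inv34 {z s : G} (h : 3 * Nat.card P < 4 * {s | s ∈ P ∧ z * s * z⁻¹ = s⁻¹}.ncard)
    (hs : s ∈ P) (e : z * s * z⁻¹ = s⁻¹) : s ∈ zz P := by
  set I := {s | s ∈ P ∧ z * s * z⁻¹ = s⁻¹}
  have h1 : {t | s * t ∈ I}.ncard = I.ncard := Set.ncard_congr (fun t _ => s * t) (fun _ ht => ht)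
    (fun _ _ _ _ e => mul_left_cancel e) fun t ht => ⟨s⁻¹ * t, by simpa using ht, by simp⟩
  have h2 := Set.ncard_union_add_ncard_inter I {t | s * t ∈ I}
  have h3 : (I ∪ {t | s * t ∈ I}).ncard ≤ Nat.card P := card_eq_ncard P ▸ Set.ncard_le_ncard
    fun t ht => ht.elim And.left fun h => by simpa using P.mul_mem (P.inv_mem hs) h.1
  have h4 : (I ∩ {t | s * t ∈ I}).ncard ≤ Nat.card ↥(P ⊓ C1[s]) :=
    card_eq_ncard (P ⊓ C1[s]) ▸ Set.ncard_le_ncard fun t ht => mem_inf.2 ⟨ht.1.1, memC1.2 (by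
      have := ht.2.2
      rw [show z * (s * t) * z⁻¹ = z * s * z⁻¹ * (z * t * z⁻¹) by group, e, ht.1.2, ← mul_inv_rev,
        inv_inj] at this
      exact this)⟩
  obtain ⟨k, hk⟩ := card_dvd_of_le (inf_le_left : P ⊓ C1[s] ≤ P)
  have h5 : 0 < Nat.card P := Nat.card_pos
  have h6 : k = 1 := by
    rcases k with _ | _ | k
    · omega
    · rfl
    · nlinarith
  rw [h6, mul_one] at hk
  exact ⟨hs, fun t ht => memC1.1 ((eq_of_le_of_card_ge inf_le_left hk.le).ge ht).2⟩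

theorem BS.card_sq (h : BS N q 3) (hP : Syl N P) {z : G} (hz : z ∈ zz P) (h1 : z ≠ 1) :
    {s | s ∈ P ∧ s * s = z}.ncard = (q + 1) * q := by
  obtain ⟨Q, hQ, hne⟩ := h.ne P hP
  have b := h.bp P Q hP hQ hne
  have a1 := dcount ((P : Set G) \ zz P) ((zz P : Set G) \ {1}) (fun s w => s * s = w) 1
    {s | s ∈ P ∧ s * s = z}.ncard
    (fun s hs => Set.ncard_eq_one.2 ⟨s * s, Set.eq_singleton_iff_unique_mem.2
      ⟨⟨⟨b.sq s hs.1, fun e => hs.2 ((b.om s hs.1).1 e)⟩, rfl⟩, fun w hw => hw.2.symm⟩⟩)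
    (fun w hw => by
      obtain ⟨d, hd, rfl⟩ := b.trans z hz w hw.1 h1 hw.2
      symm
      refine Set.ncard_congr (fun s _ => d * s * d⁻¹) (fun s hs => ?_)
        (fun _ _ _ _ e => mul_left_cancel (mul_right_cancel e)) fun s hs =>
          ⟨d⁻¹ * s * d, ⟨nconj' hd.1.2 hs.1.1, ?_⟩, by group⟩
      · have e : d * s * d⁻¹ * (d * s * d⁻¹) = d * z * d⁻¹ := by rw [← hs.2]; group
        exact ⟨⟨nconj hd.1.2 hs.1, fun e' => hw.2 (e.symm.trans (b.zsq e'))⟩, e⟩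
      · rw [show d⁻¹ * s * d * (d⁻¹ * s * d) = d⁻¹ * (s * s) * d by group, hs.2]; group)
  have a2 := ncard_diff (inf_le_left : zz P ≤ P)
  have a3 := ncard_sharp (zz P)
  have a4 := h.four_le
  rw [b.cardZ] at a2 a3
  rw [b.card] at a2
  obtain ⟨k, rfl⟩ : ∃ k, q = k + 1 := ⟨q - 1, by omega⟩
  rw [Nat.add_right_cancel a3] at a1
  exact Nat.eq_of_mul_eq_mul_left (show 0 < k by omega) (by nlinarith)

variable [FaithfulSMul G Ω] [Finite Ω]

theorem St.sz (h : St NN q 2) (hl : Lin NN) (hc : ∀ P R, Par NN P R → zz P ≤ N[R])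
    (hn : ∀ P R, Par NN P R → ¬ P ≤ N[R]) (hp : Par NN P R) : False := by
  obtain ⟨a, ha'⟩ := hp.l1
  have ha := h.syl_fix ha'
  obtain ⟨Q, hQ, hne⟩ := (h.bs a).ne P ha'
  have b := (h.bs a).bp P Q ha' hQ hne
  have h8 : 8 ≤ q := by have := (h.bs a).ty; omega
  have cZ : ∀ R, Par NN P R → ∀ t ∈ R, t ∈ N[P] → t ∈ C[zz P] := fun R hp t ht ht' z hz =>
    h.par_comm hl hp hz.1 (hc _ _ hp hz) ht ht'
  have T1 : ∀ R, Par NN P R → Nat.card ↥(P ⊓ N[R]) = q := fun R hp => by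
    obtain ⟨s, hs, hs'⟩ := SetLike.not_le_iff_exists.1 (hn _ _ hp)
    refine le_antisymm ?_ (b.cardZ ▸ card_le_of_le (le_inf inf_le_left (hc _ _ hp)))
    rw [← h.par_card hl hp, ← b.cardZ]
    exact h.par_inj hl hp hs' inf_le_left fun t ht => b.actZ2 ht.2 (cZ R hp t ht.1 ht.2) hs
  obtain ⟨z, hz, hz1⟩ := h.exists_z hp.l1
  have a1 := h.count_nu hl hp.l1 hz hz1
  rw [show {R | Par NN P R ∧ z ∈ N[R]} = {R | Par NN P R} from
    Set.ext fun R => ⟨And.left, fun hR => ⟨hR, hc _ _ hR hz⟩⟩] at a1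
  have a2 := dvdS P q {R | Par NN P R}
    (fun x hx R hR => cj_eq_self (le_normalizer hx) ▸ h.par_cj hR x) T1
  rw [b.card, pow_two] at a2
  obtain ⟨m, hm⟩ := Nat.dvd_of_mul_dvd_mul_right (by omega) a2
  have a3 := h.two_le hl hp.l1
  have hδ : (Fix Ω P).ncard = q := by
    refine Nat.dvd_antisymm ?_ (T1 R hp ▸ h.par_card hl hp ▸ h.par_dvd hl hp)
    rw [hm, pow_two, mul_assoc, mul_assoc] at a1
    exact ((Nat.coprime_self_sub_right (by omega)).2 (Nat.coprime_one_right _)).dvd_of_dvd_mul_right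
      (Dvd.intro_left _ (Nat.eq_of_mul_eq_mul_left (by omega) a1))
  obtain ⟨z0, hz0, h0⟩ := h.exists_z hp.l2
  have n0 := hc _ _ (h.par_symm hl hp) hz0
  have s0 := (h.om hp.l2 hz0.1).2 hz0
  have hb := fix_norm n0 ha
  have hab : z0 • a ≠ a := fun e => h0 (h.par_semi hl hp hz0.1 ha e)
  have key : ∀ Y, Par NN P Y → ∃ w ∈ zz Y, w • a = z0 • a := fun Y hY =>
    trP (zz Y) (Fix Ω P) (fun x hx c hc' => fix_norm (hc _ _ (h.par_symm hl hY) hx) hc') ha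
      (fun x hx => h.par_semi hl hY hx.1 ha) (by rw [hδ, h.cardZ hY.l2]) _ hb
  choose! f hf hf' using key
  have a4 : {R | Par NN P R}.ncard ≤ {s | s ∈ P ∧ z0 * s * z0⁻¹ = s⁻¹}.ncard := by
    refine Set.ncard_le_ncard_of_injOn (fun Y => f Y * z0) (fun Y hY => ?_) fun Y hY W hW e =>
      h.ti hl hY.l2 hW.l2 (hf Y hY).1 (mul_right_cancel e ▸ (hf W hW).1) fun e =>
        hab (by rw [← hf' Y hY, e, one_smul])
    have s1 := (h.om hY.l2 (hf Y hY).1).2 (hf Y hY)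
    have n1 := hc _ _ (h.par_symm hl hY) (hf Y hY)
    refine ⟨?_, by rw [mul_inv_rev, inv_eq_of_mul_eq_one_right s1, ← mul_assoc, mul_inv_cancel_right,
      inv_eq_of_mul_eq_one_right s0]⟩
    have e1 : (f Y * z0) • a = a := by rw [mul_smul, ← hf' Y hY, ← mul_smul, s1, one_smul]
    have e2 : (f Y * z0) • z0 • a = z0 • a := by rw [← mul_smul, mul_assoc, s0, mul_one, hf' Y hY]
    have c1 := mul_mem (cZ Y hY _ (hf Y hY).1 n1) (cZ R hp _ hz0.1 n0)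
    obtain ⟨t, ht, hy⟩ := (h.bs a).dec ha' hQ hne (h.norm e1) (mul_mem n1 n0)
    have yN := mul_mem (le_normalizer (inv_mem (ha'.le ht))) (h.norm e1)
    have yP := mul_mem (le_normalizer (inv_mem ht)) (mul_mem n1 n0)
    have yZ : t⁻¹ * (f Y * z0) ∈ C[zz P] := mul_mem (fun z hz => (hz.2 _ (inv_mem ht)).symm) c1
    have yC := (h.bs a).A7' ha' hQ hne yN hy (fun d hd => by
      have := (h.bs a).D1_bot ha' hQ hne (by norm_num) (mul_mem (nconj (N_dd yN yP hy) hd) (inv_mem hd))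
        (by simpa only [mul_assoc] using
          mul_mem yZ (nconj (le_norm_cent le_rfl (N_zz hd.1.2)) (inv_mem yZ)))
      rw [mul_inv_eq_one, mul_inv_eq_iff_eq_mul] at this
      exact this.symm) yZ fun s hs => b.actZ2 yP yZ hs
    have := h.Csemi hl hab yC (by rw [mul_smul, e2]; exact hb _ (inv_mem ht))
    show f Y * z0 ∈ P
    rwa [← inv_mul_eq_one.1 this]
  rw [hδ] at a1
  obtain ⟨k, rfl⟩ : ∃ k, q = k + 1 := ⟨q - 1, by omega⟩
  have a5 : {R | Par NN P R}.ncard = (k + 1) * k :=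
    Nat.eq_of_mul_eq_mul_right (show 0 < k + 1 by omega) (by rw [a1, Nat.add_sub_cancel]; ring)
  have a6 := Set.ncard_le_ncard (s := {s | s ∈ P ∧ z0 * s * z0⁻¹ = s⁻¹}) (t := zz P)
    fun s hs => inv34 (by rw [b.card]; nlinarith) hs.1 hs.2
  rw [← card_eq_ncard, b.cardZ] at a6
  nlinarith

theorem St.u3 (h : St NN q 3) (hl : Lin NN) (hc : ∀ P R, Par NN P R → zz P ≤ N[R])
    (hn : ¬ P ≤ N[R]) (hp : Par NN P R) : False := by
  obtain ⟨a, ha'⟩ := hp.l1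
  obtain ⟨Q, hQ, hne⟩ := (h.bs a).ne P ha'
  have b := (h.bs a).bp P Q ha' hQ hne
  have h4 := (h.bs a).four_le
  have PZ : P ≤ N[zz P] := fun s hs => N_zz (le_normalizer hs)
  have cZ : ∀ t ∈ R ⊓ N[P], t ∈ C[zz P] := fun t ht z hz =>
    h.par_comm hl hp hz.1 (hc _ _ hp hz) ht.1 ht.2
  obtain ⟨X2, hX2⟩ : ∃ X2 : Subgroup G, ∀ x, x ∈ X2 ↔ x ∈ R ⊓ N[P] ∧
      ∀ s ∈ P, s⁻¹ * (x * s * x⁻¹) ∈ zz P :=
    ⟨R ⊓ N[P] ⊓ ⨅ s ∈ P, st (zz P) s, fun x => by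
      simp only [mem_inf (p := R ⊓ N[P]), mem_iInf]
      exact and_congr_right fun hx => ⟨fun e s hs => (e s hs).2, fun e s hs => ⟨N_zz hx.2, e s hs⟩⟩⟩
  obtain ⟨T, hT⟩ : ∃ T : Subgroup G, ∀ s, s ∈ T ↔ s ∈ P ∧
      ∀ x ∈ R ⊓ N[P], s⁻¹ * (x * s * x⁻¹) ∈ zz P :=
    ⟨P ⊓ ⨅ x ∈ R ⊓ N[P], cm P (zz P) x PZ, fun s => by
      simp only [mem_inf (p := P), mem_iInf]
      exact and_congr_right fun hs => ⟨fun e x hx => (e x hx).2, fun e x hx => ⟨hs, e x hx⟩⟩⟩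
  have ZT : zz P ≤ T := fun z hz => (hT z).2 ⟨hz.1, fun x hx =>
    mul_mem (inv_mem hz) (nconj (N_zz hx.2) hz)⟩
  have a1 : Nat.card X2 ≤ q := by
    obtain ⟨s, hs, hs'⟩ := SetLike.not_le_iff_exists.1 hn
    exact b.cardZ ▸ h.par_inj hl hp hs' (fun x hx => ((hX2 x).1 hx).1.1)
      fun x hx => ((hX2 x).1 hx).2 s hs
  have a2 : q * Nat.card X2 ≤ Nat.card ↥(R ⊓ N[P]) := by
    by_cases e : X2 = ⊥
    · rw [e, card_bot, mul_one, ← h.cardZ hp.l2]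
      exact card_le_of_le (le_inf inf_le_left (hc _ _ (h.par_symm hl hp)))
    obtain ⟨⟨x, hx⟩, hx1⟩ := ne_bot_iff_exists_ne_one.1 e
    have hx' := (hX2 x).1 hx
    have := card_le_com (A := P) (y := x) (zz P) hx'.2
    rw [← card_eq_ncard, h.par_cent hl hp hx'.1.1 hx'.1.2 (fun e => hx1 (Subtype.ext e)) le_rfl,
      ← h.par_card hl hp, b.card, b.cardZ, pow_succ'] at this
    have := Nat.le_of_mul_le_mul_left this (by omega)
    nlinarith
  have a3 : q ^ 2 ≤ Nat.card T := by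
    have key : ∀ z ∈ zz P, ∃ s ∈ T, s * s = z := fun z hz => by
      by_cases e : z = 1
      · exact ⟨1, one_mem _, by rw [e, mul_one]⟩
      obtain ⟨s, hs, hs'⟩ := fix_coset (U := R ⊓ N[P]) (B := zz P) (hp.l2.pg.to_le inf_le_left)
        (fun x hx => N_zz hx.2) (S := {s | s ∈ P ∧ s * s = z})
        (fun x hx s hs => ⟨nconj hx.2 hs.1, by
          rw [show x * s * x⁻¹ * (x * s * x⁻¹) = x * (s * s) * x⁻¹ by group, hs.2,
            conj_eq_iff.2 (cZ x hx z hz).symm]⟩)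
        (fun s hs w hw => ⟨P.mul_mem hs.1 hw.1, by
          rw [show s * w * (s * w) = s * (w * s) * w by group, ← hw.2 s hs.1,
            show s * (s * w) * w = s * s * (w * w) by group, hs.2, b.zsq hw, mul_one]⟩)
        (k := q + 1) (by rw [b.cardZ]; exact (h.bs a).card_sq ha' hz e)
        (by have := (h.bs a).two_dvd; omega)
      exact ⟨s, (hT s).2 ⟨hs.1, hs'⟩, hs.2⟩
    choose! f hf hf' using key
    have sqe : ∀ p ∈ (zz P : Set G) ×ˢ (zz P : Set G), f p.1 * p.2 * (f p.1 * p.2) = p.1 :=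
      fun p hp' => by
        rw [show f p.1 * p.2 * (f p.1 * p.2) = f p.1 * (p.2 * f p.1) * p.2 by group,
          ← hp'.2.2 _ ((hT _).1 (hf _ hp'.1)).1, show f p.1 * (f p.1 * p.2) * p.2 =
            f p.1 * f p.1 * (p.2 * p.2) by group, hf' _ hp'.1, b.zsq hp'.2, mul_one]
    have := Set.ncard_le_ncard_of_injOn (s := (zz P : Set G) ×ˢ (zz P : Set G)) (t := T)
      (fun p => f p.1 * p.2) (fun p hp' => mul_mem (hf _ hp'.1) (ZT hp'.2)) fun p hp' r hr e => by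
        have e' : f p.1 * p.2 = f r.1 * r.2 := e
        have e1 : p.1 = r.1 := by rw [← sqe p hp', ← sqe r hr, e']
        rw [e1] at e'
        exact Prod.ext e1 (mul_left_cancel e')
    rwa [Set.ncard_prod, ← card_eq_ncard, ← card_eq_ncard, b.cardZ, ← pow_two] at this
  have a4 : ∀ g ∈ R ⊓ N[P], ∀ s ∈ P, s⁻¹ * (g * s * g⁻¹) ∉ zz P → cm P (zz P) g PZ = T ∧
      s⁻¹ * (g * s * g⁻¹) ∈ T ∧ Nat.card T = q ^ 2 := fun g hg s hs hu => by
    have hu' := P.mul_mem (P.inv_mem hs) (nconj hg.2 hs)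
    have c1 : T ≤ cm P (zz P) g PZ := fun t ht => ⟨((hT t).1 ht).1, ((hT t).1 ht).2 g hg⟩
    have c2 : cm P (zz P) g PZ ≤ P ⊓ C1[s⁻¹ * (g * s * g⁻¹)] := fun t ht => mem_inf.2 ⟨ht.1, by
      have d1 := com_of_sq b.sq hs ht.1
      have d2 := cZ g hg _ d1
      have d3 := ht.2.2 _ (nconj' (le_normalizer ht.1) (P.mul_mem hs hu'))
      have d5 := d1.2 _ hu'
      generalize hw : t⁻¹ * (g * t * g⁻¹) = w at d3
      generalize hv : s⁻¹ * (g * s * g⁻¹) = v at d3 d5 ⊢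
      have e1 : g * t * g⁻¹ = t * w := by rw [← hw]; group
      have e2 : g * s * g⁻¹ = s * v := by rw [← hv]; group
      have e3 : s⁻¹ * t⁻¹ * s * t = (s * v)⁻¹ * w⁻¹ * (t⁻¹ * (s * v) * t * w) := by
        rw [← conj_eq_iff.2 d2.symm, show g * (s⁻¹ * t⁻¹ * s * t) * g⁻¹ = (g * s * g⁻¹)⁻¹ *
          (g * t * g⁻¹)⁻¹ * (g * s * g⁻¹) * (g * t * g⁻¹) by group, e1, e2]; group
      rw [d3] at e3
      have e4 : s⁻¹ * t⁻¹ * s * t * v = s⁻¹ * t⁻¹ * s * (v * t) := by rw [← d5, e3]; group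
      rw [mul_assoc _ t] at e4
      exact memC1.2 (mul_left_cancel e4)⟩
    have c3 := b.ub rfl _ hu' hu
    have c4 := eq_of_le_of_card_ge (c1.trans c2) (c3.trans a3)
    exact ⟨le_antisymm (c4 ▸ c2) c1, c4 ▸ mem_inf.2 ⟨hu', memC1.2 rfl⟩,
      le_antisymm (c4 ▸ c3) a3⟩
  have a5 : ∀ g ∈ R ⊓ N[P], g ∉ X2 → cm P (zz P) g PZ = T ∧ Nat.card T = q ^ 2 := fun g hg hg' => by
    obtain ⟨s, hs, hu⟩ : ∃ s ∈ P, s⁻¹ * (g * s * g⁻¹) ∉ zz P := by
      by_contra hc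
      push Not at hc
      exact hg' ((hX2 g).2 ⟨hg, hc⟩)
    exact ⟨(a4 g hg s hs hu).1, (a4 g hg s hs hu).2.2⟩
  have p2 : 0 < Nat.card X2 := Nat.card_pos
  have a6 : Nat.card T = q ^ 2 := by
    by_contra e
    have := card_le_of_le (show R ⊓ N[P] ≤ X2 from fun g hg => by_contra fun hg' => e (a5 g hg hg').2)
    nlinarith
  have a7 : ∀ v ∈ P, v ∉ T → ∀ w ∈ T, v⁻¹ * w * v = w⁻¹ := fun v hv hv' w hw => by
    have c1 := ncard_le_fib (((R ⊓ N[P] : Subgroup G) : Set G) ×ˢ (zz P : Set G))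
      ((fun p : G × G => v⁻¹ * (p.1 * v * p.1⁻¹) * p.2) '' (((R ⊓ N[P] : Subgroup G) : Set G) ×ˢ
        (zz P : Set G))) (X2 : Set G) _ (fun p hp' => Set.mem_image_of_mem _ hp')
      (fun p r => p.1⁻¹ * r.1) (fun p hp' r hr e => by
        by_contra hg
        have e' : v⁻¹ * (r.1 * v * r.1⁻¹) * r.2 = v⁻¹ * (p.1 * v * p.1⁻¹) * p.2 := e
        refine hv' ((a5 _ (mul_mem (inv_mem hp'.1) hr.1) hg).1.le ⟨hv, ?_⟩)
        have := nconj' (N_zz hp'.1.2) (mul_mem hp'.2 (inv_mem hr.2))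
        rw [show v⁻¹ * (p.1⁻¹ * r.1 * v * (p.1⁻¹ * r.1)⁻¹) =
          v⁻¹ * p.1⁻¹ * v * (v⁻¹ * (r.1 * v * r.1⁻¹) * r.2) * r.2⁻¹ * p.1 by group, e']
        convert this using 1; group)
      (fun p _ r _ r' _ e e' e'' => by
        have e1 : r.1 = r'.1 := mul_left_cancel e''
        have e2 : v⁻¹ * (r.1 * v * r.1⁻¹) * r.2 = v⁻¹ * (r'.1 * v * r'.1⁻¹) * r'.2 := e.trans e'.symm
        rw [e1] at e2
        exact Prod.ext e1 (mul_left_cancel e2))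
    rw [Set.ncard_prod, ← card_eq_ncard, ← card_eq_ncard, ← card_eq_ncard, b.cardZ] at c1
    obtain ⟨p, hp', e⟩ := (Set.eq_of_subset_of_ncard_le (t := (T : Set G)) (by
      rintro _ ⟨p, hp', rfl⟩
      refine mul_mem ?_ (ZT hp'.2)
      by_cases e : v⁻¹ * (p.1 * v * p.1⁻¹) ∈ zz P
      · exact ZT e
      · exact (a4 _ hp'.1 v hv e).2.1)
      (Nat.le_of_mul_le_mul_right (le_trans (by rw [← card_eq_ncard, a6]; nlinarith) c1) p2)).ge hw
    have e1 : v * w = p.1 * v * p.1⁻¹ * p.2 := by rw [← e]; group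
    have e2 := hp'.2.2 _ (nconj hp'.1.2 hv)
    have e3 : v * w * (v * w) = v * v := by
      calc _ = p.1 * v * p.1⁻¹ * (p.2 * (p.1 * v * p.1⁻¹)) * p.2 := by rw [e1]; group
        _ = p.1 * (v * v) * p.1⁻¹ * (p.2 * p.2) := by rw [← e2]; group
        _ = _ := by rw [b.zsq hp'.2, mul_one, conj_eq_iff.2 (cZ _ hp'.1 _ (b.sq v hv)).symm]
    calc _ = v⁻¹ * v⁻¹ * (v * w * (v * w)) * w⁻¹ := by group
      _ = _ := by rw [e3]; group
  have TP : T ≤ P := fun t ht => ((hT t).1 ht).1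
  have a8 : T ≤ zz P := fun w hw => by
    by_contra hw'
    have := card_le_two_mul_of_mul_mem TP fun v hv v' hv' c1 c2 => by_contra fun c3 => hw'
      ((b.om w (TP hw)).1 (by
        have := a7 _ (P.mul_mem hv hv') c3 w hw
        rw [show (v * v')⁻¹ * w * (v * v') = v'⁻¹ * (v⁻¹ * w * v) * v' by group, a7 v hv c1 w hw,
          a7 v' hv' c2 _ (inv_mem hw), inv_inv] at this
        exact mul_eq_one_iff_eq_inv.2 this))
    rw [a6, b.card] at this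
    nlinarith
  have := card_le_of_le a8
  rw [a6, b.cardZ] at this
  nlinarith

end Cfsg.Agent.H76.HB
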