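import Cfsg.Agent.H76.UJordAux
import Cfsg.Agent.H76.ClassNum

/-!
# Conjugacy classes modulo a central subgroup; data fixed by a twist
-/

set_option autoImplicit false

namespace Cfsg.Agent.H76

open Finset

universe u v w

section Burnside

theorem burnside {Z X Y : Type*} [Group Z] [Fintype Z] [Finite X] [MulAction Z X] (π : X → Y)
    (hπ : Function.Surjective π) (h : ∀ x x', π x = π x' ↔ ∃ z : Z, z • x' = x) :
    Nat.card Z * Nat.card Y = ∑ z : Z, Nat.card {x : X // z • x = x} := by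
  have E : Quotient (MulAction.orbitRel Z X) ≃ Y := Equiv.ofBijective
    (Quotient.lift π fun a b hab => (h a b).2 hab) ⟨by
      rintro ⟨a⟩ ⟨b⟩ hab
      exact Quotient.sound ((h a b).1 hab), by
      intro y
      obtain ⟨x, rfl⟩ := hπ y
      exact ⟨Quotient.mk _ x, rfl⟩⟩
  have := Nat.card_congr (MulAction.sigmaFixedByEquivOrbitsProdGroup Z X)
  rw [Nat.card_sigma, Nat.card_prod, Nat.card_congr E, mul_comm] at this
  exact this.symm

variable {H : Type*} [Group H]

theorem isConj_mul_left {z x y : H} (hz : z ∈ Subgroup.center H) (h : IsConj x y) :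
    IsConj (z * x) (z * y) := by
  obtain ⟨c, rfl⟩ := isConj_iff.1 h
  exact isConj_iff.2 ⟨c, by
    rw [← mul_assoc c, Subgroup.mem_center_iff.1 hz c]; simp only [mul_assoc]⟩

/-- A central subgroup acts on the conjugacy classes. -/
@[reducible] def centralAction (Z : Subgroup H) (hZ : Z ≤ Subgroup.center H) :
    MulAction Z (ConjClasses H) where
  smul z := Quotient.map' (fun x => z * x) fun _ _ h => isConj_mul_left (hZ z.2) h
  one_smul := by
    rintro ⟨x⟩
    exact congrArg ConjClasses.mk (one_mul x)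
  mul_smul := by
    rintro a b ⟨x⟩
    exact congrArg ConjClasses.mk (mul_assoc a.1 b.1 x)

theorem isConj_mk_iff {Z : Subgroup H} [Z.Normal] (hZ : Z ≤ Subgroup.center H) (x y : H) :
    IsConj (x : H ⧸ Z) (y : H ⧸ Z) ↔ ∃ z : Z, IsConj (z * y) x := by
  constructor
  · intro h
    obtain ⟨c, hc⟩ := isConj_iff.1 h
    obtain ⟨c, rfl⟩ := QuotientGroup.mk_surjective c
    rw [← QuotientGroup.mk_inv, ← QuotientGroup.mk_mul, ← QuotientGroup.mk_mul, eq_comm,
      QuotientGroup.eq] at hc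
    refine ⟨⟨_, hc⟩, IsConj.symm (isConj_iff.2 ⟨c, ?_⟩)⟩
    rw [← Subgroup.mem_center_iff.1 (hZ hc) y, mul_inv_cancel_left]
  · rintro ⟨z, hz⟩
    have := (QuotientGroup.mk' Z).map_isConj hz.symm
    rwa [map_mul, QuotientGroup.mk'_apply, QuotientGroup.mk'_apply, QuotientGroup.mk'_apply,
      (QuotientGroup.eq_one_iff z.1).2 z.2, one_mul] at this

theorem card_mul_card_classes_quot [Finite H] (Z : Subgroup H) [Z.Normal] [Fintype Z]
    (hZ : Z ≤ Subgroup.center H) (P : H ⧸ Z → Prop) (hP : ∀ g g', IsConj g g' → P g → P g') :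
    Nat.card Z * Nat.card {C : ConjClasses (H ⧸ Z) // ∃ g, ConjClasses.mk g = C ∧ P g} =
      ∑ z : Z, Nat.card {C : ConjClasses H //
        ∃ y, ConjClasses.mk y = C ∧ (P y ∧ IsConj (z * y) y)} := by
  let _ := centralAction Z hZ
  have hs : ∀ (z : Z) (x : H), z • ConjClasses.mk x = ConjClasses.mk (z * x) := fun _ _ => rfl
  let S : SubMulAction Z (ConjClasses H) :=
    { carrier := {C | ∃ y, ConjClasses.mk y = C ∧ P y}
      smul_mem' := by
        rintro z _ ⟨y, rfl, hy⟩
        exact ⟨z * y, rfl, by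
          rwa [QuotientGroup.mk_mul, (QuotientGroup.eq_one_iff z.1).2 z.2, one_mul]⟩ }
  rw [burnside (Z := Z) (X := S) (fun C => ⟨ConjClasses.map (QuotientGroup.mk' Z) C.1, by
    obtain ⟨y, hy, h⟩ := C.2
    exact ⟨y, hy ▸ rfl, h⟩⟩) ?_ ?_]
  · refine sum_congr rfl fun z _ => Nat.card_congr
      ((Equiv.subtypeEquivRight fun C => ?_).trans
        (Equiv.subtypeSubtypeEquivSubtypeInter (· ∈ S) fun C => z • C = C) |>.trans
        (Equiv.subtypeEquivRight fun C => ?_))
    · exact Subtype.ext_iff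
    · constructor
      · rintro ⟨⟨y, rfl, hy⟩, h⟩
        exact ⟨y, rfl, hy, ConjClasses.mk_eq_mk_iff_isConj.1 h⟩
      · rintro ⟨y, rfl, hy, h⟩
        exact ⟨⟨y, rfl, hy⟩, ConjClasses.mk_eq_mk_iff_isConj.2 h⟩
  · rintro ⟨_, g, rfl, hg⟩
    obtain ⟨y, rfl⟩ := QuotientGroup.mk_surjective g
    exact ⟨⟨ConjClasses.mk y, y, rfl, hg⟩, rfl⟩
  · rintro ⟨_, x, rfl, hx⟩ ⟨_, y, rfl, hy⟩
    simp only [Subtype.ext_iff]
    refine (ConjClasses.mk_eq_mk_iff_isConj.trans (isConj_mk_iff hZ x y)).trans ?_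
    exact exists_congr fun z => ConjClasses.mk_eq_mk_iff_isConj.symm

end Burnside

section Descend

variable {L : Type w} [Field L] {Q : ℤ} {n : ℕ}

theorem iterate_twist {A : Type*} [CommGroup A] (b : A) (x : A × ℕ) (i : ℕ) :
    (fun y : A × ℕ => (b * y.1, y.2))^[i] x = (b ^ i * x.1, x.2) := by
  induction i with
  | zero => simp
  | succ i ih => rw [Function.iterate_succ_apply', ih, pow_succ', mul_assoc]

open Classical in
theorem exists_descend {b : Lˣ} {k : ℕ} (hk : 0 < k) (hb : orderOf b = k)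
    {s : Multiset (Lˣ × ℕ)} (hs : twist b s = s) : ∃ s' : Multiset (Lˣ × ℕ),
      k • s' = dpow k s ∧ ddet s = (∏ i ∈ range k, b ^ i) ^ wt s' * ddet s' ∧
      ∀ x : Lˣ × ℕ, s.count x = s'.count (x.1 ^ k, x.2) := by
  induction h : Multiset.card s using Nat.strong_induction_on generalizing s with
  | _ m ih =>
    rcases eq_or_ne s 0 with rfl | h0
    · exact ⟨0, by simp [dpow], by simp, by simp⟩
    obtain ⟨x, hx⟩ := Multiset.exists_mem_of_ne_zero h0
    obtain ⟨D, t, hD, h1, h2, h3⟩ := exists_morb_add hs hx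
    have hbk : b ^ k = 1 := hb ▸ pow_orderOf_eq_one b
    have hbi : ∀ i, (b ^ i) ^ k = 1 := fun i => by rw [← pow_mul, mul_comm, pow_mul, hbk, one_pow]
    obtain rfl : D = k := by
      simp only [iterate_twist, Prod.ext_iff, and_true, mul_eq_right, ← orderOf_dvd_iff_pow_eq_one,
        hb] at h1
      exact Nat.dvd_antisymm ((h1 k).1 dvd_rfl) ((h1 D).2 dvd_rfl)
    obtain ⟨t', a1, a2, a3⟩ := ih (Multiset.card t) (by
      rw [← h, h2, Multiset.card_add, morb, Multiset.card_map, Multiset.card_range]; omega) h3 rfl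
    have h4 : morb (fun y : Lˣ × ℕ => (b * y.1, y.2)) x D =
        (Multiset.range D).map fun i => (b ^ i * x.1, x.2) := by
      simp only [morb, iterate_twist]
    refine ⟨{(x.1 ^ D, x.2)} + t', ?_, ?_, fun y => ?_⟩
    · rw [h2, h4, smul_add, a1, dpow, dpow, Multiset.map_add, Multiset.map_map,
        Multiset.nsmul_singleton]
      congr 1
      refine (Multiset.eq_replicate.2 ⟨by simp, fun y hy => ?_⟩).symm
      obtain ⟨i, -, rfl⟩ := Multiset.mem_map.1 hy
      simp [mul_pow, hbi]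
    · rw [h2, h4, ddet_add, ddet_add, a2, wt_add, pow_add, mul_mul_mul_comm]
      congr 1
      rw [ddet, Multiset.map_map, ← range_val, ← prod_eq_multiset_prod]
      simp only [Function.comp_def, mul_pow, prod_mul_distrib, prod_pow, prod_const, card_range,
        wt_singleton, ddet_singleton]
    · rw [h2, Multiset.count_add, Multiset.count_add, a3, h4]
      congr 1
      have h5 : ((Multiset.range D).map fun i => (b ^ i * x.1, x.2)).Nodup :=
        (Multiset.nodup_range D).map_on fun i hi j hj hij => pow_injOn_Iio_orderOf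
          (by simpa [hb] using hi) (by simpa [hb] using hj)
          (mul_right_cancel (congrArg Prod.fst hij))
      rw [Multiset.count_singleton, Multiset.count_eq_of_nodup h5]
      refine if_congr ⟨fun hy => ?_, fun hy => ?_⟩ rfl rfl
      · obtain ⟨i, -, rfl⟩ := Multiset.mem_map.1 hy
        simp [mul_pow, hbi]
      · obtain ⟨hy1, hy2⟩ := Prod.ext_iff.1 hy
        obtain ⟨j, hj⟩ := exists_pow_eq_of_pow_orderOf (γ := b) (α := y.1 * x.1⁻¹) (hb ▸ hk)
          (by rw [hb, mul_pow, inv_pow, mul_inv_eq_one]; exact hy1)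
        refine Multiset.mem_map.2 ⟨j % D, Multiset.mem_range.2 (Nat.mod_lt _ hk),
          Prod.ext ?_ hy2.symm⟩
        rw [← hb, pow_mod_orderOf, ← hj, inv_mul_cancel_right]

theorem adm_of_descend {A : Type*} [CommGroup A] {k : ℕ} (hk : 0 < k) {s s' : Multiset (A × ℕ)}
    (hs : Adm Q n s) (h : k • s' = dpow k s) : Adm Q (n / k) s' ∧ gsz s' = gsz s ∧ k ∣ n := by
  classical
  have h1 := hs.dpow k
  rw [← h] at h1
  have h2 : k * wt s' = n := by
    rw [← h1.wt_eq, wt, wt, Multiset.map_nsmul, Multiset.sum_nsmul, smul_eq_mul]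
  refine ⟨⟨fun x hx => h1.pos x ((Multiset.mem_nsmul_of_ne_zero hk.ne').2 hx), ?_,
    (Nat.div_eq_of_eq_mul_right hk h2.symm).symm⟩, ?_, ⟨_, h2.symm⟩⟩
  · have h3 := h1.stab
    rw [Multiset.map_nsmul] at h3
    ext x
    have := congrArg (Multiset.count x) h3
    rw [Multiset.count_nsmul, Multiset.count_nsmul] at this
    exact Nat.eq_of_mul_eq_mul_left hk this
  · refine eq_of_forall_dvd' fun d => ?_
    rw [dvd_gsz, dvd_gsz]
    constructor
    · intro h3 x hx
      exact h3 (x.1 ^ (k : ℤ), x.2) ((Multiset.mem_nsmul_of_ne_zero hk.ne').1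
        (h ▸ Multiset.mem_map_of_mem _ hx))
    · intro h3 x hx
      obtain ⟨y, hy, rfl⟩ := Multiset.mem_map.1
        (show x ∈ dpow k s from h ▸ (Multiset.mem_nsmul_of_ne_zero hk.ne').2 hx)
      exact h3 y hy

variable [IsAlgClosed L] {p : ℕ} [hp : Fact p.Prime] [CharP L p] {q : ℕ}

theorem GoodQ.mul_sum_twist_le (h : GoodQ L Q q) (hq : 0 < q) (hQ : (p : ℤ) ∣ Q) (hn : 0 < n)
    {b : Lˣ} {k : ℕ} (hk : 0 < k) (hb : orderOf b = k) (hkn : k ∣ n)
    (S : Finset (Multiset (Lˣ × ℕ))) (hS : ∀ s ∈ S, Adm Q n s ∧ ddet s = 1 ∧ twist b s = s) :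
    ((Q - 1).natAbs : ℚ) * ∑ s ∈ S, (Nat.gcd (gsz s) (Q - 1).natAbs : ℚ) ≤
      slBd q (Q - 1).natAbs (n / k) := by
  classical
  have key : ∀ s : Multiset (Lˣ × ℕ), ∃ s' : Multiset (Lˣ × ℕ), twist b s = s →
      (k • s' = dpow k s ∧ ddet s = (∏ i ∈ range k, b ^ i) ^ wt s' * ddet s' ∧
      ∀ x : Lˣ × ℕ, s.count x = s'.count (x.1 ^ k, x.2)) := fun s => by
    by_cases hs : twist b s = s
    · exact (exists_descend hk hb hs).imp fun _ h _ => h
    · exact ⟨0, fun h => absurd h hs⟩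
  choose f hf using key
  refine le_trans (le_of_eq ?_) (h.mul_sum_le hq hQ (Nat.div_pos (Nat.le_of_dvd hn hkn) hk)
    ((∏ i ∈ range k, b ^ i) ^ (n / k))⁻¹ (S.image f) fun s' hs' => ?_)
  · rw [sum_image fun s hs t ht hst => ?_]
    · congr 1
      exact sum_congr rfl fun s hs => by
        rw [(adm_of_descend hk (hS s hs).1 (hf s (hS s hs).2.2).1).2.1]
    · ext x
      rw [(hf s (hS s hs).2.2).2.2, (hf t (hS t ht).2.2).2.2, hst]
  · obtain ⟨s, hs, rfl⟩ := mem_image.1 hs'
    obtain ⟨h1, h2, h3⟩ := hS s hs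
    have h4 := (adm_of_descend hk h1 (hf s h3).1).1
    refine ⟨h4, eq_inv_of_mul_eq_one_right ?_⟩
    rw [← h2, (hf s h3).2.1, h4.wt_eq]

end Descend

end Cfsg.Agent.H76
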