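import Cfsg.Agent.H76.OCount
import Cfsg.Agent.H76.ProjClass

/-! Class numbers of subgroups of index two. -/

namespace Cfsg.Agent.H76

variable {H : Type*} [Group H] [Finite H]

theorem card_mul_card_classes (P : H → Prop) (hP : ∀ c x, P x → P (c * x * c⁻¹)) :
    Nat.card H * Nat.card {C : ConjClasses H // ∃ g, ConjClasses.mk g = C ∧ P g} =
      Nat.card {p : H × H // P p.1 ∧ Commute p.1 p.2} := by
  have := Fintype.ofFinite H
  let _ : MulAction H {x // P x} :=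
    { smul c x := ⟨c * x * c⁻¹, hP c x x.2⟩
      one_smul x := Subtype.ext (show 1 * x.1 * 1⁻¹ = x by simp)
      mul_smul a b x := Subtype.ext (show a * b * x.1 * (a * b)⁻¹ = a * (b * x.1 * b⁻¹) * a⁻¹ by
        group) }
  rw [burnside (Z := H) (X := {x // P x}) (fun x => ⟨ConjClasses.mk x.1, x.1, rfl, x.2⟩)
    (by rintro ⟨_, g, rfl, hg⟩; exact ⟨⟨g, hg⟩, rfl⟩) fun x y => by
      rw [Subtype.mk.injEq, eq_comm, ConjClasses.mk_eq_mk_iff_isConj, isConj_iff]
      exact exists_congr fun c => ⟨fun h => Subtype.ext h, fun h => congrArg Subtype.val h⟩,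
    ← Nat.card_sigma]
  exact Nat.card_congr
    { toFun x := ⟨(x.2.1.1, x.1), x.2.1.2, (mul_inv_eq_iff_eq_mul.1 (congrArg Subtype.val x.2.2)).symm⟩
      invFun x := ⟨x.1.2, ⟨x.1.1, x.2.1⟩, Subtype.ext (mul_inv_eq_iff_eq_mul.2 x.2.2.symm)⟩
      left_inv _ := rfl
      right_inv _ := rfl }

theorem card_classes_add_le (N : Subgroup H) [hN : N.Normal]
    (h : ∀ x y, x ∉ N → y ∉ N → x * y ∈ N) :
    Nat.card (ConjClasses N) + Nat.card {C : ConjClasses H // ∃ g, ConjClasses.mk g = C ∧ g ∉ N} ≤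
      2 * Nat.card {C : ConjClasses H // ∃ g, ConjClasses.mk g = C ∧ g ∈ N} := by
  have h1 := card_mul_card_classes (· ∈ N) fun c x hx => hN.conj_mem x hx c
  have h2 := card_mul_card_classes (· ∉ N) fun c x hx hx' => hx (by
    simpa [mul_assoc] using hN.conj_mem _ hx' c⁻¹)
  have h3 := card_and_add (fun p : H × H => p.1 ∈ N ∧ Commute p.1 p.2) fun p => p.2 ∈ N
  have h4 := card_and_add (fun p : H × H => p.1 ∉ N ∧ Commute p.1 p.2) fun p => p.2 ∈ N
  have h5 := card_le_of_map (A := fun p : H × H => (p.1 ∉ N ∧ Commute p.1 p.2) ∧ p.2 ∉ N)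
    (B := fun p : H × H => (p.1 ∈ N ∧ Commute p.1 p.2) ∧ p.2 ∉ N) (fun p => (p.1 * p.2, p.2))
    (fun p hp => ⟨⟨h _ _ hp.1.1 hp.2, hp.1.2.mul_left (Commute.refl _)⟩, hp.2⟩)
    fun p p' _ _ h => by
      obtain ⟨k1, k2⟩ := Prod.mk.inj h
      exact Prod.ext (mul_right_cancel (k1.trans (by rw [k2]))) k2
  have h6 := card_le_of_map (A := fun p : H × H => (p.1 ∉ N ∧ Commute p.1 p.2) ∧ p.2 ∈ N)
    (B := fun p : H × H => (p.1 ∈ N ∧ Commute p.1 p.2) ∧ p.2 ∉ N) Prod.swap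
    (fun p hp => ⟨⟨hp.2, hp.1.2.symm⟩, hp.1.1⟩) fun p p' _ _ h => Prod.swap_injective h
  have h7 : Nat.card (ConjClasses N) * Nat.card N ≤
      Nat.card {p : H × H // (p.1 ∈ N ∧ Commute p.1 p.2) ∧ p.2 ∈ N} := by
    rw [← card_comm_eq_card_conjClasses_mul_card]
    exact card_le_of_map (fun p => (p.1, p.2))
      (fun p hp => ⟨⟨p.1.2, congrArg Subtype.val hp⟩, p.2.2⟩) fun p p' _ _ h =>
        Prod.ext (Subtype.ext (Prod.mk.inj h).1) (Subtype.ext (Prod.mk.inj h).2)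
  have h8 : Nat.card H ≤ 2 * Nat.card N := by
    have k1 := card_and_add (fun _ : H => True) (· ∈ N)
    simp only [true_and, Nat.card_congr (Equiv.subtypeUnivEquiv fun _ : H => trivial)] at k1
    by_cases k2 : ∃ x, x ∉ N
    · obtain ⟨x, hx⟩ := k2
      have := card_le_of_map (A := (· ∉ N)) (B := (· ∈ N)) (x * ·) (fun y hy => h x y hx hy)
        fun _ _ _ _ h => mul_left_cancel h
      omega
    · have : IsEmpty {x // x ∉ N} := ⟨fun x => k2 ⟨x.1, x.2⟩⟩
      rw [Nat.card_of_isEmpty (α := {x // x ∉ N})] at k1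
      omega
  refine Nat.le_of_mul_le_mul_left ?_ (Nat.card_pos (α := H))
  have := Nat.mul_le_mul_right (Nat.card (ConjClasses N)) h8
  rw [mul_add, mul_left_comm, h1, h2]
  nlinarith

end Cfsg.Agent.H76
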