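import Cfsg.Agent.H40.L3K0

/-! Project L33, piece X1: the element `x` of the case `t ∼ tβ`. -/

set_option autoImplicit false
set_option linter.unusedSectionVars false

noncomputable section

namespace Cfsg.Agent.H76.L3X1

open Subgroup Cfsg.Agent.H83 Cfsg.Agent.H40.L3

universe u
variable {G : Type u} [Group G] [Finite G] (D : D1 G false)

theorem pmap (H : Subgroup N) : IsPGroup 2 (H.map D.ι) :=
  ((IsPGroup.of_card (n := 6) (by rw [N.card_all]; norm_num) : IsPGroup 2 N).to_subgroup H).map _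

theorem norm_of {H : Subgroup N} {g : G} (h : ∀ m ∈ H, ∃ n ∈ H, g * D.ι m * g⁻¹ = D.ι n) :
    g ∈ normalizer (H.map D.ι : Set G) := by
  refine mem_normalizer_fintype ?_
  rintro _ ⟨m, hm, rfl⟩
  obtain ⟨n, hn, e⟩ := h m hm
  exact ⟨n, hn, e.symm⟩

variable {D} in
theorem cjm {k : G} {m n m' n' : N} (a : k * D.ι m * k⁻¹ = D.ι n) (b : k * D.ι m' * k⁻¹ = D.ι n') :
    k * D.ι (m * m') * k⁻¹ = D.ι (n * n') := by
  rw [map_mul, map_mul, ← a, ← b]; group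

variable {D} in
theorem cje {k : G} {m n m' n' : N} (a : k * D.ι m * k⁻¹ = D.ι n) (b : k * D.ι m' * k⁻¹ = D.ι n') :
    m = m' ↔ n = n' := by
  rw [← D.inj.eq_iff, ← D.inj.eq_iff (a := n), ← a, ← b]
  simp

variable {D} in
theorem cj1 {k : G} {m : N} (h : k * D.ι m = D.ι m * k) : k * D.ι m * k⁻¹ = D.ι m := by
  rw [h]; group

theorem cj0 (k : G) : k * D.ι 1 * k⁻¹ = D.ι 1 := by simp

theorem memV : ∀ v ∈ N.sV false, v = 1 ∨ v = .Z ∨ v = .C ∨ v = .C * .Z := by decide +kernel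

theorem rz : D.ρ * D.ι .Z * D.ρ⁻¹ = D.ι .C := D.ρz
theorem ra : D.ρ * D.ι .C * D.ρ⁻¹ = D.ι (.C * .Z) := D.ρa
theorem raz : D.ρ * D.ι (.C * .Z) * D.ρ⁻¹ = D.ι .Z := by
  rw [cjm (ra D) (rz D), show (.C * .Z * .C : N) = .Z by decide +kernel]

theorem nct {v : N} (hv : v ∈ N.sV false) : ¬ IsConj (D.ι v) (D.ι .T) := by
  have c1 : IsConj (D.ι .Z) (D.ι .C) := isConj_iff.2 ⟨_, rz D⟩
  have c2 : IsConj (D.ι .C) (D.ι (.C * .Z)) := isConj_iff.2 ⟨_, ra D⟩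
  rcases memV v hv with rfl | rfl | rfl | rfl
  · rw [map_one, isConj_one_right, ← map_one D.ι, D.inj.eq_iff]; decide +kernel
  · exact D.nz
  · exact fun h => D.nz (c1.trans h)
  · exact fun h => D.nz ((c1.trans c2).trans h)

theorem ctV {v : N} (hv : v ∈ N.sV false) : IsConj (D.ι (.T * v)) (D.ι .T) := by
  have c0 : IsConj (D.ι .T) (D.ι (.T * .Z)) := isConj_iff.2 ⟨D.ι .B, by
    simp only [← map_mul, ← map_inv, D.inj.eq_iff]; decide +kernel⟩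
  have c1 : IsConj (D.ι (.T * .Z)) (D.ι (.T * .C)) := isConj_iff.2 ⟨_, cjm (cj1 D.ρt) (rz D)⟩
  have c2 : IsConj (D.ι (.T * .C)) (D.ι (.T * (.C * .Z))) := isConj_iff.2 ⟨_, cjm (cj1 D.ρt) (ra D)⟩
  rcases memV v hv with rfl | rfl | rfl | rfl
  · rw [mul_one]
  · exact c0.symm
  · exact (c0.trans c1).symm
  · exact ((c0.trans c1).trans c2).symm

theorem not_sq {x : G} (h : IsConj (x * x) (D.ι .T)) : False := by
  obtain ⟨c, hc⟩ := isConj_iff.1 h.symm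
  have t2 : D.ι .T * D.ι .T = 1 := by
    rw [← map_mul, ← map_one D.ι, D.inj.eq_iff]; decide +kernel
  have h4 : x ^ 2 ^ 2 = 1 := by
    calc x ^ 2 ^ 2 = x * x * (x * x) := by norm_num [pow_succ, mul_assoc]
      _ = c * (D.ι .T * D.ι .T) * c⁻¹ := by rw [← hc]; group
      _ = 1 := by rw [t2]; group
  obtain ⟨g, h1, h2⟩ := extr_gen D.syl h (isPGroup_zpowers h4) fun y hy => by
    obtain ⟨k, rfl⟩ := hy
    show x ^ k * (x * x) = x * x * x ^ k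
    group
  obtain ⟨m, -, e⟩ := h2 x (mem_zpowers x)
  have : D.ι (m * m) = D.ι .T := by rw [map_mul, e, ← h1]; group
  have key : ∀ m : N, m * m ≠ .T := by decide +kernel
  exact key m (D.inj this)

theorem comV {y : G} (hz : y * D.ι .Z = D.ι .Z * y) (ha : y * D.ι .C = D.ι .C * y) {v : N}
    (hv : v ∈ N.sV false) : y * D.ι v = D.ι v * y := by
  rcases memV v hv with rfl | rfl | rfl | rfl
  · simp
  · exact hz
  · exact ha
  · exact mul_inv_eq_iff_eq_mul.1 (cjm (cj1 ha) (cj1 hz))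

/-- a 2-element centralizing `V` and a conjugate `t'` of `t` in `C(V)` lies in `⟨t', V⟩` -/
theorem cen {t' y : G} (h : IsConj t' (D.ι .T)) {k : ℕ} (hk : y ^ 2 ^ k = 1) (ht : y * t' = t' * y)
    (hy : ∀ v ∈ N.sV false, y * D.ι v = D.ι v * y) (h' : ∀ v ∈ N.sV false, t' * D.ι v = D.ι v * t') :
    ∃ v ∈ N.sV false, y = D.ι v ∨ y = t' * D.ι v := by
  have zV : (.Z : N) ∈ N.sV false := by decide +kernel
  have aV : (.C : N) ∈ N.sV false := by decide +kernel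
  obtain ⟨g, h1, h2⟩ := extr_gen D.syl h (P := zpowers y ⊔ (N.sV false).map D.ι)
    (isPGroup_sup (isPGroup_zpowers hk) (pmap D _)
      (zpowers_le.2 (norm_of D fun m hm => ⟨m, hm, cj1 (hy m hm)⟩))) fun x hx =>
    mem_centralizer_singleton_iff.1 ((sup_le (zpowers_le.2 (mem_centralizer_singleton_iff.2 ht))
      (by rintro _ ⟨m, hm, rfl⟩; exact mem_centralizer_singleton_iff.2 (h' m hm).symm) :
        _ ≤ centralizer {t'}) hx)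
  obtain ⟨m1, a1, e1⟩ := h2 _ (mem_sup_right ⟨_, zV, rfl⟩)
  obtain ⟨m2, a2, e2⟩ := h2 _ (mem_sup_right ⟨_, aV, rfl⟩)
  obtain ⟨n, a3, e3⟩ := h2 _ (mem_sup_left (mem_zpowers y))
  have key : ∀ m1 ∈ N.sS, m1 * m1 = 1 → m1 ≠ 1 → m1 ≠ .T → ∀ m2 ∈ N.sS, m2 * m2 = 1 → m2 ≠ 1 →
      m2 ≠ .T → m2 * m1 = m1 * m2 → m2 * m1 ≠ 1 → m2 * m1 ≠ .T → ∀ n ∈ N.sS, n * m1 = m1 * n →
      n * m2 = m2 * n → n = 1 ∨ n = m1 ∨ n = m2 ∨ n = m2 * m1 ∨ n = .T * 1 ∨ n = .T * m1 ∨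
        n = .T * m2 ∨ n = .T * (m2 * m1) := by decide +kernel
  have e1 := e1.symm
  have e2 := e2.symm
  have e12 := cjm e2 e1
  have nt : ∀ {v m : N}, v ∈ N.sV false → g * D.ι v * g⁻¹ = D.ι m → m ≠ .T := fun hv e hm =>
    nct D hv (isConj_iff.2 ⟨g, hm ▸ e⟩)
  have cm : ∀ {v m : N}, v ∈ N.sV false → g * D.ι v * g⁻¹ = D.ι m → n * m = m * n := fun {v m} hv e =>
    D.inj (by
      rw [map_mul, map_mul, e3, ← e]
      calc _ = g * (y * D.ι v) * g⁻¹ := by group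
        _ = _ := by rw [hy _ hv]; group)
  have f1 : ∀ {v m : N}, g * D.ι v * g⁻¹ = D.ι m → n = m → y = D.ι v := fun e hm => by
    rw [← hm, e3] at e; simpa using e.symm
  have f2 : ∀ {v m : N}, g * D.ι v * g⁻¹ = D.ι m → n = .T * m → y = t' * D.ι v := fun e hm => by
    rw [hm, map_mul, ← e, ← h1] at e3
    calc y = g⁻¹ * (g * y * g⁻¹) * g := by group
      _ = _ := by rw [← e3]; group
  rcases key m1 a1 ((cje (cjm e1 e1) (cj0 D g)).1 (by decide +kernel))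
    ((cje e1 (cj0 D g)).not.1 (by decide +kernel)) (nt zV e1) m2 a2
    ((cje (cjm e2 e2) (cj0 D g)).1 (by decide +kernel)) ((cje e2 (cj0 D g)).not.1 (by decide +kernel))
    (nt aV e2) ((cje e12 (cjm e1 e2)).1 (by decide +kernel))
    ((cje e12 (cj0 D g)).not.1 (by decide +kernel)) (nt (mul_mem aV zV) e12) n a3 (cm zV e1) (cm aV e2)
    with k | k | k | k | k | k | k | k
  · exact ⟨1, one_mem _, Or.inl (f1 (cj0 D g) k)⟩
  · exact ⟨_, zV, Or.inl (f1 e1 k)⟩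
  · exact ⟨_, aV, Or.inl (f1 e2 k)⟩
  · exact ⟨_, mul_mem aV zV, Or.inl (f1 e12 k)⟩
  · exact ⟨1, one_mem _, Or.inr (f2 (cj0 D g) k)⟩
  · exact ⟨_, zV, Or.inr (f2 e1 k)⟩
  · exact ⟨_, aV, Or.inr (f2 e2 k)⟩
  · exact ⟨_, mul_mem aV zV, Or.inr (f2 e12 k)⟩

/-- the 2-group `X` with its automorphism `r` of order 3 on `V` -/
structure XD where
  X : Subgroup G
  r : G
  v0 : N
  p : IsPGroup 2 X
  cV : ∀ y ∈ X, ∀ v ∈ N.sV false, y * D.ι v = D.ι v * y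
  act : ∀ y ∈ X, ∃ v ∈ N.sV false, y * D.ι .T * y⁻¹ = D.ι (.T * v)
  tX : D.ι .T ∈ X
  bX : D.ι .B ∈ X
  wn : ∀ y ∈ X, D.ι .W * y * (D.ι .W)⁻¹ ∈ X
  rn : ∀ y ∈ X, r * y * r⁻¹ ∈ X
  rz : r * D.ι .Z * r⁻¹ = D.ι .C
  ra : r * D.ι .C * r⁻¹ = D.ι (.C * .Z)
  v0V : v0 ∈ N.sV false
  rt : r * D.ι .T * r⁻¹ = D.ι (.T * v0)

theorem exists_XD : Nonempty (XD D) := by
  set E : Subgroup G := N.sA.map D.ι with hE
  set V : Subgroup G := (N.sV false).map D.ι with hV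
  set N1 : Subgroup G := normalizer (E : Set G) ⊓ normalizer (V : Set G) with hN1
  set N0 : Subgroup G := normalizer (E : Set G) ⊓ centralizer (V : Set G) with hN0
  have l01 : N0 ≤ N1 := inf_le_inf_left _ (le_norm_of_le_cent le_rfl)
  have n10 : N1 ≤ normalizer (N0 : Set G) :=
    le_norm_inf (le_norm_norm inf_le_left) (le_norm_cent inf_le_right)
  have lF : N.sFp.map D.ι ≤ N1 := by
    rintro _ ⟨m, hm, rfl⟩
    have k1 : ∀ m ∈ N.sFp, ∀ n ∈ N.sA, m * n * m⁻¹ ∈ N.sA := by decide +kernel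
    have k2 : ∀ m ∈ N.sFp, ∀ n ∈ N.sV false, m * n * m⁻¹ ∈ N.sV false := by decide +kernel
    exact mem_inf.2 ⟨norm_of D fun n hn => ⟨_, k1 m hm n hn, by simp⟩,
      norm_of D fun n hn => ⟨_, k2 m hm n hn, by simp⟩⟩
  obtain ⟨P, hP, hFP⟩ := exists_isSylowIn_ge lF (pmap D _)
  have hX : IsSylowIn 2 (P ⊓ N0) N0 := hP.inf_normal l01 n10
  have rV : ∀ v ∈ N.sV false, ∃ n ∈ N.sV false, D.ρ * D.ι v * D.ρ⁻¹ = D.ι n := fun v hv => by
    rcases memV v hv with rfl | rfl | rfl | rfl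
    · exact ⟨1, one_mem _, cj0 D _⟩
    · exact ⟨_, by decide +kernel, rz D⟩
    · exact ⟨_, by decide +kernel, ra D⟩
    · exact ⟨_, by decide +kernel, raz D⟩
  have hρ : D.ρ ∈ N1 := mem_inf.2 ⟨norm_of D fun m hm => by
      have k : ∀ m ∈ N.sA, m ∈ N.sV false ∨ ∃ v ∈ N.sV false, m = .T * v := by decide +kernel
      have k2 : ∀ m ∈ N.sV false, m ∈ N.sA ∧ .T * m ∈ N.sA := by decide +kernel
      rcases k m hm with k | ⟨v, hv, rfl⟩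
      · obtain ⟨n, a, b⟩ := rV m k
        exact ⟨n, (k2 n a).1, b⟩
      · obtain ⟨n, a, b⟩ := rV v hv
        exact ⟨_, (k2 n a).2, cjm (cj1 D.ρt) b⟩, norm_of D rV⟩
  have cV : ∀ y ∈ N0, ∀ v ∈ N.sV false, y * D.ι v = D.ι v * y := fun y hy v hv =>
    ((mem_inf.1 hy).2 _ ⟨v, hv, rfl⟩).symm
  have act : ∀ y ∈ N0, ∃ v ∈ N.sV false, y * D.ι .T * y⁻¹ = D.ι (.T * v) := fun y hy => by
    obtain ⟨m, hm, e⟩ := (mem_normalizer_iff.1 (mem_inf.1 hy).1 (D.ι .T)).1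
      ⟨.T, show N.T ∈ N.sA by decide +kernel, rfl⟩
    have k : ∀ m ∈ N.sA, m ∈ N.sV false ∨ ∃ v ∈ N.sV false, m = .T * v := by decide +kernel
    rcases k m hm with k | ⟨v, hv, rfl⟩
    · exact absurd (isConj_iff.2 ⟨y, e.symm⟩).symm (nct D k)
    · exact ⟨v, hv, e.symm⟩
  obtain ⟨n, hn, r, hr, e⟩ := hX.frattini (n10 hρ)
  have er : r = n⁻¹ * D.ρ := by rw [e]; group
  have rc : ∀ {m v : N}, v ∈ N.sV false → D.ρ * D.ι m * D.ρ⁻¹ = D.ι v → r * D.ι m * r⁻¹ = D.ι v :=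
    fun {m v} hv h => by
      calc _ = n⁻¹ * (D.ρ * D.ι m * D.ρ⁻¹) * n⁻¹⁻¹ := by rw [er]; group
        _ = _ := by rw [h, cV _ (inv_mem hn) _ hv]; group
  obtain ⟨v0, a0, b0⟩ := act _ (inv_mem hn)
  have mX : ∀ m ∈ N.sFp, m * .Z = .Z * m → m * .C = .C * m → D.ι m ∈ P ⊓ N0 := fun m hm h1 h2 =>
    mem_inf.2 ⟨hFP ⟨m, hm, rfl⟩, mem_inf.2 ⟨(mem_inf.1 (lF ⟨m, hm, rfl⟩)).1, by
      rintro _ ⟨v, hv, rfl⟩
      exact (comV D (by rw [← map_mul, ← map_mul, h1]) (by rw [← map_mul, ← map_mul, h2]) hv).symm⟩⟩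
  exact ⟨⟨P ⊓ N0, r, v0, hX.isPGroup, fun y hy => cV y (hX.le hy), fun y hy => act y (hX.le hy),
    mX _ (by decide +kernel) (by decide +kernel) (by decide +kernel),
    mX _ (by decide +kernel) (by decide +kernel) (by decide +kernel),
    fun y hy => conj_mem (le_norm_inf le_normalizer (hP.le.trans n10))
      (hFP ⟨.W, show N.W ∈ N.sFp by decide +kernel, rfl⟩) hy,
    fun y hy => (mem_normalizer_iff.1 hr y).1 hy, rc (by decide +kernel) (rz D),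
    rc (by decide +kernel) (ra D), a0, by
      calc _ = n⁻¹ * (D.ρ * D.ι .T * D.ρ⁻¹) * n⁻¹⁻¹ := by rw [er]; group
        _ = _ := by rw [cj1 D.ρt, b0]⟩⟩

namespace XD
variable {D} (Y : XD D)

theorem cenT {y : G} (hy : y ∈ Y.X) (ht : y * D.ι .T * y⁻¹ = D.ι .T) :
    ∃ v ∈ N.sV false, y = D.ι v ∨ y = D.ι (.T * v) := by
  obtain ⟨k, hk⟩ := isPGroup_iff.1 Y.p y hy
  simpa only [map_mul] using cen D (IsConj.refl _) hk (mul_inv_eq_iff_eq_mul.1 ht) (Y.cV y hy)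
    (Y.cV _ Y.tX)

theorem actm {y y' : G} {v v' : N} (hy : y ∈ Y.X) (hv : v' ∈ N.sV false)
    (a : y * D.ι .T * y⁻¹ = D.ι (.T * v)) (b : y' * D.ι .T * y'⁻¹ = D.ι (.T * v')) :
    y * y' * D.ι .T * (y * y')⁻¹ = D.ι (.T * (v * v')) := by
  calc _ = y * (y' * D.ι .T * y'⁻¹) * y⁻¹ := by group
    _ = _ := by rw [b, cjm a (cj1 (Y.cV y hy _ hv)), mul_assoc]

theorem sqV {y : G} (hy : y ∈ Y.X) : y * y ∈ (N.sV false).map D.ι := by
  obtain ⟨v, hv, e⟩ := Y.act y hy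
  have k : ∀ v ∈ N.sV false, (.T * (v * v) : N) = .T := by decide +kernel
  have := Y.actm hy hv e e
  rw [k v hv] at this
  obtain ⟨u, hu, e | e⟩ := Y.cenT (mul_mem hy hy) this
  · exact ⟨u, hu, e.symm⟩
  · exact (not_sq D (e ▸ ctV D hu)).elim

theorem comm_mem {y y' : G} (hy : y ∈ Y.X) (hy' : y' ∈ Y.X) :
    y * y' * y⁻¹ * y'⁻¹ ∈ (N.sV false).map D.ι := by
  have := mul_mem (mul_mem (Y.sqV hy) (Y.sqV (mul_mem (inv_mem hy) hy'))) (Y.sqV (inv_mem hy'))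
  convert this using 1; group

theorem raz : Y.r * D.ι (.C * .Z) * Y.r⁻¹ = D.ι .Z := by
  rw [cjm Y.ra Y.rz, show (.C * .Z * .C : N) = .Z by decide +kernel]

theorem comm1 {y : G} (hy : y ∈ Y.X)
    (h : y * (Y.r * y * Y.r⁻¹) * (Y.r * (Y.r * y * Y.r⁻¹) * Y.r⁻¹) ∈ (N.sV false).map D.ι) :
    y * (Y.r * y * Y.r⁻¹) = Y.r * y * Y.r⁻¹ * y := by
  have h1 := Y.rn y hy
  obtain ⟨c, hc, ec⟩ := Y.comm_mem hy h1
  obtain ⟨v, hv, ev⟩ := h
  have e0 : Y.r * D.ι c * Y.r⁻¹ = Y.r * y * Y.r⁻¹ * (Y.r * (Y.r * y * Y.r⁻¹) * Y.r⁻¹) *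
      (Y.r * y * Y.r⁻¹)⁻¹ * (Y.r * (Y.r * y * Y.r⁻¹) * Y.r⁻¹)⁻¹ := by rw [ec]; group
  generalize Y.r * y * Y.r⁻¹ = y1 at *
  have e2 : Y.r * y1 * Y.r⁻¹ = y1⁻¹ * y⁻¹ * D.ι v := by rw [ev]; group
  have e3 : Y.r * D.ι c * Y.r⁻¹ = D.ι c := by
    calc _ = y⁻¹ * (D.ι v * y1⁻¹) * (D.ι v)⁻¹ * y * y1 := by rw [e0, e2]; group
      _ = (y1 * y)⁻¹ * D.ι c * (y1 * y)⁻¹⁻¹ := by rw [← Y.cV _ (inv_mem h1) _ hv, ec]; group
      _ = _ := cj1 (Y.cV _ (inv_mem (mul_mem h1 hy)) _ hc)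
  have e4 : c = 1 := by
    rcases memV c hc with rfl | rfl | rfl | rfl
    · rfl
    · exact absurd (D.inj (Y.rz.symm.trans e3)) (by decide +kernel)
    · exact absurd (D.inj (Y.ra.symm.trans e3)) (by decide +kernel)
    · exact absurd (D.inj (Y.raz.symm.trans e3)) (by decide +kernel)
  rw [e4, map_one] at ec
  calc y * y1 = y * y1 * y⁻¹ * y1⁻¹ * (y1 * y) := by group
    _ = _ := by rw [← ec, one_mul]

theorem actr {y : G} {v v' : N} (hy : y ∈ Y.X) (hv : v' ∈ N.sV false)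
    (a : y * D.ι .T * y⁻¹ = D.ι (.T * v)) (b : Y.r * D.ι v * Y.r⁻¹ = D.ι v') :
    Y.r * y * Y.r⁻¹ * D.ι .T * (Y.r * y * Y.r⁻¹)⁻¹ = D.ι (.T * v') := by
  have h1 := cj1 (Y.cV _ (Y.rn y hy) _ (inv_mem Y.v0V))
  have h2 : Y.r * y * Y.r⁻¹ * D.ι (.T * Y.v0) * (Y.r * y * Y.r⁻¹)⁻¹ = D.ι (.T * Y.v0 * v') := by
    rw [← cjm Y.rt b, ← a, ← Y.rt]; group
  have k : ∀ u ∈ N.sV false, ∀ v ∈ N.sV false, (.T * u * v * u⁻¹ : N) = .T * v := by decide +kernel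
  have := cjm h2 h1
  rwa [mul_inv_cancel_right, k _ Y.v0V _ hv] at this

theorem rV {v : N} (hv : v ∈ N.sV false) : ∃ n ∈ N.sV false, Y.r * D.ι v * Y.r⁻¹ = D.ι n := by
  rcases memV v hv with rfl | rfl | rfl | rfl
  · exact ⟨1, one_mem _, cj0 D _⟩
  · exact ⟨_, by decide +kernel, Y.rz⟩
  · exact ⟨_, by decide +kernel, Y.ra⟩
  · exact ⟨_, by decide +kernel, Y.raz⟩

theorem comm_b (h : D.ct (.T * .B)) :
    D.ι .B * (Y.r * D.ι .B * Y.r⁻¹) = Y.r * D.ι .B * Y.r⁻¹ * D.ι .B := by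
  have zV : (.Z : N) ∈ N.sV false := by decide +kernel
  have aV : (.C : N) ∈ N.sV false := by decide +kernel
  have b0 : D.ι .B * D.ι .T * (D.ι .B)⁻¹ = D.ι (.T * .Z) := by
    simp only [← map_mul, ← map_inv, D.inj.eq_iff]; decide +kernel
  have x1 := Y.rn _ Y.bX
  have x2 := Y.rn _ x1
  have b1 := Y.actr Y.bX aV b0 Y.rz
  have b2 := Y.actr x1 (mul_mem aV zV) b1 Y.ra
  have b3 := Y.actm (mul_mem Y.bX x1) (mul_mem aV zV) (Y.actm Y.bX aV b0 b1) b2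
  rw [show (.T * (.Z * .C * (.C * .Z)) : N) = .T by decide +kernel] at b3
  obtain ⟨v, hv, e | e⟩ := Y.cenT (mul_mem (mul_mem Y.bX x1) x2) b3
  · exact Y.comm1 Y.bX ⟨v, hv, e.symm⟩
  exfalso
  have uX : D.ι (.T * .B) ∈ Y.X := by rw [map_mul]; exact mul_mem Y.tX Y.bX
  obtain ⟨v1, hv1, r1⟩ := Y.rV Y.v0V
  have u1 : Y.r * D.ι (.T * .B) * Y.r⁻¹ = D.ι (.T * Y.v0) * (Y.r * D.ι .B * Y.r⁻¹) := by
    rw [← Y.rt, map_mul]; group
  have u2 : Y.r * (Y.r * D.ι (.T * .B) * Y.r⁻¹) * Y.r⁻¹ =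
      D.ι (.T * Y.v0 * v1) * (Y.r * (Y.r * D.ι .B * Y.r⁻¹) * Y.r⁻¹) := by
    rw [u1, ← cjm Y.rt r1]; group
  have b4 := cjm (cjm b1 (cj1 (Y.cV _ x1 _ Y.v0V))) (cj1 (Y.cV _ x1 _ hv1))
  have c := Y.comm1 uX (by
    rw [u2, u1]
    have k : ∀ u ∈ N.sV false, ∀ u1 ∈ N.sV false, ∀ v ∈ N.sV false,
        (.T * .B * (.T * u) * (.T * .C * u * u1) * (N.B⁻¹ * (.T * v)) : N) ∈ N.sV false := by
      decide +kernel
    refine ⟨_, k _ Y.v0V _ hv1 _ hv, ?_⟩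
    rw [map_mul, map_mul, map_mul, map_mul _ N.B⁻¹, map_inv, ← e, ← b4]; group)
  have a0 : D.ι (.T * .B) * D.ι .T * (D.ι (.T * .B))⁻¹ = D.ι (.T * .Z) := by
    simp only [← map_mul, ← map_inv, D.inj.eq_iff]; decide +kernel
  have a1 := Y.actr uX aV a0 Y.rz
  obtain ⟨k, hk⟩ := isPGroup_iff.1 Y.p _ (Y.rn _ uX)
  obtain ⟨u, hu, f | f⟩ := cen D h hk c.symm (Y.cV _ (Y.rn _ uX)) (Y.cV _ uX) <;> rw [f] at a1 <;>
    simp only [← map_mul, ← map_inv, D.inj.eq_iff] at a1 <;> clear f <;> revert u <;> decide +kernel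

end XD

theorem x : X1S.{u} := by
  intro G _ _ D h
  obtain ⟨Y⟩ := exists_XD D
  have zV : (.Z : N) ∈ N.sV false := by decide +kernel
  have aV : (.C : N) ∈ N.sV false := by decide +kernel
  have b0 : D.ι .B * D.ι .T * (D.ι .B)⁻¹ = D.ι (.T * .Z) := by
    simp only [← map_mul, ← map_inv, D.inj.eq_iff]; decide +kernel
  have x1 := Y.rn _ Y.bX
  have b1 := Y.actr Y.bX aV b0 Y.rz
  have cb := (Y.comm_b h).symm
  have sq : Y.r * D.ι .B * Y.r⁻¹ * (Y.r * D.ι .B * Y.r⁻¹) = D.ι .C := by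
    rw [← Y.rz, show (.Z : N) = .B * .B by decide +kernel, map_mul]; group
  generalize Y.r * D.ι .B * Y.r⁻¹ = y at *
  refine ⟨y, Y.cV _ x1 _ zV, Y.cV _ x1 _ aV, cb, sq, b1, ?_⟩
  have i1 : y⁻¹ * D.ι .T * y⁻¹⁻¹ = D.ι (.T * .C) := by
    have := cjm b1 (cj1 (Y.cV _ x1 _ aV))
    rw [show (.T * .C * .C : N) = .T by decide +kernel] at this
    rw [← this]; group
  have i2 : D.ι .W * y⁻¹ * (D.ι .W)⁻¹ * D.ι .T * (D.ι .W * y⁻¹ * (D.ι .W)⁻¹)⁻¹ =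
      D.ι (.T * (.C * .Z)) := by
    calc _ = D.ι .W * (y⁻¹ * ((D.ι .W)⁻¹ * D.ι .T * D.ι .W) * y⁻¹⁻¹) * (D.ι .W)⁻¹ := by group
      _ = _ := by
        rw [show (D.ι .W)⁻¹ * D.ι .T * D.ι .W = D.ι .T by
          simp only [← map_mul, ← map_inv, D.inj.eq_iff]; decide +kernel, i1]
        simp only [← map_mul, ← map_inv, D.inj.eq_iff]; decide +kernel
  have i3 : (D.ι .B)⁻¹ * D.ι .T * (D.ι .B)⁻¹⁻¹ = D.ι (.T * .Z) := by
    simp only [← map_mul, ← map_inv, D.inj.eq_iff]; decide +kernel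
  have i4 := Y.actm (inv_mem Y.bX) (mul_mem aV (mul_mem aV zV)) i3 (Y.actm x1 (mul_mem aV zV) b1 i2)
  rw [show (.T * (.Z * (.C * (.C * .Z))) : N) = .T by decide +kernel] at i4
  obtain ⟨v, hv, e⟩ := Y.cenT (mul_mem (inv_mem Y.bX) (mul_mem x1 (Y.wn _ (inv_mem x1)))) i4
  obtain ⟨m, hm, e⟩ : ∃ m ∈ N.sA, y * D.ι .W * y⁻¹ = D.ι (.B * m * .W) := by
    have k2 : ∀ m ∈ N.sV false, m ∈ N.sA ∧ .T * m ∈ N.sA := by decide +kernel
    rcases e with e | e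
    · exact ⟨_, (k2 v hv).1, by rw [map_mul, map_mul, ← e]; group⟩
    · exact ⟨_, (k2 v hv).2, by rw [map_mul, map_mul, ← e]; group⟩
  have key : ∀ m ∈ N.sA, (.B * m * .W * (.B * m * .W) : N) = .Z →
      (.B * m * .W * (.T * .C) : N) = .T * .C * (.B * m * .W) → (.B * m * .W * .B : N) = .B * (.B * m * .W) →
      (.B * m * .W : N) = .W * .B * .C ∨ (.B * m * .W : N) = .W * .B * .C * .Z := by decide +kernel
  rw [e]
  rcases key m hm ((cje (cjm e e) (cj1 (Y.cV _ x1 _ zV))).1 (by decide +kernel))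
    ((cje (cjm e b1) (cjm b1 e)).1 (by decide +kernel))
    ((cje (cjm e (cj1 cb)) (cjm (cj1 cb) e)).1 (by decide +kernel)) with k | k
  · exact Or.inl (congrArg _ k)
  · exact Or.inr (congrArg _ k)

end Cfsg.Agent.H76.L3X1
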