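import Cfsg.Agent.H76.Code
import Cfsg.Agent.H76.FConj

/-! Class numbers of symplectic groups. -/

namespace Cfsg.Agent.H76

universe u v w

variable {F : Type u} [Field F] [Fintype F]

theorem exists_card_eq_pow (F : Type u) [Field F] [Fintype F] (p : ℕ) [CharP F p] :
    ∃ r, 0 < r ∧ Fintype.card F = p ^ r := by
  obtain ⟨r, -, hr⟩ := FiniteField.card F p
  exact ⟨r, r.2, hr⟩

theorem orderOf_spToGL {m : ℕ} (g : Matrix.symplecticGroup (Fin m) F) :
    orderOf (H27.spToGL m F g) = orderOf g :=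
  orderOf_injective _ H27.spToGL_injective g

theorem card_sp_semisimple (p : ℕ) [hp : Fact p.Prime] [CharP F p] (n : ℕ) :
    Nat.card {c : ConjClasses (Matrix.symplecticGroup (Fin n) F) //
      ∃ g, ConjClasses.mk g = c ∧ (orderOf g).Coprime p} = Fintype.card F ^ n := by
  let L := AlgebraicClosure F
  have : CharP L p := charP_of_injective_algebraMap (algebraMap F _).injective p
  obtain ⟨r, hr, hq⟩ := exists_card_eq_pow F p
  rw [card_conjClasses_eq _ (fun g => ujord L (H27.spToGL n F g)) fun g h hg _ =>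
    ⟨fun hc => (isConj_iff_ujord_eq (L := L) _ _).1 ((H27.spToGL n F).map_isConj hc),
      fun hc => isConj_sp_of_coprime p hg ((isConj_iff_ujord_eq (L := L) _ _).2 hc)⟩]
  have h1 := card_semisimple_eq (L := L) (Q := (Fintype.card F : ℤ)) (good := Even) (n := 2 * n)
    (by decide) fun _ => True
  have h2 := card_ev (L := L) (p := p) hr n
  rw [← hq] at h2
  rw [← h2]
  refine Eq.trans (Nat.card_congr (Equiv.subtypeEquivRight fun s => ?_))
    (h1.trans (Nat.card_congr (Equiv.subtypeEquivRight fun s => by simp)))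
  rw [and_true, fadm_iff_exists_sp]
  constructor
  · rintro ⟨g, hg, rfl⟩
    exact ⟨⟨g, rfl⟩, (coprime_orderOf_iff_ujord L p _ (isOfFinOrder_of_finite _)).1
      (by rwa [orderOf_spToGL])⟩
  · rintro ⟨⟨g, rfl⟩, hg⟩
    exact ⟨g, by
      rw [← orderOf_spToGL]
      exact (coprime_orderOf_iff_ujord L p _ (isOfFinOrder_of_finite _)).2 hg, rfl⟩

theorem card_sp_classes (L : Type w) [Field L] [Algebra F L] [IsAlgClosed L]
    [Algebra.IsAlgebraic F L] (h2 : (2 : F) ≠ 0) (n : ℕ) (P : Matrix.symplecticGroup (Fin n) F → Prop)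
    (P' : Multiset (Lˣ × ℕ) → Prop) (hP : ∀ g, P g ↔ P' (ujord L (H27.spToGL n F g))) :
    Nat.card {c : ConjClasses (Matrix.symplecticGroup (Fin n) F) //
      ∃ g, ConjClasses.mk g = c ∧ P g} =
    Nat.card {t : Multiset (Lˣ × ℕ) × (ℕ → ℤˣ × ℤˣ) //
      (FAdm Even (Fintype.card F : ℤ) (2 * n) t.1 ∧ LabOK Even t.1 t.2) ∧ P' t.1} := by
  rw [card_conjClasses_eq _ _ fun g h _ _ => isConj_sp_iff L h2 g h]
  refine Nat.card_congr (Equiv.subtypeEquivRight fun t => ?_)
  rw [← exists_sp_iff h2]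
  constructor
  · rintro ⟨g, hg, rfl⟩
    exact ⟨⟨g, rfl⟩, (hP g).1 hg⟩
  · rintro ⟨⟨g, hg⟩, h⟩
    refine ⟨g, (hP g).2 ?_, hg⟩
    rwa [show ujord L (H27.spToGL n F g) = t.1 from congrArg Prod.fst hg]

end Cfsg.Agent.H76
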