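import Cfsg.Agent.H76.RealT
import Cfsg.Agent.H76.SpCount

/-! Class numbers of the full orthogonal groups in odd characteristic. -/

namespace Cfsg.Agent.H76

universe u v w

section Card

variable {S T : Type*}

theorem card_le_of_map {A : S → Prop} {B : T → Prop} [Finite {t // B t}] (f : S → T)
    (hf : ∀ t, A t → B (f t)) (hi : ∀ t t', A t → A t' → f t = f t' → t = t') :
    Nat.card {t // A t} ≤ Nat.card {t // B t} :=
  Nat.card_le_card_of_injective (fun t => ⟨f t.1, hf _ t.2⟩) fun t t' h =>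
    Subtype.ext (hi _ _ t.2 t'.2 (congrArg Subtype.val h))

theorem finite_of_imp {A B : T → Prop} [Finite {t // B t}] (h : ∀ t, A t → B t) :
    Finite {t // A t} :=
  Finite.of_injective (fun t => (⟨t.1, h _ t.2⟩ : {t // B t})) fun _ _ h =>
    Subtype.ext (Subtype.mk.inj h)

theorem card_le_of_imp {A B : T → Prop} [Finite {t // B t}] (h : ∀ t, A t → B t) :
    Nat.card {t // A t} ≤ Nat.card {t // B t} := card_le_of_map id h fun _ _ _ _ h => h

theorem card_le_of_surj {A : S → Prop} {B : T → Prop} [Finite {t // A t}] (f : S → T)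
    (hf : ∀ t, B t → ∃ s, A s ∧ f s = t) : Nat.card {t // B t} ≤ Nat.card {t // A t} := by
  choose g h1 h2 using hf
  exact Nat.card_le_card_of_injective (fun t => ⟨g t.1 t.2, h1 _ _⟩) fun t t' h =>
    Subtype.ext (by rw [← h2 _ t.2, ← h2 _ t'.2, Subtype.mk.inj h])

theorem card_and_add (A Z : T → Prop) [Finite {t // A t}] :
    Nat.card {t // A t ∧ Z t} + Nat.card {t // A t ∧ ¬ Z t} = Nat.card {t // A t} := by
  classical
  have := finite_of_imp (A := fun t => A t ∧ Z t) (B := A) fun _ h => h.1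
  have := finite_of_imp (A := fun t => A t ∧ ¬ Z t) (B := A) fun _ h => h.1
  rw [← Nat.card_sum, ← Nat.card_congr (Equiv.sumCompl fun t : {t // A t} => Z t.1)]
  exact Nat.card_congr ((Equiv.subtypeSubtypeEquivSubtypeInter A Z).sumCongr
    (Equiv.subtypeSubtypeEquivSubtypeInter A fun t => ¬ Z t)).symm

end Card

open Module QuadraticMap
open H30 (spinorNorm isoEquiv)

variable {F : Type u} [Field F] [Fintype F] {L : Type w} [Field L] [Algebra F L] [IsAlgClosed L]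
  [Algebra.IsAlgebraic F L] {h2 : (2 : F) ≠ 0}

theorem three_le_card (h2 : (2 : F) ≠ 0) : (3 : ℚ) ≤ Fintype.card F := by
  have := Fintype.one_lt_card (α := F)
  have := card_eq_two_mul F h2
  exact_mod_cast (by omega : 3 ≤ Fintype.card F)

omit [Algebra.IsAlgebraic F L] in
theorem card_labels' (h2 : (2 : F) ≠ 0) (good : ℕ → Prop) [DecidablePred good] (n : ℕ) :
    Finite {t : Multiset (Lˣ × ℕ) × (ℕ → ℤˣ × ℤˣ) //
      FAdm good (Fintype.card F : ℤ) n t.1 ∧ LabOK good t.1 t.2} ∧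
    (Nat.card {t : Multiset (Lˣ × ℕ) × (ℕ → ℤˣ × ℤˣ) //
      FAdm good (Fintype.card F : ℤ) n t.1 ∧ LabOK good t.1 t.2} : ℚ) =
      PowerSeries.coeff n (∏ i ∈ Finset.range n, geo (Fintype.card F) (2 * (i + 1)) *
        if good (i + 1) then (1 + PowerSeries.X ^ (i + 1)) ^ 4 else 1) := by
  obtain ⟨p, hp⟩ := CharP.exists F
  have hpp := Fact.mk (CharP.char_is_prime F p)
  have : CharP L p := charP_of_injective_algebraMap (algebraMap F _).injective p
  obtain ⟨r, hr, hq⟩ := exists_card_eq_pow F p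
  rw [hq]
  exact card_labels hr (fun h => h2 ((two_eq_zero_iff F p).2 h)) good n

omit [Algebra.IsAlgebraic F L] in
theorem card_ev' (F : Type u) [Field F] [Fintype F] [Algebra F L] (k : ℕ) :
    Nat.card {u : Multiset Lˣ // Ev (Fintype.card F : ℤ) u ∧ Multiset.card u = 2 * k} =
      Fintype.card F ^ k := by
  obtain ⟨p, hp⟩ := CharP.exists F
  have hpp := Fact.mk (CharP.char_is_prime F p)
  have : CharP L p := charP_of_injective_algebraMap (algebraMap F _).injective p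
  obtain ⟨r, hr, hq⟩ := exists_card_eq_pow F p
  rw [hq]
  exact card_ev hr k

omit [Algebra.IsAlgebraic F L] in
theorem exists_ev_flip (h2 : (2 : F) ≠ 0) :
    ∃ β : Multiset Lˣ → Multiset Lˣ, (∀ u, Ev (Fintype.card F : ℤ) u → u ≠ 0 →
      Ev (Fintype.card F : ℤ) (β u) ∧ Multiset.card (β u) = Multiset.card u ∧
        (-1 ∉ u → -1 ∉ β u) ∧ ((β u).map zp).prod ^ (Fintype.card F / 2) =
          -(u.map zp).prod ^ (Fintype.card F / 2) ∧
        (4 ≤ Multiset.card u → ((β u).map zm).prod = (u.map zm).prod ∧ (1 ∉ u → 1 ∉ β u))) ∧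
      ∀ u v, Ev (Fintype.card F : ℤ) u → u ≠ 0 → Ev (Fintype.card F : ℤ) v → v ≠ 0 → β u = β v →
        u = v := by
  obtain ⟨p, hp⟩ := CharP.exists F
  have hpp := Fact.mk (CharP.char_is_prime F p)
  have : CharP L p := charP_of_injective_algebraMap (algebraMap F _).injective p
  obtain ⟨r, hr, hq⟩ := exists_card_eq_pow F p
  obtain ⟨c, hc, hc'⟩ := exists_map_pow_half_eq (L := L) h2 (Or.inr rfl)
  have h0 := two_ne_zero_ext (L := L) h2
  have hc0 : algebraMap F L c ≠ 0 := (_root_.map_ne_zero _).2 hc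
  obtain ⟨β, h3, h4⟩ := exists_ev_perm (r := r) h0 hc0 (by
    rw [← hq, ← map_pow, FiniteField.pow_card])
  rw [← hq] at h3 h4
  refine ⟨β, fun u hu hu0 => ?_, h4⟩
  obtain ⟨h5, h6, h7, h8⟩ := h3 u hu hu0
  refine ⟨h5, h6, fun h h' => ?_, by rw [h7, mul_pow, hc', neg_one_mul], fun h => ⟨h8 h,
    fun h9 h' => ?_⟩⟩
  · refine mul_ne_zero hc0 (Multiset.prod_ne_zero fun h9 => ?_) (h7.symm.trans
      (Multiset.prod_eq_zero (Multiset.mem_map.2 ⟨_, h', by simp [zp]⟩)))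
    obtain ⟨α, hα, h9⟩ := Multiset.mem_map.1 h9
    exact zp_ne_zero h0 (fun h' => h (h' ▸ hα)) h9
  · refine Multiset.prod_ne_zero (fun h10 => ?_) ((h8 h).symm.trans
      (Multiset.prod_eq_zero (Multiset.mem_map.2 ⟨_, h', by simp [zm]⟩)))
    obtain ⟨α, hα, h10⟩ := Multiset.mem_map.1 h10
    exact zm_ne_zero (fun h' => h9 (h' ▸ hα)) h10

/-- changing the discriminant in the presence of an odd block with eigenvalue `±1` -/
theorem exists_flip (s : Multiset (Lˣ × ℕ)) : ∃ κ : ℕ → ℤˣ × ℤˣ,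
    (∃ α j, α ^ 2 = 1 ∧ Odd (j + 1) ∧ (α, j + 1) ∈ s) →
      ∀ τ δ θ, RealT h2 s τ δ θ → ∃ θ', RealT h2 s (κ * τ) (-δ) θ' := by
  by_cases h : ∃ α j, α ^ 2 = 1 ∧ Odd (j + 1) ∧ (α, j + 1) ∈ s
  · obtain ⟨α, j, h1, h3, h4⟩ := h
    rcases units_sq_eq_one_iff.1 h1 with rfl | rfl
    · exact ⟨_, fun _ τ δ θ h => ⟨_, h.flip_one h3 h4⟩⟩
    · exact ⟨_, fun _ τ δ θ h => ⟨_, h.flip_neg_one h3 h4⟩⟩
  · exact ⟨1, fun h' => absurd h' h⟩

omit [Algebra.IsAlgebraic F L] in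
theorem RealT.lab_mem {s : Multiset (Lˣ × ℕ)} {τ : ℕ → ℤˣ × ℤˣ} {δ θ : L} {n : ℕ}
    (h : RealT h2 s τ δ θ) (hn : wt s = n) :
    FAdm Odd (Fintype.card F : ℤ) n s ∧ LabOK Odd s τ := ⟨h.realO.fadm.cast hn, h.labOK⟩

theorem neg_ne_self_of_sign (h2 : (2 : F) ≠ 0) {δ : L} (h : δ = 1 ∨ δ = -1) : -δ ≠ δ := by
  have h0 := two_ne_zero_ext (L := L) h2
  rcases h with rfl | rfl <;> intro h
  · exact h0 (by linear_combination -h)
  · exact h0 (by linear_combination h)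

variable {ι : Type} [Fintype ι] [DecidableEq ι] {Q : QuadraticForm F (ι → F)}

omit [Algebra.IsAlgebraic F L] in
theorem exists_o_iff (hQ : (polarBilin Q).Nondegenerate) (t : Multiset (Lˣ × ℕ) × (ℕ → ℤˣ × ℤˣ))
    (θ : L) : (∃ g : isometryGroup F ⇑Q, (ujord L (g : GL ι F), oLab g) = t ∧
      (sqch L h2 (spinorNorm hQ (isoEquiv Q g)) : L) = θ) ↔
      wt t.1 = Fintype.card ι ∧ RealT h2 t.1 t.2 (dch L Q) θ :=
  ⟨by rintro ⟨g, rfl, rfl⟩; exact ⟨wt_ujord _, ι, _, _, Q, hQ, g, rfl, rfl, rfl, rfl⟩,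
    fun h => h.2.exists_isometry hQ h.1 rfl⟩

omit [Algebra.IsAlgebraic F L] in
theorem card_o_classes (hQ : (polarBilin Q).Nondegenerate) :
    Nat.card (ConjClasses (isometryGroup F ⇑Q)) =
      Nat.card {t : Multiset (Lˣ × ℕ) × (ℕ → ℤˣ × ℤˣ) //
        wt t.1 = Fintype.card ι ∧ ∃ θ, RealT h2 t.1 t.2 (dch L Q) θ} := by
  rw [card_conjClasses_eq_true, card_conjClasses_eq _ _ fun g h _ _ => isConj_o_iff L h2 hQ g h]
  refine Nat.card_congr (Equiv.subtypeEquivRight fun t => ⟨fun ⟨g, _, hg⟩ => ?_, fun ⟨h, θ, h'⟩ => ?_⟩)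
  · have := (exists_o_iff (h2 := h2) hQ t _).1 ⟨g, hg, rfl⟩
    exact ⟨this.1, _, this.2⟩
  · obtain ⟨g, hg, -⟩ := (exists_o_iff hQ t θ).2 ⟨h, h'⟩
    exact ⟨g, trivial, hg⟩

theorem card_o_even_le (h2 : (2 : F) ≠ 0) (hQ : (polarBilin Q).Nondegenerate) {n : ℕ}
    (hι : Fintype.card ι = 2 * n) :
    2 * Nat.card (ConjClasses (isometryGroup F ⇑Q)) ≤ 19 * Fintype.card F ^ n := by
  classical
  let L := AlgebraicClosure F
  rw [card_o_classes (L := L) (h2 := h2) hQ, hι]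
  obtain ⟨f1, h1⟩ := card_labels' (L := L) h2 Odd (2 * n)
  obtain ⟨f3, h3⟩ := card_labels' (L := L) h2 (fun _ => False) (2 * n)
  simp only [if_false, mul_one] at h3
  have h4 := ((bd2_o (three_le_card h2) (2 * n)).2.2 n).1
  have h5 := ((bd2_free (three_le_card h2) (2 * n)).2.2 n).1
  rw [← h1] at h4
  rw [← h3] at h5
  choose κ hκ using exists_flip (L := L) (h2 := h2)
  set A := fun t : Multiset (Lˣ × ℕ) × (ℕ → ℤˣ × ℤˣ) =>
    wt t.1 = 2 * n ∧ ∃ θ, RealT h2 t.1 t.2 (dch L Q) θ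
  set P := fun t : Multiset (Lˣ × ℕ) × (ℕ → ℤˣ × ℤˣ) =>
    FAdm Odd (Fintype.card F : ℤ) (2 * n) t.1 ∧ LabOK Odd t.1 t.2
  have hA : ∀ t, A t → P t := fun t ⟨h, θ, h'⟩ => h'.lab_mem h
  have := finite_of_imp hA
  have := finite_of_imp (A := fun t => P t ∧ ¬ A t) (B := P) fun _ h => h.1
  have := finite_of_imp (A := fun t => P t ∧ A t) (B := P) fun _ h => h.1
  have h6 := card_and_add A fun t => ∃ α j, α ^ 2 = 1 ∧ Odd (j + 1) ∧ (α, j + 1) ∈ t.1
  have h7 := card_and_add P A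
  have h8 := card_le_of_imp (B := fun t => P t ∧ A t) fun t h => ⟨hA t h, h⟩
  have h9 := card_le_of_map (A := fun t => A t ∧ ∃ α j, α ^ 2 = 1 ∧ Odd (j + 1) ∧ (α, j + 1) ∈ t.1)
    (B := fun t => P t ∧ ¬ A t) (fun t => (t.1, κ t.1 * t.2)) (fun t ⟨⟨h, θ, h'⟩, h''⟩ => by
      obtain ⟨θ', k1⟩ := hκ _ h'' _ _ _ h'
      exact ⟨k1.lab_mem h, fun ⟨_, _, k2⟩ => neg_ne_self_of_sign h2 h'.realO.sign (k1.unique k2).1⟩)
    fun t t' _ _ h => by
      obtain ⟨k1, k2⟩ := Prod.mk.inj h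
      exact Prod.ext k1 (mul_left_cancel (k2.trans (by rw [k1])))
  have h10 := card_le_of_imp
    (A := fun t => A t ∧ ¬ ∃ α j, α ^ 2 = 1 ∧ Odd (j + 1) ∧ (α, j + 1) ∈ t.1)
    (B := fun t => FAdm (fun _ => False) (Fintype.card F : ℤ) (2 * n) t.1 ∧
      LabOK (fun _ => False) t.1 t.2) fun t ⟨h, h'⟩ => by
      obtain ⟨k1, k2⟩ := hA t h
      refine ⟨⟨k1.adm, k1.inv, fun α hα e _ => ?_⟩, fun j => ⟨fun k => absurd ?_ h', fun k =>
        absurd ?_ h'⟩⟩
      · by_cases he : Odd e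
        · obtain ⟨j, rfl⟩ := Nat.exists_eq_add_one.2 he.pos
          have k : (α, j + 1) ∉ t.1 := fun k => h' ⟨α, j, hα, he, k⟩
          simp [k]
        · exact k1.par α hα e he
      · exact ⟨1, j, one_pow 2, (k2 j).1 k⟩
      · exact ⟨-1, j, neg_one_sq, (k2 j).2 k⟩
  have h11 : (2 * Nat.card {t // A t} : ℚ) ≤ Nat.card {t // P t} + Nat.card
      {t : Multiset (Lˣ × ℕ) × (ℕ → ℤˣ × ℤˣ) // FAdm (fun _ => False) (Fintype.card F : ℤ) (2 * n)
        t.1 ∧ LabOK (fun _ => False) t.1 t.2} := by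
    exact_mod_cast (by omega)
  have h12 : (0 : ℚ) ≤ (Fintype.card F : ℚ) ^ n := by positivity
  have h13 : (2 * Nat.card {t // A t} : ℚ) ≤ 19 * (Fintype.card F : ℚ) ^ n := by linarith
  exact_mod_cast h13

/-- semisimple data with an eigenvalue `±1` occur for both discriminants -/
theorem realO_tag_of_mem {u : Multiset Lˣ} (hu : Ev (Fintype.card F : ℤ) u) {α : Lˣ}
    (hα : α ^ 2 = 1) (hm : α ∈ u) {δ : L} (hδ : δ = 1 ∨ δ = -1) : ∃ θ, RealO h2 (tag 1 u) δ θ := by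
  obtain ⟨δ', θ, h⟩ := (fadm_tag_of_ev hu one_pos).realO h2
  obtain ⟨τ, h⟩ := h.realT
  obtain ⟨κ, hκ⟩ := exists_flip (h2 := h2) (tag 1 u)
  obtain ⟨θ', h'⟩ := hκ ⟨α, 0, hα, odd_one, mem_tag.2 ⟨hm, rfl⟩⟩ _ _ _ h
  by_cases hd : δ' = δ
  · exact ⟨_, hd ▸ h.realO⟩
  · refine ⟨_, h'.realO.cast rfl ?_ rfl⟩
    rcases hδ with rfl | rfl <;> rcases h.realO.sign with rfl | rfl <;> simp_all

omit [Algebra.IsAlgebraic F L] in
theorem RealO.delta_eq {s : Multiset (Lˣ × ℕ)} {δ θ : L} (hs : RealO h2 s δ θ)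
    (h : ∀ x ∈ s, x.1 ≠ -1) (h' : ∀ x ∈ s, x.1 ≠ 1) :
    δ * dprod zm s ^ (Fintype.card F / 2) = dprod zp s ^ (Fintype.card F / 2) :=
  (hs.theta_eq' h').symm.trans (hs.theta_eq h)

theorem le_card_o_even (h2 : (2 : F) ≠ 0) (hQ : (polarBilin Q).Nondegenerate) {n : ℕ} (hn : 2 ≤ n)
    (hι : Fintype.card ι = 2 * n) :
    Fintype.card F ^ n ≤ 2 * Nat.card (ConjClasses (isometryGroup F ⇑Q)) := by
  classical
  let L := AlgebraicClosure F
  have h1 := card_ev' (L := L) F n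
  have := Nat.finite_of_card_ne_zero (h1.trans_ne (pow_ne_zero _ Fintype.card_ne_zero))
  obtain ⟨β, h3, h4⟩ := exists_ev_flip (L := L) h2
  set P := fun u : Multiset Lˣ => Ev (Fintype.card F : ℤ) u ∧ Multiset.card u = 2 * n
  set A := fun u : Multiset Lˣ => ∃ θ, RealO h2 (tag 1 u) (dch L Q) θ
  have hd : dch L Q = 1 ∨ dch L Q = -1 := mul_self_eq_one_iff.1 (dch_mul_self h2 hQ)
  have := finite_of_imp (A := fun t => P t ∧ A t) (B := P) fun _ h => h.1
  have h5 := card_and_add P A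
  have h0 : ∀ u, P u → u ≠ 0 := fun u hu h => by
    have := hu.2
    rw [h, Multiset.card_zero] at this
    omega
  have h6 := card_le_of_map (A := fun u => P u ∧ ¬ A u) (B := fun u => P u ∧ A u) β
    (fun u ⟨hu, hu'⟩ => by
      obtain ⟨k1, k2, k3, k4, k5⟩ := h3 u hu.1 (h0 u hu)
      obtain ⟨k5, k6⟩ := k5 (by rw [hu.2]; omega)
      have k7 : -1 ∉ u := fun h => hu' (realO_tag_of_mem hu.1 neg_one_sq h hd)
      have k8 : 1 ∉ u := fun h => hu' (realO_tag_of_mem hu.1 (one_pow 2) h hd)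
      obtain ⟨δ, θ, k9⟩ := (fadm_tag_of_ev hu.1 one_pos).realO h2
      obtain ⟨δ', θ', k10⟩ := (fadm_tag_of_ev k1 one_pos).realO h2
      have k11 := k9.delta_eq (fun x hx h => k7 (h ▸ (mem_tag.1 hx).1))
        fun x hx h => k8 (h ▸ (mem_tag.1 hx).1)
      have k12 := k10.delta_eq (fun x hx h => k3 k7 (h ▸ (mem_tag.1 hx).1))
        fun x hx h => k6 k8 (h ▸ (mem_tag.1 hx).1)
      simp only [dprod_tag, pow_one] at k11 k12
      rw [k4, k5, ← k11, ← neg_mul, mul_left_inj' (pow_ne_zero _ (Multiset.prod_ne_zero fun h => by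
        obtain ⟨α, hα, h⟩ := Multiset.mem_map.1 h
        exact zm_ne_zero (fun h' => k8 (h' ▸ hα)) h))] at k12
      have k13 : δ ≠ dch L Q := fun h => hu' ⟨θ, h ▸ k9⟩
      refine ⟨⟨k1, k2.trans hu.2⟩, θ', k10.cast rfl ?_ rfl⟩
      rw [k12]
      rcases hd with hd | hd <;> rcases k9.sign with rfl | rfl <;> rw [hd] at k13 ⊢ <;>
        first | exact absurd rfl k13 | rfl | exact neg_neg _)
    fun u v hu hv => h4 u v hu.1.1 (h0 u hu.1) hv.1.1 (h0 v hv.1)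
  have h7 : Nat.card {u // P u ∧ A u} ≤ Nat.card (ConjClasses (isometryGroup F ⇑Q)) := by
    have : ∀ u : {u // P u ∧ A u}, ∃ g : isometryGroup F ⇑Q, ujord L (g : GL ι F) = tag 1 u.1 :=
      fun ⟨u, hu, θ, h⟩ => (h.exists_isometry hQ (by rw [wt_tag, hu.2, hι, one_mul]) rfl).imp
        fun _ h => h.1
    choose g hg using this
    refine Nat.card_le_card_of_injective (fun u => ConjClasses.mk (g u)) fun u v h => ?_
    have := congrArg Prod.fst ((isConj_o_iff L h2 hQ _ _).1 (ConjClasses.mk_eq_mk_iff_isConj.1 h))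
    rw [hg, hg] at this
    exact Subtype.ext (by rw [← part_tag 1 u.1, show tag 1 u.1 = tag 1 v.1 from this, part_tag])
  rw [show Nat.card {t // P t} = _ from h1] at h5
  omega

end Cfsg.Agent.H76
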