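import Cfsg.Agent.H95.ParDefs

/-! Project PAR, pieces DEC3 and F73: modules in characteristic two. -/

set_option autoImplicit false

namespace Cfsg.Agent.H76.ParDec

open Cfsg.Agent.H95.Par

theorem exists_ring {V : Type} [AddCommGroup V] (α β : AddMonoid.End V) (h : α * β = β * α) :
    ∃ (R : Type) (_ : CommRing R) (_ : Module R V) (a b : R), (∀ v : V, a • v = α v) ∧
      (∀ v : V, b • v = β v) ∧ ∀ r s : R, (∀ v : V, r • v = s • v) → r = s := by
  let S := Subring.closure ({α, β} : Set (AddMonoid.End V))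
  have : IsMulCommutative S := Subring.isMulCommutative_closure (by
    rintro x (rfl | rfl) y (rfl | rfl) <;> simp [h])
  exact ⟨S, { (inferInstance : Ring S) with mul_comm := mul_comm' }, Module.compHom V S.subtype,
    ⟨α, Subring.subset_closure (by simp)⟩, ⟨β, Subring.subset_closure (by simp)⟩, fun _ => rfl,
    fun _ => rfl, fun r s e => Subtype.ext (AddMonoidHom.ext e)⟩

/-- restriction to an invariant subgroup -/
def res {V : Type} [AddCommGroup V] (W : AddSubgroup V) (α : AddMonoid.End V)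
    (h : ∀ v ∈ W, α v ∈ W) : AddMonoid.End W :=
  AddMonoidHom.codRestrict (AddMonoidHom.comp α W.subtype) W fun v => h v v.2

theorem coe_res {V : Type} [AddCommGroup V] (W : AddSubgroup V) (α : AddMonoid.End V)
    (h : ∀ v ∈ W, α v ∈ W) (v : W) : (res W α h v : V) = α v := rfl

theorem card_inf {V : Type} [AddCommGroup V] (W P : AddSubgroup V) (p : W → Prop)
    (h : ∀ v : W, p v ↔ (v : V) ∈ P) : Nat.card ↥(W ⊓ P) = Nat.card {v : W // p v} :=
  Nat.card_congr ⟨fun v => ⟨⟨v, v.2.1⟩, (h _).2 v.2.2⟩, fun v => ⟨v.1, v.1.2, (h _).1 v.2⟩,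
    fun _ => rfl, fun _ => rfl⟩

section ring
variable {R V : Type} [CommRing R] [AddCommGroup V] [Module R V]

theorem split {p q : R} (hp : p * p = p) (hq : q * q = q) (h : p * q = 0) :
    Nat.card {v : V // (p + q) • v = v} =
      Nat.card {v : V // p • v = v} * Nat.card {v : V // q • v = v} := by
  have h' : q * p = 0 := by rw [mul_comm, h]
  have k : ∀ {p q : R} {v : V}, p * q = 0 → q • v = v → p • v = 0 := fun h e => by
    rw [← e, smul_smul, h, zero_smul]
  rw [← Nat.card_prod]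
  exact Nat.card_congr ⟨fun v => (⟨p • v.1, by rw [smul_smul, hp]⟩, ⟨q • v.1, by rw [smul_smul, hq]⟩),
    fun v => ⟨v.1.1 + v.2.1, by
      rw [add_smul, smul_add, smul_add, v.1.2, v.2.2, k h v.2.2, k h' v.1.2, add_zero, zero_add]⟩,
    fun v => Subtype.ext (by simpa only [add_smul] using v.2),
    fun v => Prod.ext (Subtype.ext (by simp only [smul_add, v.1.2, k h v.2.2, add_zero]))
      (Subtype.ext (by simp only [smul_add, v.2.2, k h' v.1.2, zero_add]))⟩

theorem fix_iff (h2 : (2 : R) = 0) {g : R} (hg : g ^ 3 = 1) (v : V) :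
    g • v = v ↔ (1 + g + g ^ 2) • v = v := by
  refine ⟨fun e => ?_, fun e => ?_⟩
  · have : (2 : R) • v = 0 := by rw [h2, zero_smul]
    rw [add_smul, add_smul, pow_two, mul_smul, e, e, one_smul, add_assoc, ← two_smul R, this, add_zero]
  · rw [← e, smul_smul]; congr 1; linear_combination hg

theorem dec (h2 : (2 : R) = 0) {a b : R} (ha : a ^ 3 = 1) (hb : b ^ 3 = 1) :
    Nat.card V * Nat.card {v : V // a • v = v ∧ b • v = v} ^ 3 =
      Nat.card {v : V // a • v = v} * Nat.card {v : V // b • v = v} *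
        Nat.card {v : V // (a * b) • v = v} * Nat.card {v : V // (a * a * b) • v = v} := by
  obtain ⟨e, he⟩ : ∃ e, e = (1 + a + a ^ 2) * (1 + b + b ^ 2) := ⟨_, rfl⟩
  have h0 : ∀ v : V, (a • v = v ∧ b • v = v) ↔ e • v = v := fun v => by
    refine ⟨fun h => ?_, fun h => ⟨?_, ?_⟩⟩
    · rw [he, mul_smul, (fix_iff h2 hb v).1 h.2, (fix_iff h2 ha v).1 h.1]
    · rw [← h, smul_smul]; congr 1; grind
    · rw [← h, smul_smul]; congr 1; grind
  have key : ∀ g : R, g ^ 3 = 1 → e * g = e → Nat.card {v : V // g • v = v} =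
      Nat.card {v : V // e • v = v} * Nat.card {v : V // (1 + g + g ^ 2 + e) • v = v} := fun g hg h => by
    rw [← split (by grind) (by grind) (by grind)]
    simp only [fix_iff h2 hg, show e + (1 + g + g ^ 2 + e) = 1 + g + g ^ 2 by grind]
  have : Nat.card V = Nat.card {v : V // (e + ((1 + a + a ^ 2 + e) + ((1 + b + b ^ 2 + e) +
      ((1 + a * b + (a * b) ^ 2 + e) + (1 + a * a * b + (a * a * b) ^ 2 + e))))) • v = v} := by
    rw [show e + ((1 + a + a ^ 2 + e) + ((1 + b + b ^ 2 + e) + ((1 + a * b + (a * b) ^ 2 + e) +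
      (1 + a * a * b + (a * a * b) ^ 2 + e)))) = 1 by grind]
    simp
  simp only [h0]
  rw [this, key a ha (by grind), key b hb (by grind), key (a * b) (by grind) (by grind),
    key (a * a * b) (by grind) (by grind)]
  clear this key h0
  rw [split (p := e) (by grind) (by grind) (by grind),
    split (p := 1 + a + a ^ 2 + e) (by grind) (by grind) (by grind),
    split (p := 1 + b + b ^ 2 + e) (by grind) (by grind) (by grind),
    split (p := 1 + a * b + (a * b) ^ 2 + e) (by grind) (by grind) (by grind)]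
  ring

theorem f73 (h2 : (2 : R) = 0) {x : R} (hx : 1 + x + x ^ 2 + x ^ 3 + x ^ 4 + x ^ 5 + x ^ 6 = 0)
    (κ : V →+ V) (k3 : ∀ v, κ (κ (κ v)) = v) (hk : ∀ v, κ (x • v) = x • x • κ v) :
    Nat.card V = Nat.card {v : V // κ v = v} ^ 3 := by
  have kp : ∀ (n : ℕ) v, κ (x ^ n • v) = x ^ (2 * n) • κ v := fun n v => by
    induction n with
    | zero => simp
    | succ n ih => rw [pow_succ', mul_smul, hk, ih, smul_smul, smul_smul]; congr 1; ring
  have N : ∀ v, κ (v + κ v + κ (κ v)) = v + κ v + κ (κ v) := fun v => by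
    rw [map_add, map_add, k3]; abel
  rw [pow_succ, pow_two, ← Nat.card_prod, ← Nat.card_prod]
  refine (Nat.card_eq_of_bijective (fun v => v.1.1.1 + x ^ 1 • v.1.2.1 + x ^ 2 • v.2.1) ⟨?_, fun w => ?_⟩).symm
  · rintro ⟨⟨⟨a, ha⟩, b, hb⟩, c, hc⟩ ⟨⟨⟨a', ha'⟩, b', hb'⟩, c', hc'⟩ e
    have e1 := congrArg κ e
    simp only [map_add, kp, ha, hb, hc, ha', hb', hc'] at e e1
    have e2 := congrArg κ e1
    simp only [map_add, kp, ha, hb, hc, ha', hb', hc'] at e2
    obtain rfl : b = b' := by
      linear_combination (norm := skip) (x + x ^ 4) • e + (x + x ^ 2) • e1 + (x ^ 2 + x ^ 4) • e2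
      match_scalars <;> grind
    obtain rfl : c = c' := by
      linear_combination (norm := skip) (x ^ 2 + x ^ 4) • e + (x + x ^ 4) • e1 + (x + x ^ 2) • e2
      match_scalars <;> grind
    obtain rfl : a = a' := by simpa using e
    rfl
  · refine ⟨((⟨_, N (x ^ 1 • w + x ^ 3 • w)⟩, ⟨_, N (x ^ 1 • w + x ^ 4 • w)⟩),
      ⟨_, N (x ^ 2 • w + x ^ 4 • w)⟩), ?_⟩
    simp only [map_add, kp]
    match_scalars <;> grind

end ring

theorem dec3 : Dec3Stmt := by
  intro V _ _ W α β h2 hα hβ a3 b3 hc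
  obtain ⟨R, _, _, a, b, ha, hb, hf⟩ := exists_ring (res W α hα) (res W β hβ)
    (AddMonoidHom.ext fun v => Subtype.ext (hc v v.2))
  have := dec (V := W) (a := a) (b := b)
    (hf _ _ fun v => by rw [two_smul, zero_smul]; exact Subtype.ext (h2 v))
    (hf _ _ fun v => by
      simp only [pow_succ, pow_zero, one_mul, mul_smul, ha, one_smul]; exact Subtype.ext (a3 v v.2))
    (hf _ _ fun v => by
      simp only [pow_succ, pow_zero, one_mul, mul_smul, hb, one_smul]; exact Subtype.ext (b3 v v.2))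
  simp only [mul_smul, ha, hb] at this
  rw [inf_assoc, card_inf W _ _ ?_, card_inf W _ _ ?_, card_inf W _ _ ?_, card_inf W _ _ ?_,
    card_inf W _ _ ?_, this]
  all_goals intro v; simp only [Subtype.ext_iff]; rfl

theorem f73' : F73Stmt := by
  intro V _ _ W η κ h2 hη hκ e7 fp k3 hk
  obtain ⟨R, _, _, x, -, hx, -, hf⟩ := exists_ring (res W η hη) (res W η hη) rfl
  have x7 : x ^ 7 = 1 := hf _ _ fun v => by
    simp only [pow_succ, pow_zero, one_mul, mul_smul, hx, one_smul]
    exact Subtype.ext (e7 v v.2)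
  rw [f73 (V := W) (x := x) (hf _ _ fun v => by rw [two_smul, zero_smul]; exact Subtype.ext (h2 v))
    (hf _ _ fun v => by
      rw [zero_smul]
      refine Subtype.ext (fp _ (Subtype.prop _) ?_)
      rw [← coe_res W η hη, ← hx, smul_smul]
      congr 2; linear_combination x7) (res W κ hκ) (fun v => Subtype.ext (k3 v v.2))
    (fun v => by simp only [hx]; exact Subtype.ext (hk v v.2)), card_inf W _ _ ?_]
  intro v; simp only [Subtype.ext_iff]; rfl

end Cfsg.Agent.H76.ParDec
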