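import Cfsg.Agent.H76.Code
import Cfsg.Agent.H76.FConj

/-! Labels of orthogonal classes together with discriminant and spinor norm. -/

namespace Cfsg.Agent.H76

universe u v w

open Module QuadraticMap
open H30 (spinorNorm isoEquiv)

variable {F : Type u} [Field F] [Fintype F] {L : Type w} [Field L] [Algebra F L] [IsAlgClosed L]

omit [IsAlgClosed L] in
theorem dch_eq_fdisc (h2 : (2 : F) ≠ 0) {ι : Type} [Fintype ι] [DecidableEq ι]
    {Q : QuadraticForm F (ι → F)} (hQ : (polarBilin Q).Nondegenerate) :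
    dch L Q = ((fdisc (polarBilin Q) : ℤ) : L) := by
  rw [dch, map_pow_half_eq_qs h2 (det_gram_ne_zero hQ),
    fdisc_eq (β := polarBilin Q) (Pi.basisFun F ι) (by simp) (det_gram_ne_zero hQ)]
  rfl

variable (h2 : (2 : F) ≠ 0)

/-- `(s, τ)` is the label of an isometry with spinor norm `θ` of a form with discriminant `δ`. -/
def RealT (s : Multiset (Lˣ × ℕ)) (τ : ℕ → ℤˣ × ℤˣ) (δ θ : L) : Prop :=
  ∃ (ι : Type) (_ : Fintype ι) (_ : DecidableEq ι) (Q : QuadraticForm F (ι → F))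
    (hQ : (polarBilin Q).Nondegenerate) (g : isometryGroup F ⇑Q), ujord L (g : GL ι F) = s ∧
    oLab g = τ ∧ dch L Q = δ ∧ (sqch L h2 (spinorNorm hQ (isoEquiv Q g)) : L) = θ

variable {h2} {s t : Multiset (Lˣ × ℕ)} {τ τ' : ℕ → ℤˣ × ℤˣ} {δ θ δ' θ' : L}

theorem RealT.realO (h : RealT h2 s τ δ θ) : RealO h2 s δ θ := by
  obtain ⟨ι, _, _, Q, hQ, g, h1, -, h3⟩ := h
  exact ⟨ι, _, _, Q, hQ, g, h1, h3⟩

theorem RealO.realT (h : RealO h2 s δ θ) : ∃ τ, RealT h2 s τ δ θ := by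
  obtain ⟨ι, _, _, Q, hQ, g, h1, h3⟩ := h
  exact ⟨_, ι, _, _, Q, hQ, g, h1, rfl, h3⟩

theorem RealT.labOK (h : RealT h2 s τ δ θ) : LabOK Odd s τ := by
  obtain ⟨ι, _, _, Q, hQ, g, rfl, rfl, -⟩ := h
  exact labOK_oLab h2 hQ g

theorem RealT.cast {s' : Multiset (Lˣ × ℕ)} (hs : RealT h2 s τ δ θ) (h : s = s') (h₀ : τ = τ')
    (h' : δ = δ') (h'' : θ = θ') : RealT h2 s' τ' δ' θ' := by
  rwa [← h, ← h₀, ← h', ← h'']

theorem RealT.theta_sign (h : RealT h2 s τ δ θ) : θ = 1 ∨ θ = -1 := by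
  obtain ⟨ι, _, _, Q, hQ, g, -, -, -, rfl⟩ := h
  rw [← mul_self_eq_one_iff, ← Units.val_mul, ← map_mul, H30.sqCl_mul_self, map_one, Units.val_one]

theorem RealT.unique (h : RealT h2 s τ δ θ) (h' : RealT h2 s τ δ' θ') : δ = δ' ∧ θ = θ' := by
  obtain ⟨ι, _, _, Q, hQ, g, h1, h3, rfl, rfl⟩ := h
  obtain ⟨κ, _, _, Q', hQ', g', h1', h3', rfl, rfl⟩ := h'
  obtain ⟨e, h4, h5⟩ := exists_isom_of_lab h2 (isEForm_polar hQ) (isEForm_polar hQ') (pres_polar g)
    (pres_polar g') ((sim_iff_med_eq _ _).2 ((ujord_eq_ujord_iff _ _).1 (h1.trans h1'.symm))) (h3.trans h3'.symm)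
  constructor
  · rw [dch_eq_fdisc h2 hQ, dch_eq_fdisc h2 hQ', fdisc_congr (isEForm_polar hQ).sep h5 e.finrank_eq]
  · let e' : Q.IsometryEquiv Q' := ⟨e, fun v => mul_left_cancel₀ h2 (by
      have := h5 v v
      simp only [polarBilin_apply_apply, polar_self, two_nsmul] at this
      rw [two_mul, two_mul]
      exact this)⟩
    rw [← H30.spinorNorm_OCongr e' hQ hQ']
    congr 3
    refine Subtype.ext (LinearEquiv.ext fun v => ?_)
    exact (h4 (e.symm v)).trans (by rw [e.apply_symm_apply]; rfl)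

theorem RealT.exists_isometry (hs : RealT h2 s τ δ θ)
    {ι : Type} [Fintype ι] [DecidableEq ι] {Q : QuadraticForm F (ι → F)}
    (hQ : (polarBilin Q).Nondegenerate) (hι : wt s = Fintype.card ι) (hδ : dch L Q = δ) :
    ∃ g : isometryGroup F ⇑Q, (ujord L (g : GL ι F), oLab g) = (s, τ) ∧
      (sqch L h2 (spinorNorm hQ (isoEquiv Q g)) : L) = θ := by
  obtain ⟨κ, _, _, Q', hQ', g, rfl, rfl, h1, rfl⟩ := hs
  rw [wt_ujord] at hι
  obtain ⟨e, he⟩ := exists_equiv_of_fdisc h2 (isEForm_polar hQ') (isEForm_polar hQ)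
    (by simp [hι]) (by
      rw [← hδ, dch_eq_fdisc h2 hQ, dch_eq_fdisc h2 hQ'] at h1
      have h3 := two_ne_zero_ext (L := L) h2
      rcases Int.units_eq_one_or (fdisc (polarBilin Q)) with h | h <;>
        rcases Int.units_eq_one_or (fdisc (polarBilin Q')) with h' | h' <;>
        simp only [h, h', Units.val_neg, Units.val_one, Int.cast_neg, Int.cast_one] at h1 ⊢
      · exact absurd (by linear_combination -h1) h3
      · exact absurd (by linear_combination h1) h3)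
  let e' : Q'.IsometryEquiv Q := ⟨e, fun v => mul_left_cancel₀ h2 (by
    have := he v v
    simp only [polarBilin_apply_apply, polar_self, two_nsmul] at this
    rw [two_mul, two_mul]
    exact this)⟩
  have h3 : ∀ v, e (Matrix.toLin' ((g : GL κ F) : Matrix κ κ F) v) =
      Matrix.toLin' ((((isoEquiv Q).symm (H30.OCongr e' (isoEquiv Q' g)) : isometryGroup F ⇑Q) :
        GL ι F) : Matrix ι ι F) (e v) := fun v => by
    rw [Matrix.toLin'_apply, Matrix.toLin'_apply, H30.isoEquiv_symm_mulVec]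
    change _ = e ((isoEquiv Q' g).1 (e.symm (e v)))
    rw [e.symm_apply_apply, H30.isoEquiv_apply]
  refine ⟨(isoEquiv Q).symm (H30.OCongr e' (isoEquiv Q' g)), Prod.ext ?_ ?_, ?_⟩
  · exact ujord_eq_of_sim ⟨e, h3⟩ (spread_ed_toLin' (g : GL κ F))
  · exact (lab_congr (isEForm_polar hQ).sep (pres_polar _) e h3 he).symm
  · rw [MulEquiv.apply_symm_apply, H30.spinorNorm_OCongr e' hQ' hQ]

theorem RealT.add (hs : RealT h2 s τ δ θ) (ht : RealT h2 t τ' δ' θ') :
    RealT h2 (s + t) (τ * τ') (δ * δ') (θ * θ') := by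
  obtain ⟨ι, _, _, Q, hQ, g, rfl, rfl, rfl, rfl⟩ := hs
  obtain ⟨κ, _, _, Q', hQ', g', rfl, rfl, rfl, rfl⟩ := ht
  have h := (H79.nd_iff _).2 (H79.nd_qSum ((H79.nd_iff _).1 hQ) ((H79.nd_iff _).1 hQ'))
  refine ⟨ι ⊕ κ, inferInstance, inferInstance, H79.qSum Q Q', h, H79.blockO Q Q' (g, g'),
    ujord_fromBlocks (H79.coe_blockO _ _ _), ?_, ?_, ?_⟩
  · rw [oLab, oLab, oLab, ← lab_osum (isEForm_polar hQ) (pres_polar g) (isEForm_polar hQ')
      (pres_polar g')]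
    refine lab_congr ((isEForm_polar hQ).osum (isEForm_polar hQ')).sep
      ((pres_polar g).prodMap (pres_polar g')) (LinearEquiv.sumArrowLequivProdArrow ι κ F F)
      (fun v => ?_) fun v w => (H79.polar_qSum Q Q' v w).symm
    rw [H79.coe_blockO, Matrix.toLin'_apply, Matrix.fromBlocks_mulVec]
    ext <;> simp [Function.comp_def] <;> rfl
  · rw [dch, dch, dch, ← mul_pow, ← map_mul, ← Matrix.det_fromBlocks_zero₂₁ _ 0]
    congr 3
    ext (i | i) (j | j) <;>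
      simp [H79.gram_apply, H79.polar_qSum, Function.comp_def, Pi.single_apply,
        ← Pi.zero_def] <;> congr 1 <;> ext <;> simp [Pi.single_apply]
  · rw [H79.isoEquiv_blockO, (H79.blockO'_hom hQ hQ' h _).2, map_mul, Units.val_mul]

open Classical in
theorem RealT.smul (hs : RealT h2 s τ δ θ) {c : F} (hc : c ≠ 0) :
    ∃ θ', RealT h2 s ((fun j => (qs c ^ s.count (1, j + 1), qs c ^ s.count (-1, j + 1))) * τ)
      (((qs c : ℤ) : L) ^ wt s * δ) θ' := by
  obtain ⟨ι, _, _, Q, hQ, g, rfl, rfl, rfl, -⟩ := hs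
  have h1 : polarBilin (c • Q) = c • polarBilin Q := by
    ext v w
    simp [polar_smul]
  refine ⟨_, ι, _, _, c • Q, (H79.nd_iff _).2 (H79.nd_smul ((H79.nd_iff _).1 hQ) hc),
    ⟨g, H30.mem_isometryGroup.2 fun v => ?_⟩, rfl, funext fun j => Prod.ext ?_ ?_, ?_, rfl⟩
  · rw [QuadraticMap.smul_apply, QuadraticMap.smul_apply, H30.mem_isometryGroup.1 g.2]
  · rw [oLab, h1]
    exact (wsgn_smul (isEForm_polar hQ).sep (pres_polar g) hc j).trans
      (by rw [finrank_MM_toLin' (L := L)]; rfl)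
  · rw [oLab, h1]
    exact (wsgn_smul (isEForm_polar hQ).sep (pres_polar g).neg hc j).trans
      (by rw [finrank_MM_neg_toLin' (L := L)]; rfl)
  · rw [dch, dch, H79.gram_smul, Matrix.det_smul, map_mul, mul_pow, map_pow, wt_ujord,
      ← map_pow_half_eq_qs h2 hc, ← pow_mul, ← pow_mul, mul_comm (Fintype.card ι)]

theorem RealT.neg (hs : RealT h2 s τ δ θ) :
    ∃ θ', RealT h2 (twist (-1) s) (fun j => (τ j).swap) δ θ' := by
  obtain ⟨ι, _, _, Q, hQ, g, rfl, rfl, rfl, -⟩ := hs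
  have h1 : -(g : GL ι F) ∈ isometryGroup F ⇑Q := H30.mem_isometryGroup.2 fun v => by
    rw [Units.val_neg, Matrix.neg_mulVec, QuadraticMap.map_neg, H30.mem_isometryGroup.1 g.2]
  have h3 : Matrix.toLin' ((-(g : GL ι F) : GL ι F) : Matrix ι ι F) =
      -Matrix.toLin' ((g : GL ι F) : Matrix ι ι F) := LinearMap.ext fun v => by
    rw [Units.val_neg, Matrix.toLin'_apply, Matrix.neg_mulVec, LinearMap.neg_apply,
      Matrix.toLin'_apply]
  have h4 : oLab (Q := Q) ⟨-(g : GL ι F), h1⟩ = fun j => (oLab g j).swap := funext fun j => by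
    rw [oLab, oLab, ← lab_neg, ← h3]
  have h5 : ujord L (-(g : GL ι F)) = twist (-1) (ujord L (g : GL ι F)) :=
    ujord_of_smul (g := (g : GL ι F)) (c := -1) (b := -1) (by rw [Units.val_neg, neg_one_smul])
      (by rw [Units.val_neg, map_neg, map_one, Units.val_one])
  exact ⟨_, ι, _, _, Q, hQ, ⟨-g, h1⟩, h5, h4, rfl, rfl⟩

variable [Algebra.IsAlgebraic F L]

theorem FAdm.realT (h2 : (2 : F) ≠ 0) {k : ℕ} (h : FAdm Odd (Fintype.card F : ℤ) k s)
    (hτ : LabOK Odd s τ) : ∃ δ θ, RealT h2 s τ δ θ := by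
  obtain ⟨k, g, B, h1, h3, rfl, rfl⟩ := h.realW (ε := (1 : F)) h2 (fun j => (good_odd h2 j).1)
    (fun _ _ h => h.real_sym h2) hτ
  have h4 : LinearMap.BilinForm.IsSymm ((2 : F)⁻¹ • B) :=
    ⟨fun v w => by simpa using Or.inl (h1.symm w v)⟩
  have h5 : polarBilin (LinearMap.BilinMap.toQuadraticMap ((2 : F)⁻¹ • B)) = B := by
    refine LinearMap.ext₂ fun v w => ?_
    rw [polarBilin_apply_apply, H79.polar_toQuad h4]
    simp [h2]
  exact ⟨_, _, Fin k, inferInstance, inferInstance,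
    LinearMap.BilinMap.toQuadraticMap ((2 : F)⁻¹ • B), by rw [h5]; exact h1.nondegenerate,
    ⟨g, (mem_isometryGroup_iff_pres h2).2 (by rwa [h5])⟩, rfl, congrArg (lab · _) h5, rfl, rfl⟩

/-- splitting off a block of odd size with eigenvalue `±1` -/
theorem RealT.flip_aux (hs : RealT h2 s τ δ θ) {α : Lˣ} {j : ℕ} (hα : α = 1 ∨ α = -1)
    (hj : Odd (j + 1)) (hm : (α, j + 1) ∈ s) {κ : ℤˣ × ℤˣ}
    (hκ : α = 1 ∧ κ = (-1, 1) ∨ α = -1 ∧ κ = (1, -1)) :
    RealT h2 s (Pi.mulSingle j κ * τ) (-δ) (α * θ) := by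
  classical
  have h0 := two_ne_zero_ext (L := L) h2
  have h1 := neg_one_ne_one_of_two h0
  have hodd := H30.two_ne_zero_iff_odd_card.1 h2
  obtain ⟨t, rfl⟩ := Multiset.exists_cons_of_mem hm
  have h5 : FAdm Odd (Fintype.card F : ℤ) (j + 1) ({(α, j + 1)} : Multiset (Lˣ × ℕ)) :=
    fadm_single (zpow_odd_of_sq (units_sq_eq_one_iff.2 hα) (by exact_mod_cast hodd))
      (units_sq_eq_one_iff.2 hα) (Nat.add_one_pos _) hj
  have h6 := (FAdm.of_add (s := {(α, j + 1)}) hs.realO.fadm h5).1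
  obtain ⟨c, hc, hc'⟩ := exists_qs_eq h2 (-1)
  have h9 := hs.labOK
  obtain ⟨τ₁, τ₂, h3, h4, rfl⟩ : ∃ τ₁ τ₂, LabOK Odd ({(α, j + 1)} : Multiset (Lˣ × ℕ)) τ₁ ∧
      LabOK Odd t τ₂ ∧ τ₁ * τ₂ = τ := by
    rcases hα with rfl | rfl
    · refine ⟨Pi.mulSingle j ((τ j).1, 1), Function.update τ j (1, (τ j).2), fun i => ?_,
        fun i => ?_, funext fun i => ?_⟩ <;> by_cases hi : i = j
      · subst hi; simp [hj]
      · simp [hi]
      · subst hi; simpa [h1] using (h9 i).2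
      · simpa [hi] using h9 i
      · subst hi; simp
      · simp [hi]
    · refine ⟨Pi.mulSingle j (1, (τ j).2), Function.update τ j ((τ j).1, 1), fun i => ?_,
        fun i => ?_, funext fun i => ?_⟩ <;> by_cases hi : i = j
      · subst hi; simp [hj]
      · simp [hi]
      · subst hi; simpa [h1.symm] using (h9 i).1
      · simpa [hi] using h9 i
      · subst hi; simp
      · simp [hi]
  obtain ⟨δ₁, θ₁, k1⟩ := h5.realT h2 h3
  obtain ⟨δ₂, θ₂, k2⟩ := h6.realT h2 h4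
  obtain ⟨θ', k3⟩ := k1.smul hc
  obtain ⟨rfl, rfl⟩ := hs.unique (k1.add k2)
  have k4 : (((qs c : ℤˣ) : ℤ) : L) ^ wt ({(α, j + 1)} : Multiset (Lˣ × ℕ)) = -1 := by
    simpa [hc'] using hj.neg_one_pow
  rw [k4] at k3
  refine (k3.add k2).cast rfl ?_ (by ring) ?_
  · rw [mul_assoc]
    congr 1
    funext i
    by_cases hi : i = j
    · subst hi
      rcases hκ with ⟨rfl, rfl⟩ | ⟨rfl, rfl⟩ <;> simp [hc', h1, h1.symm]
    · rcases hκ with ⟨rfl, rfl⟩ | ⟨rfl, rfl⟩ <;> simp [hi]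
  · rw [← mul_assoc]
    congr 1
    rcases hα with rfl | rfl
    · rw [k3.realO.theta_eq (by simpa using h1.symm), k1.realO.theta_eq (by simpa using h1.symm)]
      simp
    · rw [k3.realO.theta_eq' (by simpa using h1), k1.realO.theta_eq' (by simpa using h1)]
      simp

theorem RealT.flip_one (hs : RealT h2 s τ δ θ) {j : ℕ} (hj : Odd (j + 1)) (hm : (1, j + 1) ∈ s) :
    RealT h2 s (Pi.mulSingle j (-1, 1) * τ) (-δ) θ := by
  simpa using hs.flip_aux (Or.inl rfl) hj hm (Or.inl ⟨rfl, rfl⟩)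

theorem RealT.flip_neg_one (hs : RealT h2 s τ δ θ) {j : ℕ} (hj : Odd (j + 1))
    (hm : (-1, j + 1) ∈ s) : RealT h2 s (Pi.mulSingle j (1, -1) * τ) (-δ) (-θ) := by
  simpa using hs.flip_aux (Or.inr rfl) hj hm (Or.inr ⟨rfl, rfl⟩)

end Cfsg.Agent.H76
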