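import Cfsg.Agent.H46.SHe
import Cfsg.Agent.H76.S95Kit

/-! The basic facts about the Held group -/

set_option autoImplicit false
set_option maxRecDepth 200000

namespace Cfsg.Agent.H76.S95HeBase

open Subgroup Cfsg.Agent.H44 Cfsg.Agent.H44.Ki Cfsg.Agent.H44.KiHe Cfsg.Agent.H46.S95
open Cfsg.Agent.H46.S95.He Cfsg.Agent.H46.WR Cfsg.Agent.H76.S95Kit
open scoped commutatorElement

theorem cls : Cls (ν 1) (ν 24) := fun a h1 h2 => by
  have := Fact.mk Nat.prime_two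
  simpa [ev] using Cov.reps pc (by rw [HeM.card_grp]; norm_num) cov1 a
    (orderOf_eq_prime (by rwa [pow_two]) h2)

theorem sylOk : SylOk (gen ν 10) :=
  sylOk_cert (orc ok) (nrc ok) pc
    [([1], [5], [4]), ([2, 1], [8], [4]), ([5, 3, 1], [8], [7]), ([3, 2], [9], [4]), ([5, 3], [9], [6]),
      ([2], [10], [3]), ([6], [10], [7]), ([8, 5, 2, 1], [10], [9])]
    [([6], [6]), ([5], [1, 2, 3]), ([3], [3, 5]), ([], []), ([1], [0]), ([2], [5]), ([2, 1], [1]),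
      ([5, 3], [4]), ([5, 3, 1], [2]), ([5, 3, 2], [1, 2]), ([5, 3, 2, 1], [1, 4]), ([8], [2, 3, 7]),
      ([8, 1], [3, 4, 7]), ([8, 2], [1, 3, 4, 7]), ([8, 2, 1], [1, 2, 3, 7]), ([8, 5, 3], [0, 3, 7]),
      ([8, 5, 3, 1], [3, 7]), ([8, 5, 3, 2], [1, 3, 7]), ([8, 5, 3, 2, 1], [3, 5, 7])]
    [[], [], [[6]], [[5]], [], [[3]], [[2]]] [[], [[7]], [[6]], [[5]], [[4]], [[3]], [[2]]] [1]
    (by decide +kernel)

theorem z_mem : ν 1 ∈ ⁅Cz (ν 1), Cz (ν 1)⁆ := mem_comm_cent (orc ok) [5] [4] (by decide +kernel)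

theorem b_mem : ν 24 ∈ ⁅Cz (ν 24), Cz (ν 24)⁆ :=
  mem_comm_cent (orc ok) [21, 18] [18, 21] (by decide +kernel)

theorem simple : IsSimpleGroup Γ :=
  have := HeM.simple
  ((MonoidHom.ofInjective HeM.inj).trans (MulEquiv.subgroupCongr HeM.range_eq)).symm.isSimpleGroup

theorem base (h : Out2) : BaseS :=
  ⟨⟨inferInstance, simple, fun c => ok.ne (l := [5, 4]) (r := [4, 5]) (by decide +kernel) (by
      simpa [ev] using c.is_comm.comm (ν 5) (ν 4)), h, cm_of cls z_mem b_mem⟩,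
    innF_of (k := 9) cls (by rw [cz_n]; norm_num) (by rw [cb_n]; norm_num),
    sylF_of (pc.card 10 le_rfl) (by rw [HeM.card_grp]; norm_num) sylOk⟩

end Cfsg.Agent.H76.S95HeBase
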