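import Cfsg.Agent.H76.ThEx1
import Cfsg.Agent.H76.ThEx2
import Cfsg.Agent.H40.ChevPar

/-!
# Thompson's conjecture for the exceptional Chevalley groups over fields with at least nine elements
-/

set_option autoImplicit false

namespace Cfsg.Agent.H76.Th.Ex

open Cfsg.Lie Cfsg.Agent.H37 Cfsg.Agent.H40 Cfsg.Agent.H34 Cfsg.Agent.H34.Split Matrix
open Cfsg.Agent.H80 (RA xA exists_hom_SL coe_xA)
open Matrix.SpecialLinearGroup (toGL)
open scoped commutatorElement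

/-- the exponent of a root on the chosen torus element -/
def val (D : ChevalleyDatum) (e : List ℤ) (r : ℕ) : ℤ :=
  ∑ i : Fin D.rank, e.getD i 0 * D.cartan i r

/-- the action of a word in the simple reflections -/
def wf (D : ChevalleyDatum) (l : List ℕ) (r : ℕ) : ℕ := l.foldr D.reflectRoot r

/-- the root lies in the subsystem -/
def InJ (D : ChevalleyDatum) (J : List ℕ) (r : ℕ) : Prop :=
  ∀ i < D.rank, i ∉ J → (D.coroot.getD r #[]).getD i 0 = 0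

instance (D : ChevalleyDatum) (J : List ℕ) (r : ℕ) : Decidable (InJ D J r) := by
  unfold InJ; infer_instance

/-- the torus element is regular outside the subsystem and inverted by the word -/
def Chk1 (D : ChevalleyDatum) (J : List ℕ) (e : List ℤ) (l : List ℕ) : Prop :=
  (∀ r < D.nroots, ¬ InJ D J r → val D e r ≠ 0 ∧ (val D e r).natAbs ≤ 7) ∧ (∀ i ∈ l, i < D.rank) ∧
  ∀ i < D.rank, wf D l (wf D l (D.simple i)) = D.simple i ∧
    val D e (wf D l (D.simple i)) = -val D e (D.simple i)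

instance (D : ChevalleyDatum) (J : List ℕ) (e : List ℤ) (l : List ℕ) :
    Decidable (Chk1 D J e l) := by unfold Chk1; infer_instance

/-- the subsystem of type `A` -/
def Chk2 (D : ChevalleyDatum) (J : List ℕ) (e : List ℤ) (l : List ℕ) (k : ℕ) (ρ : ℕ → ℕ → ℕ)
    (ε : ℕ → ℕ → ℤ) : Prop :=
  (∀ a < k + 2, ∀ b < k + 2, a ≠ b → ρ a b < D.nroots ∧ InJ D J (ρ a b) ∧ ε a b * ε a b = 1 ∧
    val D e (ρ a b) = (if a = 0 then 1 else 0) - if b = 0 then 1 else 0) ∧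
  (∀ a < k + 2, ∀ b < k + 2, a ≠ b → ∀ c < k + 2, ∀ d < k + 2, c ≠ d → a ≠ d → (a = c → b ≠ d) →
    ρ c d ≠ ρ a b ∧ ρ c d ≠ D.neg (ρ a b) ∧ D.commTerms (ρ a b) (ρ c d) =
      if b = c then [(ρ a d, ε a b * ε c d * ε a d, 1, 1)] else []) ∧
  (∀ r < D.nroots, InJ D J r → ∃ a < k + 2, ∃ b < k + 2, a ≠ b ∧ ρ a b = r ∧
    (D.IsPosRoot r → b ≠ 0) ∧ (¬ D.IsPosRoot r → a ≠ 0)) ∧
  ∀ j < k, wf D l (ρ (j + 1) (j + 2)) = ρ (k - j) (k - j + 1)

/-- the tables used by the checks -/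
structure Tab where
  neg : ℕ → ℕ
  car : ℕ → ℕ → ℤ
  co : ℕ → ℕ → ℤ
  ent : ℕ → ℕ → List (ℕ × ℤ)

namespace Tab
variable (D : ChevalleyDatum) (T : Tab)

/-- `chainRoot` -/
def cr (r s i : ℕ) : Option ℕ := ((T.ent r s)[i - 1]?).map Prod.fst

/-- `chainM` -/
def cm (r s i : ℕ) : ℤ := (((T.ent r s)[i - 1]?).map Prod.snd).getD 0

/-- `commTerms` -/
def comm (r s : ℕ) : List (ℕ × ℤ × ℕ × ℕ) :=
  let rs := T.cr r s 1
  let cands : List (Option ℕ × ℤ × ℕ × ℕ) :=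
    [ (T.cr r s 1, T.cm r s 1, 1, 1),
      (T.cr r s 2, T.cm r s 2, 2, 1),
      (T.cr s r 2, T.cm s r 2, 1, 2),
      (T.cr r s 3, T.cm r s 3, 3, 1),
      (T.cr s r 3, - T.cm s r 3, 1, 3),
      ((T.cr r s 3).bind fun k => T.cr k s 1, (rs.map fun k => T.cm k r 2 / 3).getD 0, 3, 2),
      ((T.cr s r 3).bind fun k => T.cr k r 1, (rs.map fun k => -2 * T.cm k s 2 / 3).getD 0, 2, 3) ]
  cands.filterMap fun c => c.1.map fun k => (k, c.2)

/-- `reflectRoot` -/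
def refl (i s : ℕ) : ℕ :=
  let p := D.simple i
  let A := T.car i s
  if s = p then T.neg p
  else if s = T.neg p then p
  else if 0 < A then (T.cr (T.neg p) s A.toNat).getD s
  else if A < 0 then (T.cr p s (-A).toNat).getD s
  else s

/-- `val` -/
def val (e : List ℤ) (r : ℕ) : ℤ := ∑ i : Fin D.rank, e.getD i 0 * T.car i r

/-- `InJ` -/
def InJ (J : List ℕ) (r : ℕ) : Prop := ∀ i < D.rank, i ∉ J → T.co r i = 0

instance (J : List ℕ) (r : ℕ) : Decidable (T.InJ D J r) := by unfold InJ; infer_instance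

/-- `Chk1` -/
def Chk1 (J : List ℕ) (e : List ℤ) (l : List ℕ) : Prop :=
  (∀ r < D.nroots, ¬ T.InJ D J r → T.val D e r ≠ 0 ∧ (T.val D e r).natAbs ≤ 7) ∧
  (∀ i ∈ l, i < D.rank) ∧
  ∀ i < D.rank, l.foldr (T.refl D) (l.foldr (T.refl D) (D.simple i)) = D.simple i ∧
    T.val D e (l.foldr (T.refl D) (D.simple i)) = -T.val D e (D.simple i)

instance (J : List ℕ) (e : List ℤ) (l : List ℕ) : Decidable (T.Chk1 D J e l) := by
  unfold Chk1; infer_instance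

/-- `Chk2` -/
def Chk2 (J : List ℕ) (e : List ℤ) (l : List ℕ) (k : ℕ) (ρ : ℕ → ℕ → ℕ) (ε : ℕ → ℕ → ℤ) : Prop :=
  (∀ a < k + 2, ∀ b < k + 2, a ≠ b → ρ a b < D.nroots ∧ T.InJ D J (ρ a b) ∧ ε a b * ε a b = 1 ∧
    T.val D e (ρ a b) = (if a = 0 then 1 else 0) - if b = 0 then 1 else 0) ∧
  (∀ a < k + 2, ∀ b < k + 2, a ≠ b → ∀ c < k + 2, ∀ d < k + 2, c ≠ d → a ≠ d → (a = c → b ≠ d) →
    ρ c d ≠ ρ a b ∧ ρ c d ≠ T.neg (ρ a b) ∧ T.comm (ρ a b) (ρ c d) =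
      if b = c then [(ρ a d, ε a b * ε c d * ε a d, 1, 1)] else []) ∧
  (∀ r < D.nroots, T.InJ D J r → ∃ a < k + 2, ∃ b < k + 2, a ≠ b ∧ ρ a b = r ∧
    (D.IsPosRoot r → b ≠ 0) ∧ (¬ D.IsPosRoot r → a ≠ 0)) ∧
  ∀ j < k, l.foldr (T.refl D) (ρ (j + 1) (j + 2)) = ρ (k - j) (k - j + 1)

set_option synthInstance.maxSize 2048 in
instance (J : List ℕ) (e : List ℤ) (l : List ℕ) (k : ℕ) (ρ : ℕ → ℕ → ℕ) (ε : ℕ → ℕ → ℤ) :
    Decidable (T.Chk2 D J e l k ρ ε) := by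
  unfold Chk2
  refine @instDecidableAnd _ _ inferInstance (@instDecidableAnd _ _ ?_ inferInstance)
  refine @Nat.decidableBallLT _ _ fun a _ => @Nat.decidableBallLT _ _ fun b _ => ?_
  infer_instance

end Tab

/-- the fast tables -/
noncomputable def fast (D : ChevalleyDatum) (code : ℕ → ℕ → ℕ) (cor car : ℕ → ℕ) : Tab where
  neg r := if r < D.nroots then D.nroots - 1 - r else D.neg r
  car i r := if r < D.nroots ∧ i < D.rank then nib (car r) i else D.cartan i r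
  co r i := if r < D.nroots ∧ i < D.rank then nib (cor r) i else co D r i
  ent r s := if r < D.nroots then dec (code r (D.rank + s)) else D.chainEntry r s

theorem fast_eq {D : ChevalleyDatum} {code : ℕ → ℕ → ℕ} {cor car : ℕ → ℕ}
    (h : Link D code cor car) : fast D code cor car = ⟨D.neg, D.cartan, co D, D.chainEntry⟩ := by
  unfold fast
  congr 1 <;> funext r
  · split_ifs with h1
    · have := h.neg r h1; omega
    · rfl
  · funext s; exact ite_eq_right_iff.2 fun h1 => h.car _ h1.1 _ h1.2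
  · funext s; exact ite_eq_right_iff.2 fun h1 => h.fast.cor _ h1.1 _ h1.2
  · funext s; exact ite_eq_right_iff.2 fun h1 => h.entry h1 s

theorem Chk1.of {D : ChevalleyDatum} {code : ℕ → ℕ → ℕ} {cor car : ℕ → ℕ}
    (h : Link D code cor car) {J : List ℕ} {e : List ℤ} {l : List ℕ}
    (H : (fast D code cor car).Chk1 D J e l) : Chk1 D J e l := by
  rw [fast_eq h] at H; exact H

theorem Chk2.of {D : ChevalleyDatum} {code : ℕ → ℕ → ℕ} {cor car : ℕ → ℕ}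
    (h : Link D code cor car) {J : List ℕ} {e : List ℤ} {l : List ℕ} {k : ℕ} {ρ : ℕ → ℕ → ℕ}
    {ε : ℕ → ℕ → ℤ} (H : (fast D code cor car).Chk2 D J e l k ρ ε) : Chk2 D J e l k ρ ε := by
  rw [fast_eq h] at H; exact H

variable {D : ChevalleyDatum} {C : Cert D} {F : Type*} [Field F]

theorem mem_Phi {J : List ℕ} {r : Fin D.nroots} :
    r ∈ C.S.Phi (nodes D {i | i ∈ J}) ↔ InJ D J r :=
  (mem_Phi_nodes C _ r).trans (and_iff_right r.2)

theorem torChar_val (γ : Fˣ) (e : List ℤ) (r : ℕ) :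
    torChar D (fun i => γ ^ e.getD i 0) r = γ ^ val D e r := by
  rw [torChar, val, ← prod_zpow']
  exact Finset.prod_congr rfl fun i _ => (_root_.zpow_mul _ _ _).symm
where
  prod_zpow' {γ : Fˣ} {f : Fin D.rank → ℤ} : ∏ i, γ ^ f i = γ ^ ∑ i, f i :=
    (map_prod (zpowersHom Fˣ γ) (fun i => Multiplicative.ofAdd (f i)) _).symm

theorem exists_n (l : List ℕ) (hl : ∀ i ∈ l, i < D.rank) : ∃ n ∈ (C.split F).N,
    ∀ r : Fin D.nroots, ((C.split F).ν n r : ℕ) = wf D l r := by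
  induction l with
  | nil => exact ⟨1, one_mem _, fun r => by rw [ν_one]; rfl⟩
  | cons i l ih =>
    obtain ⟨n, hn, e⟩ := ih fun j hj => hl j (List.mem_cons_of_mem _ hj)
    have hi := hl i List.mem_cons_self
    have h1 := Cert.ng_mem_N (C := C) (F := F) (C.V.basic.simple_lt _ hi) one_ne_zero
    refine ⟨_, mul_mem h1 hn, fun r => ?_⟩
    rw [(C.split F).ν_mul _ h1 _ hn, Cert.ν_ng ⟨i, hi⟩ one_ne_zero, Equiv.Perm.mul_apply, sgn_s,
      C.R.σ_apply, C.refl_val, e]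
    rfl

theorem Chk1.exists_inv {J : List ℕ} {e : List ℤ} {l : List ℕ} (h : Chk1 D J e l) (γ : Fˣ) :
    ∃ n : D.group F, n * C.tg F (fun i => γ ^ e.getD i 0) * n⁻¹ = (C.tg F fun i => γ ^ e.getD i 0)⁻¹ ∧
      ∀ r < D.nroots, ∃ a : Fˣ, ∀ s, n * C.xg F r s * n⁻¹ = C.xg F (wf D l r) (a * s) := by
  obtain ⟨n, hn, e1⟩ := exists_n (C := C) (F := F) l h.2.1
  obtain ⟨a, -, ha⟩ := Cert.conj_xg hn
  refine ⟨n, ?_, fun r hr => ⟨a ⟨r, hr⟩, fun s => by rw [ha ⟨r, hr⟩, e1]⟩⟩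
  obtain ⟨d, hd⟩ := Cert.mem_H_iff.1 (conj_mem_H hn (Cert.tg_mem_H fun i => γ ^ e.getD i 0))
  rw [← hd, ← map_inv, Cert.tg_eq_iff]
  intro j
  have hj := C.V.basic.simple_lt j j.2
  obtain ⟨h1, h2⟩ := h.2.2 j j.2
  have h3 := e1 ⟨_, hj⟩
  generalize (C.split F).ν n ⟨_, hj⟩ = r at h3
  have h4 : ∀ s, n * C.xg F r s * n⁻¹ = C.xg F (D.simple j) (a r * s) := fun s => by
    rw [ha, e1, h3, h1]
  have h5 := Cert.tg_conj (C := C) d hj (a r * 1)
  rw [← h4, hd] at h5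
  have h6 := (h4 _).symm.trans ((congrArg (n * · * n⁻¹)
    (Cert.tg_conj (C := C) (fun i => γ ^ e.getD i 0) r.2 1)).symm.trans
      (Eq.trans (by group) h5))
  have h7 := Cert.xg_injective hj h6
  rw [torChar_val, h3, h2] at h7
  rw [Cert.torChar_inv, torChar_val, ← _root_.zpow_neg]
  refine Units.ext (mul_left_cancel₀ (a r).ne_zero ?_)
  linear_combination -h7

variable (hω : IsAut D negP D.neg fun _ => -1)
include hω

theorem Chk1.fpf {J : List ℕ} {e : List ℤ} {l : List ℕ} (h : Chk1 D J e l) {γ : Fˣ}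
    (hγ : ∀ k : ℤ, k ≠ 0 → k.natAbs ≤ 7 → γ ^ k ≠ 1) :
    (∀ r ∈ Rad (C.split F) (nodes D {i | i ∈ J}), C.tg F (fun i => γ ^ e.getD i 0) * r =
      r * C.tg F (fun i => γ ^ e.getD i 0) → r = 1) ∧
    ∀ r ∈ RadM C F (nodes D {i | i ∈ J}), C.tg F (fun i => γ ^ e.getD i 0) * r =
      r * C.tg F (fun i => γ ^ e.getD i 0) → r = 1 :=
  fpf_tg hω fun r hr => by
    have := h.1 r r.2 fun h => hr (mem_Phi.2 h)
    rw [torChar_val]; exact hγ _ this.1 this.2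

theorem regular [Fintype F] (hF : 9 ≤ Fintype.card F) {key : List ℕ} (hk : Game D key)
    (C : Cert D) {e : List ℤ} {l : List ℕ} (h : Chk1 D [] e l) : ∃ c : D.group F, ∀ g, Sq c g := by
  obtain ⟨γ, hγ⟩ := exists_gen_pow hF
  obtain ⟨n, hn, -⟩ := h.exists_inv (C := C) γ
  obtain ⟨f1, f2⟩ := h.fpf (C := C) hω hγ
  refine ⟨C.tg F fun i => γ ^ e.getD i 0, fun g => ?_⟩
  obtain ⟨v, hv, u, hu, e1⟩ := gauss hω (C := C) hF hk g
  have hJ : ∀ r, r ∉ C.S.Phi (nodes D {i | i ∈ ([] : List ℕ)}) := fun r hr => by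
    rw [show nodes D {i | i ∈ ([] : List ℕ)} = ∅ by ext; simp [nodes], Phi_empty] at hr
    exact hr
  have := sq_of_fpf conj_Rad conj_RadM (isConj_iff.2 ⟨n, hn⟩) (IsConj.refl _)
    (inv_mem (H_le_Kn _ (Cert.tg_mem_H _))) (H_le_Kn _ (Cert.tg_mem_H _)) (fpf_inv f2) f1
    (U_sub hu fun r hr => ⟨hr, hJ r⟩) (U_sub hv fun r hr => ⟨hr, hJ r⟩)
  rw [inv_mul_cancel, mul_one] at this
  exact this.of_conj e1

omit hω in
theorem Chk2.exists_hom [Finite F] {J : List ℕ} {e : List ℤ} {l : List ℕ} {k : ℕ} (hk : 1 ≤ k)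
    {ρ : ℕ → ℕ → ℕ} {ε : ℕ → ℕ → ℤ} (h : Chk2 D J e l k ρ ε) :
    ∃ φ : Matrix.SpecialLinearGroup (Fin (k + 2)) F →* D.group F,
      ∀ r s, φ (xA r s) = C.xg F (ρ r.1.1 r.1.2) (ε r.1.1 r.1.2 * s) := by
  have lt : ∀ r : RA (k + 2), ρ r.1.1 r.1.2 < D.nroots := fun r =>
    (h.1 _ r.1.1.2 _ r.1.2.2 (Fin.val_ne_of_ne r.2)).1
  have com : ∀ r s : RA (k + 2), r.1.1 ≠ s.1.2 → r.1.2 ≠ s.1.1 → ∀ t u : F,
      Commute (C.xg F (ρ r.1.1 r.1.2) t) (C.xg F (ρ s.1.1 s.1.2) u) := fun r s h1 h2 t u => by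
    by_cases e : r = s
    · exact e ▸ H80.par_commute (Cert.xg_add _) t u
    obtain ⟨a1, a2, a3⟩ := h.2.1 _ r.1.1.2 _ r.1.2.2 (Fin.val_ne_of_ne r.2) _ s.1.1.2 _ s.1.2.2
      (Fin.val_ne_of_ne s.2) (Fin.val_ne_of_ne h1)
      (fun h3 h4 => e (Subtype.ext (Prod.ext (Fin.ext h3) (Fin.ext h4))))
    rw [if_neg (Fin.val_ne_of_ne h2)] at a3
    exact Cert.commute_xg ⟨lt r, lt s, a1, a2, a3⟩ t u
  refine exists_hom_SL (by omega) (fun r t u => by rw [mul_add, Cert.xg_add])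
    (fun r s h1 h2 t u => com r s h1 h2 _ _) fun a b c h1 h2 h3 t u => ?_
  obtain ⟨a1, a2, a3⟩ := h.2.1 _ a.2 _ b.2 (Fin.val_ne_of_ne h1) _ b.2 _ c.2
    (Fin.val_ne_of_ne h2) (Fin.val_ne_of_ne h3) (fun h4 => absurd (Fin.ext h4) h1)
  have e1 := Cert.xg_comm (C := C) (lt ⟨(a, b), h1⟩) (lt ⟨(b, c), h2⟩) a1 a2 (ε a b * t) (ε b c * u)
  rw [ChevalleyDatum.commWord, a3, if_pos rfl] at e1
  have s1 := congrArg (Int.cast (R := F)) (h.1 _ a.2 _ b.2 (Fin.val_ne_of_ne h1)).2.2.1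
  have s2 := congrArg (Int.cast (R := F)) (h.1 _ b.2 _ c.2 (Fin.val_ne_of_ne h2)).2.2.1
  push_cast at s1 s2
  simp only [List.map_cons, List.map_nil, List.prod_cons, List.prod_nil, mul_one, pow_one] at e1
  rw [show ((ε a b * ε b c * ε a c : ℤ) : F) * -(ε a b * t) * (ε b c * u) = -(ε a c * (t * u)) by
    push_cast
    linear_combination (-(ε a c : F) * t * u * (ε b c * ε b c)) * s1 - (ε a c : F) * t * u * s2,
    Cert.xg_neg] at e1
  have c1 := com ⟨(a, c), h3⟩ ⟨(a, b), h1⟩ h1 h3.symm (ε a c * (t * u)) (ε a b * t)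
  have c2 := com ⟨(a, c), h3⟩ ⟨(b, c), h2⟩ h3 h2.symm (ε a c * (t * u)) (ε b c * u)
  dsimp only at e1 c1 c2 ⊢
  rw [commutatorElement_def, mul_assoc, ← _root_.mul_inv_rev, e1, _root_.mul_inv_rev, inv_inv,
    ← mul_assoc, ← (c1.mul_right c2).eq, mul_inv_cancel_right]

theorem levi [Fintype F] (hF : 9 ≤ Fintype.card F) {key : List ℕ} (hk : Game D key) (C : Cert D)
    {J : List ℕ} {e : List ℤ} {l : List ℕ} {k : ℕ} (k1 : 1 ≤ k) (k2 : k ≤ 7) {ρ : ℕ → ℕ → ℕ}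
    {ε : ℕ → ℕ → ℤ} (h1 : Chk1 D J e l) (h2 : Chk2 D J e l k ρ ε) :
    ∃ c : D.group F, ∀ g, Sq c g := by
  obtain ⟨γ, hγ⟩ := exists_gen_pow hF
  obtain ⟨n, hn, hn'⟩ := h1.exists_inv (C := C) γ
  obtain ⟨f1, f2⟩ := h1.fpf (C := C) hω hγ
  obtain ⟨φ, hφ⟩ := h2.exists_hom (C := C) (F := F) k1
  have a1 := fun r : RA (k + 2) => h2.1 _ r.1.1.2 _ r.1.2.2 (Fin.val_ne_of_ne r.2)
  have a2 : ∀ r : RA (k + 2), (ε r.1.1 r.1.2 : F) * ε r.1.1 r.1.2 = 1 := fun r => by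
    exact_mod_cast congrArg (Int.cast (R := F)) (a1 r).2.2.1
  have ht : ∀ A, C.tg F (fun i => γ ^ e.getD i 0) * φ A * (C.tg F fun i => γ ^ e.getD i 0)⁻¹ =
      φ (cj (dg (dl k γ)) A) := fun A => sl_ext (F := F) (m := k + 1)
    (K := ((MulAut.conj (C.tg F fun i => γ ^ e.getD i 0)).toMonoidHom.comp φ).eqLocus
      (φ.comp (cj (dg (dl k γ))))) (fun r s => by
      change C.tg F _ * φ _ * (C.tg F _)⁻¹ = φ (cj _ _)
      rw [cj_xA, hφ, hφ, Cert.tg_conj _ (a1 r).1, torChar_val, (a1 r).2.2.2, mul_left_comm]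
      congr 3
      simp only [dl, Pi.mulSingle_apply, Fin.ext_iff, Fin.val_zero]
      split_ifs <;> simp) A
  have htq : C.tg F (fun i => γ ^ e.getD i 0) ^ Fintype.card F =
      C.tg F fun i => γ ^ e.getD i 0 := by
    rw [← map_pow]
    exact congrArg _ (funext fun i => Units.ext (by
      rw [Pi.pow_apply, Units.val_pow_eq_pow_val, FiniteField.pow_card]))
  have htH := H_le_Kn (nodes D {i | i ∈ J}) (Cert.tg_mem_H (C := C) fun i => γ ^ e.getD i 0)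
  generalize C.tg F (fun i => γ ^ e.getD i 0) = t at hn f1 f2 ht htq htH
  have hM := good (k := k) (γ := γ) fun h => hγ 1 one_ne_zero (by decide) (by rw [zpow_one, h])
  have hY : Commute (φ (Y F k)) t := by
    have := ht (Y F k)
    rw [cj_Y, mul_inv_eq_iff_eq_mul] at this
    exact this.symm
  have hD : Commute (toGL (Y F k)) (dg (dl k γ)) := by
    have := toGL_cj (dg (dl k γ)) (Y F k)
    rw [cj_Y, eq_mul_inv_iff_mul_eq] at this
    exact this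
  have hc : ∀ A B, toGL B * (toGL (Y F k) * dg (dl k γ)) = toGL (Y F k) * dg (dl k γ) * toGL A →
      φ (Y F k) * t * φ A = φ B * (φ (Y F k) * t) := fun A B hAB => by
    have e1 : B * Y F k = Y F k * cj (dg (dl k γ)) A := by
      apply Matrix.SpecialLinearGroup.toGL_injective
      rw [map_mul, map_mul, toGL_cj, ← mul_assoc, ← mul_assoc, ← hAB]; group
    rw [← mul_assoc, ← map_mul, e1, map_mul, ← ht]; group
  have hφK : ∀ A, φ A ∈ Kn C F (nodes D {i | i ∈ J}) := sl_ext (K := (Kn C F _).comap φ)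
    fun r s => by
      rw [Subgroup.mem_comap, hφ]
      exact U_le_Kn hω _ (Cert.xg_mem_U (a1 r).1 (mem_Phi.2 (a1 r).2.1) _)
  have hq : ∀ r, φ (Y F k) * t * r = r * (φ (Y F k) * t) → t * r = r * t := fun r hr => by
    have := (Commute.pow_left hr (Fintype.card F)).eq
    rwa [hY.mul_pow, ← map_pow, Y_pow (by omega), map_one, one_mul, htq] at this
  have hre : IsConj (φ (Y F k) * t) (φ (Y F k) * t)⁻¹ := by
    choose a ha using fun j : Fin k => hn' _ (a1 (ed j)).1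
    let b : Fin k → Fˣ := fun j => a j *
      Units.mk0 _ (left_ne_zero_of_mul_eq_one (a2 (ed j))) *
      Units.mk0 _ (left_ne_zero_of_mul_eq_one (a2 (ed j.rev)))
    obtain ⟨c, e1⟩ := exists_cj b
    have e2 : n * φ (Y F k) * n⁻¹ =
        φ ((List.finRange k).reverse.map fun j => xA (ed j.rev) (b j : F)).prod := by
      rw [Y, ← MulAut.conj_apply, map_list_prod, map_list_prod, map_list_prod, List.map_map,
        List.map_map, List.map_map]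
      refine congrArg List.prod (List.map_congr_left fun j _ => ?_)
      simp only [Function.comp_apply, MulAut.conj_apply, hφ, ha]
      congr 1
      · refine (h2.2.2.2 j j.2).trans ?_
        congr 1 <;> simp [ed] <;> omega
      · simp only [b, Units.val_mul, Units.val_mk0]
        linear_combination (-(a j : F) * ε (ed j).1.1 (ed j).1.2) * a2 (ed j.rev)
    generalize ((List.finRange k).reverse.map fun j => xA (ed j.rev) (b j : F)).prod = Y' at e1 e2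
    refine (isConj_iff.2 ⟨n, rfl⟩).trans (hM.real hc (Z := Y' * Y F k) ?_ ?_).symm
    · rw [map_mul, ← e2]
      calc _ = n * φ (Y F k) * n⁻¹ * (n * t * n⁻¹) * (φ (Y F k) * t) := by group
        _ = _ := by rw [hn, hY.eq]; group
    · refine (isConj_iff.2 ⟨dg c, ?_⟩).symm
      have e3 := toGL_cj (dg c) Y'
      have e4 : Commute (dg (dl k γ))⁻¹ (dg c)⁻¹ := ((Commute.all _ _).map dg).inv_inv
      rw [e1, map_inv] at e3
      rw [map_mul, hD.eq, _root_.mul_inv_rev, e3]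
      calc _ = dg c * toGL Y' * ((dg (dl k γ))⁻¹ * (dg c)⁻¹) := by rw [← e3]; group
        _ = _ := by rw [e4.eq]; group
  refine ⟨φ (Y F k) * t, fun g => ?_⟩
  obtain ⟨v, hv, u, hu, e1⟩ := gauss hω (C := C) hF hk g
  obtain ⟨u', hu', r, hr, rfl⟩ := dec_Up (nodes D {i | i ∈ J}) hu
  obtain ⟨r', hr', v', hv', rfl⟩ := dec_Vn hω (nodes D {i | i ∈ J}) hv
  have key : ∀ (r : Fin D.nroots) (K : Subgroup (Matrix.SpecialLinearGroup (Fin (k + 2)) F)),
      r ∈ C.S.Phi (nodes D {i | i ∈ J}) → (∀ (a : RA (k + 2)) (s : F), (C.S.pos r → a.1.2 ≠ 0) →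
        (¬ C.S.pos r → a.1.1 ≠ 0) → xA a s ∈ K) → ∀ x ∈ (C.split F).X r, x ∈ K.map φ := by
    intro r K hr hK x hx
    obtain ⟨s, rfl⟩ := Cert.mem_X.1 hx
    obtain ⟨a, ha, b, hb, b1, b2, b3, b4⟩ := h2.2.2.1 r r.2 (mem_Phi.1 hr)
    let q : RA (k + 2) := ⟨(⟨a, ha⟩, ⟨b, hb⟩), fun h => b1 (congrArg Fin.val h)⟩
    refine ⟨xA q (ε a b * s), hK q _ (fun h h' => b3 ((C.pos_iff r).1 h) (congrArg Fin.val h'))
      (fun h h' => b4 (fun h1 => h ((C.pos_iff r).2 h1)) (congrArg Fin.val h')), ?_⟩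
    rw [hφ, ← mul_assoc, a2 q, one_mul, b2]
  let K₁ : Subgroup (Matrix.SpecialLinearGroup (Fin (k + 2)) F) :=
    { carrier := {A | A.1 *ᵥ Pi.single 0 1 = Pi.single 0 1}
      one_mem' := one_mulVec _
      mul_mem' := fun {A B} hA hB => by
        change (A.1 * B.1) *ᵥ _ = _
        rw [← mulVec_mulVec, hB, hA]
      inv_mem' := fun {A} hA => by
        change (A⁻¹).1 *ᵥ _ = _
        conv_lhs => rw [← hA, mulVec_mulVec]
        rw [← Matrix.SpecialLinearGroup.coe_mul, inv_mul_cancel]; exact one_mulVec _ }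
  let K₂ : Subgroup (Matrix.SpecialLinearGroup (Fin (k + 2)) F) :=
    { carrier := {A | Pi.single 0 1 ᵥ* A.1 = Pi.single 0 1}
      one_mem' := vecMul_one _
      mul_mem' := fun {A B} hA hB => by
        change _ ᵥ* (A.1 * B.1) = _
        rw [← vecMul_vecMul, hA, hB]
      inv_mem' := fun {A} hA => by
        change _ ᵥ* (A⁻¹).1 = _
        conv_lhs => rw [← hA, vecMul_vecMul]
        rw [← Matrix.SpecialLinearGroup.coe_mul, mul_inv_cancel]; exact vecMul_one _ }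
  obtain ⟨A₁, m1, rfl⟩ := U_le (K := K₁.map φ) (fun r hr => key r K₁ hr.2 fun a s h _ => by
    change (xA a s).1 *ᵥ _ = _
    rw [coe_xA, add_mulVec, one_mulVec, single_mulVec, Pi.single_eq_of_ne (h hr.1)]; simp) hu'
  obtain ⟨A₂, m2, rfl⟩ := U_le (K := K₂.map φ) (fun r hr => key r K₂ hr.2 fun a s _ h => by
    change _ ᵥ* (xA a s).1 = _
    rw [coe_xA, vecMul_add, vecMul_one, single_one_vecMul]
    ext j; simp [h hr.1]) hv'
  refine (hM.finish hc conj_Rad conj_RadM hφK (mul_mem (hφK _) htH) (fun r hr h => f1 r hr (hq r h))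
    (fun r hr h => f2 r hr (hq r h)) hre (g := A₂ * A₁) (fun a ha => ?_) hr hr').of_conj
    (by rw [map_mul]; convert e1 using 1; group)
  have e2 : Pi.single 0 1 ⬝ᵥ (A₂.1 * A₁.1) *ᵥ Pi.single 0 1 = 1 := by
    rw [← mulVec_mulVec, show A₁.1 *ᵥ _ = _ from m1, dotProduct_mulVec, show _ ᵥ* A₂.1 = _ from m2]
    simp
  rw [← Matrix.SpecialLinearGroup.coe_mul, ha] at e2
  rw [show a = 1 by simpa [smul_mulVec] using e2, one_smul] at ha
  rw [show A₂ * A₁ = 1 from Subtype.ext ha, map_one]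

omit hω

/-- entries of a table -/
def tb {α : Type} (z : α) (L : List (List α)) (a b : ℕ) : α := (L.getD a []).getD b z

theorem G2 [Fintype F] (hF : 9 ≤ Fintype.card F) : ∃ c : chevG2.group F, ∀ g, Sq c g :=
  regular negAutG2 hF (key := [0, 1]) (by decide +kernel) (cert (by simp)) (e := [3, 5])
    (l := [1, 0, 1, 0, 1, 0]) (by decide +kernel)

theorem F4 [Fintype F] (hF : 9 ≤ Fintype.card F) : ∃ c : chevF4.group F, ∀ g, Sq c g :=
  levi negAutF4 hF (key := [0, 1, 2, 3]) (by decide +kernel) (cert (by simp)) (J := [0, 1])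
    (e := [5, 9, 13, 7])
    (l := [3, 2, 1, 2, 0, 1, 2, 3, 2, 1, 2, 0, 1, 2, 3, 2, 1, 2, 0, 1, 2, 1, 0]) (k := 1)
    (by decide) (by decide) (ρ := tb 0 [[0, 33, 34], [14, 0, 27], [13, 20, 0]])
    (ε := tb 0 [[1, 1, -1], [1, 1, 1], [-1, 1, 1]])
    (.of (checkLink_sound linkF4) (by decide +kernel))
    (.of (checkLink_sound linkF4) (by decide +kernel))

theorem E6 [Fintype F] (hF : 9 ≤ Fintype.card F) : ∃ c : chevE6.group F, ∀ g, Sq c g :=
  levi negAutE6 hF (key := [0, 3, 1, 2, 4, 5]) (by decide +kernel) (cert (by simp))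
    (J := [1, 3, 4]) (e := [5, 6, 9, 12, 9, 5])
    (l := [0, 2, 3, 4, 5, 1, 3, 4, 2, 3, 0, 2, 1, 3, 4, 5, 1, 3, 4, 2, 3, 0, 2, 1, 3, 4, 3, 2, 1, 3,
      0, 2, 0]) (k := 2) (by decide) (by decide)
    (ρ := tb 0 [[0, 37, 40, 48], [34, 0, 39, 47], [31, 32, 0, 46], [23, 24, 25, 0]])
    (ε := fun _ _ => 1)
    (.of (checkLink_sound linkE6) (by decide +kernel))
    (.of (checkLink_sound linkE6) (by decide +kernel))

theorem E7 [Fintype F] (hF : 9 ≤ Fintype.card F) : ∃ c : chevE7.group F, ∀ g, Sq c g :=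
  levi negAutE7 hF (key := [0, 3, 1, 2, 4, 5, 6]) (by decide +kernel) (cert (by simp))
    (J := [0, 2, 3, 4]) (e := [7, 10, 13, 19, 15, 11, 6])
    (l := [6, 5, 4, 3, 2, 1, 3, 4, 5, 6, 0, 2, 3, 4, 5, 1, 3, 4, 2, 3, 0, 2, 1, 3, 4, 5, 6, 0, 2, 3,
      4, 5, 1, 3, 4, 2, 3, 0, 2, 1, 3, 4, 5, 4, 3, 0, 2, 1, 3, 4, 0, 2, 1, 3, 2, 1, 0]) (k := 3)
    (by decide) (by decide)
    (ρ := tb 0 [[0, 93, 94, 95, 96], [32, 0, 73, 74, 75], [31, 52, 0, 69, 70], [30, 51, 56, 0, 66],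
      [29, 50, 55, 59, 0]])
    (ε := tb 0 [[1, 1, -1, 1, -1], [1, 1, 1, -1, 1], [-1, 1, 1, 1, -1], [1, -1, 1, 1, 1],
      [-1, 1, -1, 1, 1]])
    (.of (checkLink_sound linkE7) (by decide +kernel))
    (.of (checkLink_sound linkE7) (by decide +kernel))

theorem E8 [Fintype F] (hF : 9 ≤ Fintype.card F) : ∃ c : chevE8.group F, ∀ g, Sq c g :=
  levi negAutE8 hF (key := [0, 3, 1, 2, 4, 5, 6, 7]) (by decide +kernel) (cert (by simp))
    (J := [0, 2, 3, 4, 5, 6]) (e := [11, 16, 21, 31, 25, 19, 13, 7])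
    (l := [7, 6, 5, 4, 3, 2, 1, 3, 4, 5, 6, 0, 2, 3, 4, 5, 1, 3, 4, 2, 3, 0, 2, 1, 3, 4, 5, 6, 7, 6,
      5, 4, 3, 2, 1, 3, 4, 5, 6, 0, 2, 3, 4, 5, 1, 3, 4, 2, 3, 0, 2, 1, 3, 4, 5, 6, 7, 1, 3, 4, 5, 6,
      0, 2, 3, 4, 5, 1, 3, 4, 2, 3, 0, 2, 1, 3, 4, 5, 6, 5, 1, 3, 4, 2, 3, 0, 2, 1, 3, 4, 5, 4, 3, 0,
      2, 1, 3, 4, 0, 2, 1, 3, 2, 1, 0]) (k := 5) (by decide) (by decide)
    (ρ := tb 0 [[0, 162, 163, 164, 165, 166, 167], [77, 0, 135, 136, 137, 138, 139],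
      [76, 104, 0, 130, 131, 132, 133], [75, 103, 109, 0, 126, 127, 128],
      [74, 102, 108, 113, 0, 123, 124], [73, 101, 107, 112, 116, 0, 121],
      [72, 100, 106, 111, 115, 118, 0]])
    (ε := tb 0 [[1, 1, -1, 1, -1, 1, -1], [1, 1, 1, -1, 1, -1, 1], [-1, 1, 1, 1, -1, 1, -1],
      [1, -1, 1, 1, 1, -1, 1], [-1, 1, -1, 1, 1, 1, -1], [1, -1, 1, -1, 1, 1, 1],
      [-1, 1, -1, 1, -1, 1, 1]])
    (.of (checkLink_sound linkE8) (by decide +kernel))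
    (.of (checkLink_sound linkE8) (by decide +kernel))

end Cfsg.Agent.H76.Th.Ex
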