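import Mathlib
import Cfsg.Agent.H43.Cent
import Cfsg.Agent.H76.U4RawKit

set_option autoImplicit false
set_option maxRecDepth 200000
set_option linter.style.longLine false

namespace Cfsg.Agent.H76.U4Raw0

open Cfsg.Agent.H43 Cfsg.Agent.H28 Cfsg.Agent.H97.U4 Cfsg.Agent.H76.U4Raw

theorem t_hn : NOk 275 := by decide

theorem t_hk : 275 ≤ 2 ^ 9 := by decide

noncomputable def t_g1 : Net := (Net.cons (nat_lit 1) (nat_lit 0x140514000011444001514011415004000055545005504140551541541045055150000) (Net.cons (nat_lit 2) (nat_lit 0x120201002223310311310231110232332313303013232102032032300110201011332) (Net.cons (nat_lit 4) (nat_lit 0xa0802020b0500070b07030f020f010c0c060b0f02050903040707030b0106090c00) (Net.cons (nat_lit 8) (nat_lit 0x90006e0030007f007a002000fc0090000c0012007900100040004b009800240001) (Net.cons (nat_lit 16) (nat_lit 0x2000093fd0000502c00001d0300005fc50000f385000016d000004c2500004820) (Net.cons (nat_lit 32) (nat_lit 0x1c160f35000000001168e80c000000000151c1640000000000018120)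 (Net.cons (nat_lit 64) (nat_lit 0xc52131032e081370000000000000000000000000000c556) (Net.cons (nat_lit 128) (nat_lit 0xefad19404ce4108b125686dfb70419f4) (Net.cons (nat_lit 256) (nat_lit 393207) (Net.cons (nat_lit 128) (nat_lit 391168) (Net.cons (nat_lit 64) (nat_lit 0x1b3e24e2c7a2e8560000000000000000cc4b3157033e63eb) (Net.cons (nat_lit 32) (nat_lit 0x82d6ae22000000000cd40b910000000075b567fb00000000770c280d) (Net.cons (nat_lit 16) (nat_lit 0x6000093360000415600004c6f00006caf000057cf0000e0780000b28e000000e2) (Net.cons (nat_lit 8) (nat_lit 0xdb0023000b00a200a600fe003e002100c500f600e000c00051008e002800af0055) (Net.cons (nat_lit 4) (nat_lit 0x10a000a06040c010f0d0f06020d08040c0f0b0e04010e060a0c000b09070306010b) (Net.cons (nat_lit 2) (nat_lit 0x110303103020310222113102011031313331230021133022202231000310333303113) (Net.cons (nat_lit 1) (nat_lit 0x101041451405011140111055040551004414110114155540555140011050401551114) Net.nil)))))))))))))))))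

theorem t_g1_ok : Net.ok 275 t_g1 = true := by decide +kernel

noncomputable def t_g2 : Net := (Net.cons (nat_lit 1) (nat_lit 0x145044451000050101140000505140511010110000011054440111555104115440414) (Net.cons (nat_lit 2) (nat_lit 0x20233121003112223310110313212321320022110003300112201201201032312002) (Net.cons (nat_lit 4) (nat_lit 0x20f0f0c0b0d0d030004080a020a0b03080b050f0d050e02000d0208040805010004) (Net.cons (nat_lit 8) (nat_lit 0xad0045005d001f00b900500042009c00b8005c00040043005900fa000500120004) (Net.cons (nat_lit 16) (nat_lit 0x500005d47000011010000b03900004e3c0000b12300008b6f0000888700001b08) (Net.cons (nat_lit 32) (nat_lit 0x50c9f6e2000000001045482c000000001293218700000000000080f8) (Net.cons (nat_lit 64) (nat_lit 0xf1000a124419805a00000000000000000000000000050d85) (Net.cons (nat_lit 128) (nat_lit 0x675bc0be7ef3199c9ec0eb61382f9479) (Net.cons (nat_lit 256) (nat_lit 499711) (Net.cons (nat_lit 128) (nat_lit 232334) (Net.cons (nat_lit 64) (nat_lit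 0x9a2dd33ae4d3f5490000000000000000ba81f01658d50aec) (Net.cons (nat_lit 32) (nat_lit 0x7bb06b7600000000f573fc98000000000c29eebf00000000c9136699) (Net.cons (nat_lit 16) (nat_lit 0x3000070b80000232700005d3d00003aa2000075080000ae4500000f3500009a1c) (Net.cons (nat_lit 8) (nat_lit 0xee00ee00c600d700950068003f0038002000e2001a00830050003200f900a200b2) (Net.cons (nat_lit 4) (nat_lit 0x30e080f02060508090a030503070a0c04000f010307000d060301010c040e05020d) (Net.cons (nat_lit 2) (nat_lit 0x20030210202313223132212132212101020302122201121120001321013311101310) (Net.cons (nat_lit 1) (nat_lit 0x54551040145041010401104500104440104045545010145540104500541014040055) Net.nil)))))))))))))))))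

theorem t_g2_ok : Net.ok 275 t_g2 = true := by decide +kernel

noncomputable def t_O : List Net := [t_g1, t_g2]

theorem t_O_ok : okE 275 t_O = true := (okE_cons.2 ⟨t_g1_ok, (okE_cons.2 ⟨t_g2_ok, (okE_nil 275)⟩)⟩)

noncomputable def t_g3 : Net := (Net.cons (nat_lit 1) (nat_lit 0x101114411014140010514110111054040450001054545010110140401400450545004) (Net.cons (nat_lit 2) (nat_lit 0x101022223203133100230322021213302203020300102320010200311103212132002) (Net.cons (nat_lit 4) (nat_lit 0xb090a0a0b070807040808060b0000020702000900000d0d030b06080d0f090a0106) (Net.cons (nat_lit 8) (nat_lit 0xbd003d00e400800071006e00e500710069003d009100db0037008800b5006e0000) (Net.cons (nat_lit 16) (nat_lit 0xf9e90000d8d2000000c70000aa7100000ba20000e61100001b6d00009690) (Net.cons (nat_lit 32) (nat_lit 0x7a8adacb0000000082361c2b0000000029bd873e000000000002f1d0) (Net.cons (nat_lit 64) (nat_lit 0x1a11d052ec4f00440000000000000000000000000001560b) (Net.cons (nat_lit 128) (nat_lit 0xde89ce2d404b74b1c47c3df7ac96d033)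 (Net.cons (nat_lit 256) (nat_lit 522235) (Net.cons (nat_lit 128) (nat_lit 22733) (Net.cons (nat_lit 64) (nat_lit 0xb5c54eb7d95d65c000000000000000005ee399f13757f23c) (Net.cons (nat_lit 32) (nat_lit 0x5fa067ad00000000d0ab14d6000000000197d7f600000000a0b7c646) (Net.cons (nat_lit 16) (nat_lit 0x30000cdd100001033000058ef00005a3e000077a5000055db0000906e0000efc1) (Net.cons (nat_lit 8) (nat_lit 0xb3006d0038005900e100e300f9001a0067008000e90030003900cd00a10056003e) (Net.cons (nat_lit 4) (nat_lit 0xf0800020f08060a090e09090e030c0402060e0e020a0a0a000a08080f0f0c06070c) (Net.cons (nat_lit 2) (nat_lit 0x132133031103012130312103112010222122303031122230021222310122302100211) (Net.cons (nat_lit 1) (nat_lit 0x45441501015111155505411440450410111501501154445154040451044001000405) Net.nil)))))))))))))))))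

theorem t_g3_ok : Net.ok 275 t_g3 = true := by decide +kernel

noncomputable def t_V4 : List Net := [t_g3]

theorem t_V4_ok : okE 275 t_V4 = true := (okE_cons.2 ⟨t_g3_ok, (okE_nil 275)⟩)

noncomputable def t_g6 : Net := (Net.cons (nat_lit 1) (nat_lit 0x115545050151005111115554450544101005150450555054444440404045010011041) (Net.cons (nat_lit 2) (nat_lit 0x10210200111003301223302221221233303131210023023312213301231003002020) (Net.cons (nat_lit 4) (nat_lit 0x30b020b0a02060b0d0d000d090805070102040d0e010c0808090809070703080b04) (Net.cons (nat_lit 8) (nat_lit 0x6300d40019004800e6000c008a002e00cd002c004900e2001d0008009100000007) (Net.cons (nat_lit 16) (nat_lit 0x5000049bc0000c2bc0000186000009269000080450000a5d40000e2a800009c68) (Net.cons (nat_lit 32) (nat_lit 0x7005363300000000270a8988000000007a7a3b5c00000000000203b6) (Net.cons (nat_lit 64) (nat_lit 0x3072603119a5d07100000000000000000000000000045c4d) (Net.cons (nat_lit 128) (nat_lit 0x249adc19fd6997a758683c2286d78de3)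 (Net.cons (nat_lit 256) (nat_lit 524287) (Net.cons (nat_lit 128) (nat_lit 50869) (Net.cons (nat_lit 64) (nat_lit 0xe98cca211d633cba00000000000000000486c0c326276508) (Net.cons (nat_lit 32) (nat_lit 0x87ae2fdf0000000066746e3800000000c536731a0000000019934e5d) (Net.cons (nat_lit 16) (nat_lit 0xc006000027f10000e35f0000e96a00006ba2000054990000b34a00004163) (Net.cons (nat_lit 8) (nat_lit 0x90006600240093003b004b0017007c00b8004100e2004d0021009400c200cd00c3) (Net.cons (nat_lit 4) (nat_lit 0x8030f040e05050c090d0e0d080d0a0c0303090707000e00090f020303080a020c08) (Net.cons (nat_lit 2) (nat_lit 0x102230231331130203111220311233232323303111220300102112311232301313220) (Net.cons (nat_lit 1) (nat_lit 0x55454114554044415001555540014504450445045411011155440544144114014001) Net.nil)))))))))))))))))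

theorem t_g6_ok : Net.ok 275 t_g6 = true := by decide +kernel

noncomputable def t_g7 : Net := (Net.cons (nat_lit 1) (nat_lit 0x40501401050101010454501501404540441115511540010101040150414505011450) (Net.cons (nat_lit 2) (nat_lit 0x3312230010132132121322220232232130103001000003000110113331001211300) (Net.cons (nat_lit 4) (nat_lit 0x9000508090b0601060a050201030e02060c070c020200010c060e0b0809070f0303) (Net.cons (nat_lit 8) (nat_lit 0x300c4006b004100f9005e00060039005f00e70006006b009c00c1009800b20002) (Net.cons (nat_lit 16) (nat_lit 0x50000c5400000366e00008016000084a00000edc50000b03100004a910000a400) (Net.cons (nat_lit 32) (nat_lit 0x5d12350e00000000b25d023a0000000083250a8b0000000000024c0b) (Net.cons (nat_lit 64) (nat_lit 0xc21470024202230f0000000000000000000000000003c724) (Net.cons (nat_lit 128) (nat_lit 0x3b8390502def9267d5b4e5db62540efa) (Net.cons (nat_lit 256) (nat_lit 524287) (Net.cons (nat_lit 128) (nat_lit 369458) (Net.cons (nat_lit 64) (nat_lit 0x2646529731f8467d00000000000000000fd1aeb4f6981268)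 (Net.cons (nat_lit 32) (nat_lit 0xedc1355b00000000e9ea440d00000000c9331e77000000002c34c123) (Net.cons (nat_lit 16) (nat_lit 0x70000afbf0000303c0000091d0000554f0000d588000084de00001a4f00005be8) (Net.cons (nat_lit 8) (nat_lit 0x11009e00090005002b00e300a200b100080064001600f1004700c000260069000c) (Net.cons (nat_lit 4) (nat_lit 0xa0b000e0904050c030c0b0b08010e03000205010a090301030b0c0b020e0a0a0907) (Net.cons (nat_lit 2) (nat_lit 0x113302010303100313112022001030231202230201231202113210102301132002132) (Net.cons (nat_lit 1) (nat_lit 0x11155404114010454040404515110455114410504444155040404515551540101114) Net.nil)))))))))))))))))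

theorem t_g7_ok : Net.ok 275 t_g7 = true := by decide +kernel

noncomputable def t_V8 : List Net := [t_g6, t_g7]

theorem t_V8_ok : okE 275 t_V8 = true := (okE_cons.2 ⟨t_g6_ok, (okE_cons.2 ⟨t_g7_ok, (okE_nil 275)⟩)⟩)

noncomputable def t_g10 : Net := (Net.cons (nat_lit 1) (nat_lit 0x14101055115010454444110155055451140454000145414541405450015510004411) (Net.cons (nat_lit 2) (nat_lit 0x100331121320000020033323332011131323202101202112211231011331101333120) (Net.cons (nat_lit 4) (nat_lit 0x4020d0b060601090a01030a040f0c0a01090b000c080707000d0e040f0e0c040400) (Net.cons (nat_lit 8) (nat_lit 0x400fd005200d2009200810004003f00a20062000500080006006000f000820005) (Net.cons (nat_lit 16) (nat_lit 0x200003821000048fd0000ef440000c9590000372700004c320000b842000066c0) (Net.cons (nat_lit 32) (nat_lit 0x816a207300000000456fcc4800000000404848430000000000048813) (Net.cons (nat_lit 64) (nat_lit 0x88206d21501dc01c0000000000000000000000000000c32f) (Net.cons (nat_lit 128) (nat_lit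 0x32492794690a3ff2dee4c8611bf1dc51) (Net.cons (nat_lit 256) (nat_lit 524287) (Net.cons (nat_lit 128) (nat_lit 339982) (Net.cons (nat_lit 64) (nat_lit 0xe68dd49431671a800000000000000000e2612b04633c7a45) (Net.cons (nat_lit 32) (nat_lit 0xbf9d2dbd00000000250b43fd00000000d0e7eec300000000bcf1af63) (Net.cons (nat_lit 16) (nat_lit 0x40000ed520000dc9a0000b95e0000338500008c3e000012c30000698a0000cfc5) (Net.cons (nat_lit 8) (nat_lit 0x36008600af005e0081000a0050008c00be0038002d001b00b500f2000f00a30068) (Net.cons (nat_lit 4) (nat_lit 0x3060307040707010d0008020a0e0c040c050c0605030c00020306080008010b0601) (Net.cons (nat_lit 2) (nat_lit 0x122102100132230320233300121230201323003210131103020311133302320032011) (Net.cons (nat_lit 1) (nat_lit 0x155150114151045005414100005104555051141150055051515111451505005014111) Net.nil)))))))))))))))))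

theorem t_g10_ok : Net.ok 275 t_g10 = true := by decide +kernel

noncomputable def t_V11 : List Net := [t_g10]

theorem t_V11_ok : okE 275 t_V11 = true := (okE_cons.2 ⟨t_g10_ok, (okE_nil 275)⟩)

noncomputable def t_g13 : Net := (Net.cons (nat_lit 1) (nat_lit 0x155155000454515151450510440104414014415155405414445544414515051514514) (Net.cons (nat_lit 2) (nat_lit 0x110103200001030020231220202111021233231330031323022010331100302022000) (Net.cons (nat_lit 4) (nat_lit 0x7090b0c090a0606040001000700010c010e0a0d0b050d0e070e080c0604010c0601) (Net.cons (nat_lit 8) (nat_lit 0x97002300fc00300051003e006a001100c200a20064001f002500cb007d000b0007) (Net.cons (nat_lit 16) (nat_lit 0x400009bec000030420000d83b0000508d00003c030000460a000025200000bd48) (Net.cons (nat_lit 32) (nat_lit 0x9c89420a0000000052d15dc300000000080905170000000000078240) (Net.cons (nat_lit 64) (nat_lit 0x345804313585820000000000000000000000000000584d) (Net.cons (nat_lit 128) (nat_lit 0x53f874e1e741ff7bf9c52c14903d4702)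 (Net.cons (nat_lit 256) (nat_lit 524143) (Net.cons (nat_lit 128) (nat_lit 490721) (Net.cons (nat_lit 64) (nat_lit 0xc8542ebad64c30840000000000000000a7f3c08f4d35a0ed) (Net.cons (nat_lit 32) (nat_lit 0xf6a6222a000000005aa47acf000000001ee75cf10000000030e2f066) (Net.cons (nat_lit 16) (nat_lit 0x30000ff36000008dd0000b0c6000024cd0000ff050000a5f5000062b100006662) (Net.cons (nat_lit 8) (nat_lit 0x43000100ed00690072002a007a003d00b10070005700be00d900f4005a008800ee) (Net.cons (nat_lit 4) (nat_lit 0x4060b060e000d0a0406020e030a0d0d0e0f090306010502020108020a0c05070707) (Net.cons (nat_lit 2) (nat_lit 0x100001330103112323123221233100210021301120130233320331123033230021320) (Net.cons (nat_lit 1) (nat_lit 0x104145450504141404110141101545551455104555005400040004111015500105140) Net.nil)))))))))))))))))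

theorem t_g13_ok : Net.ok 275 t_g13 = true := by decide +kernel

noncomputable def t_g14 : Net := (Net.cons (nat_lit 1) (nat_lit 0x105515555054004015115045005040000154510045455141455141551011455405404) (Net.cons (nat_lit 2) (nat_lit 0x111100232120231333130332003231212300101320333133201100102031022233222) (Net.cons (nat_lit 4) (nat_lit 0x6060203040e0e030a07050106000a090905040e0c0f0a0e09050c0b010e07080e00) (Net.cons (nat_lit 8) (nat_lit 0xb000b600ca00cb000d00d100aa00a3009c00980033000a000000a100a900020004) (Net.cons (nat_lit 16) (nat_lit 0x85360000f6140000a68b00003d6c00005b050000b2410000928100001340) (Net.cons (nat_lit 32) (nat_lit 0x28b99e040000000010032b260000000001f54dc40000000000028218) (Net.cons (nat_lit 64) (nat_lit 0x78008a0240200d700000000000000000000000000072190) (Net.cons (nat_lit 128) (nat_lit 0xaec0aa1afcb97bef811fe5b452ac9d63) (Net.cons (nat_lit 256) (nat_lit 524283) (Net.cons (nat_lit 128) (nat_lit 167257) (Net.cons (nat_lit 64) (nat_lit 0xfe93aa7a3171e4f000000000000000005d53ce54e68fb046)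 (Net.cons (nat_lit 32) (nat_lit 0x8be6147f00000000e1329ee60000000087a681fe0000000041275d18) (Net.cons (nat_lit 16) (nat_lit 0x50000bda300005e2a0000fc4300006d9d0000ac7f0000c8320000fcd300005366) (Net.cons (nat_lit 8) (nat_lit 0xb4003a0051006d004400bd008400a900b200f3001d002a005600b900990051000a) (Net.cons (nat_lit 4) (nat_lit 0xd020e060c0c0002040e02000900070f050007070b0e00020c0502090e0c090f040c) (Net.cons (nat_lit 2) (nat_lit 0x111220212311031210120023322121012312110301213111330203101130200312330) (Net.cons (nat_lit 1) (nat_lit 0x104111500050011151050005101411401504001510544411140410010055114044444) Net.nil)))))))))))))))))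

theorem t_g14_ok : Net.ok 275 t_g14 = true := by decide +kernel

noncomputable def t_V15 : List Net := [t_g13, t_g14]

theorem t_V15_ok : okE 275 t_V15 = true := (okE_cons.2 ⟨t_g13_ok, (okE_cons.2 ⟨t_g14_ok, (okE_nil 275)⟩)⟩)

noncomputable def t_g17 : Net := (Net.cons (nat_lit 1) (nat_lit 0x14515550101441041455010511444015504450441111404144410511110011000000) (Net.cons (nat_lit 2) (nat_lit 0x102101302301200020210302300121300122212103230232330120221231123232130) (Net.cons (nat_lit 4) (nat_lit 0x40603070a090403030a02020204000308020e00040c030504050a0e02020e070302) (Net.cons (nat_lit 8) (nat_lit 0xbd0081009c001c003f004400a0001400ce0009000d00950062000800a400040002) (Net.cons (nat_lit 16) (nat_lit 0xb9d80000704100000af10000535000004840000045280000606a00008380) (Net.cons (nat_lit 32) (nat_lit 0x42b19913000000000d242a720000000004ac3d76000000000002c08e) (Net.cons (nat_lit 64) (nat_lit 0x96449071004982aa0000000000000000000000000001972d) (Net.cons (nat_lit 128)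 (nat_lit 0x8cd9cb36b04fc5007a0e1fc1e3a61a78) (Net.cons (nat_lit 256) (nat_lit 516095) (Net.cons (nat_lit 128) (nat_lit 140695) (Net.cons (nat_lit 64) (nat_lit 0xb4f706d2768ea8920000000000000000627616f6ae9d7527) (Net.cons (nat_lit 32) (nat_lit 0xf93b945c00000000c6633236000000005c503cfd00000000159845e8) (Net.cons (nat_lit 16) (nat_lit 0x4000012cf000015940000921700004ac90000334d00009d5d0000a79500002c18) (Net.cons (nat_lit 8) (nat_lit 0xa50053008e000000fd008900cb0047008b002500dc0076007b0089004b001900b6) (Net.cons (nat_lit 4) (nat_lit 0xf03080b0302080e010c050e08040a0a080c020005020b0b0c09070c070d0e080d04) (Net.cons (nat_lit 2) (nat_lit 0x2212132021022332210021113310110031103132002113232311333331302223322) (Net.cons (nat_lit 1) (nat_lit 0x15410140515411440014041505445511111140014000101414000050000455010410) Net.nil)))))))))))))))))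

theorem t_g17_ok : Net.ok 275 t_g17 = true := by decide +kernel

noncomputable def t_V18 : List Net := [t_g17]

theorem t_V18_ok : okE 275 t_V18 = true := (okE_cons.2 ⟨t_g17_ok, (okE_nil 275)⟩)

noncomputable def t_g20 : Net := (Net.cons (nat_lit 1) (nat_lit 0x510505440000404004505051141115401040041040145110155100540104040040) (Net.cons (nat_lit 2) (nat_lit 0x101022122031032203212122302333322323033231111232203232011132110000102) (Net.cons (nat_lit 4) (nat_lit 0x70d0d0f000d0b03060608000b0d0805040d0a02040d02030b070c00040d090e0604) (Net.cons (nat_lit 8) (nat_lit 0xab0068002a0060005500c20014005100e0000d0024006600840086006900450006) (Net.cons (nat_lit 16) (nat_lit 0x40000a9610000b6530000ec5c000064220000207a0000635a00001b04000004a0) (Net.cons (nat_lit 32) (nat_lit 0xc741410c000000000b4f003800000000ea40895e00000000000373c0) (Net.cons (nat_lit 64) (nat_lit 0x2238321c485610d000000000000000000000000000041c02) (Net.cons (nat_lit 128) (nat_lit 0x609e2728906547391663dc77edb7b773)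 (Net.cons (nat_lit 256) (nat_lit 524283) (Net.cons (nat_lit 128) (nat_lit 484545) (Net.cons (nat_lit 64) (nat_lit 0x2b8081a59e3060190000000000000000d256074bfd50b204) (Net.cons (nat_lit 32) (nat_lit 0xbec1a0b000000000b0154b04000000003a2cc86700000000d082b94e) (Net.cons (nat_lit 16) (nat_lit 0xc7c200004ced00006fe100006c5f0000a8970000a95b0000ce25000023c4) (Net.cons (nat_lit 8) (nat_lit 0xae00e4005700aa0091006e0037004f00b90024008f000200960083000e00ed0058) (Net.cons (nat_lit 4) (nat_lit 0x3090e05000009050b030001060c07000e0d0e03020a000e080a090403080f0e0f06) (Net.cons (nat_lit 2) (nat_lit 0x132101332202102122113313310300130123120031133233103312300202332023200) (Net.cons (nat_lit 1) (nat_lit 0x44401115415511555011401054514110554501541015544115104151150441414544) Net.nil)))))))))))))))))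

theorem t_g20_ok : Net.ok 275 t_g20 = true := by decide +kernel

noncomputable def t_g21 : Net := (Net.cons (nat_lit 1) (nat_lit 0x10001515050140400505140540145100044111141515011115510404440104400504) (Net.cons (nat_lit 2) (nat_lit 0x101130133230111200001111331033111321003323012213010212233020201200030) (Net.cons (nat_lit 4) (nat_lit 0xc0a040401090d0d0706030a0602000a0705010704020e0e0c0b0d0f0d080f0c0101) (Net.cons (nat_lit 8) (nat_lit 0x3003800d9003f000a00b7004e00300031004000a9001500ec00280013002a0004) (Net.cons (nat_lit 16) (nat_lit 0x100002f6d000017290000cd13000023ba00003e400000569a0000011900006208) (Net.cons (nat_lit 32) (nat_lit 0xc508c15000000000645699a000000000400e8a0000000000001a403) (Net.cons (nat_lit 64) (nat_lit 0xc7901288d08028da00000000000000000000000000008282) (Net.cons (nat_lit 128) (nat_lit 0x7bab8face0202512a457d4451c8be04d) (Net.cons (nat_lit 256) (nat_lit 524015) (Net.cons (nat_lit 128) (nat_lit 32673) (Net.cons (nat_lit 64) (nat_lit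 0x5c37caf699649f910000000000000000356b36440352c00d) (Net.cons (nat_lit 32) (nat_lit 0x1c6a061800000000bf1f760600000000a677715300000000757a8d2e) (Net.cons (nat_lit 16) (nat_lit 0x91d7000070370000105c0000f2490000731c0000d07d0000f87b0000da69) (Net.cons (nat_lit 8) (nat_lit 0x27003c006400960062008d007a008900a200b900d9000d00f9002700f100420061) (Net.cons (nat_lit 4) (nat_lit 0x30a0c0e0e010c0b0a070809080901000000090b090904070e010e0b0f0b050f0107) (Net.cons (nat_lit 2) (nat_lit 0x30201303332313320300020030311030322310230000332213030021010121021000) (Net.cons (nat_lit 1) (nat_lit 0x15505155151155104140544001054000050000510150155014101515150540144004) Net.nil)))))))))))))))))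

theorem t_g21_ok : Net.ok 275 t_g21 = true := by decide +kernel

noncomputable def t_g22 : Net := (Net.cons (nat_lit 1) (nat_lit 0x10501000541540045551055145140054141514014455445001455110045014104504) (Net.cons (nat_lit 2) (nat_lit 0x30301131032200110313130230002013102122311110110103003201020323230300) (Net.cons (nat_lit 4) (nat_lit 0xc000207070008020f0f0502060d020107080b00000203070b0f020a080303000700) (Net.cons (nat_lit 8) (nat_lit 0x1800bb005a00fd008e004b003a004600a900060016006f007a0015000c00610001) (Net.cons (nat_lit 16) (nat_lit 0x10000000e00000608000092c60000ece00000072400004815000044580000ec60) (Net.cons (nat_lit 32) (nat_lit 0x63510247000000000205648e00000000302b9520000000000002115c) (Net.cons (nat_lit 64) (nat_lit 0x88909a2a116a83400000000000000000000000000002c436) (Net.cons (nat_lit 128) (nat_lit 0xd7c0bbe30fc95ce52b13209d9ca70000) (Net.cons (nat_lit 256) (nat_lit 523647) (Net.cons (nat_lit 128) (nat_lit 120604) (Net.cons (nat_lit 64) (nat_lit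 0x86ed326c7d9ba300000000000000003209ac2d4c70db12) (Net.cons (nat_lit 32) (nat_lit 0x1dcb028500000000c7c6282200000000206db4e2000000000f157d36) (Net.cons (nat_lit 16) (nat_lit 0x1000070420000ee1a0000cbd40000359b0000b35100002f5000006f680000fa03) (Net.cons (nat_lit 8) (nat_lit 0x2b00f8005600e9007d00bb00fa0026006600e600ec0068006f0055008f00dc005f) (Net.cons (nat_lit 4) (nat_lit 0x106060a02060c05010f070a020d0c0704070e0d06040f060e040a080b030f040504) (Net.cons (nat_lit 2) (nat_lit 0x12210103131220301030130111113323203320012220111203223131010302200312) (Net.cons (nat_lit 1) (nat_lit 0x154541451515110100055011400540140405051054511445005154400051514041510) Net.nil)))))))))))))))))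

theorem t_g22_ok : Net.ok 275 t_g22 = true := by decide +kernel

noncomputable def t_V23 : List Net := [t_g20, t_g21, t_g22]

theorem t_V23_ok : okE 275 t_V23 = true := (okE_cons.2 ⟨t_g20_ok, (okE_cons.2 ⟨t_g21_ok, (okE_cons.2 ⟨t_g22_ok, (okE_nil 275)⟩)⟩)⟩)

noncomputable def t_V25 : List Net := [t_g20]

theorem t_V25_ok : okE 275 t_V25 = true := (okE_cons.2 ⟨t_g20_ok, (okE_nil 275)⟩)

noncomputable def t_g27 : Net := (Net.cons (nat_lit 1) (nat_lit 0x50545044055010014041155044111441450154450100551551045515554011110111) (Net.cons (nat_lit 2) (nat_lit 0x32012132010200202011032201213221223222123113000201333022030230101100) (Net.cons (nat_lit 4) (nat_lit 0xe02020a010908080d0f080a030703020d02010c0a04000806010604080f01040000) (Net.cons (nat_lit 8) (nat_lit 0xee00b0008400d0005e0057006900db00040082006500a80024000800d800630000) (Net.cons (nat_lit 16) (nat_lit 0x500000a710000a2fd000010e00000409a00002e88000021510000f0b000009220) (Net.cons (nat_lit 32) (nat_lit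 0x3a8d32bd0000000018c54c2b000000004120b0ff000000000001d0f5) (Net.cons (nat_lit 64) (nat_lit 0x1234003091614020000000000000000000000000003bc8b) (Net.cons (nat_lit 128) (nat_lit 0x9ec990ba6b65f21455b24dadc0d40421) (Net.cons (nat_lit 256) (nat_lit 524031) (Net.cons (nat_lit 128) (nat_lit 475742) (Net.cons (nat_lit 64) (nat_lit 0x37ec5a2debd4e210000000000000000063a71f6bb417be13) (Net.cons (nat_lit 32) (nat_lit 0xf46fd92900000000e8fc53b10000000055c9b20600000000942ff434) (Net.cons (nat_lit 16) (nat_lit 0x3000014f400008068000037fb0000df470000099700009fd00000b61f0000d871) (Net.cons (nat_lit 8) (nat_lit 0xad003f0057006a007e00dc00c2008d00a5001b00660048001e002200ae00880068) (Net.cons (nat_lit 4) (nat_lit 0xc0f0703090d0d0706030e020208060507050d0b0d0a0e04070c0f050a040f070509) (Net.cons (nat_lit 2) (nat_lit 0x33021100201103032030120130020123331300013000123302021202321011230211) (Net.cons (nat_lit 1) (nat_lit 0x11004450501540511014545044055115505550440555115045004015444050040501)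 Net.nil)))))))))))))))))

theorem t_g27_ok : Net.ok 275 t_g27 = true := by decide +kernel

noncomputable def t_g28 : Net := (Net.cons (nat_lit 1) (nat_lit 0x50104111141004551051055550445111545555150011104410000411400040401140) (Net.cons (nat_lit 2) (nat_lit 0x2230002322121110100022320232012031301121211132310000332210110200000) (Net.cons (nat_lit 4) (nat_lit 0xa0c0c0504070a0b0b09070d020f00050b020f0e0f050b050d050200040100000102) (Net.cons (nat_lit 8) (nat_lit 0x54007c0035002b0046007c005200fa00a2000b0031000b00d300dc002800620003) (Net.cons (nat_lit 16) (nat_lit 0x300001b1a00009efa0000280a0000a75a0000d002000086520000200000008318) (Net.cons (nat_lit 32) (nat_lit 0x7a28b302000000009c90823e000000000450b340000000000000a8aa) (Net.cons (nat_lit 64) (nat_lit 0x60208080821903c200000000000000000000000000010254) (Net.cons (nat_lit 128) (nat_lit 0x4b2110bbd63db7fe2805b83b74a06a8c) (Net.cons (nat_lit 256) (nat_lit 257023) (Net.cons (nat_lit 128) (nat_lit 59916) (Net.cons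 (nat_lit 64) (nat_lit 0x7e2d9791855d23c200000000000000001815177504454254) (Net.cons (nat_lit 32) (nat_lit 0x783c1b0000000000beac28a4000000000e9ef3c000000000000028ae) (Net.cons (nat_lit 16) (nat_lit 0x300003b190000f4f60000285200008b66000070360000a6520000e8050000e37c) (Net.cons (nat_lit 8) (nat_lit 0xdc00f8007d002100460054005200b400ae004300110003009700fc00a800a20053) (Net.cons (nat_lit 4) (nat_lit 0xa0c0c070405020b01030707080f00050b020d0e0f050b050d050208040900000102) (Net.cons (nat_lit 2) (nat_lit 0x330000122101332322020102032230031303121011332310020332212130020220) (Net.cons (nat_lit 1) (nat_lit 0x50104111141004551051055550445111545555150011104410000411400040401140) Net.nil)))))))))))))))))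

theorem t_g28_ok : Net.ok 275 t_g28 = true := by decide +kernel

noncomputable def t_g29 : Net := (Net.cons (nat_lit 1) (nat_lit 0x155045051515150505414104501554505150441114404545505000041541144104501) (Net.cons (nat_lit 2) (nat_lit 0x101200230233030301221321300200321032212032022112233110130010320202310) (Net.cons (nat_lit 4) (nat_lit 0x2000a0f0a040b0c0f04050a02040c01060805010a0b030c02060a0e030900050306) (Net.cons (nat_lit 8) (nat_lit 0xc10059003100a7000200260014004800ab00ee002300be005100380049001d0002) (Net.cons (nat_lit 16) (nat_lit 0x7000060940000075c00000bac00006cb90000c7520000c018000040b0000081c8) (Net.cons (nat_lit 32) (nat_lit 0x222345ea00000000434a42fa0000000082a430200000000000010a0d) (Net.cons (nat_lit 64) (nat_lit 0xcb4e145459454143000000000000000000000000000668e8) (Net.cons (nat_lit 128) (nat_lit 0xfb16baf174bfa80500d9e52d2dc919a0) (Net.cons (nat_lit 256) (nat_lit 524285) (Net.cons (nat_lit 128) (nat_lit 31314) (Net.cons (nat_lit 64) (nat_lit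 0xcdcbcbc41824075c0000000000000000495f5f44a7b374a2) (Net.cons (nat_lit 32) (nat_lit 0x4ab9d14c00000000de2eeec900000000c926649c000000003ce59258) (Net.cons (nat_lit 16) (nat_lit 0x500007f770000c268000057b9000053c90000303f0000d0050000aa9a0000bf1a) (Net.cons (nat_lit 8) (nat_lit 0x670039006200670068007e00ac00e000d100b1008000a300f40012004100f4009e) (Net.cons (nat_lit 4) (nat_lit 0x9070a0b0e08060a03040306010b0908060c010d020603040b09020d0b090c0a0c03) (Net.cons (nat_lit 2) (nat_lit 0x103102331201102301310130123102213221312321230112132033210023130121021) (Net.cons (nat_lit 1) (nat_lit 0x140555415550140044045500151141514500150404111445011401150405501044155) Net.nil)))))))))))))))))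

theorem t_g29_ok : Net.ok 275 t_g29 = true := by decide +kernel

noncomputable def t_g30 : Net := (Net.cons (nat_lit 1) (nat_lit 0x5145400401500000455441441054151404015540405040151501545041410511414) (Net.cons (nat_lit 2) (nat_lit 0x30203313232000031211002010111023331031200200101221103333213031033332) (Net.cons (nat_lit 4) (nat_lit 0xd0b0f0c0c070e030b09050e04010b070a050805090304050a0e0f010d090a090c00) (Net.cons (nat_lit 8) (nat_lit 0xe10072000a00250009003500ad002100ce00c8006a008b0093003a000100260001) (Net.cons (nat_lit 16) (nat_lit 0x20000ef5b000048c40000eb47000019940000b0ff0000d0060000b14000009198) (Net.cons (nat_lit 32) (nat_lit 0x111128020000000021f4235b0000000000224085000000000001e449) (Net.cons (nat_lit 64) (nat_lit 0x2052100989e4102b0000000000000000000000000002d004) (Net.cons (nat_lit 128) (nat_lit 0x48467ab091261741feb0680b3cdf89bb) (Net.cons (nat_lit 256) (nat_lit 523775) (Net.cons (nat_lit 128) (nat_lit 409672) (Net.cons (nat_lit 64) (nat_lit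 0xbee745000ceef29b0000000000000000715a88bd24cff8ac) (Net.cons (nat_lit 32) (nat_lit 0x8b2033e400000000f8cc6c7e000000008a2870d900000000326d4156) (Net.cons (nat_lit 16) (nat_lit 0x40000c068000000aa0000811d00007a41000041e20000436700009f0500006bd7) (Net.cons (nat_lit 8) (nat_lit 0x3f003e0001009c006c006d009c00be00430040000c001e000e00f00099000f00eb) (Net.cons (nat_lit 4) (nat_lit 0x3070f0a0c0104010106040b09080c0602080c02070c080808090d0d0b0b00040e00) (Net.cons (nat_lit 2) (nat_lit 0x111320212202103200222310330123320113302031322102200002203001301021232) (Net.cons (nat_lit 1) (nat_lit 0x154005445001541044515541000151040041511504055101545000155444445140040) Net.nil)))))))))))))))))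

theorem t_g30_ok : Net.ok 275 t_g30 = true := by decide +kernel

noncomputable def t_g31 : Net := (Net.cons (nat_lit 1) (nat_lit 0x105441415440045445510050150444155044440515151005414504140411050104054) (Net.cons (nat_lit 2) (nat_lit 0x110232221020323013231022110223221213013023010302331130312311213121100) (Net.cons (nat_lit 4) (nat_lit 0xb0607020506080d0d0f0e050f0d0f080c060c07050e010e0d030e0b080a0d0900) (Net.cons (nat_lit 8) (nat_lit 0x7900de00bf0021007e00f600b200b100e9001d00e9005800f100aa00a2001d0000) (Net.cons (nat_lit 16) (nat_lit 0x3000031a600008de30000ac2b00005a25000064c400008ace0000203400002808) (Net.cons (nat_lit 32) (nat_lit 0x8e85dca30000000010b4c6d200000000b1ced8040000000000068252) (Net.cons (nat_lit 64) (nat_lit 0x90a8620822240a740000000000000000000000000004c0c9) (Net.cons (nat_lit 128) (nat_lit 0x116f277160853918a7d0c9fb03aa3a2d) (Net.cons (nat_lit 256) (nat_lit 457727) (Net.cons (nat_lit 128) (nat_lit 34632) (Net.cons (nat_lit 64) (nat_lit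 0xdfd9f8d572666a7f00000000000000009d28857a08796237) (Net.cons (nat_lit 32) (nat_lit 0x7da1cc30000000004f3d51d70000000039c6546d00000000acce1908) (Net.cons (nat_lit 16) (nat_lit 0x100002c9600005340000083b40000be9e0000823f000003600000fe9c0000f822) (Net.cons (nat_lit 8) (nat_lit 0x18006e00fe000d0060000c00bb0031007000b5008700c000d00070008b00d60040) (Net.cons (nat_lit 4) (nat_lit 0x30f030501050a020108040605020f08070404000a0a0e000b060d0e020e030f080e) (Net.cons (nat_lit 2) (nat_lit 0x120123301230002220232102013333033113221022312313123013222023020022122) (Net.cons (nat_lit 1) (nat_lit 0x145110401015414445105540110544051500511111515445404541410451145405044) Net.nil)))))))))))))))))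

theorem t_g31_ok : Net.ok 275 t_g31 = true := by decide +kernel

noncomputable def t_V32 : List Net := [t_g27, t_g28, t_g29, t_g30, t_g31]

theorem t_V32_ok : okE 275 t_V32 = true := (okE_cons.2 ⟨t_g27_ok, (okE_cons.2 ⟨t_g28_ok, (okE_cons.2 ⟨t_g29_ok, (okE_cons.2 ⟨t_g30_ok, (okE_cons.2 ⟨t_g31_ok, (okE_nil 275)⟩)⟩)⟩)⟩)⟩)

noncomputable def t_g34 : Net := (Net.cons (nat_lit 1) (nat_lit 0x10544005454545100441051550510014055151441055040414405014044540051105) (Net.cons (nat_lit 2) (nat_lit 0x13010121020012103001012230013330131331121131101212220301011301222310) (Net.cons (nat_lit 4) (nat_lit 0x40709050600000a03080d02000d0e0d060f000c0905020a0b080304080307060004) (Net.cons (nat_lit 8) (nat_lit 0xd40037006300a0000f00ec00e7001800ad00e90078002c00b7003d006e00140002) (Net.cons (nat_lit 16) (nat_lit 0x9d37000049f9000008080000d0c30000005e000035fb0000840a000020c8) (Net.cons (nat_lit 32) (nat_lit 0xf0a0a2650000000011d7208b0000000001463a320000000000010040) (Net.cons (nat_lit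 64) (nat_lit 0xd010029002a601800000000000000000000000000004086d) (Net.cons (nat_lit 128) (nat_lit 0x5edea1d87585850aa8a3fb0eab2a7289) (Net.cons (nat_lit 256) (nat_lit 491517) (Net.cons (nat_lit 128) (nat_lit 163352) (Net.cons (nat_lit 64) (nat_lit 0x746ebfed8518768a0000000000000000bca0d39b5afc242e) (Net.cons (nat_lit 32) (nat_lit 0x5b8cae8000000001e50f92f0000000075ce5c2c0000000026d140d7) (Net.cons (nat_lit 16) (nat_lit 0xe4ca0000adbb000081200000fced000097de0000672400009a010000d4d4) (Net.cons (nat_lit 8) (nat_lit 0xc005200ee00e80001002300d0002f001300b900c600a700d70047006c00b9005e) (Net.cons (nat_lit 4) (nat_lit 0x907080706070f08050d02090004060504070202050d0e0f0e05020808000b0e010d) (Net.cons (nat_lit 2) (nat_lit 0x123320101300223302213230012311302013113301232113000203131012021303010) (Net.cons (nat_lit 1) (nat_lit 0x144114444115400150554450451014054450500455104041415015054055450155501) Net.nil)))))))))))))))))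

theorem t_g34_ok : Net.ok 275 t_g34 = true := by decide +kernel

noncomputable def t_g35 : Net := (Net.cons (nat_lit 1) (nat_lit 0x11004450501540511014545044055115505550440555115045004015444050040501) (Net.cons (nat_lit 2) (nat_lit 0x32131111210013133130120020130132231210112100023303020302221010221200) (Net.cons (nat_lit 4) (nat_lit 0x4070b0a0907020c0b0c020a0706070a070d010e0c05070107060a030409020a0800) (Net.cons (nat_lit 8) (nat_lit 0x15005c00e3002a006d006000920005002d004e0016004900260062007a00200005) (Net.cons (nat_lit 16) (nat_lit 0x60000210c00008c0d0000b43a0000253b0000188e00003f000000c44400001160) (Net.cons (nat_lit 32) (nat_lit 0x1d99d000000006481041a000000002490c2b00000000000075102) (Net.cons (nat_lit 64) (nat_lit 0x30bf720180b0f2510000000000000000000000000005cac5) (Net.cons (nat_lit 128) (nat_lit 0x7c66f8de95bac32d02d987196d4631f4) (Net.cons (nat_lit 256) (nat_lit 523263) (Net.cons (nat_lit 128) (nat_lit 73988) (Net.cons (nat_lit 64) (nat_lit 0x129cabc02680d1ef000000000000000067d3abd07d02edbe)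 (Net.cons (nat_lit 32) (nat_lit 0x9cdd27700000000cf25be4400000000df58897a00000000b1755973) (Net.cons (nat_lit 16) (nat_lit 0x100006aad000094b500002d890000930100008ae500003a200000215d00003ee5) (Net.cons (nat_lit 8) (nat_lit 0xaa00d0009400a0001f00e1000f00e200b200a200fd000800ed0029004900fa0089) (Net.cons (nat_lit 4) (nat_lit 0x2020f000c0c050b07070d0f0a010b0f090300000d040f090e0004060a090d05) (Net.cons (nat_lit 2) (nat_lit 0x23102122110301213100032201302220232223133013100200222132120231101010) (Net.cons (nat_lit 1) (nat_lit 0x50545044055010014041155044111441450154450100551551045515554011110111) Net.nil)))))))))))))))))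

theorem t_g35_ok : Net.ok 275 t_g35 = true := by decide +kernel

noncomputable def t_g36 : Net := (Net.cons (nat_lit 1) (nat_lit 0x104005505051151014401110154450000405150450140005555411101410051550040) (Net.cons (nat_lit 2) (nat_lit 0x120131020102333010103211303220011101322330212203200203100130101101200) (Net.cons (nat_lit 4) (nat_lit 0xd03090b0d0a0a0708000a0d040d0b0a03020f020407010504060d04060104010206) (Net.cons (nat_lit 8) (nat_lit 0x7200ac00c40090007500490021005c005400f40040008f00ef005a00a100420002) (Net.cons (nat_lit 16) (nat_lit 0x1000088d7000062c30000c6120000a6a200002b100000b13e0000900500003310) (Net.cons (nat_lit 32) (nat_lit 0x6229a36e00000000034cb80b00000000200d380a000000000000a4c2) (Net.cons (nat_lit 64) (nat_lit 0x80841e223056979f0000000000000000000000000000809f) (Net.cons (nat_lit 128) (nat_lit 0xc22816158f562b7646c4a9abf12f34e1) (Net.cons (nat_lit 256) (nat_lit 524287) (Net.cons (nat_lit 128) (nat_lit 364584) (Net.cons (nat_lit 64) (nat_lit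 0x6f6db9f94c74df98000000000000000095b33415efb68589) (Net.cons (nat_lit 32) (nat_lit 0xac1894f100000000269f9476000000003cbd0acf0000000043ebaf9c) (Net.cons (nat_lit 16) (nat_lit 0x30000eb8700000247000041fc000070bc0000f65f0000ae860000d3660000cd02) (Net.cons (nat_lit 8) (nat_lit 0xa8006f0083009c002d00fe0056009300b9000700db000b006d00b9009f00be005a) (Net.cons (nat_lit 4) (nat_lit 0xd0b050104060d0602030106000b05010e0b0c07010101090d010705040c0e0c020c) (Net.cons (nat_lit 2) (nat_lit 0x2310221011103220211313203120223000031231303010121110200330012323100) (Net.cons (nat_lit 1) (nat_lit 0x11445115145511010155554005144451015511105144405150151401145444141404) Net.nil)))))))))))))))))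

theorem t_g36_ok : Net.ok 275 t_g36 = true := by decide +kernel

noncomputable def t_V37 : List Net := [t_g34, t_g35, t_g36]

theorem t_V37_ok : okE 275 t_V37 = true := (okE_cons.2 ⟨t_g34_ok, (okE_cons.2 ⟨t_g35_ok, (okE_cons.2 ⟨t_g36_ok, (okE_nil 275)⟩)⟩)⟩)

noncomputable def t_g39 : Net := (Net.cons (nat_lit 1) (nat_lit 0x151050050401410155115010015051401401450010411511150455501115555145540) (Net.cons (nat_lit 2) (nat_lit 0x1312221002031003321311120012221122022200110300022100031101332201002) (Net.cons (nat_lit 4) (nat_lit 0x40f0b0b010b0d0d0105050402060306010c0c030d070c0b070c0f0300040f040101) (Net.cons (nat_lit 8) (nat_lit 0xf0052001600fe00a80071002c000700e70040008d006b002d0052004f00000000) (Net.cons (nat_lit 16) (nat_lit 0x7000081910000f3ef0000033100007b5800004b6e0000eb30000042d800002008) (Net.cons (nat_lit 32) (nat_lit 0x62490c1200000000010789fc000000009c21604b000000000001c70a) (Net.cons (nat_lit 64) (nat_lit 0x100024000009487900000000000000000000000000069423)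 (Net.cons (nat_lit 128) (nat_lit 0x60364a27178b18b9763ca55a0ba12459) (Net.cons (nat_lit 256) (nat_lit 524283) (Net.cons (nat_lit 128) (nat_lit 250013) (Net.cons (nat_lit 64) (nat_lit 0x45e31adecb84aaf00000000000000001c82eca5e3970243) (Net.cons (nat_lit 32) (nat_lit 0xba0b4eb40000000065018f8d000000007f6faef900000000d8f48b0f) (Net.cons (nat_lit 16) (nat_lit 0x60000916d0000eacc0000baff0000d88300004aa7000024e00000489e00001e6b) (Net.cons (nat_lit 8) (nat_lit 0x51000e00a000c600cd001c000000a300760071008f0001005d00f000a400310085) (Net.cons (nat_lit 4) (nat_lit 0x40e0c0b010b0b0502040f040e0d03060a0e0a0c010a080006090d02080c03000d01) (Net.cons (nat_lit 2) (nat_lit 0x1131202230122310102332112110012303302310320222322212100203311012012) (Net.cons (nat_lit 1) (nat_lit 0x4145451450015455001055104451511405011550545511540155040415554411554) Net.nil)))))))))))))))))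

theorem t_g39_ok : Net.ok 275 t_g39 = true := by decide +kernel

noncomputable def t_g40 : Net := (Net.cons (nat_lit 1) (nat_lit 0x44515550500404540551001101111040400001410010115545055414001404144000) (Net.cons (nat_lit 2) (nat_lit 0x131011303320322011002331003223203102210231332103120110102110200302000) (Net.cons (nat_lit 4) (nat_lit 0xc060d05080a08020b000f0c01020004000a0d0f050a040d050006040c0603040000) (Net.cons (nat_lit 8) (nat_lit 0x83005000c0009400a1005b00d100a0009e000600240044005500420004000c0000) (Net.cons (nat_lit 16) (nat_lit 0x100000de90000351400004ef400000140000015340000a20a0000813c00004a70) (Net.cons (nat_lit 32) (nat_lit 0xc2a0347c0000000018d109b60000000018a205050000000000024822) (Net.cons (nat_lit 64) (nat_lit 0x400200c0281130d40000000000000000000000000000838f) (Net.cons (nat_lit 128) (nat_lit 0x706a3deaf8c822c4bb386e3940397c82) (Net.cons (nat_lit 256) (nat_lit 262143) (Net.cons (nat_lit 128) (nat_lit 162960) (Net.cons (nat_lit 64) (nat_lit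 0x45f1aeae3b0533f4000000000000000009a13ca80e029f0d) (Net.cons (nat_lit 32) (nat_lit 0xd7fd667d0000000015ce3a760000000000fe25c700000000085ecaa2) (Net.cons (nat_lit 16) (nat_lit 0x3000019ef0000b45400004ff600000102000085760000a2090000813e00004b70) (Net.cons (nat_lit 8) (nat_lit 0x93005400d4009700a5005a00f500a5009e000600240064005500460044008c0000) (Net.cons (nat_lit 4) (nat_lit 0xd060d05080b08030b020f0d01020004000a0d0f060a040d050006040d0603050000) (Net.cons (nat_lit 2) (nat_lit 0x131011303320322011002331003223203102210231332103120110102110200302000) (Net.cons (nat_lit 1) (nat_lit 0x44515550500404540551001101111040400001410010115545055414001404144000) Net.nil)))))))))))))))))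

theorem t_g40_ok : Net.ok 275 t_g40 = true := by decide +kernel

noncomputable def t_g41 : Net := (Net.cons (nat_lit 1) (nat_lit 0x104411515155500510451005054540411411410415054041511550001045000150400) (Net.cons (nat_lit 2) (nat_lit 0x10100133323331112103121110032100002010133231230112121000002100010000) (Net.cons (nat_lit 4) (nat_lit 0x805020d0b0109050009070903030d0e09000803020705010f0e050409040c080100) (Net.cons (nat_lit 8) (nat_lit 0x67005900260031002400ec00a20074008d00ec002d00f1008800d1002500940003) (Net.cons (nat_lit 16) (nat_lit 0x30000aafa0000536800005113000050e7000081b3000012490000001300002000) (Net.cons (nat_lit 32) (nat_lit 0x4372556100000000f1ad3541000000006480e16b0000000000000810) (Net.cons (nat_lit 64) (nat_lit 0x494c4240dfff45c10000000000000000000000000002d2cf) (Net.cons (nat_lit 128) (nat_lit 0xca4c42b0a5a371d7050224707a5f5544) (Net.cons (nat_lit 256) (nat_lit 524255) (Net.cons (nat_lit 128) (nat_lit 480612) (Net.cons (nat_lit 64) (nat_lit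 0x18d8cba5fe5be5c5000000000000000033b4c86f2207dac3) (Net.cons (nat_lit 32) (nat_lit 0x40d6f56900000000f0ab750b0000000047a7d847000000000307001c) (Net.cons (nat_lit 16) (nat_lit 0x700000adb000097ac000070b2000018f30000a03700007249000041130000a404) (Net.cons (nat_lit 8) (nat_lit 0x6f00f9008600f100c400cd00020034002f00cc00c4009100a900f1006c00950043) (Net.cons (nat_lit 4) (nat_lit 0x805020d0b0109050009070907030d0e0b020803020705010f0e050409060c080100) (Net.cons (nat_lit 2) (nat_lit 0x10100133323331112103120110132300002010133231230112121001002000011000) (Net.cons (nat_lit 1) (nat_lit 0x104411515155500510451005054540415411410415054041511550401045000150440) Net.nil)))))))))))))))))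

theorem t_g41_ok : Net.ok 275 t_g41 = true := by decide +kernel

noncomputable def t_V42 : List Net := [t_g39, t_g40, t_g41]

theorem t_V42_ok : okE 275 t_V42 = true := (okE_cons.2 ⟨t_g39_ok, (okE_cons.2 ⟨t_g40_ok, (okE_cons.2 ⟨t_g41_ok, (okE_nil 275)⟩)⟩)⟩)

noncomputable def t_V44 : List Net := [t_g40, t_g41]

theorem t_V44_ok : okE 275 t_V44 = true := (okE_cons.2 ⟨t_g40_ok, (okE_cons.2 ⟨t_g41_ok, (okE_nil 275)⟩)⟩)

noncomputable def t_g46 : Net := (Net.cons (nat_lit 1) (nat_lit 0x104410141044410011141044540544150011401555401100510404004010500145550) (Net.cons (nat_lit 2) (nat_lit 0x113231220102330113130101200001113231210232021222102020002310030223320) (Net.cons (nat_lit 4) (nat_lit 0x70f0d0a090d03070e030c0906060f0809020c030b090e0000030d0d0e0608040501) (Net.cons (nat_lit 8) (nat_lit 0x6f00200085004600fb00ce0041000900a0004100b70019000c00f1009d00180000) (Net.cons (nat_lit 16) (nat_lit 0x4000093e40000b338000083970000d1300000767f000074f80000e08b00000f08)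 (Net.cons (nat_lit 32) (nat_lit 0x329dca2100000000004a10ca0000000000d3e4120000000000006654) (Net.cons (nat_lit 64) (nat_lit 0xa40041291060184d0000000000000000000000000001fe02) (Net.cons (nat_lit 128) (nat_lit 0x4dfc2b0e437111d9a01eeae51c88ab51) (Net.cons (nat_lit 256) (nat_lit 393087) (Net.cons (nat_lit 128) (nat_lit 263253) (Net.cons (nat_lit 64) (nat_lit 0x5c66c228cfbf1a1b000000000000000029fd58a27a82631e) (Net.cons (nat_lit 32) (nat_lit 0xb29be0cc00000000793d616c000000005191f92300000000e05b62d5) (Net.cons (nat_lit 16) (nat_lit 0x200009d5e000022ac0000c6a100007328000096fa0000263b0000d2aa00007244) (Net.cons (nat_lit 8) (nat_lit 0x1a0068001900a400f6004c003100ce004c00fa00740014002a00df00770011002d) (Net.cons (nat_lit 4) (nat_lit 0x40f01020a01020f0f0f090a0d070f0b0005070605020f0206060f06030f0e0c0c05) (Net.cons (nat_lit 2) (nat_lit 0x102310033110002330032322002012303220320031223322003202100030233331130) (Net.cons (nat_lit 1) (nat_lit 0x10444505005010005545514440411404000501040045144504401404505045015150)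 Net.nil)))))))))))))))))

theorem t_g46_ok : Net.ok 275 t_g46 = true := by decide +kernel

noncomputable def t_V47 : List Net := [t_g46, t_g46]

theorem t_V47_ok : okE 275 t_V47 = true := (okE_cons.2 ⟨t_g46_ok, (okE_cons.2 ⟨t_g46_ok, (okE_nil 275)⟩)⟩)

noncomputable def t_g49 : Net := (Net.cons (nat_lit 1) (nat_lit 0x10444505005010005545514440411404000501040045144504401404505045015150) (Net.cons (nat_lit 2) (nat_lit 0x102310033110002330032322002012303220320031223322003202100030232331130) (Net.cons (nat_lit 4) (nat_lit 0xf05020c01060f070f0d0e05070d0f0005030205020b0202000f06030b0a0c0c01) (Net.cons (nat_lit 8) (nat_lit 0x320052006000cb00990001003800a7002300d5004b003f004100d5005c007e0002) (Net.cons (nat_lit 16) (nat_lit 0x50000cab900009800000017140000acb10000275400001fc000004a0000005000) (Net.cons (nat_lit 32) (nat_lit 0xe41782a300000000108eb169000000008ac052f10000000000030434) (Net.cons (nat_lit 64) (nat_lit 0x9c0169dc22c17f1100000000000000000000000000064b75)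 (Net.cons (nat_lit 128) (nat_lit 0x55b749512ca879d9890e268c8e740554) (Net.cons (nat_lit 256) (nat_lit 524157) (Net.cons (nat_lit 128) (nat_lit 99194) (Net.cons (nat_lit 64) (nat_lit 0x510cbafdc89f6cca0000000000000000322c06a891db57f3) (Net.cons (nat_lit 32) (nat_lit 0x82a7d8aa0000000025211c0e00000000a8d36d81000000005bf78538) (Net.cons (nat_lit 16) (nat_lit 0x20000d17100000cb10000536100008d950000ef040000385200005b3600009c8f) (Net.cons (nat_lit 8) (nat_lit 0x40005d00bb002d00d400e1006c004700d9000c00dd0076000700da00b60033006f) (Net.cons (nat_lit 4) (nat_lit 0x70f090a0d0901030e070c0902020b080d0208070b090a04000f0d0d0e0e0e040701) (Net.cons (nat_lit 2) (nat_lit 0x113231220102330113130101200001113231210232021232102020002310030223320) (Net.cons (nat_lit 1) (nat_lit 0x104410141044410011141044540544150011401555401100510404004010500145550) Net.nil)))))))))))))))))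

theorem t_g49_ok : Net.ok 275 t_g49 = true := by decide +kernel

noncomputable def t_V50 : List Net := [t_g49]

theorem t_V50_ok : okE 275 t_V50 = true := (okE_cons.2 ⟨t_g49_ok, (okE_nil 275)⟩)

noncomputable def t_E7 : List Net := []

theorem t_E7_ok : okE 275 t_E7 = true := (okE_nil 275)

noncomputable def t_G6 : List Net := [t_g49]

theorem t_G6_ok : okE 275 t_G6 = true := (okE_cons.2 ⟨t_g49_ok, (okE_nil 275)⟩)

noncomputable def t_E6 : List Net := [t_g49, t_g46, t_g46]

theorem t_E6_ok : okE 275 t_E6 = true := (okE_cons.2 ⟨t_g49_ok, (okE_cons.2 ⟨t_g46_ok, (okE_cons.2 ⟨t_g46_ok, (okE_nil 275)⟩)⟩)⟩)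

noncomputable def t_G5 : List Net := [t_g40, t_g41, t_g49, t_g46, t_g46]

theorem t_G5_ok : okE 275 t_G5 = true := (okE_cons.2 ⟨t_g40_ok, (okE_cons.2 ⟨t_g41_ok, (okE_cons.2 ⟨t_g49_ok, (okE_cons.2 ⟨t_g46_ok, (okE_cons.2 ⟨t_g46_ok, (okE_nil 275)⟩)⟩)⟩)⟩)⟩)

noncomputable def t_E5 : List Net := [t_g40, t_g41, t_g39, t_g49, t_g46, t_g46]

theorem t_E5_ok : okE 275 t_E5 = true := (okE_cons.2 ⟨t_g40_ok, (okE_cons.2 ⟨t_g41_ok, (okE_cons.2 ⟨t_g39_ok, (okE_cons.2 ⟨t_g49_ok, (okE_cons.2 ⟨t_g46_ok, (okE_cons.2 ⟨t_g46_ok, (okE_nil 275)⟩)⟩)⟩)⟩)⟩)⟩)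

noncomputable def t_G4 : List Net := [t_g34, t_g35, t_g36, t_g40, t_g41, t_g39, t_g49, t_g46, t_g46]

theorem t_G4_ok : okE 275 t_G4 = true := (okE_cons.2 ⟨t_g34_ok, (okE_cons.2 ⟨t_g35_ok, (okE_cons.2 ⟨t_g36_ok, (okE_cons.2 ⟨t_g40_ok, (okE_cons.2 ⟨t_g41_ok, (okE_cons.2 ⟨t_g39_ok, (okE_cons.2 ⟨t_g49_ok, (okE_cons.2 ⟨t_g46_ok, (okE_cons.2 ⟨t_g46_ok, (okE_nil 275)⟩)⟩)⟩)⟩)⟩)⟩)⟩)⟩)⟩)

noncomputable def t_E4 : List Net := [t_g34, t_g35, t_g36, t_g27, t_g28, t_g29, t_g30, t_g31, t_g40, t_g41, t_g39, t_g49, t_g46, t_g46]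

theorem t_E4_ok : okE 275 t_E4 = true := (okE_cons.2 ⟨t_g34_ok, (okE_cons.2 ⟨t_g35_ok, (okE_cons.2 ⟨t_g36_ok, (okE_cons.2 ⟨t_g27_ok, (okE_cons.2 ⟨t_g28_ok, (okE_cons.2 ⟨t_g29_ok, (okE_cons.2 ⟨t_g30_ok, (okE_cons.2 ⟨t_g31_ok, (okE_cons.2 ⟨t_g40_ok, (okE_cons.2 ⟨t_g41_ok, (okE_cons.2 ⟨t_g39_ok, (okE_cons.2 ⟨t_g49_ok, (okE_cons.2 ⟨t_g46_ok, (okE_cons.2 ⟨t_g46_ok, (okE_nil 275)⟩)⟩)⟩)⟩)⟩)⟩)⟩)⟩)⟩)⟩)⟩)⟩)⟩)⟩)

noncomputable def t_G3 : List Net := [t_g20, t_g34, t_g35, t_g36, t_g27, t_g28, t_g29, t_g30, t_g31, t_g40, t_g41, t_g39, t_g49, t_g46, t_g46]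

theorem t_G3_ok : okE 275 t_G3 = true := (okE_cons.2 ⟨t_g20_ok, (okE_cons.2 ⟨t_g34_ok, (okE_cons.2 ⟨t_g35_ok, (okE_cons.2 ⟨t_g36_ok, (okE_cons.2 ⟨t_g27_ok, (okE_cons.2 ⟨t_g28_ok, (okE_cons.2 ⟨t_g29_ok, (okE_cons.2 ⟨t_g30_ok, (okE_cons.2 ⟨t_g31_ok, (okE_cons.2 ⟨t_g40_ok, (okE_cons.2 ⟨t_g41_ok, (okE_cons.2 ⟨t_g39_ok, (okE_cons.2 ⟨t_g49_ok, (okE_cons.2 ⟨t_g46_ok, (okE_cons.2 ⟨t_g46_ok, (okE_nil 275)⟩)⟩)⟩)⟩)⟩)⟩)⟩)⟩)⟩)⟩)⟩)⟩)⟩)⟩)⟩)

noncomputable def t_E3 : List Net := [t_g20, t_g21, t_g22, t_g34, t_g35, t_g36, t_g27, t_g28, t_g29, t_g30, t_g31, t_g40, t_g41, t_g39, t_g49, t_g46, t_g46]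

theorem t_E3_ok : okE 275 t_E3 = true := (okE_cons.2 ⟨t_g20_ok, (okE_cons.2 ⟨t_g21_ok, (okE_cons.2 ⟨t_g22_ok, (okE_cons.2 ⟨t_g34_ok, (okE_cons.2 ⟨t_g35_ok, (okE_cons.2 ⟨t_g36_ok, (okE_cons.2 ⟨t_g27_ok, (okE_cons.2 ⟨t_g28_ok, (okE_cons.2 ⟨t_g29_ok, (okE_cons.2 ⟨t_g30_ok, (okE_cons.2 ⟨t_g31_ok, (okE_cons.2 ⟨t_g40_ok, (okE_cons.2 ⟨t_g41_ok, (okE_cons.2 ⟨t_g39_ok, (okE_cons.2 ⟨t_g49_ok, (okE_cons.2 ⟨t_g46_ok, (okE_cons.2 ⟨t_g46_ok, (okE_nil 275)⟩)⟩)⟩)⟩)⟩)⟩)⟩)⟩)⟩)⟩)⟩)⟩)⟩)⟩)⟩)⟩)⟩)

noncomputable def t_G2 : List Net := [t_g17, t_g20, t_g21, t_g22, t_g34, t_g35, t_g36, t_g27, t_g28, t_g29, t_g30, t_g31, t_g40, t_g41, t_g39, t_g49, t_g46, t_g46]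

theorem t_G2_ok : okE 275 t_G2 = true := (okE_cons.2 ⟨t_g17_ok, (okE_cons.2 ⟨t_g20_ok, (okE_cons.2 ⟨t_g21_ok, (okE_cons.2 ⟨t_g22_ok, (okE_cons.2 ⟨t_g34_ok, (okE_cons.2 ⟨t_g35_ok, (okE_cons.2 ⟨t_g36_ok, (okE_cons.2 ⟨t_g27_ok, (okE_cons.2 ⟨t_g28_ok, (okE_cons.2 ⟨t_g29_ok, (okE_cons.2 ⟨t_g30_ok, (okE_cons.2 ⟨t_g31_ok, (okE_cons.2 ⟨t_g40_ok, (okE_cons.2 ⟨t_g41_ok, (okE_cons.2 ⟨t_g39_ok, (okE_cons.2 ⟨t_g49_ok, (okE_cons.2 ⟨t_g46_ok, (okE_cons.2 ⟨t_g46_ok, (okE_nil 275)⟩)⟩)⟩)⟩)⟩)⟩)⟩)⟩)⟩)⟩)⟩)⟩)⟩)⟩)⟩)⟩)⟩)⟩)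

noncomputable def t_E2 : List Net := [t_g17, t_g13, t_g14, t_g20, t_g21, t_g22, t_g34, t_g35, t_g36, t_g27, t_g28, t_g29, t_g30, t_g31, t_g40, t_g41, t_g39, t_g49, t_g46, t_g46]

theorem t_E2_ok : okE 275 t_E2 = true := (okE_cons.2 ⟨t_g17_ok, (okE_cons.2 ⟨t_g13_ok, (okE_cons.2 ⟨t_g14_ok, (okE_cons.2 ⟨t_g20_ok, (okE_cons.2 ⟨t_g21_ok, (okE_cons.2 ⟨t_g22_ok, (okE_cons.2 ⟨t_g34_ok, (okE_cons.2 ⟨t_g35_ok, (okE_cons.2 ⟨t_g36_ok, (okE_cons.2 ⟨t_g27_ok, (okE_cons.2 ⟨t_g28_ok, (okE_cons.2 ⟨t_g29_ok, (okE_cons.2 ⟨t_g30_ok, (okE_cons.2 ⟨t_g31_ok, (okE_cons.2 ⟨t_g40_ok, (okE_cons.2 ⟨t_g41_ok, (okE_cons.2 ⟨t_g39_ok, (okE_cons.2 ⟨t_g49_ok, (okE_cons.2 ⟨t_g46_ok, (okE_cons.2 ⟨t_g46_ok, (okE_nil 275)⟩)⟩)⟩)⟩)⟩)⟩)⟩)⟩)⟩)⟩)⟩)⟩)⟩)⟩)⟩)⟩)⟩)⟩)⟩)⟩)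

noncomputable def t_G1 : List Net := [t_g10, t_g17, t_g13, t_g14, t_g20, t_g21, t_g22, t_g34, t_g35, t_g36, t_g27, t_g28, t_g29, t_g30, t_g31, t_g40, t_g41, t_g39, t_g49, t_g46, t_g46]

theorem t_G1_ok : okE 275 t_G1 = true := (okE_cons.2 ⟨t_g10_ok, (okE_cons.2 ⟨t_g17_ok, (okE_cons.2 ⟨t_g13_ok, (okE_cons.2 ⟨t_g14_ok, (okE_cons.2 ⟨t_g20_ok, (okE_cons.2 ⟨t_g21_ok, (okE_cons.2 ⟨t_g22_ok, (okE_cons.2 ⟨t_g34_ok, (okE_cons.2 ⟨t_g35_ok, (okE_cons.2 ⟨t_g36_ok, (okE_cons.2 ⟨t_g27_ok, (okE_cons.2 ⟨t_g28_ok, (okE_cons.2 ⟨t_g29_ok, (okE_cons.2 ⟨t_g30_ok, (okE_cons.2 ⟨t_g31_ok, (okE_cons.2 ⟨t_g40_ok, (okE_cons.2 ⟨t_g41_ok, (okE_cons.2 ⟨t_g39_ok, (okE_cons.2 ⟨t_g49_ok, (okE_cons.2 ⟨t_g46_ok, (okE_cons.2 ⟨t_g46_ok, (okE_nil 275)⟩)⟩)⟩)⟩)⟩)⟩)⟩)⟩)⟩)⟩)⟩)⟩)⟩)⟩)⟩)⟩)⟩)⟩)⟩)⟩)⟩)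

noncomputable def t_E1 : List Net := [t_g10, t_g6, t_g7, t_g17, t_g13, t_g14, t_g20, t_g21, t_g22, t_g34, t_g35, t_g36, t_g27, t_g28, t_g29, t_g30, t_g31, t_g40, t_g41, t_g39, t_g49, t_g46, t_g46]

theorem t_E1_ok : okE 275 t_E1 = true := (okE_cons.2 ⟨t_g10_ok, (okE_cons.2 ⟨t_g6_ok, (okE_cons.2 ⟨t_g7_ok, (okE_cons.2 ⟨t_g17_ok, (okE_cons.2 ⟨t_g13_ok, (okE_cons.2 ⟨t_g14_ok, (okE_cons.2 ⟨t_g20_ok, (okE_cons.2 ⟨t_g21_ok, (okE_cons.2 ⟨t_g22_ok, (okE_cons.2 ⟨t_g34_ok, (okE_cons.2 ⟨t_g35_ok, (okE_cons.2 ⟨t_g36_ok, (okE_cons.2 ⟨t_g27_ok, (okE_cons.2 ⟨t_g28_ok, (okE_cons.2 ⟨t_g29_ok, (okE_cons.2 ⟨t_g30_ok, (okE_cons.2 ⟨t_g31_ok, (okE_cons.2 ⟨t_g40_ok, (okE_cons.2 ⟨t_g41_ok, (okE_cons.2 ⟨t_g39_ok, (okE_cons.2 ⟨t_g49_ok, (okE_cons.2 ⟨t_g46_ok, (okE_cons.2 ⟨t_g46_ok, (okE_nil 275)⟩)⟩)⟩)⟩)⟩)⟩)⟩)⟩)⟩)⟩)⟩)⟩)⟩)⟩)⟩)⟩)⟩)⟩)⟩)⟩)⟩)⟩)⟩)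

noncomputable def t_G0 : List Net := [t_g3, t_g10, t_g6, t_g7, t_g17, t_g13, t_g14, t_g20, t_g21, t_g22, t_g34, t_g35, t_g36, t_g27, t_g28, t_g29, t_g30, t_g31, t_g40, t_g41, t_g39, t_g49, t_g46, t_g46]

theorem t_G0_ok : okE 275 t_G0 = true := (okE_cons.2 ⟨t_g3_ok, (okE_cons.2 ⟨t_g10_ok, (okE_cons.2 ⟨t_g6_ok, (okE_cons.2 ⟨t_g7_ok, (okE_cons.2 ⟨t_g17_ok, (okE_cons.2 ⟨t_g13_ok, (okE_cons.2 ⟨t_g14_ok, (okE_cons.2 ⟨t_g20_ok, (okE_cons.2 ⟨t_g21_ok, (okE_cons.2 ⟨t_g22_ok, (okE_cons.2 ⟨t_g34_ok, (okE_cons.2 ⟨t_g35_ok, (okE_cons.2 ⟨t_g36_ok, (okE_cons.2 ⟨t_g27_ok, (okE_cons.2 ⟨t_g28_ok, (okE_cons.2 ⟨t_g29_ok, (okE_cons.2 ⟨t_g30_ok, (okE_cons.2 ⟨t_g31_ok, (okE_cons.2 ⟨t_g40_ok, (okE_cons.2 ⟨t_g41_ok, (okE_cons.2 ⟨t_g39_ok, (okE_cons.2 ⟨t_g49_ok, (okE_cons.2 ⟨t_g46_ok, (okE_cons.2 ⟨t_g46_ok, (okE_nil 275)⟩)⟩)⟩)⟩)⟩)⟩)⟩)⟩)⟩)⟩)⟩)⟩)⟩)⟩)⟩)⟩)⟩)⟩)⟩)⟩)⟩)⟩)⟩)⟩)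

noncomputable def t_E0 : List Net := [t_g3, t_g1, t_g2, t_g10, t_g6, t_g7, t_g17, t_g13, t_g14, t_g20, t_g21, t_g22, t_g34, t_g35, t_g36, t_g27, t_g28, t_g29, t_g30, t_g31, t_g40, t_g41, t_g39, t_g49, t_g46, t_g46]

theorem t_E0_ok : okE 275 t_E0 = true := (okE_cons.2 ⟨t_g3_ok, (okE_cons.2 ⟨t_g1_ok, (okE_cons.2 ⟨t_g2_ok, (okE_cons.2 ⟨t_g10_ok, (okE_cons.2 ⟨t_g6_ok, (okE_cons.2 ⟨t_g7_ok, (okE_cons.2 ⟨t_g17_ok, (okE_cons.2 ⟨t_g13_ok, (okE_cons.2 ⟨t_g14_ok, (okE_cons.2 ⟨t_g20_ok, (okE_cons.2 ⟨t_g21_ok, (okE_cons.2 ⟨t_g22_ok, (okE_cons.2 ⟨t_g34_ok, (okE_cons.2 ⟨t_g35_ok, (okE_cons.2 ⟨t_g36_ok, (okE_cons.2 ⟨t_g27_ok, (okE_cons.2 ⟨t_g28_ok, (okE_cons.2 ⟨t_g29_ok, (okE_cons.2 ⟨t_g30_ok, (okE_cons.2 ⟨t_g31_ok, (okE_cons.2 ⟨t_g40_ok, (okE_cons.2 ⟨t_g41_ok, (okE_cons.2 ⟨t_g39_ok, (okE_cons.2 ⟨t_g49_ok, (okE_cons.2 ⟨t_g46_ok, (okE_cons.2 ⟨t_g46_ok, (okE_nil 275)⟩)⟩)⟩)⟩)⟩)⟩)⟩)⟩)⟩)⟩)⟩)⟩)⟩)⟩)⟩)⟩)⟩)⟩)⟩)⟩)⟩)⟩)⟩)⟩)⟩)⟩)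

noncomputable def t_g68 : Net := (Net.cons (nat_lit 1) (nat_lit 0x15505554455140515100441411451055555151145104504115045055141550051144) (Net.cons (nat_lit 2) (nat_lit 0x103201302021103030223121322123030210312320021003302121333113120013012) (Net.cons (nat_lit 4) (nat_lit 0x30100080b04040e070f040e060f0f0d0e0c080e01090505070409040a0e0c010500) (Net.cons (nat_lit 8) (nat_lit 0x6e002900fb00d400ef00cb009c00470092001d0060004e005600da005700d10002) (Net.cons (nat_lit 16) (nat_lit 0x500001814000049820000ef0d00004c92000055b70000a2600000c6070000c430) (Net.cons (nat_lit 32) (nat_lit 0x91c555100000000028d234990000000008440de10000000000021660) (Net.cons (nat_lit 64) (nat_lit 0x8026eaa908648b9100000000000000000000000000003c2d) (Net.cons (nat_lit 128) (nat_lit 0x40d2f1747a077caed1a50f9f15f94398) (Net.cons (nat_lit 256) (nat_lit 524285) (Net.cons (nat_lit 128) (nat_lit 42829) (Net.cons (nat_lit 64) (nat_lit 0xe020f6a1590f47fe00000000000000002d037402679b6191) (Net.cons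 (nat_lit 32) (nat_lit 0xc56cd3bc00000000b55447ab00000000de5c04b50000000075f0215c) (Net.cons (nat_lit 16) (nat_lit 0x100007aab0000d9260000dbeb0000192a0000402500006e6500004fb60000a2e4) (Net.cons (nat_lit 8) (nat_lit 0xa400d9007b002f005b00ba00740049004b00cb00fb00cd00c800cf00d900e000c2) (Net.cons (nat_lit 4) (nat_lit 0x9030a0407040f0c0802000b08000f0d07010708080601010b02090f080407090c02) (Net.cons (nat_lit 2) (nat_lit 0x20103131030131102222012233131003200122001021120330200023221030213100) (Net.cons (nat_lit 1) (nat_lit 0x54514404554414554414015401511054050015005140045414055411454055110100) Net.nil)))))))))))))))))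

theorem t_g68_ok : Net.ok 275 t_g68 = true := by decide +kernel

noncomputable def t_g69 : Net := (Net.cons (nat_lit 1) (nat_lit 0x145404444454015155111041104000145054155010141541445441150444455404040) (Net.cons (nat_lit 2) (nat_lit 0x11011011232213210302231331322111213012132010101110331322203302101200) (Net.cons (nat_lit 4) (nat_lit 0xe0f060d030e0a0c00020a010b05070c090700080601090b0100020b0c0108020404) (Net.cons (nat_lit 8) (nat_lit 0x1d002400f200f700ce00e3008c0075000a0048000300e7000900d1001e00a00005) (Net.cons (nat_lit 16) (nat_lit 0x200004b4e000007780000060a0000de250000da3300007a52000008210000e410) (Net.cons (nat_lit 32) (nat_lit 0x1175215f00000000d0764ece000000000f22452e0000000000012120) (Net.cons (nat_lit 64) (nat_lit 0x8848dd9e300221930000000000000000000000000002b9d8) (Net.cons (nat_lit 128) (nat_lit 0x6f15bf63c4385193c35e42dcbcc6a1eb) (Net.cons (nat_lit 256) (nat_lit 524283) (Net.cons (nat_lit 128) (nat_lit 3975) (Net.cons (nat_lit 64) (nat_lit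 0x6ac09efb242d336c00000000000000007b8cbf5a66f83c7c) (Net.cons (nat_lit 32) (nat_lit 0x2eb284d300000000f2feee61000000006d0790d6000000007a1da853) (Net.cons (nat_lit 16) (nat_lit 0x30000e93e0000ec6c000051100000f0a90000702100002bd800005c410000d437) (Net.cons (nat_lit 8) (nat_lit 0x90002800de00ea00ea008000270010000100ab00c200b600ee00a100fe00c400c4) (Net.cons (nat_lit 4) (nat_lit 0x30b0903060b0c0f0a07020d040a0b010909000f0b00080f0e0c0b0d06080d02050d) (Net.cons (nat_lit 2) (nat_lit 0x1003102220002200132210101302111121313210213212001331210332332310030) (Net.cons (nat_lit 1) (nat_lit 0x515050445500455410010415151144450155050144110504000155100145555440) Net.nil)))))))))))))))))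

theorem t_g69_ok : Net.ok 275 t_g69 = true := by decide +kernel

noncomputable def t_g70 : Net := (Net.cons (nat_lit 1) (nat_lit 0x1155054111404154544455010040145051141544555151154010001110040111005) (Net.cons (nat_lit 2) (nat_lit 0x22110223213000203331220330230231222000033210010331020313333212131200) (Net.cons (nat_lit 4) (nat_lit 0x50507050404020707020c060a0f0a050d06060e070b06090f070f0c040e0e010105) (Net.cons (nat_lit 8) (nat_lit 0xf40075001300fe009100620014006b00d100d50071004d008500e9005e00070002) (Net.cons (nat_lit 16) (nat_lit 0x4000078260000f3db000048350000c9a000002d4a0000e4810000103200009010) (Net.cons (nat_lit 32) (nat_lit 0x8386120000000071bac92900000000830dc4180000000000000d69) (Net.cons (nat_lit 64) (nat_lit 0x13482de26190cd6f00000000000000000000000000001600) (Net.cons (nat_lit 128) (nat_lit 0xcbc8830ecce201093822fce4bf19824c) (Net.cons (nat_lit 256) (nat_lit 245629) (Net.cons (nat_lit 128) (nat_lit 318698) (Net.cons (nat_lit 64) (nat_lit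 0x277abc13e6bb756e000000000000000096deb63760db6b4f) (Net.cons (nat_lit 32) (nat_lit 0x33e93d77000000004990be7d000000001a8bdd3a0000000083aca8db) (Net.cons (nat_lit 16) (nat_lit 0x5000071ce0000db130000d0c60000e74300000e4e000027110000aad20000eda8) (Net.cons (nat_lit 8) (nat_lit 0xb500de0008004b008300610093002000e000ca008a004a000d001100a4009300cb) (Net.cons (nat_lit 4) (nat_lit 0xd04030d050a020705030d0b0b0007050f000d0a06040a030c0e0508040f00040909) (Net.cons (nat_lit 2) (nat_lit 0x21230102021011201010311020022123323312121020201013010332030230110111) (Net.cons (nat_lit 1) (nat_lit 0x11410051100404015554145404540051455041050505011551050011154155551455) Net.nil)))))))))))))))))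

theorem t_g70_ok : Net.ok 275 t_g70 = true := by decide +kernel

noncomputable def t_g71 : Net := (Net.cons (nat_lit 1) (nat_lit 0x40014114014044014514544405045505000415141514541441155001001014514404) (Net.cons (nat_lit 2) (nat_lit 0x12232112023300022331122022202232221003003211301012111202102311210100) (Net.cons (nat_lit 4) (nat_lit 0x80c020f040c0d0e01040401080b050109020102040c0507050508040e0b060b0202) (Net.cons (nat_lit 8) (nat_lit 0xc100ad000000fc00d500b700ca00f1007d006a0096002b00ae00cf001d00450003) (Net.cons (nat_lit 16) (nat_lit 0x5000016b80000168800002f14000093cd000010190000a5620000d57000004128) (Net.cons (nat_lit 32) (nat_lit 0xa114524e00000000c1112723000000008c88143c0000000000041049) (Net.cons (nat_lit 64) (nat_lit 0xf41462209590a8a00000000000000000000000000008ccc) (Net.cons (nat_lit 128) (nat_lit 0x30fc1e2acd895b5c2fbdf959c2f21bc6) (Net.cons (nat_lit 256) (nat_lit 524271) (Net.cons (nat_lit 128) (nat_lit 6212) (Net.cons (nat_lit 64) (nat_lit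 0x821045ec78a897780000000000000000d8d5cda0ccb3f612) (Net.cons (nat_lit 32) (nat_lit 0xf335812b00000000787de81800000000907cb5d4000000006491e806) (Net.cons (nat_lit 16) (nat_lit 0x10000bd860000adc0000008ac00001cf5000029e300002323000027c300005b77) (Net.cons (nat_lit 8) (nat_lit 0xbd008100ea00560049008f00d6005b00de00760031000f00f200fd008300be005b) (Net.cons (nat_lit 4) (nat_lit 0xd0c0702080c0008060e05040200000607040a04070a050d010002060f0c05020000) (Net.cons (nat_lit 2) (nat_lit 0x1231302212103233130022121120030200213110330102130211010023101220330) (Net.cons (nat_lit 1) (nat_lit 0x1055011401115154451405540140404145051051501540550054455144000044410) Net.nil)))))))))))))))))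

theorem t_g71_ok : Net.ok 275 t_g71 = true := by decide +kernel

noncomputable def t_g72 : Net := (Net.cons (nat_lit 1) (nat_lit 0x4011404144111101115510511514441145504140111451514445410441554051440) (Net.cons (nat_lit 2) (nat_lit 0x2231321021303030332112003332303300330133201130221131000001032210202) (Net.cons (nat_lit 4) (nat_lit 0xa01060e010b0506000b08030f040e0d0e0b05090f030006010403000f0301010300) (Net.cons (nat_lit 8) (nat_lit 0xcf00a00021008a001000240033002000fb000900de008200e400ce00d800200005) (Net.cons (nat_lit 16) (nat_lit 0x3b300005cec00002d490000145000006994000000510000ae2900008150) (Net.cons (nat_lit 32) (nat_lit 0xd9c0539000000000e4154500000000000a4959080000000000021cc8) (Net.cons (nat_lit 64) (nat_lit 0x70e10d4314c1f9f00000000000000000000000000006b09) (Net.cons (nat_lit 128) (nat_lit 0xd63ab28d69a6f6bcb9440672505d1982) (Net.cons (nat_lit 256) (nat_lit 524255) (Net.cons (nat_lit 128) (nat_lit 344163) (Net.cons (nat_lit 64) (nat_lit 0x18583b750696e7c80000000000000000d672c4c798b306d0)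 (Net.cons (nat_lit 32) (nat_lit 0x5893a8940000000036c6ee760000000074f37042000000005c687479) (Net.cons (nat_lit 16) (nat_lit 0x5000023f60000bbd000001d3d0000c4c600003bb4000038e500001d3e00008b86) (Net.cons (nat_lit 8) (nat_lit 0x65001c001b0068006e00a8002c00e200c800cb00b50023005300f80052007e0085) (Net.cons (nat_lit 4) (nat_lit 0xa0e0d080c0405040f020e0600000f060c04050006070901020c01090106030a0b0c) (Net.cons (nat_lit 2) (nat_lit 0x10320020001303211232331033320330312322231221301031100103232012323230) (Net.cons (nat_lit 1) (nat_lit 0x50000545010400101015101100540550044045100055101444554500451501405404) Net.nil)))))))))))))))))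

theorem t_g72_ok : Net.ok 275 t_g72 = true := by decide +kernel

noncomputable def t_g73 : Net := (Net.cons (nat_lit 1) (nat_lit 0x101401115150105144441511411555054501555050555410104440110545015555514) (Net.cons (nat_lit 2) (nat_lit 0x101331032313131221002101102011202131203102011011000231200220223003320) (Net.cons (nat_lit 4) (nat_lit 0x50a0c0a0a0a000401080806030707090d04030d06000a03020e020f0f0309020206) (Net.cons (nat_lit 8) (nat_lit 0x1001c00d00022000e005e0049004100da00bf0089002100650055000b00c90005) (Net.cons (nat_lit 16) (nat_lit 0x100005ec00000f33d00005d37000005a400004d5c0000cc000000a08d00008a40) (Net.cons (nat_lit 32) (nat_lit 0xf022f08c000000004db10d4700000000a412021300000000000140e0) (Net.cons (nat_lit 64) (nat_lit 0x5e80010143260be30000000000000000000000000004b252) (Net.cons (nat_lit 128) (nat_lit 0xb355c62b5bf5be124de5c76884928bec) (Net.cons (nat_lit 256) (nat_lit 523263) (Net.cons (nat_lit 128) (nat_lit 33553) (Net.cons (nat_lit 64) (nat_lit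 0x5a6ba00f6db5f7e30000000000000000b4ac0b29023ac4aa) (Net.cons (nat_lit 32) (nat_lit 0xddc849a800000000092cde6200000000770d200600000000818de2a8) (Net.cons (nat_lit 16) (nat_lit 0x100006a670000eba20000f0950000759c0000a4590000f83000003f4e0000cc76) (Net.cons (nat_lit 8) (nat_lit 0x200ec00bd006500540023003b006c007d002800e400d70080007e00c700ca0031) (Net.cons (nat_lit 4) (nat_lit 0xb090b0b06050007080b0c0e050f0d0f01020b01000f07020e020804040209070506) (Net.cons (nat_lit 2) (nat_lit 0x133210112311032013123231331110003001231302113210113031103321121323332) (Net.cons (nat_lit 1) (nat_lit 0x110515400051110504004405101454150110514114154404405441150405005511514) Net.nil)))))))))))))))))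

theorem t_g73_ok : Net.ok 275 t_g73 = true := by decide +kernel

noncomputable def t_g74 : Net := (Net.cons (nat_lit 1) (nat_lit 0x145554010050410041015504101051451400500150500514510410540110100000000) (Net.cons (nat_lit 2) (nat_lit 0x21113103130200131110320002130312301220032032202033301332120010002000) (Net.cons (nat_lit 4) (nat_lit 0xd0a010f0a010d06000c010e0f0c030c04090c070b07030d0200040a040505000402) (Net.cons (nat_lit 8) (nat_lit 0xd2006600c700090009006b00b100a000d5000e005e008f00c80002000a00000000) (Net.cons (nat_lit 16) (nat_lit 0x2000004210000e938000005110000b14a0000c1110000037b0000224600004420) (Net.cons (nat_lit 32) (nat_lit 0x4887a84400000000110a984200000000000152490000000000001a21) (Net.cons (nat_lit 64) (nat_lit 0x4c18a8190627382900000000000000000000000000004683) (Net.cons (nat_lit 128) (nat_lit 0x64c9a32f67d0fbc109d3199691e1017c) (Net.cons (nat_lit 256) (nat_lit 385023) (Net.cons (nat_lit 128) (nat_lit 459128) (Net.cons (nat_lit 64) (nat_lit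 0x28dec8dd476938ab000000000000000000d44044055d42af) (Net.cons (nat_lit 32) (nat_lit 0xaa95a9c400000000551898c200000000ec3753590000000062161aa1) (Net.cons (nat_lit 16) (nat_lit 0x6000000250000cd3a0000a7330000b14e0000e1110000137b0000264e00004424) (Net.cons (nat_lit 8) (nat_lit 0xd6006300e300590049006b00b100ec00d5000a005e008f00cc0002000a00440004) (Net.cons (nat_lit 4) (nat_lit 0xf0a010f0a010d06000c010e0f0c030c06090c070b0f030d0200040a040505000402) (Net.cons (nat_lit 2) (nat_lit 0x21113103130200131110320002130312301220032032202033301332120010002000) (Net.cons (nat_lit 1) (nat_lit 0x145554010450410041015504101051451400500150500514510410540110100000000) Net.nil)))))))))))))))))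

theorem t_g74_ok : Net.ok 275 t_g74 = true := by decide +kernel

noncomputable def t_g75 : Net := (Net.cons (nat_lit 1) (nat_lit 0x145054044054041055441054400551440015545554044051515400000545455100400) (Net.cons (nat_lit 2) (nat_lit 0x33300233031222211323210230012020212033233233220211220100220101123112) (Net.cons (nat_lit 4) (nat_lit 0x10a0d0b0e0d0b0905070700090d060902090c0f0f0d00010d0308000e0a000d0401) (Net.cons (nat_lit 8) (nat_lit 0x4f009400c800cb004c000000b80051006500aa003a00b9005c003c001700010000) (Net.cons (nat_lit 16) (nat_lit 0x700007f1500002190000095420000231300005a1a0000546500005b6400000188) (Net.cons (nat_lit 32) (nat_lit 0xc40059e9000000004b26314b00000000a6839e70000000000001a402) (Net.cons (nat_lit 64) (nat_lit 0xc8a111085a04ce6300000000000000000000000000067a2c) (Net.cons (nat_lit 128) (nat_lit 0x1604971b789f8156e8af82d003ad4801) (Net.cons (nat_lit 256) (nat_lit 524207) (Net.cons (nat_lit 128) (nat_lit 468772) (Net.cons (nat_lit 64) (nat_lit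 0x88fe1ddbb118da6d00000000000000007819bf13bcf3ebaa) (Net.cons (nat_lit 32) (nat_lit 0x9c2068e400000000a8fdc8510000000030cd6fb100000000845abd85) (Net.cons (nat_lit 16) (nat_lit 0x1000067ac0000a5ae00002aae0000975d00001078000086730000febd00002808) (Net.cons (nat_lit 8) (nat_lit 0xa700dd003200e300d00068000b006500be005b003200f3005c00b3008700120080) (Net.cons (nat_lit 4) (nat_lit 0xd00050a070c080e07090000010203000b0e0105060d02040e0d010f0c0e0e08050f) (Net.cons (nat_lit 2) (nat_lit 0x13311002211221001130033001012103202232001030333132230322211122113120) (Net.cons (nat_lit 1) (nat_lit 0x15041145450141504550154000051444450444500505500500500040115104115414) Net.nil)))))))))))))))))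

theorem t_g75_ok : Net.ok 275 t_g75 = true := by decide +kernel

noncomputable def t_g76 : Net := (Net.cons (nat_lit 1) (nat_lit 0x55011555415114551414045100055051441550544155505400100400550110141000) (Net.cons (nat_lit 2) (nat_lit 0x121101011011100013202123323013201312013100233032003020303030232332200) (Net.cons (nat_lit 4) (nat_lit 0xd03080405000f0c0e0e0b0c010d0909060307010b06040c0a080f07000b02020301) (Net.cons (nat_lit 8) (nat_lit 0xb100d900a70063002600d5007c00a9001f00da0094004c000e0097001e00050003) (Net.cons (nat_lit 16) (nat_lit 0x10000c44c0000b0b60000678600003703000042d800001b0a000051bf00002148) (Net.cons (nat_lit 32) (nat_lit 0xacbad3f00000000b0b8a42c0000000010306c000000000000000142) (Net.cons (nat_lit 64) (nat_lit 0x8c0920810080024100000000000000000000000000007027) (Net.cons (nat_lit 128) (nat_lit 0xd3c763760cb0bc191430a98a60512d5) (Net.cons (nat_lit 256) (nat_lit 489471) (Net.cons (nat_lit 128) (nat_lit 378769) (Net.cons (nat_lit 64) (nat_lit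 0x253ff07d97066c430000000000000000bd646ed245d035c3) (Net.cons (nat_lit 32) (nat_lit 0x16eda14600000000df59d47200000000c0e44c520000000029a1a1cb) (Net.cons (nat_lit 16) (nat_lit 0x700002295000094920000dc9d0000b4ba00004612000049d20000124e00004301) (Net.cons (nat_lit 8) (nat_lit 0x58001500a900f90029002b00dc00a0006e00fe00c200d2002d007f00cc00eb0086) (Net.cons (nat_lit 4) (nat_lit 0xd0e0d05020f0500070a0408020a0809080501090d01000a0d0c0e03080b0a08050b) (Net.cons (nat_lit 2) (nat_lit 0x1302312022031103123131332310202320233300031112212200031110133211220) (Net.cons (nat_lit 1) (nat_lit 0x155555105110540155454510110411101044554004454115040150411054504445444) Net.nil)))))))))))))))))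

theorem t_g76_ok : Net.ok 275 t_g76 = true := by decide +kernel

noncomputable def cx_K : List Net := [t_g69, t_g70, t_g71, t_g72, t_g73, t_g74, t_g75, t_g76]

theorem cx_K_ok : okE 275 cx_K = true := (okE_cons.2 ⟨t_g69_ok, (okE_cons.2 ⟨t_g70_ok, (okE_cons.2 ⟨t_g71_ok, (okE_cons.2 ⟨t_g72_ok, (okE_cons.2 ⟨t_g73_ok, (okE_cons.2 ⟨t_g74_ok, (okE_cons.2 ⟨t_g75_ok, (okE_cons.2 ⟨t_g76_ok, (okE_nil 275)⟩)⟩)⟩)⟩)⟩)⟩)⟩)⟩)

noncomputable def t_V78 : List Net := [t_g10, t_g6, t_g7, t_g17, t_g13, t_g14, t_g20, t_g21, t_g22, t_g34, t_g35, t_g36, t_g27, t_g28, t_g29, t_g30, t_g31, t_g40, t_g41, t_g39, t_g49, t_g46, t_g46]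

theorem t_V78_ok : okE 275 t_V78 = true := (okE_cons.2 ⟨t_g10_ok, (okE_cons.2 ⟨t_g6_ok, (okE_cons.2 ⟨t_g7_ok, (okE_cons.2 ⟨t_g17_ok, (okE_cons.2 ⟨t_g13_ok, (okE_cons.2 ⟨t_g14_ok, (okE_cons.2 ⟨t_g20_ok, (okE_cons.2 ⟨t_g21_ok, (okE_cons.2 ⟨t_g22_ok, (okE_cons.2 ⟨t_g34_ok, (okE_cons.2 ⟨t_g35_ok, (okE_cons.2 ⟨t_g36_ok, (okE_cons.2 ⟨t_g27_ok, (okE_cons.2 ⟨t_g28_ok, (okE_cons.2 ⟨t_g29_ok, (okE_cons.2 ⟨t_g30_ok, (okE_cons.2 ⟨t_g31_ok, (okE_cons.2 ⟨t_g40_ok, (okE_cons.2 ⟨t_g41_ok, (okE_cons.2 ⟨t_g39_ok, (okE_cons.2 ⟨t_g49_ok, (okE_cons.2 ⟨t_g46_ok, (okE_cons.2 ⟨t_g46_ok, (okE_nil 275)⟩)⟩)⟩)⟩)⟩)⟩)⟩)⟩)⟩)⟩)⟩)⟩)⟩)⟩)⟩)⟩)⟩)⟩)⟩)⟩)⟩)⟩)⟩)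

noncomputable def t_V79 : List Net := [t_g17, t_g13, t_g14, t_g20, t_g21, t_g22, t_g34, t_g35, t_g36, t_g27, t_g28, t_g29, t_g30, t_g31, t_g40, t_g41, t_g39, t_g49, t_g46, t_g46]

theorem t_V79_ok : okE 275 t_V79 = true := (okE_cons.2 ⟨t_g17_ok, (okE_cons.2 ⟨t_g13_ok, (okE_cons.2 ⟨t_g14_ok, (okE_cons.2 ⟨t_g20_ok, (okE_cons.2 ⟨t_g21_ok, (okE_cons.2 ⟨t_g22_ok, (okE_cons.2 ⟨t_g34_ok, (okE_cons.2 ⟨t_g35_ok, (okE_cons.2 ⟨t_g36_ok, (okE_cons.2 ⟨t_g27_ok, (okE_cons.2 ⟨t_g28_ok, (okE_cons.2 ⟨t_g29_ok, (okE_cons.2 ⟨t_g30_ok, (okE_cons.2 ⟨t_g31_ok, (okE_cons.2 ⟨t_g40_ok, (okE_cons.2 ⟨t_g41_ok, (okE_cons.2 ⟨t_g39_ok, (okE_cons.2 ⟨t_g49_ok, (okE_cons.2 ⟨t_g46_ok, (okE_cons.2 ⟨t_g46_ok, (okE_nil 275)⟩)⟩)⟩)⟩)⟩)⟩)⟩)⟩)⟩)⟩)⟩)⟩)⟩)⟩)⟩)⟩)⟩)⟩)⟩)⟩)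

noncomputable def t_V80 : List Net := [t_g20, t_g21, t_g22, t_g34, t_g35, t_g36, t_g27, t_g28, t_g29, t_g30, t_g31, t_g40, t_g41, t_g39, t_g49, t_g46, t_g46]

theorem t_V80_ok : okE 275 t_V80 = true := (okE_cons.2 ⟨t_g20_ok, (okE_cons.2 ⟨t_g21_ok, (okE_cons.2 ⟨t_g22_ok, (okE_cons.2 ⟨t_g34_ok, (okE_cons.2 ⟨t_g35_ok, (okE_cons.2 ⟨t_g36_ok, (okE_cons.2 ⟨t_g27_ok, (okE_cons.2 ⟨t_g28_ok, (okE_cons.2 ⟨t_g29_ok, (okE_cons.2 ⟨t_g30_ok, (okE_cons.2 ⟨t_g31_ok, (okE_cons.2 ⟨t_g40_ok, (okE_cons.2 ⟨t_g41_ok, (okE_cons.2 ⟨t_g39_ok, (okE_cons.2 ⟨t_g49_ok, (okE_cons.2 ⟨t_g46_ok, (okE_cons.2 ⟨t_g46_ok, (okE_nil 275)⟩)⟩)⟩)⟩)⟩)⟩)⟩)⟩)⟩)⟩)⟩)⟩)⟩)⟩)⟩)⟩)⟩)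

noncomputable def t_V81 : List Net := [t_g34, t_g35, t_g36, t_g27, t_g28, t_g29, t_g30, t_g31, t_g40, t_g41, t_g39, t_g49, t_g46, t_g46]

theorem t_V81_ok : okE 275 t_V81 = true := (okE_cons.2 ⟨t_g34_ok, (okE_cons.2 ⟨t_g35_ok, (okE_cons.2 ⟨t_g36_ok, (okE_cons.2 ⟨t_g27_ok, (okE_cons.2 ⟨t_g28_ok, (okE_cons.2 ⟨t_g29_ok, (okE_cons.2 ⟨t_g30_ok, (okE_cons.2 ⟨t_g31_ok, (okE_cons.2 ⟨t_g40_ok, (okE_cons.2 ⟨t_g41_ok, (okE_cons.2 ⟨t_g39_ok, (okE_cons.2 ⟨t_g49_ok, (okE_cons.2 ⟨t_g46_ok, (okE_cons.2 ⟨t_g46_ok, (okE_nil 275)⟩)⟩)⟩)⟩)⟩)⟩)⟩)⟩)⟩)⟩)⟩)⟩)⟩)⟩)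

noncomputable def t_V82 : List Net := [t_g40, t_g41, t_g39, t_g49, t_g46, t_g46]

theorem t_V82_ok : okE 275 t_V82 = true := (okE_cons.2 ⟨t_g40_ok, (okE_cons.2 ⟨t_g41_ok, (okE_cons.2 ⟨t_g39_ok, (okE_cons.2 ⟨t_g49_ok, (okE_cons.2 ⟨t_g46_ok, (okE_cons.2 ⟨t_g46_ok, (okE_nil 275)⟩)⟩)⟩)⟩)⟩)⟩)

noncomputable def t_V83 : List Net := [t_g49, t_g46, t_g46]

theorem t_V83_ok : okE 275 t_V83 = true := (okE_cons.2 ⟨t_g49_ok, (okE_cons.2 ⟨t_g46_ok, (okE_cons.2 ⟨t_g46_ok, (okE_nil 275)⟩)⟩)⟩)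

noncomputable def t_V84 : List Net := []

theorem t_V84_ok : okE 275 t_V84 = true := (okE_nil 275)

noncomputable def cx_cnt_EG : List Net := [t_g3, t_g1, t_g2, t_g10, t_g6, t_g7, t_g17, t_g13, t_g14, t_g20, t_g21, t_g22, t_g34, t_g35, t_g36, t_g27, t_g28, t_g29, t_g30, t_g31, t_g40, t_g41, t_g39, t_g49, t_g46]

theorem cx_cnt_EG_ok : okE 275 cx_cnt_EG = true := (okE_cons.2 ⟨t_g3_ok, (okE_cons.2 ⟨t_g1_ok, (okE_cons.2 ⟨t_g2_ok, (okE_cons.2 ⟨t_g10_ok, (okE_cons.2 ⟨t_g6_ok, (okE_cons.2 ⟨t_g7_ok, (okE_cons.2 ⟨t_g17_ok, (okE_cons.2 ⟨t_g13_ok, (okE_cons.2 ⟨t_g14_ok, (okE_cons.2 ⟨t_g20_ok, (okE_cons.2 ⟨t_g21_ok, (okE_cons.2 ⟨t_g22_ok, (okE_cons.2 ⟨t_g34_ok, (okE_cons.2 ⟨t_g35_ok, (okE_cons.2 ⟨t_g36_ok, (okE_cons.2 ⟨t_g27_ok, (okE_cons.2 ⟨t_g28_ok, (okE_cons.2 ⟨t_g29_ok, (okE_cons.2 ⟨t_g30_ok, (okE_cons.2 ⟨t_g31_ok, (okE_cons.2 ⟨t_g40_ok, (okE_cons.2 ⟨t_g41_ok, (okE_cons.2 ⟨t_g39_ok, (okE_cons.2 ⟨t_g49_ok, (okE_cons.2 ⟨t_g46_ok, (okE_nil 275)⟩)⟩)⟩)⟩)⟩)⟩)⟩)⟩)⟩)⟩)⟩)⟩)⟩)⟩)⟩)⟩)⟩)⟩)⟩)⟩)⟩)⟩)⟩)⟩)⟩)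

noncomputable def t_g85 : Net := (Net.cons (nat_lit 1) (nat_lit 0x54514054505140404001504441014410545551000445555151505015451454501440) (Net.cons (nat_lit 2) (nat_lit 0x1333233330213112030211222213313101103001101220003323333211200200302) (Net.cons (nat_lit 4) (nat_lit 0x2080a0500080300040c080b0e0b040b0c0d0708050100060a090501060208040900) (Net.cons (nat_lit 8) (nat_lit 0x12001c005800e400a700de005200f0008c004f004300c500560028000100450000) (Net.cons (nat_lit 16) (nat_lit 0x7000041f000002235000024ed0000536a00006292000082840000a6ca00000328) (Net.cons (nat_lit 32) (nat_lit 0x201836ad000000001bf24cb0000000005b4faa850000000000038fb6) (Net.cons (nat_lit 64) (nat_lit 0x19804b1e632c57340000000000000000000000000001e015) (Net.cons (nat_lit 128) (nat_lit 0xccb9db440f2c35b2b143003afc161df0) (Net.cons (nat_lit 256) (nat_lit 524287) (Net.cons (nat_lit 128) (nat_lit 160276) (Net.cons (nat_lit 64) (nat_lit 0x8f34fdae111fae850000000000000000b046016a479931e3) (Net.cons (nat_lit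 32) (nat_lit 0x5274e69c0000000090a835b600000000bba8cb7300000000691d0e0e) (Net.cons (nat_lit 16) (nat_lit 0x10000d9250000279d000053c500003ac70000121700004bc6000090d00000f228) (Net.cons (nat_lit 8) (nat_lit 0xe0001c002700a7000300e6002b00e900a400a600ca009800e100ec00b400c100ea) (Net.cons (nat_lit 4) (nat_lit 0x50f07000e0b0b0f030e0905050b040506030c040600060a08090807080b050c030c) (Net.cons (nat_lit 2) (nat_lit 0x3323332213132020320021013211212021212011023221003232312103030021300) (Net.cons (nat_lit 1) (nat_lit 0x145510415001015004451505401415445550015440000111550504111541004505010) Net.nil)))))))))))))))))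

theorem t_g85_ok : Net.ok 275 t_g85 = true := by decide +kernel

noncomputable def t_g86 : Net := (Net.cons (nat_lit 1) (nat_lit 0x101514150104404411014455511114014401545515400501511154410100144455505) (Net.cons (nat_lit 2) (nat_lit 0x103101213212202100233323320200222022303033313110020003020223010103010) (Net.cons (nat_lit 4) (nat_lit 0xb02060f0c0e0e00080c04060e0804040f0b0808020507050300020b0c0200070b05) (Net.cons (nat_lit 8) (nat_lit 0x5b0034004f00960087005700e900ea003a00ce009900a20093004a00f100600001) (Net.cons (nat_lit 16) (nat_lit 0x400002360000016460000ef3e000028210000dccf0000848200002414000094d0) (Net.cons (nat_lit 32) (nat_lit 0x9e689b710000000097ce0d67000000005a0412600000000000056012) (Net.cons (nat_lit 64) (nat_lit 0x2e0529968523000c000000000000000000000000000501f3) (Net.cons (nat_lit 128) (nat_lit 0x84576b2722af89eeba20c2b18d825f40) (Net.cons (nat_lit 256) (nat_lit 524287) (Net.cons (nat_lit 128) (nat_lit 52673) (Net.cons (nat_lit 64) (nat_lit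 0x12e729ddd66e91c000000000000000071409985088dadaa) (Net.cons (nat_lit 32) (nat_lit 0xdb2f796400000000ded1790a00000000402cd1f000000000c0dc37a3) (Net.cons (nat_lit 16) (nat_lit 0x5000004380000df5d000017120000e5a6000064c90000f437000030390000886d) (Net.cons (nat_lit 8) (nat_lit 0x1003e00aa00bc009a0094005500e80001008600a4001d00fa00420086005d000c) (Net.cons (nat_lit 4) (nat_lit 0x10c000b020a04080d030405010b060e0b070b080104060100010b0b09010c020600) (Net.cons (nat_lit 2) (nat_lit 0x121000333001310122133100000230230331221312013203232103123300110322110) (Net.cons (nat_lit 1) (nat_lit 0x114015110505551005004441511450004151115551501401051004441544050415511) Net.nil)))))))))))))))))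

theorem t_g86_ok : Net.ok 275 t_g86 = true := by decide +kernel

noncomputable def t_g87 : Net := (Net.cons (nat_lit 1) (nat_lit 0x45440541154514405054004105110451451145444450110411545515140154051010) (Net.cons (nat_lit 2) (nat_lit 0x123313013000103112222132110222030110111033013132110200323103233222100) (Net.cons (nat_lit 4) (nat_lit 0x4070f01020a0503030a04010700020307030e0e0a0b010e0c0205070101010c0101) (Net.cons (nat_lit 8) (nat_lit 0x1100c2001e0051009900a60005001300020071000500a90006009d001200a70002) (Net.cons (nat_lit 16) (nat_lit 0x710e000074500000cab00000f58b0000a4510000f840000011d500008150) (Net.cons (nat_lit 32) (nat_lit 0x748bed40000000018366c80000000002141b2c60000000000050020) (Net.cons (nat_lit 64) (nat_lit 0x8310e6b78300883000000000000000000000000000197a8) (Net.cons (nat_lit 128) (nat_lit 0xcd32ea2c6a5ad369a585654790ae8973) (Net.cons (nat_lit 256) (nat_lit 524287) (Net.cons (nat_lit 128) (nat_lit 363439) (Net.cons (nat_lit 64) (nat_lit 0x85c5ef9729397cca00000000000000002912a0ffb2491dcc)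 (Net.cons (nat_lit 32) (nat_lit 0xbda9a2d300000000ea4070c10000000075712b0e00000000e562b34a) (Net.cons (nat_lit 16) (nat_lit 0x20000e3340000859d00006ef700007d6c00007663000016de0000b7930000d3d2) (Net.cons (nat_lit 8) (nat_lit 0xd0008b00630073006500810040002a0071003f00ac00da0055001600ca00700081) (Net.cons (nat_lit 4) (nat_lit 0x80504070209030b020b000300030f08050005080002090a04000e07020b010a0805) (Net.cons (nat_lit 2) (nat_lit 0x33200002021321322032123112211213113112222300332132021100201113020332) (Net.cons (nat_lit 1) (nat_lit 0x44041001511015401411150444155101101505001040405511555054440504505044) Net.nil)))))))))))))))))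

theorem t_g87_ok : Net.ok 275 t_g87 = true := by decide +kernel

noncomputable def t_g88 : Net := (Net.cons (nat_lit 1) (nat_lit 0x55400511540144055450540544011511054154440014101004110405014004441410) (Net.cons (nat_lit 2) (nat_lit 0x110130020303310210103322123011302011310310102331313221221311011010330) (Net.cons (nat_lit 4) (nat_lit 0xd0d070208070d050307070c000a0206050c0f0f0106060c020e080006040b090405) (Net.cons (nat_lit 8) (nat_lit 0xfa008c009a00da008e000b00240092007400e300c10090007900c9004d00410000) (Net.cons (nat_lit 16) (nat_lit 0x556e000080670000e1c40000510c00008057000022110000ce45000048d0) (Net.cons (nat_lit 32) (nat_lit 0x4e10cd8f00000000c148442e0000000042334100000000000004da26) (Net.cons (nat_lit 64) (nat_lit 0x7c4c56503861165a00000000000000000000000000015040) (Net.cons (nat_lit 128) (nat_lit 0x7a17ce33c7cbd56404e891efbf23162f) (Net.cons (nat_lit 256) (nat_lit 516095) (Net.cons (nat_lit 128) (nat_lit 335026) (Net.cons (nat_lit 64) (nat_lit 0x5cdb6af323fd062f000000000000000048bad0df230b5d49)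 (Net.cons (nat_lit 32) (nat_lit 0xce0ec34a0000000040b0382c00000000bc3183f700000000084c5a45) (Net.cons (nat_lit 16) (nat_lit 0x10000e2660000d6fa0000906400000fbb000097fb0000c44100008b3200007a59) (Net.cons (nat_lit 8) (nat_lit 0x3c008600d8006d007e00ad00df001500b5005d00c10038004b00ec000b00a7000e) (Net.cons (nat_lit 4) (nat_lit 0x209070a0804080e020f010f01080f0b040e030d0102090c0e080601070f0a080c0d) (Net.cons (nat_lit 2) (nat_lit 0x122031012120033332013220103310220320003300023113233003131223300032120) (Net.cons (nat_lit 1) (nat_lit 0x144441501401115555054055501550445404114500154514440411001004111140400) Net.nil)))))))))))))))))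

theorem t_g88_ok : Net.ok 275 t_g88 = true := by decide +kernel

noncomputable def xE : List Net := [t_g68, t_g85, t_g86, t_g87, t_g73, t_g88]

theorem xE_ok : okE 275 xE = true := (okE_cons.2 ⟨t_g68_ok, (okE_cons.2 ⟨t_g85_ok, (okE_cons.2 ⟨t_g86_ok, (okE_cons.2 ⟨t_g87_ok, (okE_cons.2 ⟨t_g73_ok, (okE_cons.2 ⟨t_g88_ok, (okE_nil 275)⟩)⟩)⟩)⟩)⟩)⟩)

noncomputable def t_g89 : Net := (Net.cons (nat_lit 1) (nat_lit 0x55410414504111415141101404440544105141010151510015150115104150451540) (Net.cons (nat_lit 2) (nat_lit 0x21301023100331300001002310030201222111232120132231010030333020000200) (Net.cons (nat_lit 4) (nat_lit 0xd0b0a09070d0107050704020a0a010702010a00080e020c01050503060906090b00) (Net.cons (nat_lit 8) (nat_lit 0x50008b00de0094005800cd00470039008e00070095001000c1005000e800130000) (Net.cons (nat_lit 16) (nat_lit 0x60000a22800000d750000986a0000bc300000da8d000079fc0000a2c0000099a8) (Net.cons (nat_lit 32) (nat_lit 0xa6831228000000009c3f622a00000000b27915b90000000000002316)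 (Net.cons (nat_lit 64) (nat_lit 0xcc621948833337150000000000000000000000000004e583) (Net.cons (nat_lit 128) (nat_lit 0x141db6deede676a0cae2aba316d8b138) (Net.cons (nat_lit 256) (nat_lit 524287) (Net.cons (nat_lit 128) (nat_lit 92173) (Net.cons (nat_lit 64) (nat_lit 0x4cf4984ece124faa000000000000000067c102355d9d879d) (Net.cons (nat_lit 32) (nat_lit 0x6f32dc1b00000000b92acabe000000002125ac7000000000459bcfd0) (Net.cons (nat_lit 16) (nat_lit 0x70000e7950000db8500009bc30000481e00002c1b00001c27000054fd0000c3ae) (Net.cons (nat_lit 8) (nat_lit 0x4e000f00db0016003e00d3002d00bc00dd004a0041005f00a200da001f00020044) (Net.cons (nat_lit 4) (nat_lit 0x90f070a0e05090c030f05000e0704060207080d0e0702080307080d08040f000a02) (Net.cons (nat_lit 2) (nat_lit 0x1210232011320023102211311001302023323123032003112323323102211023310) (Net.cons (nat_lit 1) (nat_lit 0x144440001415454040050510411010440055004504104500105551111415044014544) Net.nil)))))))))))))))))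

theorem t_g89_ok : Net.ok 275 t_g89 = true := by decide +kernel

noncomputable def t_g90 : Net := (Net.cons (nat_lit 1) (nat_lit 0x54501044445551400105100040114401550001054111100105100000454100101504) (Net.cons (nat_lit 2) (nat_lit 0x11213133031220200320302000023110222112233310231110222021313323202020) (Net.cons (nat_lit 4) (nat_lit 0x80e0203060c0b0a0e000206090f0d04080a0005010c0d090601010f010600000200) (Net.cons (nat_lit 8) (nat_lit 0xe000ca003e008000fb000900f200960068006b00500094001a0045000200020005) (Net.cons (nat_lit 16) (nat_lit 0x40000ed340000dcae0000d2e40000236c0000150d000011080000880c00008aa0) (Net.cons (nat_lit 32) (nat_lit 0x56ab93db00000000024c9a20000000002591745a0000000000050118) (Net.cons (nat_lit 64) (nat_lit 0x2813080402014286000000000000000000000000000400d0) (Net.cons (nat_lit 128) (nat_lit 0x3d625af67bd9ed50519d82a81901e840) (Net.cons (nat_lit 256) (nat_lit 519164) (Net.cons (nat_lit 128) (nat_lit 522982) (Net.cons (nat_lit 64) (nat_lit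 0x1fea7e906e1f96690000000000000000c48bb03df0974d40) (Net.cons (nat_lit 32) (nat_lit 0x69eb2549000000009f0af69e000000006f236cd900000000f411df9d) (Net.cons (nat_lit 16) (nat_lit 0x40000ce0600009c070000167400004c5200006b0f0000e1ba0000139700009862) (Net.cons (nat_lit 8) (nat_lit 0x4f00c10056003600c9008d006600a40014000a005600ab000b00580007003000f6) (Net.cons (nat_lit 4) (nat_lit 0xe08010607070b07060d0b0a000e0d040a0d0d000903050105080809010105060406) (Net.cons (nat_lit 2) (nat_lit 0x100022123233122201023230333022102221201331001133111322310233213002210) (Net.cons (nat_lit 1) (nat_lit 0x10114111500145154450051145441541405404500055441044450454050005404405) Net.nil)))))))))))))))))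

theorem t_g90_ok : Net.ok 275 t_g90 = true := by decide +kernel

noncomputable def xL : List Net := [t_g89, t_g90]

theorem xL_ok : okE 275 xL = true := (okE_cons.2 ⟨t_g89_ok, (okE_cons.2 ⟨t_g90_ok, (okE_nil 275)⟩)⟩)

noncomputable def t_g91 : Net := (Net.cons (nat_lit 1) (nat_lit 0x44551100500155550414014404014501151514014455401550055411050000404000) (Net.cons (nat_lit 2) (nat_lit 0x112212330211200300223111210032030200332002333000012003200212300200000) (Net.cons (nat_lit 4) (nat_lit 0xa0c0f09080f02040e0903030b040a0408010c050602080003060a0c0d080c000500) (Net.cons (nat_lit 8) (nat_lit 0xc00da00270051002300fb00ef0090000d0078006e0000000200e3004900960001) (Net.cons (nat_lit 16) (nat_lit 0x70000b2c80000dbff00008a7e000018570000888000000208000046d000008200) (Net.cons (nat_lit 32) (nat_lit 0x58111ccb000000000c3d203b00000000801180c0000000000000ad00) (Net.cons (nat_lit 64) (nat_lit 0x106008624102a9050000000000000000000000000005f388) (Net.cons (nat_lit 128) (nat_lit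 0xab5c691084196bd53134c46bf70a6926) (Net.cons (nat_lit 256) (nat_lit 524207) (Net.cons (nat_lit 128) (nat_lit 188726) (Net.cons (nat_lit 64) (nat_lit 0xf75789664f44953e000000000000000007142a0c8625dbb8) (Net.cons (nat_lit 32) (nat_lit 0x5a9b9cc9000000008e9f283900000000839ba0db0000000008da8d38) (Net.cons (nat_lit 16) (nat_lit 0x5000012f800007bcd000022540000985f0000319800008b090000c6c800000a10) (Net.cons (nat_lit 8) (nat_lit 0xa400f200240071000b00c200e600d8000d00f000670049006300cb0063009e0029) (Net.cons (nat_lit 4) (nat_lit 0x20c0f09020e02060e09020209040b0e00090d0d060200000b050a0c0f080c000700) (Net.cons (nat_lit 2) (nat_lit 0x112212330211200300223111210032030200332002333000012003200212300200000) (Net.cons (nat_lit 1) (nat_lit 0x44551100500155550414014404014501151514014455501550055411050000404000) Net.nil)))))))))))))))))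

theorem t_g91_ok : Net.ok 275 t_g91 = true := by decide +kernel

noncomputable def t_g92 : Net := (Net.cons (nat_lit 1) (nat_lit 0x504554114545004540115110540110445415110150145154150145445115411000) (Net.cons (nat_lit 2) (nat_lit 0x13131311211330120030110013210131012122312231202203200320010023030000) (Net.cons (nat_lit 4) (nat_lit 0x602080e070b070c0807030004020e0e09030709000c0f02060d040304020b0a0100) (Net.cons (nat_lit 8) (nat_lit 0x4f00940039004c00e700c600110002001000cb0004007d003b00a2001800420000) (Net.cons (nat_lit 16) (nat_lit 0x62f000046ab0000f8be0000f20b000075e40000cde80000300100000400) (Net.cons (nat_lit 32) (nat_lit 0x985e05010000000024007388000000002f0d3d2000000000000030cc) (Net.cons (nat_lit 64) (nat_lit 0x99ce730d406500200000000000000000000000000000b0c5) (Net.cons (nat_lit 128) (nat_lit 0x2f83429c5dfe05faf06d39418789da39) (Net.cons (nat_lit 256) (nat_lit 262143) (Net.cons (nat_lit 128) (nat_lit 132554) (Net.cons (nat_lit 64) (nat_lit 0x46a36150094eb67b0000000000000000814ab79b2a5ebda1)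 (Net.cons (nat_lit 32) (nat_lit 0xbfc62c260000000039b1975c0000000082a7908300000000da711b36) (Net.cons (nat_lit 16) (nat_lit 0x5f470000c23000009bef0000d797000055c30000a427000040bd0000378e) (Net.cons (nat_lit 8) (nat_lit 0x3100220042009700cf009b00d6006100f9002e00ad002700e70008006a002300f7) (Net.cons (nat_lit 4) (nat_lit 0xc08070a030c04030f01040305050d02020a0b0d0e070c00030f0407000f0f010a02) (Net.cons (nat_lit 2) (nat_lit 0x121023130123301012001213113001130113113010032033322320030213223032210) (Net.cons (nat_lit 1) (nat_lit 0x4400441145410045514415111440044501045054051144450100004114514540040) Net.nil)))))))))))))))))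

theorem t_g92_ok : Net.ok 275 t_g92 = true := by decide +kernel

noncomputable def xJ : List Net := [t_g91, t_g92]

theorem xJ_ok : okE 275 xJ = true := (okE_cons.2 ⟨t_g91_ok, (okE_cons.2 ⟨t_g92_ok, (okE_nil 275)⟩)⟩)

theorem t_le5 : grp 275 t_V4 ≤ grp 275 t_O :=
  grp_le_of_memB t_hn t_hk t_O_ok t_V4_ok (ws := [nat_lit 259]) (by decide +kernel)

theorem t_le9 : grp 275 t_V8 ≤ grp 275 t_O :=
  grp_le_of_memB t_hn t_hk t_O_ok t_V8_ok (ws := [nat_lit 0x1010104020202, nat_lit 0x40204010402]) (by decide +kernel)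

theorem t_le12 : grp 275 t_V11 ≤ grp 275 t_V8 :=
  grp_le_of_memB t_hn t_hk t_V8_ok t_V11_ok (ws := [nat_lit 259]) (by decide +kernel)

theorem t_le16 : grp 275 t_V15 ≤ grp 275 t_V8 :=
  grp_le_of_memB t_hn t_hk t_V8_ok t_V15_ok (ws := [nat_lit 0x3020401030302, nat_lit 0x3010104020302040204]) (by decide +kernel)

theorem t_le19 : grp 275 t_V18 ≤ grp 275 t_V15 :=
  grp_le_of_memB t_hn t_hk t_V15_ok t_V18_ok (ws := [nat_lit 0x2030104]) (by decide +kernel)

theorem t_le24 : grp 275 t_V23 ≤ grp 275 t_V15 :=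
  grp_le_of_memB t_hn t_hk t_V15_ok t_V23_ok (ws := [nat_lit 0x404010303020401, nat_lit 0x2040402020203030202, nat_lit 0x101010401040402040202]) (by decide +kernel)

theorem t_le26 : grp 275 t_V25 ≤ grp 275 t_V23 :=
  grp_le_of_memB t_hn t_hk t_V23_ok t_V25_ok (ws := [nat_lit 1]) (by decide +kernel)

theorem t_le33 : grp 275 t_V32 ≤ grp 275 t_V23 :=
  grp_le_of_memB t_hn t_hk t_V23_ok t_V32_ok (ws := [nat_lit 0x503010602030202, nat_lit 0x1050104040502060302, nat_lit 0x20303060105050202, nat_lit 0x205030205050401050203020502, nat_lit 0x20602020503030104]) (by decide +kernel)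

theorem t_le38 : grp 275 t_V37 ≤ grp 275 t_V32 :=
  grp_le_of_memB t_hn t_hk t_V32_ok t_V37_ok (ws := [nat_lit 264, nat_lit 2, nat_lit 266]) (by decide +kernel)

theorem t_le43 : grp 275 t_V42 ≤ grp 275 t_V32 :=
  grp_le_of_memB t_hn t_hk t_V32_ok t_V42_ok (ws := [nat_lit 0x505040404040801, nat_lit 0xa0601090909020204, nat_lit 0x407030706]) (by decide +kernel)

theorem t_le45 : grp 275 t_V44 ≤ grp 275 t_V42 :=
  grp_le_of_memB t_hn t_hk t_V42_ok t_V44_ok (ws := [nat_lit 3, nat_lit 5]) (by decide +kernel)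

theorem t_le48 : grp 275 t_V47 ≤ grp 275 t_V42 :=
  grp_le_of_memB t_hn t_hk t_V42_ok t_V47_ok (ws := [nat_lit 0x5010606030606, nat_lit 0x6020203]) (by decide +kernel)

theorem t_le51 : grp 275 t_V50 ≤ grp 275 t_V47 :=
  grp_le_of_memB t_hn t_hk t_V47_ok t_V50_ok (ws := [nat_lit 2]) (by decide +kernel)

theorem t_card7 : Nat.card (grp 275 t_E7) = 1 :=
  card_grp_nil 275

theorem t_leO7 : grp 275 t_E7 ≤ grp 275 t_O :=
  grp_nil_le _

theorem t_6_fix : grp 275 t_E7 ≤ MulAction.stabilizer (Equiv.Perm (Fin 275)) (⟨2, by decide⟩ : Fin 275) :=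
  grp_le_stab t_E7_ok (by decide : 2 < 275) (by decide +kernel)

noncomputable def t_6_ts : List ℕ := [nat_lit 0, nat_lit 1, nat_lit 2]

noncomputable def t_6_ds : List ℕ := [nat_lit 2, nat_lit 224, nat_lit 138]

theorem t_6_dist : Dist 275 t_E7 t_G6 (⟨2, by decide⟩ : Fin 275) t_6_ts t_6_ds :=
  dist_of_distB (k := 2) t_hn t_E7_ok t_G6_ok (by decide : 2 < 275) (by decide +kernel)

noncomputable def t_6_sl0 : SL := (SL.cons (nat_lit 1) (nat_lit 224) Ch.nil [] (SL.cons (nat_lit 2) (nat_lit 138) Ch.nil [] SL.nil))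

theorem t_6_sc0 : SCs 275 t_E7 t_G6 (⟨2, by decide⟩ : Fin 275) (SL.words t_6_sl0) :=
  scs_of_ok t_hn (det_lab t_hk ⊤) t_E7_ok t_G6_ok le_top le_top (by decide : 2 < 275) t_6_fix t_card7.le (by decide +kernel)

noncomputable def t_6_l : List ℕ := (appL (SL.words t_6_sl0) [])

theorem t_6_scs : SCs 275 t_E7 t_G6 (⟨2, by decide⟩ : Fin 275) t_6_l :=
  (SCs.append t_6_sc0 SCs.nil)

noncomputable def t_6_rl0_0 : RL := (RL.cons (nat_lit 0) (nat_lit 2) (nat_lit 0) (nat_lit 0) (nat_lit 2) (nat_lit 0) (RL.cons (nat_lit 1) (nat_lit 224) (nat_lit 0) (nat_lit 0) (nat_lit 0) (nat_lit 0) (RL.cons (nat_lit 2) (nat_lit 138) (nat_lit 0) (nat_lit 0) (nat_lit 1) (nat_lit 0) RL.nil)))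

theorem t_6_good0_0 : GoodSet 275 t_E7 t_G6 (⟨2, by decide⟩ : Fin 275) t_6_ts (nat_lit 1) (RL.pts t_6_rl0_0) :=
  goodSet_of_ok t_hn (det_lab t_hk ⊤) t_E7_ok t_G6_ok le_top le_top (by decide : 2 < 275) (sepAt_lab t_hk _) (by decide +kernel)

theorem t_6_step0 : Step 275 t_E7 t_G6 t_6_ts (2 * 0 + 1) :=
  step_of_cover t_E7_ok t_6_dist (by decide +kernel) t_6_scs (by decide +kernel) t_6_good0_0 (kw := [])
    (conj_mem_of_scs t_E7_ok t_G6_ok (by decide : 2 < 275) t_6_scs (c := 0) (d := 224) (by decide +kernel)) (by decide +kernel)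

theorem t_6_lev : grp 275 t_G6 ⊓ MulAction.stabilizer (Equiv.Perm (Fin 275)) (⟨2, by decide⟩ : Fin 275) = grp 275 t_E7 :=
  sims_level (gs := t_V50) rfl (by decide) t_6_fix t_6_dist (forall_lt_one t_6_step0)

theorem t_6_cardG : Nat.card (grp 275 t_G6) = 3 :=
  card_of_level t_hn t_G6_ok (by decide : 2 < 275) t_6_lev t_card7 (m := 3) (by decide +kernel)

theorem t_le52 : grp 275 t_E6 ≤ grp 275 t_G6 :=
  grp_le_of_memB t_hn t_hk t_G6_ok t_E6_ok (ws := [nat_lit 1, nat_lit 2, nat_lit 2]) (by decide +kernel)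

theorem t_le53 : grp 275 t_G6 ≤ grp 275 t_E6 :=
  grp_le_of_memB t_hn t_hk t_E6_ok t_G6_ok (ws := [nat_lit 1]) (by decide +kernel)

theorem t_6_eq : grp 275 t_E6 = grp 275 t_G6 :=
  le_antisymm t_le52 t_le53

theorem t_card6 : Nat.card (grp 275 t_E6) = 3 :=
  by rw [t_6_eq]; exact t_6_cardG

theorem t_stab6 : grp 275 t_E6 ⊓ MulAction.stabilizer (Equiv.Perm (Fin 275)) (⟨2, by decide⟩ : Fin 275) = grp 275 t_E7 :=
  by rw [t_6_eq]; exact t_6_lev

theorem t_leO6 : grp 275 t_E6 ≤ grp 275 t_O :=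
  t_6_eq.le.trans (grp_cons_le ((t_le48.trans (t_le43.trans (t_le33.trans (t_le24.trans (t_le16.trans (t_le9.trans (le_refl (grp 275 t_O)))))))) (t_le51 (toPerm_mem_grp (E := t_V50) (by simp [t_V50])))) t_leO7)

theorem t_5_fix : grp 275 t_E6 ≤ MulAction.stabilizer (Equiv.Perm (Fin 275)) (⟨166, by decide⟩ : Fin 275) :=
  grp_le_stab t_E6_ok (by decide : 166 < 275) (by decide +kernel)

noncomputable def t_5_ts : List ℕ := [nat_lit 0, nat_lit 1, nat_lit 3, nat_lit 259, nat_lit 769, nat_lit 66305]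

noncomputable def t_5_ds : List ℕ := [nat_lit 166, nat_lit 122, nat_lit 214, nat_lit 200, nat_lit 198, nat_lit 23]

theorem t_5_dist : Dist 275 t_E6 t_G5 (⟨166, by decide⟩ : Fin 275) t_5_ts t_5_ds :=
  dist_of_distB (k := 3) t_hn t_E6_ok t_G5_ok (by decide : 166 < 275) (by decide +kernel)

noncomputable def t_5_sl0 : SL := (SL.cons (nat_lit 1) (nat_lit 122) (Ch.cons (nat_lit 2) [nat_lit 2] Ch.nil) [nat_lit 1] (SL.cons (nat_lit 3) (nat_lit 214) (Ch.cons (nat_lit 2) [nat_lit 2] Ch.nil) [nat_lit 1] (SL.cons (nat_lit 259) (nat_lit 200) (Ch.cons (nat_lit 2) [nat_lit 1] Ch.nil) [nat_lit 1] (SL.cons (nat_lit 769) (nat_lit 198) (Ch.cons (nat_lit 2) [nat_lit 2] Ch.nil) [nat_lit 2] (SL.cons (nat_lit 66305) (nat_lit 23) (Ch.cons (nat_lit 2) [nat_lit 1] Ch.nil) [nat_lit 2] SL.nil)))))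

theorem t_5_sc0 : SCs 275 t_E6 t_G5 (⟨166, by decide⟩ : Fin 275) (SL.words t_5_sl0) :=
  scs_of_ok t_hn (det_lab t_hk ⊤) t_E6_ok t_G5_ok le_top le_top (by decide : 166 < 275) t_5_fix t_card6.le (by decide +kernel)

noncomputable def t_5_l : List ℕ := (appL (SL.words t_5_sl0) [])

theorem t_5_scs : SCs 275 t_E6 t_G5 (⟨166, by decide⟩ : Fin 275) t_5_l :=
  (SCs.append t_5_sc0 SCs.nil)

noncomputable def t_5_rl0_0 : RL := (RL.cons (nat_lit 0) (nat_lit 166) (nat_lit 0) (nat_lit 0) (nat_lit 1) (nat_lit 0) (RL.cons (nat_lit 1) (nat_lit 122) (nat_lit 0) (nat_lit 0) (nat_lit 0) (nat_lit 0) (RL.cons (nat_lit 2) (nat_lit 214) (nat_lit 0) (nat_lit 0) (nat_lit 4) (nat_lit 0) (RL.cons (nat_lit 3) (nat_lit 200) (nat_lit 0) (nat_lit 0) (nat_lit 5) (nat_lit 0) (RL.cons (nat_lit 4) (nat_lit 198) (nat_lit 0) (nat_lit 0) (nat_lit 2) (nat_lit 0) (RL.cons (nat_lit 5) (nat_lit 23) (nat_lit 0) (nat_lit 0) (nat_lit 3) (nat_lit 0) RL.nil))))))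

theorem t_5_good0_0 : GoodSet 275 t_E6 t_G5 (⟨166, by decide⟩ : Fin 275) t_5_ts (nat_lit 1) (RL.pts t_5_rl0_0) :=
  goodSet_of_ok t_hn (det_lab t_hk ⊤) t_E6_ok t_G5_ok le_top le_top (by decide : 166 < 275) (sepAt_lab t_hk _) (by decide +kernel)

theorem t_5_step0 : Step 275 t_E6 t_G5 t_5_ts (2 * 0 + 1) :=
  step_of_cover t_E6_ok t_5_dist (by decide +kernel) t_5_scs (by decide +kernel) t_5_good0_0 (kw := [nat_lit 2])
    (conj_mem_of_scs t_E6_ok t_G5_ok (by decide : 166 < 275) t_5_scs (c := 0) (d := 122) (by decide +kernel)) (by decide +kernel)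

noncomputable def t_5_rl1_0 : RL := (RL.cons (nat_lit 0) (nat_lit 166) (nat_lit 0) (nat_lit 0) (nat_lit 2) (nat_lit 0) (RL.cons (nat_lit 1) (nat_lit 122) (nat_lit 0) (nat_lit 0) (nat_lit 3) (nat_lit 0) (RL.cons (nat_lit 2) (nat_lit 214) (nat_lit 0) (nat_lit 0) (nat_lit 0) (nat_lit 0) (RL.cons (nat_lit 3) (nat_lit 200) (nat_lit 0) (nat_lit 0) (nat_lit 1) (nat_lit 0) (RL.cons (nat_lit 4) (nat_lit 198) (nat_lit 0) (nat_lit 0) (nat_lit 5) (nat_lit 0) (RL.cons (nat_lit 5) (nat_lit 23) (nat_lit 0) (nat_lit 0) (nat_lit 4) (nat_lit 0) RL.nil))))))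

theorem t_5_good1_0 : GoodSet 275 t_E6 t_G5 (⟨166, by decide⟩ : Fin 275) t_5_ts (nat_lit 3) (RL.pts t_5_rl1_0) :=
  goodSet_of_ok t_hn (det_lab t_hk ⊤) t_E6_ok t_G5_ok le_top le_top (by decide : 166 < 275) (sepAt_lab t_hk _) (by decide +kernel)

theorem t_5_step1 : Step 275 t_E6 t_G5 t_5_ts (2 * 1 + 1) :=
  step_of_cover t_E6_ok t_5_dist (by decide +kernel) t_5_scs (by decide +kernel) t_5_good1_0 (kw := [nat_lit 2])
    (conj_mem_of_scs t_E6_ok t_G5_ok (by decide : 166 < 275) t_5_scs (c := 1) (d := 214) (by decide +kernel)) (by decide +kernel)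

theorem t_5_lev : grp 275 t_G5 ⊓ MulAction.stabilizer (Equiv.Perm (Fin 275)) (⟨166, by decide⟩ : Fin 275) = grp 275 t_E6 :=
  sims_level (gs := t_V44) rfl (by decide) t_5_fix t_5_dist (forall_lt_succ' (forall_lt_one t_5_step0) t_5_step1)

theorem t_5_cardG : Nat.card (grp 275 t_G5) = 18 :=
  card_of_level t_hn t_G5_ok (by decide : 166 < 275) t_5_lev t_card6 (m := 6) (by decide +kernel)

theorem t_le54 : grp 275 t_E5 ≤ grp 275 t_G5 :=
  grp_le_of_memB t_hn t_hk t_G5_ok t_E5_ok (ws := [nat_lit 1, nat_lit 3, nat_lit 328449, nat_lit 5, nat_lit 7, nat_lit 7]) (by decide +kernel)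

theorem t_le55 : grp 275 t_G5 ≤ grp 275 t_E5 :=
  grp_le_of_memB t_hn t_hk t_E5_ok t_G5_ok (ws := [nat_lit 1, nat_lit 3, nat_lit 7, nat_lit 9, nat_lit 9]) (by decide +kernel)

theorem t_5_eq : grp 275 t_E5 = grp 275 t_G5 :=
  le_antisymm t_le54 t_le55

theorem t_card5 : Nat.card (grp 275 t_E5) = 18 :=
  by rw [t_5_eq]; exact t_5_cardG

theorem t_stab5 : grp 275 t_E5 ⊓ MulAction.stabilizer (Equiv.Perm (Fin 275)) (⟨166, by decide⟩ : Fin 275) = grp 275 t_E6 :=
  by rw [t_5_eq]; exact t_5_lev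

theorem t_leO5 : grp 275 t_E5 ≤ grp 275 t_O :=
  t_5_eq.le.trans (grp_cons_le ((t_le43.trans (t_le33.trans (t_le24.trans (t_le16.trans (t_le9.trans (le_refl (grp 275 t_O))))))) (t_le45 (toPerm_mem_grp (E := t_V44) (by simp [t_V44])))) (grp_cons_le ((t_le43.trans (t_le33.trans (t_le24.trans (t_le16.trans (t_le9.trans (le_refl (grp 275 t_O))))))) (t_le45 (toPerm_mem_grp (E := t_V44) (by simp [t_V44])))) t_leO6))

theorem t_4_fix : grp 275 t_E5 ≤ MulAction.stabilizer (Equiv.Perm (Fin 275)) (⟨1, by decide⟩ : Fin 275) :=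
  grp_le_stab t_E5_ok (by decide : 1 < 275) (by decide +kernel)

noncomputable def t_4_ts : List ℕ := [nat_lit 0, nat_lit 1, nat_lit 2, nat_lit 3, nat_lit 5, nat_lit 773, nat_lit 197891]

noncomputable def t_4_ds : List ℕ := [nat_lit 1, nat_lit 73, nat_lit 236, nat_lit 166, nat_lit 5, nat_lit 257, nat_lit 107]

theorem t_4_dist : Dist 275 t_E5 t_G4 (⟨1, by decide⟩ : Fin 275) t_4_ts t_4_ds :=
  dist_of_distB (k := 3) t_hn t_E5_ok t_G4_ok (by decide : 1 < 275) (by decide +kernel)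

noncomputable def t_4_sl0 : SL := (SL.cons (nat_lit 1) (nat_lit 73) (Ch.cons (nat_lit 2) [nat_lit 6, nat_lit 8] (Ch.cons (nat_lit 3) [nat_lit 2051] Ch.nil)) [nat_lit 6, nat_lit 8, nat_lit 459013] (SL.cons (nat_lit 2) (nat_lit 236) (Ch.cons (nat_lit 2) [nat_lit 261, nat_lit 5] (Ch.cons (nat_lit 3) [nat_lit 2051] Ch.nil)) [nat_lit 1795, nat_lit 5, nat_lit 1793] (SL.cons (nat_lit 3) (nat_lit 166) (Ch.cons (nat_lit 2) [nat_lit 7, nat_lit 9, nat_lit 11] Ch.nil) [nat_lit 8, nat_lit 7, nat_lit 7] (SL.cons (nat_lit 5) (nat_lit 5) (Ch.cons (nat_lit 2) [nat_lit 2053] Ch.nil) [nat_lit 1798] (SL.cons (nat_lit 773) (nat_lit 257) (Ch.cons (nat_lit 2) [nat_lit 1797] Ch.nil) [nat_lit 1797] (SL.cons (nat_lit 197891) (nat_lit 107) (Ch.cons (nat_lit 2) [nat_lit 6] Ch.nil) [nat_lit 5] SL.nil))))))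

theorem t_4_sc0 : SCs 275 t_E5 t_G4 (⟨1, by decide⟩ : Fin 275) (SL.words t_4_sl0) :=
  scs_of_ok t_hn (det_lab t_hk ⊤) t_E5_ok t_G4_ok le_top le_top (by decide : 1 < 275) t_4_fix t_card5.le (by decide +kernel)

noncomputable def t_4_l : List ℕ := (appL (SL.words t_4_sl0) [])

theorem t_4_scs : SCs 275 t_E5 t_G4 (⟨1, by decide⟩ : Fin 275) t_4_l :=
  (SCs.append t_4_sc0 SCs.nil)

noncomputable def t_4_rl0_0 : RL := (RL.cons (nat_lit 0) (nat_lit 1) (nat_lit 0) (nat_lit 0) (nat_lit 2) (nat_lit 0) (RL.cons (nat_lit 1) (nat_lit 73) (nat_lit 0) (nat_lit 0) (nat_lit 0) (nat_lit 0) (RL.cons (nat_lit 2) (nat_lit 236) (nat_lit 0) (nat_lit 0) (nat_lit 1) (nat_lit 0) (RL.cons (nat_lit 3) (nat_lit 166) (nat_lit 0) (nat_lit 6) (nat_lit 3) (nat_lit 5) (RL.cons (nat_lit 4) (nat_lit 5) (nat_lit 0) (nat_lit 0) (nat_lit 4) (nat_lit 6) (RL.cons (nat_lit 5) (nat_lit 257) (nat_lit 0) (nat_lit 6) (nat_lit 5) (nat_lit 6) (RL.cons (nat_lit 6) (nat_lit 107) (nat_lit 0) (nat_lit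 7) (nat_lit 6) (nat_lit 1798) RL.nil)))))))

theorem t_4_good0_0 : GoodSet 275 t_E5 t_G4 (⟨1, by decide⟩ : Fin 275) t_4_ts (nat_lit 1) (RL.pts t_4_rl0_0) :=
  goodSet_of_ok t_hn (det_lab t_hk ⊤) t_E5_ok t_G4_ok le_top le_top (by decide : 1 < 275) (sepAt_lab t_hk _) (by decide +kernel)

theorem t_4_step0 : Step 275 t_E5 t_G4 t_4_ts (2 * 0 + 1) :=
  step_of_cover t_E5_ok t_4_dist (by decide +kernel) t_4_scs (by decide +kernel) t_4_good0_0 (kw := [nat_lit 6, nat_lit 8, nat_lit 2051])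
    (conj_mem_of_scs t_E5_ok t_G4_ok (by decide : 1 < 275) t_4_scs (c := 0) (d := 73) (by decide +kernel)) (by decide +kernel)

noncomputable def t_4_rl1_0 : RL := (RL.cons (nat_lit 0) (nat_lit 1) (nat_lit 0) (nat_lit 5) (nat_lit 3) (nat_lit 5) (RL.cons (nat_lit 1) (nat_lit 73) (nat_lit 0) (nat_lit 0) (nat_lit 3) (nat_lit 6) (RL.cons (nat_lit 2) (nat_lit 236) (nat_lit 0) (nat_lit 6) (nat_lit 3) (nat_lit 0) (RL.cons (nat_lit 3) (nat_lit 166) (nat_lit 0) (nat_lit 0) (nat_lit 0) (nat_lit 0) (RL.cons (nat_lit 3) (nat_lit 122) (nat_lit 1) (nat_lit 261) (nat_lit 3) (nat_lit 1795) (RL.cons (nat_lit 3) (nat_lit 214) (nat_lit 3) (nat_lit 1) (nat_lit 3) (nat_lit 459013) (RL.cons (nat_lit 3) (nat_lit 198) (nat_lit 5) (nat_lit 0) (nat_lit 2) (nat_lit 5) (RL.cons (nat_lit 3) (nat_lit 200) (nat_lit 6) (nat_lit 0) (nat_lit 1) (nat_lit 6) (RL.cons (nat_lit 3) (nat_lit 23) (nat_lit 261) (nat_lit 3) (nat_lit 3) (nat_lit 1793) (RL.cons (nat_lit 4) (nat_lit 5) (nat_lit 0)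 (nat_lit 1) (nat_lit 5) (nat_lit 1) (RL.cons (nat_lit 4) (nat_lit 159) (nat_lit 1) (nat_lit 3) (nat_lit 6) (nat_lit 459013) (RL.cons (nat_lit 5) (nat_lit 257) (nat_lit 0) (nat_lit 7) (nat_lit 6) (nat_lit 7) (RL.cons (nat_lit 5) (nat_lit 19) (nat_lit 1) (nat_lit 6) (nat_lit 4) (nat_lit 1795) (RL.cons (nat_lit 6) (nat_lit 107) (nat_lit 0) (nat_lit 0) (nat_lit 5) (nat_lit 0) (RL.cons (nat_lit 6) (nat_lit 109) (nat_lit 1) (nat_lit 262) (nat_lit 4) (nat_lit 261) RL.nil)))))))))))))))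

theorem t_4_good1_0 : GoodSet 275 t_E5 t_G4 (⟨1, by decide⟩ : Fin 275) t_4_ts (nat_lit 3) (RL.pts t_4_rl1_0) :=
  goodSet_of_ok t_hn (det_lab t_hk ⊤) t_E5_ok t_G4_ok le_top le_top (by decide : 1 < 275) (sepAt_lab t_hk _) (by decide +kernel)

theorem t_4_step1 : Step 275 t_E5 t_G4 t_4_ts (2 * 1 + 1) :=
  step_of_cover t_E5_ok t_4_dist (by decide +kernel) t_4_scs (by decide +kernel) t_4_good1_0 (kw := [nat_lit 7, nat_lit 9, nat_lit 11])
    (conj_mem_of_scs t_E5_ok t_G4_ok (by decide : 1 < 275) t_4_scs (c := 2) (d := 166) (by decide +kernel)) (by decide +kernel)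

noncomputable def t_4_rl2_0 : RL := (RL.cons (nat_lit 0) (nat_lit 1) (nat_lit 0) (nat_lit 6) (nat_lit 4) (nat_lit 6) (RL.cons (nat_lit 1) (nat_lit 73) (nat_lit 0) (nat_lit 0) (nat_lit 4) (nat_lit 6) (RL.cons (nat_lit 2) (nat_lit 236) (nat_lit 0) (nat_lit 5) (nat_lit 4) (nat_lit 6) (RL.cons (nat_lit 3) (nat_lit 166) (nat_lit 0) (nat_lit 5) (nat_lit 5) (nat_lit 6) (RL.cons (nat_lit 3) (nat_lit 122) (nat_lit 1) (nat_lit 264) (nat_lit 6) (nat_lit 2049) (RL.cons (nat_lit 4) (nat_lit 5) (nat_lit 0) (nat_lit 0) (nat_lit 0) (nat_lit 0) (RL.cons (nat_lit 4) (nat_lit 159) (nat_lit 1) (nat_lit 262) (nat_lit 4) (nat_lit 261) (RL.cons (nat_lit 4) (nat_lit 137) (nat_lit 5) (nat_lit 0) (nat_lit 1) (nat_lit 0) (RL.cons (nat_lit 4) (nat_lit 45) (nat_lit 6) (nat_lit 0) (nat_lit 2) (nat_lit 0) (RL.cons (nat_lit 4) (nat_lit 223) (nat_lit 261) (nat_lit 1) (nat_lit 4) (nat_lit 1795) (RL.cons (nat_lit 4) (nat_lit 243) (nat_lit 262) (nat_lit 261) (nat_lit 4) (nat_lit 1) (RL.cons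 (nat_lit 5) (nat_lit 257) (nat_lit 0) (nat_lit 0) (nat_lit 3) (nat_lit 0) (RL.cons (nat_lit 5) (nat_lit 19) (nat_lit 1) (nat_lit 8) (nat_lit 6) (nat_lit 1793) (RL.cons (nat_lit 6) (nat_lit 107) (nat_lit 0) (nat_lit 3) (nat_lit 5) (nat_lit 3) (RL.cons (nat_lit 6) (nat_lit 109) (nat_lit 1) (nat_lit 1) (nat_lit 3) (nat_lit 1) RL.nil)))))))))))))))

theorem t_4_good2_0 : GoodSet 275 t_E5 t_G4 (⟨1, by decide⟩ : Fin 275) t_4_ts (nat_lit 5) (RL.pts t_4_rl2_0) :=
  goodSet_of_ok t_hn (det_lab t_hk ⊤) t_E5_ok t_G4_ok le_top le_top (by decide : 1 < 275) (sepAt_lab t_hk _) (by decide +kernel)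

theorem t_4_step2 : Step 275 t_E5 t_G4 t_4_ts (2 * 2 + 1) :=
  step_of_cover t_E5_ok t_4_dist (by decide +kernel) t_4_scs (by decide +kernel) t_4_good2_0 (kw := [nat_lit 2053])
    (conj_mem_of_scs t_E5_ok t_G4_ok (by decide : 1 < 275) t_4_scs (c := 3) (d := 5) (by decide +kernel)) (by decide +kernel)

theorem t_4_lev : grp 275 t_G4 ⊓ MulAction.stabilizer (Equiv.Perm (Fin 275)) (⟨1, by decide⟩ : Fin 275) = grp 275 t_E5 :=
  sims_level (gs := t_V37) rfl (by decide) t_4_fix t_4_dist (forall_lt_succ' (forall_lt_succ' (forall_lt_one t_4_step0) t_4_step1) t_4_step2)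

theorem t_4_cardG : Nat.card (grp 275 t_G4) = 486 :=
  card_of_level t_hn t_G4_ok (by decide : 1 < 275) t_4_lev t_card5 (m := 27) (by decide +kernel)

theorem t_le56 : grp 275 t_E4 ≤ grp 275 t_G4 :=
  grp_le_of_memB t_hn t_hk t_G4_ok t_E4_ok (ws := [nat_lit 1, nat_lit 3, nat_lit 5, nat_lit 4, nat_lit 0xe030604, nat_lit 0xd070604, nat_lit 786691, nat_lit 1540, nat_lit 7, nat_lit 9, nat_lit 11, nat_lit 13, nat_lit 15, nat_lit 15]) (by decide +kernel)

theorem t_le57 : grp 275 t_G4 ≤ grp 275 t_E4 :=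
  grp_le_of_memB t_hn t_hk t_E4_ok t_G4_ok (ws := [nat_lit 1, nat_lit 3, nat_lit 5, nat_lit 17, nat_lit 19, nat_lit 21, nat_lit 23, nat_lit 25, nat_lit 25]) (by decide +kernel)

theorem t_4_eq : grp 275 t_E4 = grp 275 t_G4 :=
  le_antisymm t_le56 t_le57

theorem t_card4 : Nat.card (grp 275 t_E4) = 486 :=
  by rw [t_4_eq]; exact t_4_cardG

theorem t_stab4 : grp 275 t_E4 ⊓ MulAction.stabilizer (Equiv.Perm (Fin 275)) (⟨1, by decide⟩ : Fin 275) = grp 275 t_E5 :=
  by rw [t_4_eq]; exact t_4_lev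

theorem t_leO4 : grp 275 t_E4 ≤ grp 275 t_O :=
  t_4_eq.le.trans (grp_cons_le ((t_le33.trans (t_le24.trans (t_le16.trans (t_le9.trans (le_refl (grp 275 t_O)))))) (t_le38 (toPerm_mem_grp (E := t_V37) (by simp [t_V37])))) (grp_cons_le ((t_le33.trans (t_le24.trans (t_le16.trans (t_le9.trans (le_refl (grp 275 t_O)))))) (t_le38 (toPerm_mem_grp (E := t_V37) (by simp [t_V37])))) (grp_cons_le ((t_le33.trans (t_le24.trans (t_le16.trans (t_le9.trans (le_refl (grp 275 t_O)))))) (t_le38 (toPerm_mem_grp (E := t_V37) (by simp [t_V37])))) t_leO5)))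

theorem t_3_fix : grp 275 t_E4 ≤ MulAction.stabilizer (Equiv.Perm (Fin 275)) (⟨79, by decide⟩ : Fin 275) :=
  grp_le_stab t_E4_ok (by decide : 79 < 275) (by decide +kernel)

noncomputable def t_3_ts : List ℕ := [nat_lit 0, nat_lit 1]

noncomputable def t_3_ds : List ℕ := [nat_lit 79, nat_lit 89]

theorem t_3_dist : Dist 275 t_E4 t_G3 (⟨79, by decide⟩ : Fin 275) t_3_ts t_3_ds :=
  dist_of_distB (k := 1) t_hn t_E4_ok t_G3_ok (by decide : 79 < 275) (by decide +kernel)

noncomputable def t_3_sl0 : SL := (SL.cons (nat_lit 1) (nat_lit 89) (Ch.cons (nat_lit 1) [nat_lit 16, nat_lit 0x17160209] (Ch.cons (nat_lit 2) [nat_lit 6161, nat_lit 22] (Ch.cons (nat_lit 3) [nat_lit 6163] Ch.nil))) [nat_lit 0x1715050b, nat_lit 0x171505, nat_lit 0x181115050b, nat_lit 1291, nat_lit 5899] SL.nil)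

theorem t_3_sc0 : SCs 275 t_E4 t_G3 (⟨79, by decide⟩ : Fin 275) (SL.words t_3_sl0) :=
  scs_of_ok t_hn (det_lab t_hk ⊤) t_E4_ok t_G3_ok le_top le_top (by decide : 79 < 275) t_3_fix t_card4.le (by decide +kernel)

noncomputable def t_3_l : List ℕ := (appL (SL.words t_3_sl0) [])

theorem t_3_scs : SCs 275 t_E4 t_G3 (⟨79, by decide⟩ : Fin 275) t_3_l :=
  (SCs.append t_3_sc0 SCs.nil)

noncomputable def t_3_rl0_0 : RL := (RL.cons (nat_lit 0) (nat_lit 79) (nat_lit 0) (nat_lit 0) (nat_lit 1) (nat_lit 0x181115) (RL.cons (nat_lit 1) (nat_lit 89) (nat_lit 0) (nat_lit 0) (nat_lit 0) (nat_lit 0) RL.nil))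

theorem t_3_good0_0 : GoodSet 275 t_E4 t_G3 (⟨79, by decide⟩ : Fin 275) t_3_ts (nat_lit 1) (RL.pts t_3_rl0_0) :=
  goodSet_of_ok t_hn (det_lab t_hk ⊤) t_E4_ok t_G3_ok le_top le_top (by decide : 79 < 275) (sepAt_lab t_hk _) (by decide +kernel)

theorem t_3_step0 : Step 275 t_E4 t_G3 t_3_ts (2 * 0 + 1) :=
  step_of_cover t_E4_ok t_3_dist (by decide +kernel) t_3_scs (by decide +kernel) t_3_good0_0 (kw := [nat_lit 16, nat_lit 0x17160209, nat_lit 6161, nat_lit 22, nat_lit 6163])
    (conj_mem_of_scs t_E4_ok t_G3_ok (by decide : 79 < 275) t_3_scs (c := 0) (d := 89) (by decide +kernel)) (by decide +kernel)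

theorem t_3_lev : grp 275 t_G3 ⊓ MulAction.stabilizer (Equiv.Perm (Fin 275)) (⟨79, by decide⟩ : Fin 275) = grp 275 t_E4 :=
  sims_level (gs := t_V25) rfl (by decide) t_3_fix t_3_dist (forall_lt_one t_3_step0)

theorem t_3_cardG : Nat.card (grp 275 t_G3) = 972 :=
  card_of_level t_hn t_G3_ok (by decide : 79 < 275) t_3_lev t_card4 (m := 2) (by decide +kernel)

theorem t_le58 : grp 275 t_E3 ≤ grp 275 t_G3 :=
  grp_le_of_memB t_hn t_hk t_G3_ok t_E3_ok (ws := [nat_lit 1, nat_lit 0x1a1707, nat_lit 0x191308, nat_lit 3, nat_lit 5, nat_lit 7, nat_lit 9, nat_lit 11, nat_lit 13, nat_lit 15, nat_lit 17, nat_lit 19, nat_lit 21, nat_lit 23, nat_lit 25, nat_lit 27, nat_lit 27]) (by decide +kernel)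

theorem t_le59 : grp 275 t_G3 ≤ grp 275 t_E3 :=
  grp_le_of_memB t_hn t_hk t_E3_ok t_G3_ok (ws := [nat_lit 1, nat_lit 7, nat_lit 9, nat_lit 11, nat_lit 13, nat_lit 15, nat_lit 17, nat_lit 19, nat_lit 21, nat_lit 23, nat_lit 25, nat_lit 27, nat_lit 29, nat_lit 31, nat_lit 31]) (by decide +kernel)

theorem t_3_eq : grp 275 t_E3 = grp 275 t_G3 :=
  le_antisymm t_le58 t_le59

theorem t_card3 : Nat.card (grp 275 t_E3) = 972 :=
  by rw [t_3_eq]; exact t_3_cardG

theorem t_stab3 : grp 275 t_E3 ⊓ MulAction.stabilizer (Equiv.Perm (Fin 275)) (⟨79, by decide⟩ : Fin 275) = grp 275 t_E4 :=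
  by rw [t_3_eq]; exact t_3_lev

theorem t_leO3 : grp 275 t_E3 ≤ grp 275 t_O :=
  t_3_eq.le.trans (grp_cons_le ((t_le24.trans (t_le16.trans (t_le9.trans (le_refl (grp 275 t_O))))) (t_le26 (toPerm_mem_grp (E := t_V25) (by simp [t_V25])))) t_leO4)

theorem t_2_fix : grp 275 t_E3 ≤ MulAction.stabilizer (Equiv.Perm (Fin 275)) (⟨51, by decide⟩ : Fin 275) :=
  grp_le_stab t_E3_ok (by decide : 51 < 275) (by decide +kernel)

noncomputable def t_2_ts : List ℕ := [nat_lit 0, nat_lit 1, nat_lit 68097]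

noncomputable def t_2_ds : List ℕ := [nat_lit 51, nat_lit 16, nat_lit 89]

theorem t_2_dist : Dist 275 t_E3 t_G2 (⟨51, by decide⟩ : Fin 275) t_2_ts t_2_ds :=
  dist_of_distB (k := 2) t_hn t_E3_ok t_G2_ok (by decide : 51 < 275) (by decide +kernel)

noncomputable def t_2_sl0 : SL := (SL.cons (nat_lit 1) (nat_lit 16) (Ch.cons (nat_lit 1) [nat_lit 0x1e071101] (Ch.cons (nat_lit 3) [nat_lit 7705] Ch.nil)) [nat_lit 0x1e071601, nat_lit 0x1d190c12] (SL.cons (nat_lit 68097) (nat_lit 89) (Ch.cons (nat_lit 1) [nat_lit 0x170919, nat_lit 7185] (Ch.cons (nat_lit 2) [nat_lit 27, nat_lit 5915] (Ch.cons (nat_lit 3) [nat_lit 7705] Ch.nil))) [nat_lit 0x1e1c070b, nat_lit 0x1e190816, nat_lit 0x1c0716, nat_lit 6921, nat_lit 0x1d171b] SL.nil))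

theorem t_2_sc0 : SCs 275 t_E3 t_G2 (⟨51, by decide⟩ : Fin 275) (SL.words t_2_sl0) :=
  scs_of_ok t_hn (det_lab t_hk ⊤) t_E3_ok t_G2_ok le_top le_top (by decide : 51 < 275) t_2_fix t_card3.le (by decide +kernel)

noncomputable def t_2_l : List ℕ := (appL (SL.words t_2_sl0) [])

theorem t_2_scs : SCs 275 t_E3 t_G2 (⟨51, by decide⟩ : Fin 275) t_2_l :=
  (SCs.append t_2_sc0 SCs.nil)

noncomputable def t_2_rl0_0 : RL := (RL.cons (nat_lit 0) (nat_lit 51) (nat_lit 0) (nat_lit 275) (nat_lit 1) (nat_lit 0x1e1b1301) (RL.cons (nat_lit 1) (nat_lit 16) (nat_lit 0) (nat_lit 0) (nat_lit 0) (nat_lit 0) (RL.cons (nat_lit 1) (nat_lit 144) (nat_lit 1) (nat_lit 278) (nat_lit 1) (nat_lit 0x1e190b01) (RL.cons (nat_lit 1) (nat_lit 213) (nat_lit 5) (nat_lit 788) (nat_lit 1) (nat_lit 3090) (RL.cons (nat_lit 1) (nat_lit 13) (nat_lit 21) (nat_lit 0) (nat_lit 2) (nat_lit 27) (RL.cons (nat_lit 2) (nat_lit 89) (nat_lit 0) (nat_lit 8) (nat_lit 1) (nat_lit 0) RL.nil))))))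

theorem t_2_good0_0 : GoodSet 275 t_E3 t_G2 (⟨51, by decide⟩ : Fin 275) t_2_ts (nat_lit 1) (RL.pts t_2_rl0_0) :=
  goodSet_of_ok t_hn (det_lab t_hk ⊤) t_E3_ok t_G2_ok le_top le_top (by decide : 51 < 275) (sepAt_lab t_hk _) (by decide +kernel)

theorem t_2_step0 : Step 275 t_E3 t_G2 t_2_ts (2 * 0 + 1) :=
  step_of_cover t_E3_ok t_2_dist (by decide +kernel) t_2_scs (by decide +kernel) t_2_good0_0 (kw := [nat_lit 0x1e071101, nat_lit 7705])
    (conj_mem_of_scs t_E3_ok t_G2_ok (by decide : 51 < 275) t_2_scs (c := 0) (d := 16) (by decide +kernel)) (by decide +kernel)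

theorem t_2_lev : grp 275 t_G2 ⊓ MulAction.stabilizer (Equiv.Perm (Fin 275)) (⟨51, by decide⟩ : Fin 275) = grp 275 t_E3 :=
  sims_level (gs := t_V18) rfl (by decide) t_2_fix t_2_dist (forall_lt_one t_2_step0)

theorem t_2_cardG : Nat.card (grp 275 t_G2) = 29160 :=
  card_of_level t_hn t_G2_ok (by decide : 51 < 275) t_2_lev t_card3 (m := 30) (by decide +kernel)

theorem t_le60 : grp 275 t_E2 ≤ grp 275 t_G2 :=
  grp_le_of_memB t_hn t_hk t_G2_ok t_E2_ok (ws := [nat_lit 1, nat_lit 0x20190b0118, nat_lit 0x1b0c1b030118, nat_lit 3, nat_lit 5, nat_lit 7, nat_lit 9, nat_lit 11, nat_lit 13, nat_lit 15, nat_lit 17, nat_lit 19, nat_lit 21, nat_lit 23, nat_lit 25, nat_lit 27, nat_lit 29, nat_lit 31, nat_lit 33, nat_lit 33]) (by decide +kernel)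

theorem t_le61 : grp 275 t_G2 ≤ grp 275 t_E2 :=
  grp_le_of_memB t_hn t_hk t_E2_ok t_G2_ok (ws := [nat_lit 1, nat_lit 7, nat_lit 9, nat_lit 11, nat_lit 13, nat_lit 15, nat_lit 17, nat_lit 19, nat_lit 21, nat_lit 23, nat_lit 25, nat_lit 27, nat_lit 29, nat_lit 31, nat_lit 33, nat_lit 35, nat_lit 37, nat_lit 37]) (by decide +kernel)

theorem t_2_eq : grp 275 t_E2 = grp 275 t_G2 :=
  le_antisymm t_le60 t_le61

theorem t_card2 : Nat.card (grp 275 t_E2) = 29160 :=
  by rw [t_2_eq]; exact t_2_cardG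

theorem t_stab2 : grp 275 t_E2 ⊓ MulAction.stabilizer (Equiv.Perm (Fin 275)) (⟨51, by decide⟩ : Fin 275) = grp 275 t_E3 :=
  by rw [t_2_eq]; exact t_2_lev

theorem t_leO2 : grp 275 t_E2 ≤ grp 275 t_O :=
  t_2_eq.le.trans (grp_cons_le ((t_le16.trans (t_le9.trans (le_refl (grp 275 t_O)))) (t_le19 (toPerm_mem_grp (E := t_V18) (by simp [t_V18])))) t_leO3)

theorem t_1_fix : grp 275 t_E2 ≤ MulAction.stabilizer (Equiv.Perm (Fin 275)) (⟨249, by decide⟩ : Fin 275) :=
  grp_le_stab t_E2_ok (by decide : 249 < 275) (by decide +kernel)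

noncomputable def t_1_ts : List ℕ := [nat_lit 0, nat_lit 1, nat_lit 257]

noncomputable def t_1_ds : List ℕ := [nat_lit 249, nat_lit 51, nat_lit 43]

theorem t_1_dist : Dist 275 t_E2 t_G1 (⟨249, by decide⟩ : Fin 275) t_1_ts t_1_ds :=
  dist_of_distB (k := 2) t_hn t_E2_ok t_G1_ok (by decide : 249 < 275) (by decide +kernel)

noncomputable def t_1_sl0 : SL := (SL.cons (nat_lit 1) (nat_lit 51) (Ch.cons (nat_lit 79) [nat_lit 7, nat_lit 9, nat_lit 11] (Ch.cons (nat_lit 1) [nat_lit 13, nat_lit 15, nat_lit 17, nat_lit 19, nat_lit 21, nat_lit 23, nat_lit 25, nat_lit 27] (Ch.cons (nat_lit 166) [nat_lit 29, nat_lit 31, nat_lit 33] (Ch.cons (nat_lit 2) [nat_lit 35, nat_lit 37, nat_lit 39] Ch.nil)))) [nat_lit 0x230d11070105, nat_lit 0x241f1018010a, nat_lit 0x2321190105, nat_lit 0x241f0105, nat_lit 0x2421070122, nat_lit 0x241d21101f070123, nat_lit 0x231d0f1d070101, nat_lit 9240, nat_lit 0x2115070103, nat_lit 0x231d210d011b, nat_lit 0x24210d011b, nat_lit 0x221118070122,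 nat_lit 0x231d0e1c07010f, nat_lit 0x2321101f070123, nat_lit 0x24221018010a, nat_lit 0x231f17070208, nat_lit 0x231f17070208] (SL.cons (nat_lit 257) (nat_lit 43) (Ch.cons (nat_lit 1) [nat_lit 0x2407010a] (Ch.cons (nat_lit 2) [nat_lit 0x12070123, nat_lit 0x231d21] Ch.nil)) [nat_lit 0x241f1c07010e, nat_lit 0x231d211903, nat_lit 0x231f03] SL.nil))

theorem t_1_sc0 : SCs 275 t_E2 t_G1 (⟨249, by decide⟩ : Fin 275) (SL.words t_1_sl0) :=
  scs_of_ok t_hn (det_lab t_hk ⊤) t_E2_ok t_G1_ok le_top le_top (by decide : 249 < 275) t_1_fix t_card2.le (by decide +kernel)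

noncomputable def t_1_l : List ℕ := (appL (SL.words t_1_sl0) [])

theorem t_1_scs : SCs 275 t_E2 t_G1 (⟨249, by decide⟩ : Fin 275) t_1_l :=
  (SCs.append t_1_sc0 SCs.nil)

noncomputable def t_1_rl0_0 : RL := (RL.cons (nat_lit 0) (nat_lit 249) (nat_lit 0) (nat_lit 268) (nat_lit 1) (nat_lit 0x1d0e1c010c) (RL.cons (nat_lit 1) (nat_lit 51) (nat_lit 0) (nat_lit 0) (nat_lit 0) (nat_lit 0) (RL.cons (nat_lit 1) (nat_lit 16) (nat_lit 1) (nat_lit 280) (nat_lit 2) (nat_lit 0x231d210d17010e) (RL.cons (nat_lit 1) (nat_lit 89) (nat_lit 260) (nat_lit 789) (nat_lit 1) (nat_lit 0x21100701) (RL.cons (nat_lit 2) (nat_lit 43) (nat_lit 0) (nat_lit 0) (nat_lit 1) (nat_lit 0) (RL.cons (nat_lit 2) (nat_lit 123) (nat_lit 1) (nat_lit 1036) (nat_lit 2) (nat_lit 0x2321101f070101) RL.nil))))))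

theorem t_1_good0_0 : GoodSet 275 t_E2 t_G1 (⟨249, by decide⟩ : Fin 275) t_1_ts (nat_lit 1) (RL.pts t_1_rl0_0) :=
  goodSet_of_ok t_hn (det_lab t_hk ⊤) t_E2_ok t_G1_ok le_top le_top (by decide : 249 < 275) (sepAt_lab t_hk _) (by decide +kernel)

theorem t_1_step0 : Step 275 t_E2 t_G1 t_1_ts (2 * 0 + 1) :=
  step_of_cover t_E2_ok t_1_dist (by decide +kernel) t_1_scs (by decide +kernel) t_1_good0_0 (kw := [nat_lit 7, nat_lit 9, nat_lit 11, nat_lit 13, nat_lit 15, nat_lit 17, nat_lit 19, nat_lit 21, nat_lit 23, nat_lit 25, nat_lit 27, nat_lit 29, nat_lit 31, nat_lit 33, nat_lit 35, nat_lit 37, nat_lit 39])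
    (conj_mem_of_scs t_E2_ok t_G1_ok (by decide : 249 < 275) t_1_scs (c := 0) (d := 51) (by decide +kernel)) (by decide +kernel)

theorem t_1_lev : grp 275 t_G1 ⊓ MulAction.stabilizer (Equiv.Perm (Fin 275)) (⟨249, by decide⟩ : Fin 275) = grp 275 t_E2 :=
  sims_level (gs := t_V11) rfl (by decide) t_1_fix t_1_dist (forall_lt_one t_1_step0)

theorem t_1_cardG : Nat.card (grp 275 t_G1) = 3265920 :=
  card_of_level t_hn t_G1_ok (by decide : 249 < 275) t_1_lev t_card2 (m := 112) (by decide +kernel)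

theorem t_le62 : grp 275 t_E1 ≤ grp 275 t_G1 :=
  grp_le_of_memB t_hn t_hk t_G1_ok t_E1_ok (ws := [nat_lit 1, nat_lit 0x251f121a09032501010104, nat_lit 0x251f23121a0908010103, nat_lit 3, nat_lit 5, nat_lit 7, nat_lit 9, nat_lit 11, nat_lit 13, nat_lit 15, nat_lit 17, nat_lit 19, nat_lit 21, nat_lit 23, nat_lit 25, nat_lit 27, nat_lit 29, nat_lit 31, nat_lit 33, nat_lit 35, nat_lit 37, nat_lit 39, nat_lit 39]) (by decide +kernel)

theorem t_le63 : grp 275 t_G1 ≤ grp 275 t_E1 :=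
  grp_le_of_memB t_hn t_hk t_E1_ok t_G1_ok (ws := [nat_lit 1, nat_lit 7, nat_lit 9, nat_lit 11, nat_lit 13, nat_lit 15, nat_lit 17, nat_lit 19, nat_lit 21, nat_lit 23, nat_lit 25, nat_lit 27, nat_lit 29, nat_lit 31, nat_lit 33, nat_lit 35, nat_lit 37, nat_lit 39, nat_lit 41, nat_lit 43, nat_lit 43]) (by decide +kernel)

theorem t_1_eq : grp 275 t_E1 = grp 275 t_G1 :=
  le_antisymm t_le62 t_le63

theorem t_card1 : Nat.card (grp 275 t_E1) = 3265920 :=
  by rw [t_1_eq]; exact t_1_cardG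

theorem t_stab1 : grp 275 t_E1 ⊓ MulAction.stabilizer (Equiv.Perm (Fin 275)) (⟨249, by decide⟩ : Fin 275) = grp 275 t_E2 :=
  by rw [t_1_eq]; exact t_1_lev

theorem t_leO1 : grp 275 t_E1 ≤ grp 275 t_O :=
  t_1_eq.le.trans (grp_cons_le ((t_le9.trans (le_refl (grp 275 t_O))) (t_le12 (toPerm_mem_grp (E := t_V11) (by simp [t_V11])))) t_leO2)

theorem t_0_fix : grp 275 t_E1 ≤ MulAction.stabilizer (Equiv.Perm (Fin 275)) (⟨0, by decide⟩ : Fin 275) :=
  grp_le_stab t_E1_ok (by decide : 0 < 275) (by decide +kernel)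

noncomputable def t_0_ts : List ℕ := [nat_lit 0, nat_lit 1, nat_lit 257]

noncomputable def t_0_ds : List ℕ := [nat_lit 0, nat_lit 249, nat_lit 192]

theorem t_0_dist : Dist 275 t_E1 t_G0 (⟨0, by decide⟩ : Fin 275) t_0_ts t_0_ds :=
  dist_of_distB (k := 2) t_hn t_E1_ok t_G0_ok (by decide : 0 < 275) (by decide +kernel)

noncomputable def t_0_sl0 : SL := (SL.cons (nat_lit 1) (nat_lit 249) (Ch.cons (nat_lit 51) [nat_lit 7, nat_lit 9, nat_lit 11] (Ch.cons (nat_lit 79) [nat_lit 13, nat_lit 15, nat_lit 17] (Ch.cons (nat_lit 1) [nat_lit 19, nat_lit 21, nat_lit 23, nat_lit 25, nat_lit 27, nat_lit 29, nat_lit 31, nat_lit 33] (Ch.cons (nat_lit 166) [nat_lit 35, nat_lit 37, nat_lit 39] (Ch.cons (nat_lit 2) [nat_lit 41, nat_lit 43, nat_lit 45] Ch.nil))))) [nat_lit 0x2a2815250d07250621, nat_lit 0x2a231d07050b, nat_lit 0x23271707200317, nat_lit 0x2a28161e0d091b0410, nat_lit 0x23271f0d070b040b, nat_lit 0x2a281625071b0105, nat_lit 0x23151e0d070b040b, nat_lit 0x220d0714050b,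 nat_lit 0x15230d051d, nat_lit 0x292515070e030b, nat_lit 0x2a231322071b010520, nat_lit 0x2925140d0515, nat_lit 0x292315080f050c, nat_lit 0x2923271f0d0515, nat_lit 0x29140716010412, nat_lit 0x2a2814220d0529, nat_lit 0x2a23272207200607, nat_lit 0x29232715250716010412, nat_lit 0x1422071b0105, nat_lit 0x1422071b0105] (SL.cons (nat_lit 257) (nat_lit 192) (Ch.cons (nat_lit 1) [nat_lit 0x23272207150108] (Ch.cons (nat_lit 2) [nat_lit 0x281e0707021b, nat_lit 0x2a28180d090418] (Ch.cons (nat_lit 3) [nat_lit 0x2925130d051d] Ch.nil))) [nat_lit 0x131d0d080f05, nat_lit 0x2928131b07250209, nat_lit 0x29251523070f0621, nat_lit 0x23271e091b0309] SL.nil))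

theorem t_0_sc0 : SCs 275 t_E1 t_G0 (⟨0, by decide⟩ : Fin 275) (SL.words t_0_sl0) :=
  scs_of_ok t_hn (det_lab t_hk ⊤) t_E1_ok t_G0_ok le_top le_top (by decide : 0 < 275) t_0_fix t_card1.le (by decide +kernel)

noncomputable def t_0_l : List ℕ := (appL (SL.words t_0_sl0) [])

theorem t_0_scs : SCs 275 t_E1 t_G0 (⟨0, by decide⟩ : Fin 275) t_0_l :=
  (SCs.append t_0_sc0 SCs.nil)

noncomputable def t_0_rl0_0 : RL := (RL.cons (nat_lit 0) (nat_lit 0) (nat_lit 0) (nat_lit 66582) (nat_lit 1) (nat_lit 0x2313220d08010416) (RL.cons (nat_lit 1) (nat_lit 249) (nat_lit 0) (nat_lit 0) (nat_lit 0) (nat_lit 0) (RL.cons (nat_lit 1) (nat_lit 51) (nat_lit 1) (nat_lit 770) (nat_lit 1) (nat_lit 0x292813071503) (RL.cons (nat_lit 1) (nat_lit 126) (nat_lit 3) (nat_lit 2593) (nat_lit 2) (nat_lit 0x271d07090213) (RL.cons (nat_lit 2) (nat_lit 192) (nat_lit 0) (nat_lit 0) (nat_lit 1) (nat_lit 0) (RL.cons (nat_lit 2) (nat_lit 177) (nat_lit 2) (nat_lit 37) (nat_lit 2) (nat_lit 0x2514220d0710010c)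 RL.nil))))))

theorem t_0_good0_0 : GoodSet 275 t_E1 t_G0 (⟨0, by decide⟩ : Fin 275) t_0_ts (nat_lit 1) (RL.pts t_0_rl0_0) :=
  goodSet_of_ok t_hn (det_lab t_hk ⊤) t_E1_ok t_G0_ok le_top le_top (by decide : 0 < 275) (sepAt_lab t_hk _) (by decide +kernel)

theorem t_0_step0 : Step 275 t_E1 t_G0 t_0_ts (2 * 0 + 1) :=
  step_of_cover t_E1_ok t_0_dist (by decide +kernel) t_0_scs (by decide +kernel) t_0_good0_0 (kw := [nat_lit 7, nat_lit 9, nat_lit 11, nat_lit 13, nat_lit 15, nat_lit 17, nat_lit 19, nat_lit 21, nat_lit 23, nat_lit 25, nat_lit 27, nat_lit 29, nat_lit 31, nat_lit 33, nat_lit 35, nat_lit 37, nat_lit 39, nat_lit 41, nat_lit 43, nat_lit 45])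
    (conj_mem_of_scs t_E1_ok t_G0_ok (by decide : 0 < 275) t_0_scs (c := 0) (d := 249) (by decide +kernel)) (by decide +kernel)

theorem t_0_lev : grp 275 t_G0 ⊓ MulAction.stabilizer (Equiv.Perm (Fin 275)) (⟨0, by decide⟩ : Fin 275) = grp 275 t_E1 :=
  sims_level (gs := t_V4) rfl (by decide) t_0_fix t_0_dist (forall_lt_one t_0_step0)

theorem t_0_cardG : Nat.card (grp 275 t_G0) = 898128000 :=
  card_of_level t_hn t_G0_ok (by decide : 0 < 275) t_0_lev t_card1 (m := 275) (by decide +kernel)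

theorem t_le64 : grp 275 t_E0 ≤ grp 275 t_G0 :=
  grp_le_of_memB t_hn t_hk t_G0_ok t_E0_ok (ws := [nat_lit 1, nat_lit 0x2c29151f0f0a10050901011d, nat_lit 0x252919200e040a01030106, nat_lit 3, nat_lit 5, nat_lit 7, nat_lit 9, nat_lit 11, nat_lit 13, nat_lit 15, nat_lit 17, nat_lit 19, nat_lit 21, nat_lit 23, nat_lit 25, nat_lit 27, nat_lit 29, nat_lit 31, nat_lit 33, nat_lit 35, nat_lit 37, nat_lit 39, nat_lit 41, nat_lit 43, nat_lit 45, nat_lit 45]) (by decide +kernel)

theorem t_le65 : grp 275 t_G0 ≤ grp 275 t_E0 :=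
  grp_le_of_memB t_hn t_hk t_E0_ok t_G0_ok (ws := [nat_lit 1, nat_lit 7, nat_lit 9, nat_lit 11, nat_lit 13, nat_lit 15, nat_lit 17, nat_lit 19, nat_lit 21, nat_lit 23, nat_lit 25, nat_lit 27, nat_lit 29, nat_lit 31, nat_lit 33, nat_lit 35, nat_lit 37, nat_lit 39, nat_lit 41, nat_lit 43, nat_lit 45, nat_lit 47, nat_lit 49, nat_lit 49]) (by decide +kernel)

theorem t_0_eq : grp 275 t_E0 = grp 275 t_G0 :=
  le_antisymm t_le64 t_le65

theorem t_card0 : Nat.card (grp 275 t_E0) = 898128000 :=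
  by rw [t_0_eq]; exact t_0_cardG

theorem t_stab0 : grp 275 t_E0 ⊓ MulAction.stabilizer (Equiv.Perm (Fin 275)) (⟨0, by decide⟩ : Fin 275) = grp 275 t_E1 :=
  by rw [t_0_eq]; exact t_0_lev

theorem t_leO0 : grp 275 t_E0 ≤ grp 275 t_O :=
  t_0_eq.le.trans (grp_cons_le ((le_refl (grp 275 t_O)) (t_le5 (toPerm_mem_grp (E := t_V4) (by simp [t_V4])))) t_leO1)

theorem t_le66 : grp 275 t_O ≤ grp 275 t_E0 :=
  grp_le_of_memB t_hn t_hk t_E0_ok t_O_ok (ws := [nat_lit 3, nat_lit 5]) (by decide +kernel)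

theorem t_eq : grp 275 t_O = grp 275 t_E0 :=
  le_antisymm t_le66 t_leO0

theorem t_card : Nat.card (grp 275 t_O) = 898128000 :=
  by rw [t_eq]; exact t_card0

noncomputable def t_ch : Ch := (Ch.cons (nat_lit 0) [nat_lit 1, nat_lit 3, nat_lit 5] (Ch.cons (nat_lit 249) [nat_lit 7, nat_lit 9, nat_lit 11] (Ch.cons (nat_lit 51) [nat_lit 13, nat_lit 15, nat_lit 17] (Ch.cons (nat_lit 79) [nat_lit 19, nat_lit 21, nat_lit 23] (Ch.cons (nat_lit 1) [nat_lit 25, nat_lit 27, nat_lit 29, nat_lit 31, nat_lit 33, nat_lit 35, nat_lit 37, nat_lit 39] (Ch.cons (nat_lit 166) [nat_lit 41, nat_lit 43, nat_lit 45] (Ch.cons (nat_lit 2) [nat_lit 47, nat_lit 49, nat_lit 51] Ch.nil)))))))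

theorem t_exact : Ch.Exact 275 t_E0 t_ch (grp 275 t_E0) :=
  Ch.exact (k := 9) (L := (lab 275 9)) t_hn t_E0_ok (by decide +kernel) (wgrp_le_grp _ _ _) t_card0.le

theorem t_T67_s0 : Stab 275 (grp 275 t_E0) [] t_E0 898128000 :=
  Stab.root t_E0_ok t_card0

theorem t_le77 : grp 275 cx_K ≤ grp 275 t_E0 :=
  grp_le_of_memB t_hn t_hk t_E0_ok cx_K_ok (ws := [nat_lit 0x2f2b250d1807072e010c, nat_lit 0x2f19280d15070a27, nat_lit 0x30292d1921130d250a21, nat_lit 0x2f291b2b130e0c23, nat_lit 0x2f191d0d120a0d, nat_lit 0x302d1a280d180707, nat_lit 0x30291b23130d1c0707, nat_lit 0x302d1d0d2f0c13]) (by decide +kernel)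

theorem cx_le : grp 275 cx_K ≤ (grp 275 t_E0) :=
  (t_le77.trans t_T67_s0.le)

theorem cx_mem : Net.toPerm 275 t_g68 ∈ (grp 275 t_E0) :=
  cx_le (mem_grp_of_memB t_hn t_hk cx_K_ok t_g68_ok (w := (nat_lit 1799)) (by decide +kernel))

theorem cx_sym : Sym 275 (grp 275 t_E0) [t_g68] cx_K 0 :=
  Sym.of_lab t_hn t_hk (okE_cons.2 ⟨t_g68_ok, okE_nil _⟩) cx_K_ok cx_le (kT := 0) (by decide +kernel)

theorem t_T67_s1 : Stab 275 (grp 275 t_E0) [nat_lit 0] t_V78 3265920 :=
  Stab.step (k := 9) (L := (lab 275 9)) t_hn t_T67_s0 t_V78_ok (grp_mono (List.subset_append_right [t_g3, t_g1, t_g2] _)) (c := (Ch.cons (nat_lit 249) [nat_lit 1, nat_lit 3, nat_lit 5] (Ch.cons (nat_lit 51) [nat_lit 7, nat_lit 9, nat_lit 11] (Ch.cons (nat_lit 79) [nat_lit 13, nat_lit 15, nat_lit 17] (Ch.cons (nat_lit 1) [nat_lit 19, nat_lit 21, nat_lit 23, nat_lit 25, nat_lit 27, nat_lit 29, nat_lit 31, nat_lit 33] (Ch.cons (nat_lit 166) [nat_lit 35, nat_lit 37, nat_lit 39] (Ch.cons (nat_lit 2)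 [nat_lit 41, nat_lit 43, nat_lit 45] Ch.nil))))))) (by decide +kernel)

theorem t_T67_s2 : Stab 275 (grp 275 t_E0) [nat_lit 249, nat_lit 0] t_V79 29160 :=
  Stab.step (k := 9) (L := (lab 275 9)) t_hn t_T67_s1 t_V79_ok (grp_mono (List.subset_append_right [t_g10, t_g6, t_g7] _)) (c := (Ch.cons (nat_lit 51) [nat_lit 1, nat_lit 3, nat_lit 5] (Ch.cons (nat_lit 79) [nat_lit 7, nat_lit 9, nat_lit 11] (Ch.cons (nat_lit 1) [nat_lit 13, nat_lit 15, nat_lit 17, nat_lit 19, nat_lit 21, nat_lit 23, nat_lit 25, nat_lit 27] (Ch.cons (nat_lit 166) [nat_lit 29, nat_lit 31, nat_lit 33] (Ch.cons (nat_lit 2) [nat_lit 35, nat_lit 37, nat_lit 39] Ch.nil)))))) (by decide +kernel)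

theorem t_T67_s3 : Stab 275 (grp 275 t_E0) [nat_lit 51, nat_lit 249, nat_lit 0] t_V80 972 :=
  Stab.step (k := 9) (L := (lab 275 9)) t_hn t_T67_s2 t_V80_ok (grp_mono (List.subset_append_right [t_g17, t_g13, t_g14] _)) (c := (Ch.cons (nat_lit 79) [nat_lit 1, nat_lit 3, nat_lit 5] (Ch.cons (nat_lit 1) [nat_lit 7, nat_lit 9, nat_lit 11, nat_lit 13, nat_lit 15, nat_lit 17, nat_lit 19, nat_lit 21] (Ch.cons (nat_lit 166) [nat_lit 23, nat_lit 25, nat_lit 27] (Ch.cons (nat_lit 2) [nat_lit 29, nat_lit 31, nat_lit 33] Ch.nil))))) (by decide +kernel)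

theorem t_T67_s4 : Stab 275 (grp 275 t_E0) [nat_lit 79, nat_lit 51, nat_lit 249, nat_lit 0] t_V81 486 :=
  Stab.step (k := 9) (L := (lab 275 9)) t_hn t_T67_s3 t_V81_ok (grp_mono (List.subset_append_right [t_g20, t_g21, t_g22] _)) (c := (Ch.cons (nat_lit 1) [nat_lit 1, nat_lit 3, nat_lit 5, nat_lit 7, nat_lit 9, nat_lit 11, nat_lit 13, nat_lit 15] (Ch.cons (nat_lit 166) [nat_lit 17, nat_lit 19, nat_lit 21] (Ch.cons (nat_lit 2) [nat_lit 23, nat_lit 25, nat_lit 27] Ch.nil)))) (by decide +kernel)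

theorem t_T67_s5 : Stab 275 (grp 275 t_E0) [nat_lit 1, nat_lit 79, nat_lit 51, nat_lit 249, nat_lit 0] t_V82 18 :=
  Stab.step (k := 9) (L := (lab 275 9)) t_hn t_T67_s4 t_V82_ok (grp_mono (List.subset_append_right [t_g34, t_g35, t_g36, t_g27, t_g28, t_g29, t_g30, t_g31] _)) (c := (Ch.cons (nat_lit 166) [nat_lit 1, nat_lit 3, nat_lit 5] (Ch.cons (nat_lit 2) [nat_lit 7, nat_lit 9, nat_lit 11] Ch.nil))) (by decide +kernel)

theorem t_T67_s6 : Stab 275 (grp 275 t_E0) [nat_lit 166, nat_lit 1, nat_lit 79, nat_lit 51, nat_lit 249, nat_lit 0] t_V83 3 :=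
  Stab.step (k := 9) (L := (lab 275 9)) t_hn t_T67_s5 t_V83_ok (grp_mono (List.subset_append_right [t_g40, t_g41, t_g39] _)) (c := (Ch.cons (nat_lit 2) [nat_lit 1, nat_lit 3, nat_lit 5] Ch.nil)) (by decide +kernel)

theorem t_T67_s7 : Stab 275 (grp 275 t_E0) [nat_lit 2, nat_lit 166, nat_lit 1, nat_lit 79, nat_lit 51, nat_lit 249, nat_lit 0] t_V84 1 :=
  Stab.step (k := 9) (L := (lab 275 9)) t_hn t_T67_s6 t_V84_ok (grp_mono (List.subset_append_right [t_g49, t_g46, t_g46] _)) (c := Ch.nil) (by decide +kernel)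

theorem t_g3_t_T67 : Net.toPerm 275 t_g3 ∈ (grp 275 t_E0) :=
  t_T67_s0.le (toPerm_mem_grp (E := t_E0) (List.Mem.head _))

theorem t_g1_t_T67 : Net.toPerm 275 t_g1 ∈ (grp 275 t_E0) :=
  t_T67_s0.le (toPerm_mem_grp (E := t_E0) (List.Mem.tail _ (List.Mem.head _)))

theorem t_g2_t_T67 : Net.toPerm 275 t_g2 ∈ (grp 275 t_E0) :=
  t_T67_s0.le (toPerm_mem_grp (E := t_E0) (List.Mem.tail _ (List.Mem.tail _ (List.Mem.head _))))

theorem t_g10_t_T67 : Net.toPerm 275 t_g10 ∈ (grp 275 t_E0) :=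
  t_T67_s0.le (toPerm_mem_grp (E := t_E0) (List.Mem.tail _ (List.Mem.tail _ (List.Mem.tail _ (List.Mem.head _)))))

theorem t_g6_t_T67 : Net.toPerm 275 t_g6 ∈ (grp 275 t_E0) :=
  t_T67_s0.le (toPerm_mem_grp (E := t_E0) (List.Mem.tail _ (List.Mem.tail _ (List.Mem.tail _ (List.Mem.tail _ (List.Mem.head _))))))

theorem t_g7_t_T67 : Net.toPerm 275 t_g7 ∈ (grp 275 t_E0) :=
  t_T67_s0.le (toPerm_mem_grp (E := t_E0) (List.Mem.tail _ (List.Mem.tail _ (List.Mem.tail _ (List.Mem.tail _ (List.Mem.tail _ (List.Mem.head _)))))))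

theorem t_g17_t_T67 : Net.toPerm 275 t_g17 ∈ (grp 275 t_E0) :=
  t_T67_s0.le (toPerm_mem_grp (E := t_E0) (List.Mem.tail _ (List.Mem.tail _ (List.Mem.tail _ (List.Mem.tail _ (List.Mem.tail _ (List.Mem.tail _ (List.Mem.head _))))))))

theorem t_g13_t_T67 : Net.toPerm 275 t_g13 ∈ (grp 275 t_E0) :=
  t_T67_s0.le (toPerm_mem_grp (E := t_E0) (List.Mem.tail _ (List.Mem.tail _ (List.Mem.tail _ (List.Mem.tail _ (List.Mem.tail _ (List.Mem.tail _ (List.Mem.tail _ (List.Mem.head _)))))))))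

theorem t_g14_t_T67 : Net.toPerm 275 t_g14 ∈ (grp 275 t_E0) :=
  t_T67_s0.le (toPerm_mem_grp (E := t_E0) (List.Mem.tail _ (List.Mem.tail _ (List.Mem.tail _ (List.Mem.tail _ (List.Mem.tail _ (List.Mem.tail _ (List.Mem.tail _ (List.Mem.tail _ (List.Mem.head _))))))))))

theorem t_g20_t_T67 : Net.toPerm 275 t_g20 ∈ (grp 275 t_E0) :=
  t_T67_s0.le (toPerm_mem_grp (E := t_E0) (List.Mem.tail _ (List.Mem.tail _ (List.Mem.tail _ (List.Mem.tail _ (List.Mem.tail _ (List.Mem.tail _ (List.Mem.tail _ (List.Mem.tail _ (List.Mem.tail _ (List.Mem.head _)))))))))))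

theorem t_g21_t_T67 : Net.toPerm 275 t_g21 ∈ (grp 275 t_E0) :=
  t_T67_s0.le (toPerm_mem_grp (E := t_E0) (List.Mem.tail _ (List.Mem.tail _ (List.Mem.tail _ (List.Mem.tail _ (List.Mem.tail _ (List.Mem.tail _ (List.Mem.tail _ (List.Mem.tail _ (List.Mem.tail _ (List.Mem.tail _ (List.Mem.head _))))))))))))

theorem t_g22_t_T67 : Net.toPerm 275 t_g22 ∈ (grp 275 t_E0) :=
  t_T67_s0.le (toPerm_mem_grp (E := t_E0) (List.Mem.tail _ (List.Mem.tail _ (List.Mem.tail _ (List.Mem.tail _ (List.Mem.tail _ (List.Mem.tail _ (List.Mem.tail _ (List.Mem.tail _ (List.Mem.tail _ (List.Mem.tail _ (List.Mem.tail _ (List.Mem.head _)))))))))))))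

theorem t_g34_t_T67 : Net.toPerm 275 t_g34 ∈ (grp 275 t_E0) :=
  t_T67_s0.le (toPerm_mem_grp (E := t_E0) (List.Mem.tail _ (List.Mem.tail _ (List.Mem.tail _ (List.Mem.tail _ (List.Mem.tail _ (List.Mem.tail _ (List.Mem.tail _ (List.Mem.tail _ (List.Mem.tail _ (List.Mem.tail _ (List.Mem.tail _ (List.Mem.tail _ (List.Mem.head _))))))))))))))

theorem t_g35_t_T67 : Net.toPerm 275 t_g35 ∈ (grp 275 t_E0) :=
  t_T67_s0.le (toPerm_mem_grp (E := t_E0) (List.Mem.tail _ (List.Mem.tail _ (List.Mem.tail _ (List.Mem.tail _ (List.Mem.tail _ (List.Mem.tail _ (List.Mem.tail _ (List.Mem.tail _ (List.Mem.tail _ (List.Mem.tail _ (List.Mem.tail _ (List.Mem.tail _ (List.Mem.tail _ (List.Mem.head _)))))))))))))))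

theorem t_g36_t_T67 : Net.toPerm 275 t_g36 ∈ (grp 275 t_E0) :=
  t_T67_s0.le (toPerm_mem_grp (E := t_E0) (List.Mem.tail _ (List.Mem.tail _ (List.Mem.tail _ (List.Mem.tail _ (List.Mem.tail _ (List.Mem.tail _ (List.Mem.tail _ (List.Mem.tail _ (List.Mem.tail _ (List.Mem.tail _ (List.Mem.tail _ (List.Mem.tail _ (List.Mem.tail _ (List.Mem.tail _ (List.Mem.head _))))))))))))))))

theorem t_g27_t_T67 : Net.toPerm 275 t_g27 ∈ (grp 275 t_E0) :=
  t_T67_s0.le (toPerm_mem_grp (E := t_E0) (List.Mem.tail _ (List.Mem.tail _ (List.Mem.tail _ (List.Mem.tail _ (List.Mem.tail _ (List.Mem.tail _ (List.Mem.tail _ (List.Mem.tail _ (List.Mem.tail _ (List.Mem.tail _ (List.Mem.tail _ (List.Mem.tail _ (List.Mem.tail _ (List.Mem.tail _ (List.Mem.tail _ (List.Mem.head _)))))))))))))))))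

theorem t_g28_t_T67 : Net.toPerm 275 t_g28 ∈ (grp 275 t_E0) :=
  t_T67_s0.le (toPerm_mem_grp (E := t_E0) (List.Mem.tail _ (List.Mem.tail _ (List.Mem.tail _ (List.Mem.tail _ (List.Mem.tail _ (List.Mem.tail _ (List.Mem.tail _ (List.Mem.tail _ (List.Mem.tail _ (List.Mem.tail _ (List.Mem.tail _ (List.Mem.tail _ (List.Mem.tail _ (List.Mem.tail _ (List.Mem.tail _ (List.Mem.tail _ (List.Mem.head _))))))))))))))))))

theorem t_g29_t_T67 : Net.toPerm 275 t_g29 ∈ (grp 275 t_E0) :=
  t_T67_s0.le (toPerm_mem_grp (E := t_E0) (List.Mem.tail _ (List.Mem.tail _ (List.Mem.tail _ (List.Mem.tail _ (List.Mem.tail _ (List.Mem.tail _ (List.Mem.tail _ (List.Mem.tail _ (List.Mem.tail _ (List.Mem.tail _ (List.Mem.tail _ (List.Mem.tail _ (List.Mem.tail _ (List.Mem.tail _ (List.Mem.tail _ (List.Mem.tail _ (List.Mem.tail _ (List.Mem.head _)))))))))))))))))))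

theorem t_g30_t_T67 : Net.toPerm 275 t_g30 ∈ (grp 275 t_E0) :=
  t_T67_s0.le (toPerm_mem_grp (E := t_E0) (List.Mem.tail _ (List.Mem.tail _ (List.Mem.tail _ (List.Mem.tail _ (List.Mem.tail _ (List.Mem.tail _ (List.Mem.tail _ (List.Mem.tail _ (List.Mem.tail _ (List.Mem.tail _ (List.Mem.tail _ (List.Mem.tail _ (List.Mem.tail _ (List.Mem.tail _ (List.Mem.tail _ (List.Mem.tail _ (List.Mem.tail _ (List.Mem.tail _ (List.Mem.head _))))))))))))))))))))

theorem t_g31_t_T67 : Net.toPerm 275 t_g31 ∈ (grp 275 t_E0) :=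
  t_T67_s0.le (toPerm_mem_grp (E := t_E0) (List.Mem.tail _ (List.Mem.tail _ (List.Mem.tail _ (List.Mem.tail _ (List.Mem.tail _ (List.Mem.tail _ (List.Mem.tail _ (List.Mem.tail _ (List.Mem.tail _ (List.Mem.tail _ (List.Mem.tail _ (List.Mem.tail _ (List.Mem.tail _ (List.Mem.tail _ (List.Mem.tail _ (List.Mem.tail _ (List.Mem.tail _ (List.Mem.tail _ (List.Mem.tail _ (List.Mem.head _)))))))))))))))))))))

theorem t_g40_t_T67 : Net.toPerm 275 t_g40 ∈ (grp 275 t_E0) :=
  t_T67_s0.le (toPerm_mem_grp (E := t_E0) (List.Mem.tail _ (List.Mem.tail _ (List.Mem.tail _ (List.Mem.tail _ (List.Mem.tail _ (List.Mem.tail _ (List.Mem.tail _ (List.Mem.tail _ (List.Mem.tail _ (List.Mem.tail _ (List.Mem.tail _ (List.Mem.tail _ (List.Mem.tail _ (List.Mem.tail _ (List.Mem.tail _ (List.Mem.tail _ (List.Mem.tail _ (List.Mem.tail _ (List.Mem.tail _ (List.Mem.tail _ (List.Mem.head _))))))))))))))))))))))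

theorem t_g41_t_T67 : Net.toPerm 275 t_g41 ∈ (grp 275 t_E0) :=
  t_T67_s0.le (toPerm_mem_grp (E := t_E0) (List.Mem.tail _ (List.Mem.tail _ (List.Mem.tail _ (List.Mem.tail _ (List.Mem.tail _ (List.Mem.tail _ (List.Mem.tail _ (List.Mem.tail _ (List.Mem.tail _ (List.Mem.tail _ (List.Mem.tail _ (List.Mem.tail _ (List.Mem.tail _ (List.Mem.tail _ (List.Mem.tail _ (List.Mem.tail _ (List.Mem.tail _ (List.Mem.tail _ (List.Mem.tail _ (List.Mem.tail _ (List.Mem.tail _ (List.Mem.head _)))))))))))))))))))))))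

theorem t_g39_t_T67 : Net.toPerm 275 t_g39 ∈ (grp 275 t_E0) :=
  t_T67_s0.le (toPerm_mem_grp (E := t_E0) (List.Mem.tail _ (List.Mem.tail _ (List.Mem.tail _ (List.Mem.tail _ (List.Mem.tail _ (List.Mem.tail _ (List.Mem.tail _ (List.Mem.tail _ (List.Mem.tail _ (List.Mem.tail _ (List.Mem.tail _ (List.Mem.tail _ (List.Mem.tail _ (List.Mem.tail _ (List.Mem.tail _ (List.Mem.tail _ (List.Mem.tail _ (List.Mem.tail _ (List.Mem.tail _ (List.Mem.tail _ (List.Mem.tail _ (List.Mem.tail _ (List.Mem.head _))))))))))))))))))))))))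

theorem t_g49_t_T67 : Net.toPerm 275 t_g49 ∈ (grp 275 t_E0) :=
  t_T67_s0.le (toPerm_mem_grp (E := t_E0) (List.Mem.tail _ (List.Mem.tail _ (List.Mem.tail _ (List.Mem.tail _ (List.Mem.tail _ (List.Mem.tail _ (List.Mem.tail _ (List.Mem.tail _ (List.Mem.tail _ (List.Mem.tail _ (List.Mem.tail _ (List.Mem.tail _ (List.Mem.tail _ (List.Mem.tail _ (List.Mem.tail _ (List.Mem.tail _ (List.Mem.tail _ (List.Mem.tail _ (List.Mem.tail _ (List.Mem.tail _ (List.Mem.tail _ (List.Mem.tail _ (List.Mem.tail _ (List.Mem.head _)))))))))))))))))))))))))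

theorem t_g46_t_T67 : Net.toPerm 275 t_g46 ∈ (grp 275 t_E0) :=
  t_T67_s0.le (toPerm_mem_grp (E := t_E0) (List.Mem.tail _ (List.Mem.tail _ (List.Mem.tail _ (List.Mem.tail _ (List.Mem.tail _ (List.Mem.tail _ (List.Mem.tail _ (List.Mem.tail _ (List.Mem.tail _ (List.Mem.tail _ (List.Mem.tail _ (List.Mem.tail _ (List.Mem.tail _ (List.Mem.tail _ (List.Mem.tail _ (List.Mem.tail _ (List.Mem.tail _ (List.Mem.tail _ (List.Mem.tail _ (List.Mem.tail _ (List.Mem.tail _ (List.Mem.tail _ (List.Mem.tail _ (List.Mem.tail _ (List.Mem.head _))))))))))))))))))))))))))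

noncomputable def t_T67_s7_O : ℕ := (nat_lit 0xffffe000000000000000000000000000000000000000000000000000000000000000000003fffffffffffffffffffffffffffffffc0000000000000000000000000000000000007fffffffffffffff80000000000000007fffffffffffffff800000000000000000000ffffffff00000000ffffffff00000000ffffffff00000000ffffffff00000000e0001fffe0001fffe0001fffe0001fffe0001fffe0001fffe0001fffe0001fffe00003fc03fc03fc03fc03fc03fc03fc03fc03fc03fc03fc03fc03fc03fc03fc03fc03fc00787878787878787878787878787878787878787878787878787878787878787878784cccccccccccccccccccccccccccccccccccccccccccccccccccccccccccccccccccc5555555555555555555555555555555555555555555555555555555555555555555540000000000000000000000000000000000000000000000000000000000000000000040000010000000000000000000000000000000000000000000000000000000000000000000000000000000000000000000000000000000000000000000000800000000000000000000000000000000000000000000000000000000000010000000000000000000000000000000000000000000000000000000000000000000000000000000000000000800000000000000000000000000200000000000000000000000000000000000000000000000000000000000000000000000000000000000000000000000000000000000004)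

theorem t_T67_s7_F : Frame 275 (grp 275 t_E0) 7 16 t_T67_s7_O 1 1 :=
  IsBase.frame t_T67_s7.isBase (by decide +kernel)

noncomputable def t_T67_s6_O : ℕ := (nat_lit 0x27185695f5ca8a96083c244f20183a3b411cebc689100020002000000000000800000800b129000288281a506b5213585080855022860cd0fff1f6bb7be5ac3aa00000000042935d7a0d46ae32dedd1efb30863cd28a0041c0421fefe5c2e88248702bfffe000025be00e002cca02ed62b10207fe972e7b9c7ae249951ded02312f7c78c017f803fe002411fb84033fa4fe303ab086affb704367131337642fe25f3601c4027daaf0f87c3c0a999bb214b701242ce5f21e0ef643c06717f47b395c6b03a01a36794dcf1999c66661e6cc221beb233435301b2f70012af299d8ef48d21e8a4df39a25e8193d9aaab5aaaa00000000000000000000000000000000000000000000000000000000000000000000080000020000000000000000000000000000000000000000000000000000000000000000000000000000000000000000000000000000000000000000000001000000000000000000000000000000000000000000000000000000000000020000000000000000000000000000000000000000000000000000000000000000000000000000000000000001000000000000000000000000000400000000000000000000000000000000000000000)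

theorem t_T67_s6_F : Frame 275 (grp 275 t_E0) 6 13 t_T67_s6_O 0 1 :=
  Stab.frame t_hn t_T67_s6 (by decide +kernel)

noncomputable def t_T67_s5_O : ℕ := (nat_lit 0x4000000000000000000000000000000000000800000000000000000000022047cc0fb4c2486181f2568c7720e01551e5bf845cffb26daf4651ba50ff034400305789259b84df2b474d9c05790147de7e903d4b432699111206a3761017c0189fde060f18b409ca04dc44dafab1b49101a0b21110441fc3f58f53762ec746c1beb133f43e81e7443543424db06be108a1019e6cfa059cedcabc3f9e4a52c8966b115d19d251e72c071f84247ea2b68a51cef15c4fd3b47422d3c4b8c290154f30ddc4962bd4a96d1a55400000000000000000000000000000000000000000000000000000000000000000000100000040000000000000000000000000000000000000000000000000000000000000000000000000000000000000000000000000000000000000000000002000000000000000000000000000000000000000000000000000000000000040000000000000000000000000000000000000000000000000000000000000000000000000000000000000002)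

theorem t_T67_s5_F : Frame 275 (grp 275 t_E0) 5 11 t_T67_s5_O 0 1 :=
  Stab.frame t_hn t_T67_s5 (by decide +kernel)

noncomputable def t_T67_s4_O : ℕ := (nat_lit 0x100000000000000000000000000d0005200400000200000000000000800042001004641204008070810802000000040000004080000020009410004080d0000151011008000120100000001800800800042000000000c010d00000000040a00104004000c80000400000450004100401048000400002100000100420002c0440000480001000800101044008010100000840090400214004100000000808420000000802002200500c000280000204000000022000494000000011a005900400300004a0080020400000000202000040804800001000204002001064000010009440002080400004800114100400100000400200000014000240002000130000040000000100c000380800008040000000200400200800e4001003000010c00000b00009010802000104206801000005802004001000400008000600040000000400000000000000000000000000000000000000000000000000000000000000000000200000080000000000000000000000000000000000000000000000000000000000000000000000000000000000000000000000000000000000000000000004000000000000000000000000000000000000000000000000000000000000080000000000000000000)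

theorem t_T67_s4_F : Frame 275 (grp 275 t_E0) 4 14 t_T67_s4_O 0 1 :=
  Stab.frame t_hn t_T67_s4 (by decide +kernel)

noncomputable def t_T67_s3_O : ℕ := (nat_lit 0x10040000000000000000000108000000003004340000000010280041001000320000100000114001040100412000428008200000001010840000001004004400a018000500000408000000044000928000000023400b200800600009401000408000000004040000810090000020004080040020c800002001288000410080000900022820080020000080040000002800048000400200d0007240400010204a08002040680800aca089044641b0480807081c806004000100016840120250148002b851d00212000b404208042411802014040c00290024100800000000000000000000000000000000000000000000000000000000000000000000400000100000000000000000000000000000000000000000000000000000000000000000000000000000000000000000000000000000000000000000000008000000000000)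

theorem t_T67_s3_F : Frame 275 (grp 275 t_E0) 3 10 t_T67_s3_O 0 1 :=
  Stab.frame t_hn t_T67_s3 (by decide +kernel)

noncomputable def t_T67_s2_O : ℕ := (nat_lit 0x1080000000030043400000000102800410010003200001200801140090401004120000401a11ae4d980402340945a00c082d41001594132288c876894900e113902c40820030642d081240de429020d74a3a04c24115780c411084827006028081940522448221000000000000000000000000000000000000000000000000000000000000000000000800000200000000000000000000000000000000000000000000000000000000000000)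

theorem t_T67_s2_F : Frame 275 (grp 275 t_E0) 2 5 t_T67_s2_O 0 1 :=
  Stab.frame t_hn t_T67_s2 (by decide +kernel)

noncomputable def t_T67_s1_O : ℕ := (nat_lit 0x9406856b937e031a8d0251680b160b70c00d651dc8a23b1de25ae03cc6e48b30b080000000000000000000000000000000000000000000000000000000000000000000001)

theorem t_T67_s1_F : Frame 275 (grp 275 t_E0) 1 2 t_T67_s1_O 0 1 :=
  Stab.frame t_hn t_T67_s1 (by decide +kernel)

noncomputable def cx_cnt_L : List ℕ := [1, 2, t_T67_s1_O, 0, 0, 2, 5, t_T67_s2_O, 0, 0, 3, 10, t_T67_s3_O, 0, 0, 4, 14, t_T67_s4_O, 0, 0, 5, 11, t_T67_s5_O, 0, 0, 6, 13, t_T67_s6_O, 0, 0, 7, 16, t_T67_s7_O, 1, 0]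

theorem cx_cnt_P : Prob 275 9 (grp 275 t_E0) cx_cnt_EG [t_g68] [t_g68] cx_K cx_cnt_L 0 0 :=
  Sym.prob t_hn t_hk cx_sym cx_cnt_EG_ok (grp_cons_le t_g3_t_T67 (grp_cons_le t_g1_t_T67 (grp_cons_le t_g2_t_T67 (grp_cons_le t_g10_t_T67 (grp_cons_le t_g6_t_T67 (grp_cons_le t_g7_t_T67 (grp_cons_le t_g17_t_T67 (grp_cons_le t_g13_t_T67 (grp_cons_le t_g14_t_T67 (grp_cons_le t_g20_t_T67 (grp_cons_le t_g21_t_T67 (grp_cons_le t_g22_t_T67 (grp_cons_le t_g34_t_T67 (grp_cons_le t_g35_t_T67 (grp_cons_le t_g36_t_T67 (grp_cons_le t_g27_t_T67 (grp_cons_le t_g28_t_T67 (grp_cons_le t_g29_t_T67 (grp_cons_le t_g30_t_T67 (grp_cons_le t_g31_t_T67 (grp_cons_le t_g40_t_T67 (grp_cons_le t_g41_t_T67 (grp_cons_le t_g39_t_T67 (grp_cons_le t_g49_t_T67 (grp_cons_le t_g46_t_T67 (grp_nil_le _)))))))))))))))))))))))))) (Frames.cons t_T67_s1_F (Frames.cons t_T67_s2_F (Frames.cons t_T67_s3_F (Frames.cons t_T67_s4_F (Frames.cons t_T67_s5_F (Frames.cons t_T67_s6_F (Frames.cons t_T67_s7_F Frames.nil)))))))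 (okE_cons.2 ⟨t_g68_ok, okE_nil _⟩) _

noncomputable def cx_cnt_t : BT := (BT.fix (nat_lit 1) (BT.br (nat_lit 0) (nat_lit 0) [nat_lit 1] (BT.kid (nat_lit 0) (nat_lit 5832) (BT.dif (nat_lit 1) (nat_lit 0) (BT.br (nat_lit 0) (nat_lit 8) [nat_lit 3, nat_lit 5] (BT.kid (nat_lit 8) (nat_lit 1458) (BT.frm (nat_lit 1) (nat_lit 2583) (nat_lit 2583) [nat_lit 0, nat_lit 2] (BT.pln (nat_lit 0) (nat_lit 4) (BT.and (nat_lit 5) (nat_lit 0) (BT.br (nat_lit 0) (nat_lit 62) [nat_lit 5] (BT.kid (nat_lit 62) (nat_lit 486) (BT.dif (nat_lit 1) (nat_lit 0) (BT.br (nat_lit 0) (nat_lit 108) [] (BT.dead (nat_lit 154) (BT.frm (nat_lit 0) (nat_lit 0) (nat_lit 0) [nat_lit 8] (BT.pln (nat_lit 0) (nat_lit 1) (BT.dif (nat_lit 14) (nat_lit 0) (BT.pln (nat_lit 8) (nat_lit 2) (BT.dif (nat_lit 1) (nat_lit 0) (BT.frm (nat_lit 2) (nat_lit 985623) (nat_lit 985623) [nat_lit 7, nat_lit 11, nat_lit 13] (BT.pln (nat_lit 0) (nat_lit 7) (BT.dif (nat_lit 2) (nat_lit 0) (BT.frm (nat_lit 3) (nat_lit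 0x130f0a17) (nat_lit 985623) [nat_lit 8, nat_lit 10, nat_lit 14, nat_lit 16] (BT.pln (nat_lit 0) (nat_lit 5) (BT.dif (nat_lit 2) (nat_lit 0) (BT.dif (nat_lit 0) (nat_lit 20) (BT.br (nat_lit 0) (nat_lit 9) [nat_lit 7, nat_lit 11, nat_lit 13] (BT.dead (nat_lit 3) (BT.frm (nat_lit 4) (nat_lit 0x1b130f0a17) (nat_lit 0x1d0f0a17) [nat_lit 0, nat_lit 13, nat_lit 15, nat_lit 19, nat_lit 21] (BT.pln (nat_lit 0) (nat_lit 6) (BT.img (nat_lit 1) (nat_lit 2) (BT.and (nat_lit 1) (nat_lit 0) (BT.cnt (nat_lit 0)))))) BT.nil)))))))))))))) (BT.kid (nat_lit 108) (nat_lit 486) (BT.frm (nat_lit 0) (nat_lit 0) (nat_lit 0) [nat_lit 8] (BT.pln (nat_lit 0) (nat_lit 1) (BT.dif (nat_lit 14) (nat_lit 0) (BT.pln (nat_lit 8) (nat_lit 2) (BT.dif (nat_lit 1) (nat_lit 0) (BT.frm (nat_lit 2) (nat_lit 985623) (nat_lit 985623) [nat_lit 7, nat_lit 11, nat_lit 13] (BT.pln (nat_lit 0) (nat_lit 7) (BT.dif (nat_lit 2) (nat_lit 0) (BT.frm (nat_lit 3) (nat_lit 0x130f0a17) (nat_lit 0x130f0a17)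 [nat_lit 8, nat_lit 10, nat_lit 14, nat_lit 16] (BT.pln (nat_lit 0) (nat_lit 5) (BT.dif (nat_lit 2) (nat_lit 0) (BT.dif (nat_lit 0) (nat_lit 20) (BT.br (nat_lit 0) (nat_lit 9) [nat_lit 7, nat_lit 9, nat_lit 11] (BT.kid (nat_lit 9) (nat_lit 18) (BT.frm (nat_lit 4) (nat_lit 0x1b130f0a17) (nat_lit 0x1b130f0a17) [nat_lit 0, nat_lit 13, nat_lit 15, nat_lit 19, nat_lit 21] (BT.pln (nat_lit 0) (nat_lit 5) (BT.and (nat_lit 4) (nat_lit 0) (BT.pln (nat_lit 2) (nat_lit 6) (BT.dif (nat_lit 1) (nat_lit 0) (BT.pln (nat_lit 4) (nat_lit 7) (BT.and (nat_lit 1) (nat_lit 0) (BT.br (nat_lit 0) (nat_lit 30) [nat_lit 11, nat_lit 13] (BT.kid (nat_lit 30) (nat_lit 3) (BT.dif (nat_lit 17) (nat_lit 6) (BT.pln (nat_lit 8) (nat_lit 8) (BT.dif (nat_lit 1) (nat_lit 0) (BT.frm (nat_lit 5) (nat_lit 0x1b130f0a17) (nat_lit 0x1b130f0a17) [nat_lit 3, nat_lit 11, nat_lit 24, nat_lit 26, nat_lit 30, nat_lit 32] (BT.pln (nat_lit 0) (nat_lit 8) (BT.dif (nat_lit 2) (nat_lit 0) (BT.br (nat_lit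 0) (nat_lit 5) [nat_lit 15] (BT.kid (nat_lit 5) (nat_lit 1) (BT.one (nat_lit 6) (nat_lit 0x301b130f0a17) (nat_lit 0x301b130f0a17) [nat_lit 0, nat_lit 7, nat_lit 15, nat_lit 28, nat_lit 30, nat_lit 34, nat_lit 36]) BT.nil)))))))) BT.nil))))))))) BT.nil)))))))))))))) BT.nil)))) BT.nil))))) BT.nil))) BT.nil)))

theorem cx_cnt : Cnt 275 (grp 275 t_E0) [t_g68] [t_g68] 0 0 0 0 29160 :=
  BT.sound cx_cnt_P Known.nil (t := cx_cnt_t) (d := 0) (by decide +kernel)

theorem cx_ge : 29160 ≤ Nat.card (grp 275 cx_K) :=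
  Ch.le_card_grp (k := 9) (L := (lab 275 9)) t_hn cx_K_ok (c := (Ch.cons (nat_lit 0) [nat_lit 1] (Ch.cons (nat_lit 8) [nat_lit 3] (Ch.cons (nat_lit 62) [nat_lit 5] (Ch.cons (nat_lit 9) [nat_lit 7, nat_lit 9] (Ch.cons (nat_lit 30) [nat_lit 11, nat_lit 13] (Ch.cons (nat_lit 5) [nat_lit 15] Ch.nil))))))) (by decide +kernel)

theorem cx_eq : (grp 275 t_E0) ⊓ Subgroup.centralizer {Net.toPerm 275 t_g68} = grp 275 cx_K :=
  cent_eq cx_sym cx_cnt cx_ge

theorem cx_card : Nat.card ↥((grp 275 t_E0) ⊓ Subgroup.centralizer {Net.toPerm 275 t_g68}) = 29160 :=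
  card_cent cx_sym cx_cnt cx_ge

theorem t_le93 : grp 275 xE ≤ grp 275 t_E0 :=
  grp_le_of_memB t_hn t_hk t_E0_ok xE_ok (ws := [nat_lit 0x291b290d2b0712, nat_lit 0x30292d1c2b0d12091a, nat_lit 0x30291b230d160c21, nat_lit 0x2f2b1c2b130f070919, nat_lit 0x2f191d0d120a0d, nat_lit 0x2d1921130d140912]) (by decide +kernel)

theorem xE_le : grp 275 xE ≤ (grp 275 t_E0) :=
  (t_le93.trans t_T67_s0.le)

theorem t_le94 : grp 275 xL ≤ grp 275 t_E0 :=
  grp_le_of_memB t_hn t_hk t_E0_ok xL_ok (ws := [nat_lit 0x2b1e0f210a30, nat_lit 0x2f2d19280d120811010a17]) (by decide +kernel)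

theorem xL_le : grp 275 xL ≤ (grp 275 t_E0) :=
  (t_le94.trans t_T67_s0.le)

theorem t_le95 : grp 275 xJ ≤ grp 275 t_E0 :=
  grp_le_of_memB t_hn t_hk t_E0_ok xJ_ok (ws := [nat_lit 0x30292d1b23130d0d0a0f, nat_lit 0x2f2b13080f010a17]) (by decide +kernel)

theorem xJ_le : grp 275 xJ ≤ (grp 275 t_E0) :=
  (t_le95.trans t_T67_s0.le)

theorem h0 : pB 275 9 xE 0 1 = false :=
  by decide +kernel

theorem h1 : ∀ j, pB 275 9 xE j 3 = true :=
  by decide +kernel

theorem h2 : ∀ i j : Fin 6, cB 275 9 xE (getN xE i) j (co9 (g9 i * g9 j * (g9 i)⁻¹)) = true :=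
  by decide +kernel

theorem h3 : ∀ i : Fin (Lg 0).length, ∀ j, cB 275 9 xE (getN xL i) j (co9 (l9f ((Lg 0).get i) (g9 j))) = true :=
  by decide +kernel

theorem h4 : ∀ j < 4, cB 275 9 xE t_g91 j (co9 (wJ (g9 j))) = true :=
  by decide +kernel

theorem h5 : ∀ j ≠ 3, cB 275 9 xE t_g92 j (co9 (qe (sg 0 (wv (g9 j))) (![1, 2, 2, 0, 1, 2] j))) = true :=
  by decide +kernel

theorem raw3_0 : Raw3 0 :=
  raw3_of t_hn t_hk 0 (G := (grp 275 t_E0)) ![1, 2, 2, 0, 1, 2] xE_ok xL_ok t_g91_ok t_g92_ok xE_le xL_le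
    (xJ_le (toPerm_mem_grp (E := xJ) (List.Mem.head _))) (xJ_le (toPerm_mem_grp (E := xJ) (List.Mem.tail _ (List.Mem.head _))))
    (by rw [t_card0]; decide) cx_card.le h0 h1 h2 h3 h4 h5

end Cfsg.Agent.H76.U4Raw0
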