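import Mathlib
import Cfsg.Agent.H43.Cent
import Cfsg.Agent.H76.U4RawKit

set_option autoImplicit false
set_option maxRecDepth 200000
set_option linter.style.longLine false

namespace Cfsg.Agent.H76.U4Raw1

open Cfsg.Agent.H43 Cfsg.Agent.H28 Cfsg.Agent.H97.U4 Cfsg.Agent.H76.U4Raw

theorem t_hn : NOk 275 := by decide

theorem t_hk : 275 ≤ 2 ^ 9 := by decide

noncomputable def t_g1 : Net := (Net.cons (nat_lit 1) (nat_lit 0x140514000011444001514011415004000055545005504140551541541045055150000) (Net.cons (nat_lit 2) (nat_lit 0x120201002223310311310231110232332313303013232102032032300110201011332) (Net.cons (nat_lit 4) (nat_lit 0xa0802020b0500070b07030f020f010c0c060b0f02050903040707030b0106090c00) (Net.cons (nat_lit 8) (nat_lit 0x90006e0030007f007a002000fc0090000c0012007900100040004b009800240001) (Net.cons (nat_lit 16) (nat_lit 0x2000093fd0000502c00001d0300005fc50000f385000016d000004c2500004820) (Net.cons (nat_lit 32) (nat_lit 0x1c160f35000000001168e80c000000000151c1640000000000018120)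 (Net.cons (nat_lit 64) (nat_lit 0xc52131032e081370000000000000000000000000000c556) (Net.cons (nat_lit 128) (nat_lit 0xefad19404ce4108b125686dfb70419f4) (Net.cons (nat_lit 256) (nat_lit 393207) (Net.cons (nat_lit 128) (nat_lit 391168) (Net.cons (nat_lit 64) (nat_lit 0x1b3e24e2c7a2e8560000000000000000cc4b3157033e63eb) (Net.cons (nat_lit 32) (nat_lit 0x82d6ae22000000000cd40b910000000075b567fb00000000770c280d) (Net.cons (nat_lit 16) (nat_lit 0x6000093360000415600004c6f00006caf000057cf0000e0780000b28e000000e2) (Net.cons (nat_lit 8) (nat_lit 0xdb0023000b00a200a600fe003e002100c500f600e000c00051008e002800af0055) (Net.cons (nat_lit 4) (nat_lit 0x10a000a06040c010f0d0f06020d08040c0f0b0e04010e060a0c000b09070306010b) (Net.cons (nat_lit 2) (nat_lit 0x110303103020310222113102011031313331230021133022202231000310333303113) (Net.cons (nat_lit 1) (nat_lit 0x101041451405011140111055040551004414110114155540555140011050401551114) Net.nil)))))))))))))))))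

theorem t_g1_ok : Net.ok 275 t_g1 = true := by decide +kernel

noncomputable def t_g2 : Net := (Net.cons (nat_lit 1) (nat_lit 0x145044451000050101140000505140511010110000011054440111555104115440414) (Net.cons (nat_lit 2) (nat_lit 0x20233121003112223310110313212321320022110003300112201201201032312002) (Net.cons (nat_lit 4) (nat_lit 0x20f0f0c0b0d0d030004080a020a0b03080b050f0d050e02000d0208040805010004) (Net.cons (nat_lit 8) (nat_lit 0xad0045005d001f00b900500042009c00b8005c00040043005900fa000500120004) (Net.cons (nat_lit 16) (nat_lit 0x500005d47000011010000b03900004e3c0000b12300008b6f0000888700001b08) (Net.cons (nat_lit 32) (nat_lit 0x50c9f6e2000000001045482c000000001293218700000000000080f8) (Net.cons (nat_lit 64) (nat_lit 0xf1000a124419805a00000000000000000000000000050d85) (Net.cons (nat_lit 128) (nat_lit 0x675bc0be7ef3199c9ec0eb61382f9479) (Net.cons (nat_lit 256) (nat_lit 499711) (Net.cons (nat_lit 128) (nat_lit 232334) (Net.cons (nat_lit 64) (nat_lit 0x9a2dd33ae4d3f5490000000000000000ba81f01658d50aec)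 (Net.cons (nat_lit 32) (nat_lit 0x7bb06b7600000000f573fc98000000000c29eebf00000000c9136699) (Net.cons (nat_lit 16) (nat_lit 0x3000070b80000232700005d3d00003aa2000075080000ae4500000f3500009a1c) (Net.cons (nat_lit 8) (nat_lit 0xee00ee00c600d700950068003f0038002000e2001a00830050003200f900a200b2) (Net.cons (nat_lit 4) (nat_lit 0x30e080f02060508090a030503070a0c04000f010307000d060301010c040e05020d) (Net.cons (nat_lit 2) (nat_lit 0x20030210202313223132212132212101020302122201121120001321013311101310) (Net.cons (nat_lit 1) (nat_lit 0x54551040145041010401104500104440104045545010145540104500541014040055) Net.nil)))))))))))))))))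

theorem t_g2_ok : Net.ok 275 t_g2 = true := by decide +kernel

noncomputable def t_g3 : Net := (Net.cons (nat_lit 1) (nat_lit 0x105414544501105055105455404140051401105005000454504115544504004015101) (Net.cons (nat_lit 2) (nat_lit 0x22013232322133312220102022010020203123231312312310122132211020131130) (Net.cons (nat_lit 4) (nat_lit 0x10707010e04030201020c0c080d010d0c06010908080707090e070e030b0a0e0000) (Net.cons (nat_lit 8) (nat_lit 0xb10011009700b2006d004900c000e5007a005a0058004d00070048004c00c90003) (Net.cons (nat_lit 16) (nat_lit 0x9458000096f40000b72f0000691c000049b3000023220000225000000080) (Net.cons (nat_lit 32) (nat_lit 0xbf1cf3110000000012e5b669000000001600fd280000000000018834) (Net.cons (nat_lit 64) (nat_lit 0x4c0430c55820b8d400000000000000000000000000034c41) (Net.cons (nat_lit 128) (nat_lit 0x767ec7244df23c82aa2174c1154eb6cc) (Net.cons (nat_lit 256) (nat_lit 524287) (Net.cons (nat_lit 128) (nat_lit 161463) (Net.cons (nat_lit 64) (nat_lit 0xc8d240426633653d0000000000000000dfe2e07876329526)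 (Net.cons (nat_lit 32) (nat_lit 0x38d33a14000000005791b89700000000c30f8a9200000000445a1cc8) (Net.cons (nat_lit 16) (nat_lit 0x600000d460000e4cc0000e49f00007aa4000048c30000e436000017e3000008ac) (Net.cons (nat_lit 8) (nat_lit 0x80003e00bb001e000f00b4000f00dc0085003c00e7009500f8007e0053008a005b) (Net.cons (nat_lit 4) (nat_lit 0x6040c0c0d0c0a050b0a06000b0701020b0d010c0b090b0a00090c0e0a0004000c0c) (Net.cons (nat_lit 2) (nat_lit 0x1031312212003313031122233112121310211122313132312322301313220001020) (Net.cons (nat_lit 1) (nat_lit 0x151101545040045051011104000141155414501154054550151051410445114511401) Net.nil)))))))))))))))))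

theorem t_g3_ok : Net.ok 275 t_g3 = true := by decide +kernel

noncomputable def t_O : List Net := [t_g1, t_g2, t_g3]

theorem t_O_ok : okE 275 t_O = true := (okE_cons.2 ⟨t_g1_ok, (okE_cons.2 ⟨t_g2_ok, (okE_cons.2 ⟨t_g3_ok, (okE_nil 275)⟩)⟩)⟩)

noncomputable def t_g4 : Net := (Net.cons (nat_lit 1) (nat_lit 0x101114411014140010514110111054040450001054545010110140401400450545004) (Net.cons (nat_lit 2) (nat_lit 0x101022223203133100230322021213302203020300102320010200311103212132002) (Net.cons (nat_lit 4) (nat_lit 0xb090a0a0b070807040808060b0000020702000900000d0d030b06080d0f090a0106) (Net.cons (nat_lit 8) (nat_lit 0xbd003d00e400800071006e00e500710069003d009100db0037008800b5006e0000) (Net.cons (nat_lit 16) (nat_lit 0xf9e90000d8d2000000c70000aa7100000ba20000e61100001b6d00009690) (Net.cons (nat_lit 32) (nat_lit 0x7a8adacb0000000082361c2b0000000029bd873e000000000002f1d0) (Net.cons (nat_lit 64) (nat_lit 0x1a11d052ec4f00440000000000000000000000000001560b) (Net.cons (nat_lit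 128) (nat_lit 0xde89ce2d404b74b1c47c3df7ac96d033) (Net.cons (nat_lit 256) (nat_lit 522235) (Net.cons (nat_lit 128) (nat_lit 22733) (Net.cons (nat_lit 64) (nat_lit 0xb5c54eb7d95d65c000000000000000005ee399f13757f23c) (Net.cons (nat_lit 32) (nat_lit 0x5fa067ad00000000d0ab14d6000000000197d7f600000000a0b7c646) (Net.cons (nat_lit 16) (nat_lit 0x30000cdd100001033000058ef00005a3e000077a5000055db0000906e0000efc1) (Net.cons (nat_lit 8) (nat_lit 0xb3006d0038005900e100e300f9001a0067008000e90030003900cd00a10056003e) (Net.cons (nat_lit 4) (nat_lit 0xf0800020f08060a090e09090e030c0402060e0e020a0a0a000a08080f0f0c06070c) (Net.cons (nat_lit 2) (nat_lit 0x132133031103012130312103112010222122303031122230021222310122302100211) (Net.cons (nat_lit 1) (nat_lit 0x45441501015111155505411440450410111501501154445154040451044001000405) Net.nil)))))))))))))))))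

theorem t_g4_ok : Net.ok 275 t_g4 = true := by decide +kernel

noncomputable def t_V5 : List Net := [t_g4]

theorem t_V5_ok : okE 275 t_V5 = true := (okE_cons.2 ⟨t_g4_ok, (okE_nil 275)⟩)

noncomputable def t_g7 : Net := (Net.cons (nat_lit 1) (nat_lit 0x154041405455504404004505511015004401150154414145515100045401045011004) (Net.cons (nat_lit 2) (nat_lit 0x131022210102002031231221330000303010210322121330120320303133000201122) (Net.cons (nat_lit 4) (nat_lit 0xb050a0604080705080f070907050901050206050a040f090b0809070d0402080901) (Net.cons (nat_lit 8) (nat_lit 0xbf00f2007b00ea00110054008200f3004c004800070062006200970044002d0002) (Net.cons (nat_lit 16) (nat_lit 0x100004dac00005cd200008fb6000042d000000c210000d962000028040000cc60) (Net.cons (nat_lit 32) (nat_lit 0x893b47ab00000000a5a0860e00000000c8e8c2a0000000000000a913) (Net.cons (nat_lit 64) (nat_lit 0x25364180fa0a62030000000000000000000000000001c433) (Net.cons (nat_lit 128) (nat_lit 0x4f73c05c7d6073b0684491af82daf608) (Net.cons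 (nat_lit 256) (nat_lit 262015) (Net.cons (nat_lit 128) (nat_lit 159807) (Net.cons (nat_lit 64) (nat_lit 0xa85751a3e73d0da700000000000000000d721ac9f1cba2ff) (Net.cons (nat_lit 32) (nat_lit 0xb1b6279a000000005ba2d24900000000cc83178e000000003453417f) (Net.cons (nat_lit 16) (nat_lit 0x50000c47700008d4b00006d13000085740000125d00006a12000000e0000058a5) (Net.cons (nat_lit 8) (nat_lit 0x880060001600f4005f00ff003100e0005e00b20000008900ba00f00083002900a6) (Net.cons (nat_lit 4) (nat_lit 0x8040a02020408030204080b0f070a010d01000a0b09020a04070e05070f0b07030f) (Net.cons (nat_lit 2) (nat_lit 0x23202101300110332012100122031220020302132230032132132322300121203212) (Net.cons (nat_lit 1) (nat_lit 0x44501045504455415015110151404154101501105440005141401111445554054450) Net.nil)))))))))))))))))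

theorem t_g7_ok : Net.ok 275 t_g7 = true := by decide +kernel

noncomputable def t_g8 : Net := (Net.cons (nat_lit 1) (nat_lit 0x44015041004444100055001150054041015015110054104515550040550010010100) (Net.cons (nat_lit 2) (nat_lit 0x3213200300312321103223300032332220221002302100312210111131010210022) (Net.cons (nat_lit 4) (nat_lit 0x107010c0f0208040d0a070a0a0c00070905050c02090a0e020e0e0609090c000204) (Net.cons (nat_lit 8) (nat_lit 0x10008100b300c1007600f3002000210031005b00f3000d00740032009600f60001) (Net.cons (nat_lit 16) (nat_lit 0x70000e9090000b250000033d0000003ef000050c1000072090000e41300005080) (Net.cons (nat_lit 32) (nat_lit 0xeea2b9f600000000508f2fcc00000000a58030fe0000000000001cc4) (Net.cons (nat_lit 64) (nat_lit 0x14ca06a69451e8980000000000000000000000000000e594) (Net.cons (nat_lit 128) (nat_lit 0xb9cd9a8c5698c8e66d13ad62abcde73a) (Net.cons (nat_lit 256) (nat_lit 524287) (Net.cons (nat_lit 128) (nat_lit 184911) (Net.cons (nat_lit 64) (nat_lit 0xcc7afc8bd2696080000000000000000cf52ec169875c9d7)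 (Net.cons (nat_lit 32) (nat_lit 0xd89454d600000000a0ca485a000000009f6599c9000000007a499ef2) (Net.cons (nat_lit 16) (nat_lit 0x5d5500003d21000086190000e4500000d4d90000ea890000fdf20000a405) (Net.cons (nat_lit 8) (nat_lit 0x1100d500870079002b009600cf00d1004e00720068008200dc006100b200f9009d) (Net.cons (nat_lit 4) (nat_lit 0xd0d0f0f0d08070500070c0b01030c070e0c0f07040606040c0c00010d000907060a) (Net.cons (nat_lit 2) (nat_lit 0x132332032200323211031113323013120111211023323031333122301110223112010) (Net.cons (nat_lit 1) (nat_lit 0x151554400141100001015404451405454444150001155551114115550541115451104) Net.nil)))))))))))))))))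

theorem t_g8_ok : Net.ok 275 t_g8 = true := by decide +kernel

noncomputable def t_V9 : List Net := [t_g7, t_g8]

theorem t_V9_ok : okE 275 t_V9 = true := (okE_cons.2 ⟨t_g7_ok, (okE_cons.2 ⟨t_g8_ok, (okE_nil 275)⟩)⟩)

noncomputable def t_g11 : Net := (Net.cons (nat_lit 1) (nat_lit 0x44040154140501454541405410005454154010505411451154145110051004100555) (Net.cons (nat_lit 2) (nat_lit 0x121100300222332012333202332312003112132121112313331121002100310002020) (Net.cons (nat_lit 4) (nat_lit 0xe0708080a020c0e000e0d06000b090604010205050e06020b060c05010506020102) (Net.cons (nat_lit 8) (nat_lit 0x840056000a0061007d006d00fa00a800d900a7000d00ed00200062000c00540002) (Net.cons (nat_lit 16) (nat_lit 0x10000681400009a8b0000cc6e00002d00000020d00000d09b000074600000d408) (Net.cons (nat_lit 32) (nat_lit 0xa12800e5000000006e02821900000000340c65e0000000000002af40) (Net.cons (nat_lit 64) (nat_lit 0x811c1550161c22c2000000000000000000000000000341a1) (Net.cons (nat_lit 128) (nat_lit 0xf1f33cab010c071d0e8eebf4f7b38261)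 (Net.cons (nat_lit 256) (nat_lit 524283) (Net.cons (nat_lit 128) (nat_lit 46551) (Net.cons (nat_lit 64) (nat_lit 0xe7c306efd047b8f400000000000000008c3268adc01ca8e4) (Net.cons (nat_lit 32) (nat_lit 0x2d5fbf7a000000008a4dd30b000000006421f69d0000000089363856) (Net.cons (nat_lit 16) (nat_lit 0x600008ea700000a0e0000bbba00009a210000a1030000cf9200005f3f00003751) (Net.cons (nat_lit 8) (nat_lit 0xfc002a008700e1007d00e3005100b7002900c700cf00710082008000560092000e) (Net.cons (nat_lit 4) (nat_lit 0xc0f040806080b0b090e050f010308080b020300070e0a090204020206040c00030b) (Net.cons (nat_lit 2) (nat_lit 0x10323221101203132232331013101320222211210012300310300331210232330211) (Net.cons (nat_lit 1) (nat_lit 0x154540045414045115054455510011151105401150510111455450044451054014555) Net.nil)))))))))))))))))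

theorem t_g11_ok : Net.ok 275 t_g11 = true := by decide +kernel

noncomputable def t_V12 : List Net := [t_g11]

theorem t_V12_ok : okE 275 t_V12 = true := (okE_cons.2 ⟨t_g11_ok, (okE_nil 275)⟩)

noncomputable def t_g14 : Net := (Net.cons (nat_lit 1) (nat_lit 0x45104551114040001400451405141450000541051401001005104111550100150440) (Net.cons (nat_lit 2) (nat_lit 0x130012022000120201021121030123222211213220112133331101102311313200332) (Net.cons (nat_lit 4) (nat_lit 0x60d010a070108080b06070b030b04010c0800000f0e0d0d0f0e0e0a040e00020100) (Net.cons (nat_lit 8) (nat_lit 0x1a0003004f0079006d00d9008100b6006b00a600bb000c00430006006300080005) (Net.cons (nat_lit 16) (nat_lit 0x30000494500002e6c000018870000c7080000959100005e63000010d0000082c0) (Net.cons (nat_lit 32) (nat_lit 0x5f4301e100000000040027910000000046511144000000000000c2ea) (Net.cons (nat_lit 64) (nat_lit 0x14c8d2be09c851ce0000000000000000000000000001134a) (Net.cons (nat_lit 128) (nat_lit 0xbc10d30eeee0f82f23f90df0e31c803c)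 (Net.cons (nat_lit 256) (nat_lit 516095) (Net.cons (nat_lit 128) (nat_lit 8648) (Net.cons (nat_lit 64) (nat_lit 0x688fe9f646f8035b00000000000000009af16b2cc42823b7) (Net.cons (nat_lit 32) (nat_lit 0x3659fa43000000006db2e828000000004f1f94130000000045a3d0bd) (Net.cons (nat_lit 16) (nat_lit 0x50000ed8d00007dff000092cd00002b9e0000a26800004d67000072240000cade) (Net.cons (nat_lit 8) (nat_lit 0x9e0088003b00dd000d002b00d7005d008200e800c50041000400f500b000f20087) (Net.cons (nat_lit 4) (nat_lit 0xa0f030601050c0f070c060f0c0502060b0304060a0f03010f0a050c04040703070c) (Net.cons (nat_lit 2) (nat_lit 0x110023012033010301103221101031330223110133302022000012221231101211230) (Net.cons (nat_lit 1) (nat_lit 0x1504100105010140541100554555105515445511501001100454504145041111404) Net.nil)))))))))))))))))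

theorem t_g14_ok : Net.ok 275 t_g14 = true := by decide +kernel

noncomputable def t_g15 : Net := (Net.cons (nat_lit 1) (nat_lit 0x10504405454444554101451040105455040114410511455401014410040510544404) (Net.cons (nat_lit 2) (nat_lit 0x22211222301323022010331023131223110030233210300323312012022023323320) (Net.cons (nat_lit 4) (nat_lit 0x1030706080400070205030c020c0e05030d0503060006080b09020c0f0904060400) (Net.cons (nat_lit 8) (nat_lit 0x6f00ee0034002c00a200520003001900e700480095000a007b0060000700480002) (Net.cons (nat_lit 16) (nat_lit 0x6028000096ce00008b7c00006042000099560000c4380000448200005460) (Net.cons (nat_lit 32) (nat_lit 0xb4f014a6000000000b258154000000004001c3e0000000000002a810) (Net.cons (nat_lit 64) (nat_lit 0x1209984aa1d000000000000000000000000000020f9) (Net.cons (nat_lit 128) (nat_lit 0x272012135ce1a7c6c5346d7bc55c3f14) (Net.cons (nat_lit 256) (nat_lit 524287) (Net.cons (nat_lit 128) (nat_lit 15273) (Net.cons (nat_lit 64) (nat_lit 0xba1b7e47f106ac8500000000000000007464ab31c3596d3f)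 (Net.cons (nat_lit 32) (nat_lit 0x99811b30000000008a87d60600000000753cd32100000000193a4184) (Net.cons (nat_lit 16) (nat_lit 0x20000b5990000d1b2000042270000a7f30000c11f00005f5100002a780000ca98) (Net.cons (nat_lit 8) (nat_lit 0x29009f0088007100b300170032007a00730020000100a500bd0052002c00e80082) (Net.cons (nat_lit 4) (nat_lit 0x90606090a03060b0405050c050b070c0704050f0409070203040b0c0d07060a0c06) (Net.cons (nat_lit 2) (nat_lit 0x33310332030101032213033212123021321101133202010011301212331101303102) (Net.cons (nat_lit 1) (nat_lit 0x405005005444404540000400441541555400544400145554151044455501405140) Net.nil)))))))))))))))))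

theorem t_g15_ok : Net.ok 275 t_g15 = true := by decide +kernel

noncomputable def t_V16 : List Net := [t_g14, t_g15]

theorem t_V16_ok : okE 275 t_V16 = true := (okE_cons.2 ⟨t_g14_ok, (okE_cons.2 ⟨t_g15_ok, (okE_nil 275)⟩)⟩)

noncomputable def t_g18 : Net := (Net.cons (nat_lit 1) (nat_lit 0x41005105111401541005101541455044441414041115501015544100555455101550) (Net.cons (nat_lit 2) (nat_lit 0x113332312120300301002030102233212213010202220302231330203023313002300) (Net.cons (nat_lit 4) (nat_lit 0x10f070e09000f0f030e020c0b0b050906020f04000909070705010a020e00030306) (Net.cons (nat_lit 8) (nat_lit 0x92007400ba008f004a00d200e0007c00220088002800bf00a60054001e006a0000) (Net.cons (nat_lit 16) (nat_lit 0x10000baad0000949a0000ff6e0000431000000ea80000a592000030c00000c900) (Net.cons (nat_lit 32) (nat_lit 0x16c10c690000000096664c4c00000000072208410000000000011109) (Net.cons (nat_lit 64) (nat_lit 0x200c2490b6124c590000000000000000000000000003088d) (Net.cons (nat_lit 128) (nat_lit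 0x3407051e0f0772bc476bb3a6f91c0408) (Net.cons (nat_lit 256) (nat_lit 523743) (Net.cons (nat_lit 128) (nat_lit 102089) (Net.cons (nat_lit 64) (nat_lit 0xda5cc2bdd79637a10000000000000000123529c0bbd47980) (Net.cons (nat_lit 32) (nat_lit 0x5efaeaf80000000097de318c00000000b489cbdc00000000d74d7207) (Net.cons (nat_lit 16) (nat_lit 0x500004dbe0000a424000078f60000b3b900008ca50000a17400005d9f0000455a) (Net.cons (nat_lit 8) (nat_lit 0x500fa00c5000500f9007700e400fe0097001100e3001700bc00d900e500bc0074) (Net.cons (nat_lit 4) (nat_lit 0x603040e06060f0f030307090908040f060c060c0700020307000908060f0c02030e) (Net.cons (nat_lit 2) (nat_lit 0x22202100222023001232102301022323113201233320223002213101320211122110) (Net.cons (nat_lit 1) (nat_lit 0x115514114144501505504544551454400155455444045041055115451405011551454) Net.nil)))))))))))))))))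

theorem t_g18_ok : Net.ok 275 t_g18 = true := by decide +kernel

noncomputable def t_V19 : List Net := [t_g18]

theorem t_V19_ok : okE 275 t_V19 = true := (okE_cons.2 ⟨t_g18_ok, (okE_nil 275)⟩)

noncomputable def t_g21 : Net := (Net.cons (nat_lit 1) (nat_lit 0x151054555444101015041051404001440114010515545110145101151115045545454) (Net.cons (nat_lit 2) (nat_lit 0x130101122002001112121010312012022101103132102231333101001012212132330) (Net.cons (nat_lit 4) (nat_lit 0xb060c010f030a0f040503000202000b0e050300050b0f0904050801050d0b0f0205) (Net.cons (nat_lit 8) (nat_lit 0xaf00fe006900aa002000b600e500cf00eb00a400fc00bd000400c0000000880004) (Net.cons (nat_lit 16) (nat_lit 0x500003595000024ac0000a82c0000a40e0000222100008733000098bd00008000) (Net.cons (nat_lit 32) (nat_lit 0xc144200000000000027909c6000000005bd8513a000000000002cf0c) (Net.cons (nat_lit 64) (nat_lit 0xc2edb30dd054fed000000000000000000000000000050a2) (Net.cons (nat_lit 128) (nat_lit 0x99a43dedf59b42ace54be6d82a87c6e5)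 (Net.cons (nat_lit 256) (nat_lit 524271) (Net.cons (nat_lit 128) (nat_lit 249315) (Net.cons (nat_lit 64) (nat_lit 0x1acd7b18a53875d2000000000000000019e94e1d6699e926) (Net.cons (nat_lit 32) (nat_lit 0x4a67c44900000000ffcd9c9600000000d07f64a50000000065c3c104) (Net.cons (nat_lit 16) (nat_lit 0x70000362e0000bce50000491a000061c10000188300000edd0000dc980000c4ec) (Net.cons (nat_lit 8) (nat_lit 0x2f007a00fb00c7008300fb002200ac001e008c0034000600ac008100b1002500c5) (Net.cons (nat_lit 4) (nat_lit 0x601050c0d07080d030b0a0d0f0502010f00060c0e010b0506000804030608060407) (Net.cons (nat_lit 2) (nat_lit 0x130120303021020232101330130110320302020113030100112211020212221302312) (Net.cons (nat_lit 1) (nat_lit 0x51014144401104555014515410455005044014551140414141050515414104004440) Net.nil)))))))))))))))))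

theorem t_g21_ok : Net.ok 275 t_g21 = true := by decide +kernel

noncomputable def t_g22 : Net := (Net.cons (nat_lit 1) (nat_lit 0x14115150004051445454405555001401414555444505415510541541150111001451) (Net.cons (nat_lit 2) (nat_lit 0x120203132311322303330103322121111111233002201021310230113023302222310) (Net.cons (nat_lit 4) (nat_lit 0x10f000207090b020104030605020e0d040d0204090c06000d02060d0601010b0903) (Net.cons (nat_lit 8) (nat_lit 0x780042001500d200f7004500f2007e00660091005e00b5003f001600a300150002) (Net.cons (nat_lit 16) (nat_lit 0x300009988000072d70000cf04000023ac000064c6000034cc00000bd200002600) (Net.cons (nat_lit 32) (nat_lit 0x365929c00000000030b404b000000000801701830000000000008010) (Net.cons (nat_lit 64) (nat_lit 0x2102b0080426472e00000000000000000000000000060124) (Net.cons (nat_lit 128) (nat_lit 0xc2c1bc622cd2794dbb9e063e8a35df29) (Net.cons (nat_lit 256) (nat_lit 524095) (Net.cons (nat_lit 128) (nat_lit 107474) (Net.cons (nat_lit 64) (nat_lit 0x87585ebd5fc432220000000000000000111dd14dc46c69bc)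 (Net.cons (nat_lit 32) (nat_lit 0x16737dba00000000a1450242000000004090366b00000000b97c4744) (Net.cons (nat_lit 16) (nat_lit 0x20000209100001e2e0000644800004d580000084e000066de000010c500006c12) (Net.cons (nat_lit 8) (nat_lit 0x3d006100e700e400ed008800430040000d009400ad00810043006f001100f60018) (Net.cons (nat_lit 4) (nat_lit 0xd0b090906030a0b0001020e070d0c01050d0f0b09090209020e0f0c030f0400080a) (Net.cons (nat_lit 2) (nat_lit 0x32032113310132211113311013232101203110112322212020311123222200132130) (Net.cons (nat_lit 1) (nat_lit 0x5415110015114550055010045404050040501404551104051015401500015001515) Net.nil)))))))))))))))))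

theorem t_g22_ok : Net.ok 275 t_g22 = true := by decide +kernel

noncomputable def t_g23 : Net := (Net.cons (nat_lit 1) (nat_lit 0x51041115510114514140551155555500405050114441510001055504144440004101) (Net.cons (nat_lit 2) (nat_lit 0x30010031202220010123032212332111130230201220222332000003300120202022) (Net.cons (nat_lit 4) (nat_lit 0xf090f0c080509050802030a0d0f090c0a05070e0202020b01040104010905050201) (Net.cons (nat_lit 8) (nat_lit 0xb10004000200bc0042000000ad00d9000e00b300c00079008c002f001b00410003) (Net.cons (nat_lit 16) (nat_lit 0x5000093020000b1ac000099b000004784000023c000005982000058f000008038) (Net.cons (nat_lit 32) (nat_lit 0x926128d300000000ca57a9be00000000401983620000000000020404) (Net.cons (nat_lit 64) (nat_lit 0x445620015400653400000000000000000000000000002508) (Net.cons (nat_lit 128) (nat_lit 0xcd98a0da02b55f3d81ce5cb954011759) (Net.cons (nat_lit 256) (nat_lit 260095) (Net.cons (nat_lit 128) (nat_lit 507658) (Net.cons (nat_lit 64) (nat_lit 0xbc30e39bb22b18ea0000000000000000a116430bdae21b0d)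 (Net.cons (nat_lit 32) (nat_lit 0x8046298f00000000311f004c000000008427bbb800000000ea83b62f) (Net.cons (nat_lit 16) (nat_lit 0x40000baa7000065190000b7dc0000fdf600000bf70000f46a0000d57800007d8f) (Net.cons (nat_lit 8) (nat_lit 0x95008b009e0027004f0096004b000600a500930047009b005e009b0018001c00e6) (Net.cons (nat_lit 4) (nat_lit 0x6090f0b0f0d0a0005070c030e00040702070c030b03050b0a06030f080a080d0805) (Net.cons (nat_lit 2) (nat_lit 0x132023221100331011322310101222100110023220111230003223221111000021112) (Net.cons (nat_lit 1) (nat_lit 0x50044100515514440450040405155440550554555540055114544454140015014515) Net.nil)))))))))))))))))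

theorem t_g23_ok : Net.ok 275 t_g23 = true := by decide +kernel

noncomputable def t_V24 : List Net := [t_g21, t_g22, t_g23]

theorem t_V24_ok : okE 275 t_V24 = true := (okE_cons.2 ⟨t_g21_ok, (okE_cons.2 ⟨t_g22_ok, (okE_cons.2 ⟨t_g23_ok, (okE_nil 275)⟩)⟩)⟩)

noncomputable def t_V26 : List Net := [t_g21]

theorem t_V26_ok : okE 275 t_V26 = true := (okE_cons.2 ⟨t_g21_ok, (okE_nil 275)⟩)

noncomputable def t_g28 : Net := (Net.cons (nat_lit 1) (nat_lit 0x51454105000504544504055514550100551454411105545041405040550115454114) (Net.cons (nat_lit 2) (nat_lit 0x300233332331303022211000100013231103310233022322103031020322031010) (Net.cons (nat_lit 4) (nat_lit 0x50008060c0804010b070f0a0d0d020f0b050901050703010e0506010e0904040600) (Net.cons (nat_lit 8) (nat_lit 0x7a00410080003d002e00f700570065003700c200a80017000c004a000c00840000) (Net.cons (nat_lit 16) (nat_lit 0x100000b510000478b0000e9280000e79c000019af000021e10000c80900004000) (Net.cons (nat_lit 32) (nat_lit 0x95d0222c00000000030bf674000000008c069a940000000000063048)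 (Net.cons (nat_lit 64) (nat_lit 0x1c44910114810f2c000000000000000000000000000068b3) (Net.cons (nat_lit 128) (nat_lit 0xa8d7cb6535524cd0f63110ae69fd0ce5) (Net.cons (nat_lit 256) (nat_lit 524287) (Net.cons (nat_lit 128) (nat_lit 437146) (Net.cons (nat_lit 64) (nat_lit 0x962ccb1b0912ae7c00000000000000003895c6355aa2d611) (Net.cons (nat_lit 32) (nat_lit 0x4fcaf26800000000e462952500000000ba2a5e34000000003de6d282) (Net.cons (nat_lit 16) (nat_lit 0x10000ea410000c1290000f32700004439000003440000a9b00000faf20000dc8a) (Net.cons (nat_lit 8) (nat_lit 0xf100990040004f002100ff0021002e005700e300ea0091004e0020002200e5003c) (Net.cons (nat_lit 4) (nat_lit 0x90f0005050f0c0d030e0e0f070305030f0f01010802090d0c0c0c010e06090b0500) (Net.cons (nat_lit 2) (nat_lit 0x103302222313013223323021131212202203313311333022021201301322133112110) (Net.cons (nat_lit 1) (nat_lit 0x100015100410045410414051440415405505101410144141501004544410114400554) Net.nil)))))))))))))))))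

theorem t_g28_ok : Net.ok 275 t_g28 = true := by decide +kernel

noncomputable def t_g29 : Net := (Net.cons (nat_lit 1) (nat_lit 0x101051144414510440550011544444501150500004044010545011000100044040040) (Net.cons (nat_lit 2) (nat_lit 0x22120021311033003210013222002311220213300310103022301032101022021120) (Net.cons (nat_lit 4) (nat_lit 0x903040f05000b0e060805000d000f090302060605090f090a000802040a080500) (Net.cons (nat_lit 8) (nat_lit 0xcb00cf009400a000f100c50004001e006c001200fc0088008300a4004600120004) (Net.cons (nat_lit 16) (nat_lit 0x40000367b00006c8c0000a9f60000c2520000c50900009c6d0000308000004020) (Net.cons (nat_lit 32) (nat_lit 0xcc92ca690000000066a6e147000000002281d202000000000004e2a0) (Net.cons (nat_lit 64) (nat_lit 0x801641c4543620cc00000000000000000000000000014049) (Net.cons (nat_lit 128) (nat_lit 0x88863c79037e1c4ba362222c5c0a204) (Net.cons (nat_lit 256) (nat_lit 387821) (Net.cons (nat_lit 128) (nat_lit 45832) (Net.cons (nat_lit 64) (nat_lit 0x48928b9a7876647b00000000000000000d54da163e054259)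 (Net.cons (nat_lit 32) (nat_lit 0xda868a3500000000e626a1d300000000228992ca000000008060c6a4) (Net.cons (nat_lit 16) (nat_lit 0x2000037730000283c0000ed6a0000a21b0000d5570000dca1000050dc00004022) (Net.cons (nat_lit 8) (nat_lit 0x8e00cf00d8002000b100c500d0003e002c005200fc00e100c300c4000600d60024) (Net.cons (nat_lit 4) (nat_lit 0xd07040b0104020a020801000d040f090702060205090b0d0a000802040a0d0508) (Net.cons (nat_lit 2) (nat_lit 0x23020021321033112210013332012310220213301310102023301022101022121120) (Net.cons (nat_lit 1) (nat_lit 0x100051544514110000550011444044505150500004144411545011000100044050040) Net.nil)))))))))))))))))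

theorem t_g29_ok : Net.ok 275 t_g29 = true := by decide +kernel

noncomputable def t_g30 : Net := (Net.cons (nat_lit 1) (nat_lit 0x105110510441054111401154010405101501440555444045001515005404451515550) (Net.cons (nat_lit 2) (nat_lit 0x3323222201110000323010032113211221031122222311103022121212200101230) (Net.cons (nat_lit 4) (nat_lit 0xc08010305010c060801090c0a0002010d030b0400070e010d0a060609050b010107) (Net.cons (nat_lit 8) (nat_lit 0x4300e1009d0074006500be001200d30083001a00fe00de00a300a200c2004d0002) (Net.cons (nat_lit 16) (nat_lit 0x10000681e00003a2100006b90000015d0000005720000904000001f43000032e8) (Net.cons (nat_lit 32) (nat_lit 0x2412b528000000002b608a6c0000000010aae21d000000000000a002) (Net.cons (nat_lit 64) (nat_lit 0x1031060ca094f0a000000000000000000000000000004695) (Net.cons (nat_lit 128) (nat_lit 0x1d0267d239b54b0904bf68ae8f4618c0) (Net.cons (nat_lit 256) (nat_lit 458751) (Net.cons (nat_lit 128) (nat_lit 43633) (Net.cons (nat_lit 64) (nat_lit 0x1bc51d0187972c720000000000000000ca0a497bd1c28cbd)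 (Net.cons (nat_lit 32) (nat_lit 0x95cf22800000000f182986c0000000013aa17970000000047f0f400) (Net.cons (nat_lit 16) (nat_lit 0x400002f40000002a900003744000083f3000075d00000f97400005a6a0000e1cf) (Net.cons (nat_lit 8) (nat_lit 0xf600ab005a00f3006f005e00c1004100b9003800e600f4006600a800fa001d004a) (Net.cons (nat_lit 4) (nat_lit 0xd010f00050b0d080000010e0a0e0b0c00000d0e090a0d0306020c07040d0e040001) (Net.cons (nat_lit 2) (nat_lit 0x23232221321003132332323222221220132331120133102113122230120231132320) (Net.cons (nat_lit 1) (nat_lit 0x4150455054145410451050411110504540515454554114105545450415510454) Net.nil)))))))))))))))))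

theorem t_g30_ok : Net.ok 275 t_g30 = true := by decide +kernel

noncomputable def t_V31 : List Net := [t_g28, t_g29, t_g30]

theorem t_V31_ok : okE 275 t_V31 = true := (okE_cons.2 ⟨t_g28_ok, (okE_cons.2 ⟨t_g29_ok, (okE_cons.2 ⟨t_g30_ok, (okE_nil 275)⟩)⟩)⟩)

noncomputable def t_g33 : Net := (Net.cons (nat_lit 1) (nat_lit 0x144111450101415441455005510044540101151104554100404051040541010000400) (Net.cons (nat_lit 2) (nat_lit 0x113330331031133102331311301110212213323030101221110220100000110200000) (Net.cons (nat_lit 4) (nat_lit 0x90a0f0d040709060002010d090308050804000105040a000a0e00010300030a0301) (Net.cons (nat_lit 8) (nat_lit 0x6400190001001300fe00b9005a00200018000f005000f4009f00a70055004a0000) (Net.cons (nat_lit 16) (nat_lit 0x7000058ea000063b70000a99000002b06000036e100003ea400000e1200008420) (Net.cons (nat_lit 32) (nat_lit 0xac77c30500000000401825ea000000007010e2100000000000076d28) (Net.cons (nat_lit 64) (nat_lit 0x448751500405512c00000000000000000000000000045134)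 (Net.cons (nat_lit 128) (nat_lit 0x64c814101eb0a1001a27e76c281829a5) (Net.cons (nat_lit 256) (nat_lit 523773) (Net.cons (nat_lit 128) (nat_lit 479498) (Net.cons (nat_lit 64) (nat_lit 0xf23e2dc52c365be20000000000000000e41167a116c48cbb) (Net.cons (nat_lit 32) (nat_lit 0xbb5dd3d800000000e27a56ad0000000076b7361900000000c84e8cc5) (Net.cons (nat_lit 16) (nat_lit 0x400006b6a0000d6ee00009b9f0000dd960000a620000046b9000017360000720c) (Net.cons (nat_lit 8) (nat_lit 0x7f004c00b700e300850028004e00b9006a00ad009e00c0004d006700f900c3004c) (Net.cons (nat_lit 4) (nat_lit 0xd0e0d0c090c0e060b05070c070e000a08070d05070e0800040700070d0303020c0f) (Net.cons (nat_lit 2) (nat_lit 0x123213202232331022201211201211031333210223311201332112122213333232122) (Net.cons (nat_lit 1) (nat_lit 0x1455055051015144001544411044140415444105504440145404004154154514454) Net.nil)))))))))))))))))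

theorem t_g33_ok : Net.ok 275 t_g33 = true := by decide +kernel

noncomputable def t_V34 : List Net := [t_g33]

theorem t_V34_ok : okE 275 t_V34 = true := (okE_cons.2 ⟨t_g33_ok, (okE_nil 275)⟩)

noncomputable def t_g36 : Net := (Net.cons (nat_lit 1) (nat_lit 0x45005411514551555414414105514011101000504104505005451404454015450140) (Net.cons (nat_lit 2) (nat_lit 0x123311313020223002303222002030330230102221120222200233312300212010010) (Net.cons (nat_lit 4) (nat_lit 0x4020d0f0a040e080202030d0f03050f00020301000f05060b050906080a04010503) (Net.cons (nat_lit 8) (nat_lit 0x9200410088004200c70057001b00e2001f00e30094002c0052003400c0000b0004) (Net.cons (nat_lit 16) (nat_lit 0x400002417000099440000089b0000404300002bd3000042310000261e0000b430) (Net.cons (nat_lit 32) (nat_lit 0x1b28524d000000000b07bec500000000f06aaba00000000000033169) (Net.cons (nat_lit 64) (nat_lit 0x81300260085892a900000000000000000000000000062482) (Net.cons (nat_lit 128) (nat_lit 0x93d2cf426c94500928e3c1b7b0c98aa8)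 (Net.cons (nat_lit 256) (nat_lit 507903) (Net.cons (nat_lit 128) (nat_lit 339760) (Net.cons (nat_lit 64) (nat_lit 0xd5bb4c07e7f56f9b000000000000000074fc68bb96c63481) (Net.cons (nat_lit 32) (nat_lit 0x5fd0206100000000e72a960400000000b03ef169000000000ccba265) (Net.cons (nat_lit 16) (nat_lit 0x100006b9e00004baf0000276300006156000027970000839000006a8e00002074) (Net.cons (nat_lit 8) (nat_lit 0xb0058004100ad005c00eb00ad00e300f200f7004b0067004b002a00a100b6004c) (Net.cons (nat_lit 4) (nat_lit 0xc0a0f030f060e0005000b040700080b0e0c05030701000c03050f02090a0e0a0d03) (Net.cons (nat_lit 2) (nat_lit 0x3120320312333013331013331310132023230021113022012103202301222020030) (Net.cons (nat_lit 1) (nat_lit 0x15050445050054504145544151501511511505500415551044551044050054454044) Net.nil)))))))))))))))))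

theorem t_g36_ok : Net.ok 275 t_g36 = true := by decide +kernel

noncomputable def t_g37 : Net := (Net.cons (nat_lit 1) (nat_lit 0x4555545050445044550144551410540501410055445010115140415111415101104) (Net.cons (nat_lit 2) (nat_lit 0x12230233002112021130203330132230232220103031312023022223231210020012) (Net.cons (nat_lit 4) (nat_lit 0xf0309030a020c0100090c02070a0401070001070a010300050101000e0009000201) (Net.cons (nat_lit 8) (nat_lit 0xc9003f00a800d50080008000b8005300fb00c30065008100020039004300ea0004) (Net.cons (nat_lit 16) (nat_lit 0x5000066220000e48600008f86000044c000001ceb000048f40000100400004cd0) (Net.cons (nat_lit 32) (nat_lit 0xd76b6a1800000000bf62855c0000000090b82665000000000002147a) (Net.cons (nat_lit 64) (nat_lit 0xa0088c026227a00000000000000000000000000000a82) (Net.cons (nat_lit 128) (nat_lit 0xa00b709b17ec34118670c643ea88e2f2) (Net.cons (nat_lit 256) (nat_lit 196607) (Net.cons (nat_lit 128) (nat_lit 216348) (Net.cons (nat_lit 64) (nat_lit 0x22eee72dfbe34a40000000000000000041b828d07621e7a5)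 (Net.cons (nat_lit 32) (nat_lit 0x23062a9c00000000317e73f800000000c03e26ae00000000e246ad68) (Net.cons (nat_lit 16) (nat_lit 0x7000030a00000b2c200002f6b0000aca70000644a00000fa5000015190000b194) (Net.cons (nat_lit 8) (nat_lit 0x7500bc001a00b6006500f300a200fc004100cb003a00210063004e004000d900a4) (Net.cons (nat_lit 4) (nat_lit 0x70f07080b010c01070e040c0a010e0e09080a03060a020b000d0e0304010a0b0b07) (Net.cons (nat_lit 2) (nat_lit 0x113332023032111023223103003233030320233002121101223133103022203121112) (Net.cons (nat_lit 1) (nat_lit 0x145054551404441110510554410411501115504010150011011401051515040155040) Net.nil)))))))))))))))))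

theorem t_g37_ok : Net.ok 275 t_g37 = true := by decide +kernel

noncomputable def t_V38 : List Net := [t_g36, t_g37]

theorem t_V38_ok : okE 275 t_V38 = true := (okE_cons.2 ⟨t_g36_ok, (okE_cons.2 ⟨t_g37_ok, (okE_nil 275)⟩)⟩)

noncomputable def t_V40 : List Net := [t_g36]

theorem t_V40_ok : okE 275 t_V40 = true := (okE_cons.2 ⟨t_g36_ok, (okE_nil 275)⟩)

noncomputable def t_g42 : Net := (Net.cons (nat_lit 1) (nat_lit 0x104444054140550501505005145110544015555440150111440400404400400001000) (Net.cons (nat_lit 2) (nat_lit 0x223311313213032202010332321110100022212200223000112220023000020100) (Net.cons (nat_lit 4) (nat_lit 0x9020d03010703040e090c0f08030401030f0a05060705090802030800070d000804) (Net.cons (nat_lit 8) (nat_lit 0x8a001c00f9005a000d00d100180097000000e000150023009a009a0054008a0001) (Net.cons (nat_lit 16) (nat_lit 0x40000485c000016650000e5560000909b0000b0c50000f8840000c61200000580) (Net.cons (nat_lit 32) (nat_lit 0x1832420c000000007380b95b000000001402c28c0000000000041140)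 (Net.cons (nat_lit 64) (nat_lit 0xe160e0851809080100000000000000000000000000060052) (Net.cons (nat_lit 128) (nat_lit 0xc78ffa0e121e7a0028f41ad30a17d180) (Net.cons (nat_lit 256) (nat_lit 516055) (Net.cons (nat_lit 128) (nat_lit 446657) (Net.cons (nat_lit 64) (nat_lit 0xf068c6a63a312c2f000000000000000011044747c6d2049a) (Net.cons (nat_lit 32) (nat_lit 0x583e627c000000007388d93b000000003c2ee3e8000000004008f000) (Net.cons (nat_lit 16) (nat_lit 0x50000485d00009fe40000e5d20000929b0000b1d40000b8c10000871200004581) (Net.cons (nat_lit 8) (nat_lit 0xca001d00f900da008d00d100580096004100e100150063009e009a005700ca0001) (Net.cons (nat_lit 4) (nat_lit 0xd020d03010703040e0d0d0b08030405030f0a05060705090806030800070d040804) (Net.cons (nat_lit 2) (nat_lit 0x10223311313213032202011332321110100022312200223001112220033010020100) (Net.cons (nat_lit 1) (nat_lit 0x104444054140550501505005145510544015555440150111440400404400400001000) Net.nil)))))))))))))))))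

theorem t_g42_ok : Net.ok 275 t_g42 = true := by decide +kernel

noncomputable def t_g43 : Net := (Net.cons (nat_lit 1) (nat_lit 0x114550004504555005440154004000040401004445050104414500414501404414000) (Net.cons (nat_lit 2) (nat_lit 0x23332031110111032122120302132030332102102310210012032020212120232000) (Net.cons (nat_lit 4) (nat_lit 0xa0f0b010d0a01000e06080b01030a010c0908010c0a000c0b04070e000700040000) (Net.cons (nat_lit 8) (nat_lit 0x76008b002400d100ce00b700c0001b001e00500084003a0082006a0006008e0000) (Net.cons (nat_lit 16) (nat_lit 0x50000250a000005d10000999a00006800000022550000c8a50000840000004050) (Net.cons (nat_lit 32) (nat_lit 0x18a921200000000550b414300000000844412820000000000010350) (Net.cons (nat_lit 64) (nat_lit 0x990041200659310e0000000000000000000000000000020c) (Net.cons (nat_lit 128) (nat_lit 0x8880c65f0f47652f37588b7a781f2c47) (Net.cons (nat_lit 256) (nat_lit 487295) (Net.cons (nat_lit 128) (nat_lit 474183) (Net.cons (nat_lit 64) (nat_lit 0x890147a813d9328e00000000000000000b457a08c3e08a8c)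 (Net.cons (nat_lit 32) (nat_lit 0x309aced300000000276b11e300000000d70c56c30000000033030350) (Net.cons (nat_lit 16) (nat_lit 0x50000b58a000040910000d6be000028b000006e550000cbf50000cc4000005450) (Net.cons (nat_lit 8) (nat_lit 0x76009b00640093009e00b700c0005b001f001000b4007e00c2002a00c6008e0050) (Net.cons (nat_lit 4) (nat_lit 0xa0f0b050d0a01000e06080f01030a010c0908010c0e000c0b04070e000700040000) (Net.cons (nat_lit 2) (nat_lit 0x23332033110111032122120302132030332102102310210012032020212120232000) (Net.cons (nat_lit 1) (nat_lit 0x114550004504555005440154004000040401004445050104414500414501404414000) Net.nil)))))))))))))))))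

theorem t_g43_ok : Net.ok 275 t_g43 = true := by decide +kernel

noncomputable def t_V44 : List Net := [t_g37, t_g42, t_g43]

theorem t_V44_ok : okE 275 t_V44 = true := (okE_cons.2 ⟨t_g37_ok, (okE_cons.2 ⟨t_g42_ok, (okE_cons.2 ⟨t_g43_ok, (okE_nil 275)⟩)⟩)⟩)

noncomputable def t_g46 : Net := (Net.cons (nat_lit 1) (nat_lit 0x101541141550045014411540555405150004451115400501410510144014514451414) (Net.cons (nat_lit 2) (nat_lit 0x33202302132121010301103113111230312113032212010133310310301123000202) (Net.cons (nat_lit 4) (nat_lit 0xa02020a020a040a0407060b07050608040f020b0b0904080f0605030a0500090004) (Net.cons (nat_lit 8) (nat_lit 0xf200ce000f00bc000a005a0032004e00a00083008800240084005000a100800001) (Net.cons (nat_lit 16) (nat_lit 0x60000852f0000e13600001c4700006d82000027a20000383e0000b44800003200) (Net.cons (nat_lit 32) (nat_lit 0x4a1e1ed2000000000d438261000000007a27fa010000000000031c08) (Net.cons (nat_lit 64) (nat_lit 0xd3bc32860430136800000000000000000000000000019284)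 (Net.cons (nat_lit 128) (nat_lit 0x52805cdec52a69bc817f63405ad33d2a) (Net.cons (nat_lit 256) (nat_lit 524222) (Net.cons (nat_lit 128) (nat_lit 435145) (Net.cons (nat_lit 64) (nat_lit 0x447d10963813de6b0000000000000000179fba206c6a901d) (Net.cons (nat_lit 32) (nat_lit 0xefa270b0000000008e6804b8000000008c3fd0c10000000084963818) (Net.cons (nat_lit 16) (nat_lit 0x76e4000064830000b65600002f2f0000ab110000af280000366a0000b662) (Net.cons (nat_lit 8) (nat_lit 0x9000fe00e8003b002e00a9000200f60046002300d80037004c0054002d004000f7) (Net.cons (nat_lit 4) (nat_lit 0x9040a050906020a050a070e0a0b0904070f020b020a050b0f0102010c0304090404) (Net.cons (nat_lit 2) (nat_lit 0x33233122311320030333300202231312010121210003030110033002300010301202) (Net.cons (nat_lit 1) (nat_lit 0x110110551010141044454154455505015400114110414404515544010450050550410) Net.nil)))))))))))))))))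

theorem t_g46_ok : Net.ok 275 t_g46 = true := by decide +kernel

noncomputable def t_V47 : List Net := [t_g46, t_g42]

theorem t_V47_ok : okE 275 t_V47 = true := (okE_cons.2 ⟨t_g46_ok, (okE_cons.2 ⟨t_g42_ok, (okE_nil 275)⟩)⟩)

noncomputable def t_g49 : Net := (Net.cons (nat_lit 1) (nat_lit 0x4140541110415504100455011451141000444400050511111404050500451454040) (Net.cons (nat_lit 2) (nat_lit 0x130332202010301220302201310011223222032320201101321311312313002110002) (Net.cons (nat_lit 4) (nat_lit 0xd080801040000010c0f010c0e0a060e0604050500030e03090007090c0e0c0c0301) (Net.cons (nat_lit 8) (nat_lit 0x9100700007004f005800f80040004e002e004b00a900fd00080001004c001f0000) (Net.cons (nat_lit 16) (nat_lit 0x10000a9490000288200004a070000a690000051c6000092b00000c0260000c040) (Net.cons (nat_lit 32) (nat_lit 0xa58a620000000000b9e14d8c000000007c10cc83000000000000918c) (Net.cons (nat_lit 64) (nat_lit 0x14d32a0107db17010000000000000000000000000005881f) (Net.cons (nat_lit 128) (nat_lit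 0x79343a5b8526690de4e384e012de5294) (Net.cons (nat_lit 256) (nat_lit 515071) (Net.cons (nat_lit 128) (nat_lit 380550) (Net.cons (nat_lit 64) (nat_lit 0x3c85982525666efb00000000000000007d0ba6d791bdc212) (Net.cons (nat_lit 32) (nat_lit 0x92a84c4200000000118100c000000000ddb924cf00000000aba047ea) (Net.cons (nat_lit 16) (nat_lit 0x1f4700003c40000016520000e2a5000073de0000d37c0000afa7000000e6) (Net.cons (nat_lit 8) (nat_lit 0x56004c00680043002a004a003700e300a6000f006c001000c0004100bf003b0066) (Net.cons (nat_lit 4) (nat_lit 0x4080e080d0306080f03080b080e01050a0f0b030a05030d000a0b0b0f05000c0501) (Net.cons (nat_lit 2) (nat_lit 0x23313012001113203003320112103230311120321303032300022222112323222212) (Net.cons (nat_lit 1) (nat_lit 0x44515544404401504544101555000551541501405451150111105014504500140504) Net.nil)))))))))))))))))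

theorem t_g49_ok : Net.ok 275 t_g49 = true := by decide +kernel

noncomputable def t_V50 : List Net := [t_g49, t_g49]

theorem t_V50_ok : okE 275 t_V50 = true := (okE_cons.2 ⟨t_g49_ok, (okE_cons.2 ⟨t_g49_ok, (okE_nil 275)⟩)⟩)

noncomputable def t_V52 : List Net := [t_g49]

theorem t_V52_ok : okE 275 t_V52 = true := (okE_cons.2 ⟨t_g49_ok, (okE_nil 275)⟩)

noncomputable def t_E8 : List Net := []

theorem t_E8_ok : okE 275 t_E8 = true := (okE_nil 275)

noncomputable def t_G7 : List Net := [t_g49]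

theorem t_G7_ok : okE 275 t_G7 = true := (okE_cons.2 ⟨t_g49_ok, (okE_nil 275)⟩)

noncomputable def t_E7 : List Net := [t_g49]

theorem t_E7_ok : okE 275 t_E7 = true := (okE_cons.2 ⟨t_g49_ok, (okE_nil 275)⟩)

noncomputable def t_G6 : List Net := [t_g46, t_g42, t_g49]

theorem t_G6_ok : okE 275 t_G6 = true := (okE_cons.2 ⟨t_g46_ok, (okE_cons.2 ⟨t_g42_ok, (okE_cons.2 ⟨t_g49_ok, (okE_nil 275)⟩)⟩)⟩)

noncomputable def t_E6 : List Net := [t_g46, t_g42, t_g37, t_g43, t_g49]

theorem t_E6_ok : okE 275 t_E6 = true := (okE_cons.2 ⟨t_g46_ok, (okE_cons.2 ⟨t_g42_ok, (okE_cons.2 ⟨t_g37_ok, (okE_cons.2 ⟨t_g43_ok, (okE_cons.2 ⟨t_g49_ok, (okE_nil 275)⟩)⟩)⟩)⟩)⟩)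

noncomputable def t_G5 : List Net := [t_g36, t_g46, t_g42, t_g37, t_g43, t_g49]

theorem t_G5_ok : okE 275 t_G5 = true := (okE_cons.2 ⟨t_g36_ok, (okE_cons.2 ⟨t_g46_ok, (okE_cons.2 ⟨t_g42_ok, (okE_cons.2 ⟨t_g37_ok, (okE_cons.2 ⟨t_g43_ok, (okE_cons.2 ⟨t_g49_ok, (okE_nil 275)⟩)⟩)⟩)⟩)⟩)⟩)

noncomputable def t_E5 : List Net := [t_g36, t_g46, t_g42, t_g37, t_g43, t_g49]

theorem t_E5_ok : okE 275 t_E5 = true := (okE_cons.2 ⟨t_g36_ok, (okE_cons.2 ⟨t_g46_ok, (okE_cons.2 ⟨t_g42_ok, (okE_cons.2 ⟨t_g37_ok, (okE_cons.2 ⟨t_g43_ok, (okE_cons.2 ⟨t_g49_ok, (okE_nil 275)⟩)⟩)⟩)⟩)⟩)⟩)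

noncomputable def t_G4 : List Net := [t_g33, t_g36, t_g46, t_g42, t_g37, t_g43, t_g49]

theorem t_G4_ok : okE 275 t_G4 = true := (okE_cons.2 ⟨t_g33_ok, (okE_cons.2 ⟨t_g36_ok, (okE_cons.2 ⟨t_g46_ok, (okE_cons.2 ⟨t_g42_ok, (okE_cons.2 ⟨t_g37_ok, (okE_cons.2 ⟨t_g43_ok, (okE_cons.2 ⟨t_g49_ok, (okE_nil 275)⟩)⟩)⟩)⟩)⟩)⟩)⟩)

noncomputable def t_E4 : List Net := [t_g33, t_g28, t_g29, t_g30, t_g36, t_g46, t_g42, t_g37, t_g43, t_g49]

theorem t_E4_ok : okE 275 t_E4 = true := (okE_cons.2 ⟨t_g33_ok, (okE_cons.2 ⟨t_g28_ok, (okE_cons.2 ⟨t_g29_ok, (okE_cons.2 ⟨t_g30_ok, (okE_cons.2 ⟨t_g36_ok, (okE_cons.2 ⟨t_g46_ok, (okE_cons.2 ⟨t_g42_ok, (okE_cons.2 ⟨t_g37_ok, (okE_cons.2 ⟨t_g43_ok, (okE_cons.2 ⟨t_g49_ok, (okE_nil 275)⟩)⟩)⟩)⟩)⟩)⟩)⟩)⟩)⟩)⟩)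

noncomputable def t_G3 : List Net := [t_g21, t_g33, t_g28, t_g29, t_g30, t_g36, t_g46, t_g42, t_g37, t_g43, t_g49]

theorem t_G3_ok : okE 275 t_G3 = true := (okE_cons.2 ⟨t_g21_ok, (okE_cons.2 ⟨t_g33_ok, (okE_cons.2 ⟨t_g28_ok, (okE_cons.2 ⟨t_g29_ok, (okE_cons.2 ⟨t_g30_ok, (okE_cons.2 ⟨t_g36_ok, (okE_cons.2 ⟨t_g46_ok, (okE_cons.2 ⟨t_g42_ok, (okE_cons.2 ⟨t_g37_ok, (okE_cons.2 ⟨t_g43_ok, (okE_cons.2 ⟨t_g49_ok, (okE_nil 275)⟩)⟩)⟩)⟩)⟩)⟩)⟩)⟩)⟩)⟩)⟩)

noncomputable def t_E3 : List Net := [t_g21, t_g22, t_g23, t_g33, t_g28, t_g29, t_g30, t_g36, t_g46, t_g42, t_g37, t_g43, t_g49]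

theorem t_E3_ok : okE 275 t_E3 = true := (okE_cons.2 ⟨t_g21_ok, (okE_cons.2 ⟨t_g22_ok, (okE_cons.2 ⟨t_g23_ok, (okE_cons.2 ⟨t_g33_ok, (okE_cons.2 ⟨t_g28_ok, (okE_cons.2 ⟨t_g29_ok, (okE_cons.2 ⟨t_g30_ok, (okE_cons.2 ⟨t_g36_ok, (okE_cons.2 ⟨t_g46_ok, (okE_cons.2 ⟨t_g42_ok, (okE_cons.2 ⟨t_g37_ok, (okE_cons.2 ⟨t_g43_ok, (okE_cons.2 ⟨t_g49_ok, (okE_nil 275)⟩)⟩)⟩)⟩)⟩)⟩)⟩)⟩)⟩)⟩)⟩)⟩)⟩)

noncomputable def t_G2 : List Net := [t_g18, t_g21, t_g22, t_g23, t_g33, t_g28, t_g29, t_g30, t_g36, t_g46, t_g42, t_g37, t_g43, t_g49]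

theorem t_G2_ok : okE 275 t_G2 = true := (okE_cons.2 ⟨t_g18_ok, (okE_cons.2 ⟨t_g21_ok, (okE_cons.2 ⟨t_g22_ok, (okE_cons.2 ⟨t_g23_ok, (okE_cons.2 ⟨t_g33_ok, (okE_cons.2 ⟨t_g28_ok, (okE_cons.2 ⟨t_g29_ok, (okE_cons.2 ⟨t_g30_ok, (okE_cons.2 ⟨t_g36_ok, (okE_cons.2 ⟨t_g46_ok, (okE_cons.2 ⟨t_g42_ok, (okE_cons.2 ⟨t_g37_ok, (okE_cons.2 ⟨t_g43_ok, (okE_cons.2 ⟨t_g49_ok, (okE_nil 275)⟩)⟩)⟩)⟩)⟩)⟩)⟩)⟩)⟩)⟩)⟩)⟩)⟩)⟩)

noncomputable def t_E2 : List Net := [t_g18, t_g14, t_g15, t_g21, t_g22, t_g23, t_g33, t_g28, t_g29, t_g30, t_g36, t_g46, t_g42, t_g37, t_g43, t_g49]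

theorem t_E2_ok : okE 275 t_E2 = true := (okE_cons.2 ⟨t_g18_ok, (okE_cons.2 ⟨t_g14_ok, (okE_cons.2 ⟨t_g15_ok, (okE_cons.2 ⟨t_g21_ok, (okE_cons.2 ⟨t_g22_ok, (okE_cons.2 ⟨t_g23_ok, (okE_cons.2 ⟨t_g33_ok, (okE_cons.2 ⟨t_g28_ok, (okE_cons.2 ⟨t_g29_ok, (okE_cons.2 ⟨t_g30_ok, (okE_cons.2 ⟨t_g36_ok, (okE_cons.2 ⟨t_g46_ok, (okE_cons.2 ⟨t_g42_ok, (okE_cons.2 ⟨t_g37_ok, (okE_cons.2 ⟨t_g43_ok, (okE_cons.2 ⟨t_g49_ok, (okE_nil 275)⟩)⟩)⟩)⟩)⟩)⟩)⟩)⟩)⟩)⟩)⟩)⟩)⟩)⟩)⟩)⟩)

noncomputable def t_G1 : List Net := [t_g11, t_g18, t_g14, t_g15, t_g21, t_g22, t_g23, t_g33, t_g28, t_g29, t_g30, t_g36, t_g46, t_g42, t_g37, t_g43, t_g49]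

theorem t_G1_ok : okE 275 t_G1 = true := (okE_cons.2 ⟨t_g11_ok, (okE_cons.2 ⟨t_g18_ok, (okE_cons.2 ⟨t_g14_ok, (okE_cons.2 ⟨t_g15_ok, (okE_cons.2 ⟨t_g21_ok, (okE_cons.2 ⟨t_g22_ok, (okE_cons.2 ⟨t_g23_ok, (okE_cons.2 ⟨t_g33_ok, (okE_cons.2 ⟨t_g28_ok, (okE_cons.2 ⟨t_g29_ok, (okE_cons.2 ⟨t_g30_ok, (okE_cons.2 ⟨t_g36_ok, (okE_cons.2 ⟨t_g46_ok, (okE_cons.2 ⟨t_g42_ok, (okE_cons.2 ⟨t_g37_ok, (okE_cons.2 ⟨t_g43_ok, (okE_cons.2 ⟨t_g49_ok, (okE_nil 275)⟩)⟩)⟩)⟩)⟩)⟩)⟩)⟩)⟩)⟩)⟩)⟩)⟩)⟩)⟩)⟩)⟩)

noncomputable def t_E1 : List Net := [t_g11, t_g7, t_g8, t_g18, t_g14, t_g15, t_g21, t_g22, t_g23, t_g33, t_g28, t_g29, t_g30, t_g36, t_g46, t_g42, t_g37, t_g43, t_g49]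

theorem t_E1_ok : okE 275 t_E1 = true := (okE_cons.2 ⟨t_g11_ok, (okE_cons.2 ⟨t_g7_ok, (okE_cons.2 ⟨t_g8_ok, (okE_cons.2 ⟨t_g18_ok, (okE_cons.2 ⟨t_g14_ok, (okE_cons.2 ⟨t_g15_ok, (okE_cons.2 ⟨t_g21_ok, (okE_cons.2 ⟨t_g22_ok, (okE_cons.2 ⟨t_g23_ok, (okE_cons.2 ⟨t_g33_ok, (okE_cons.2 ⟨t_g28_ok, (okE_cons.2 ⟨t_g29_ok, (okE_cons.2 ⟨t_g30_ok, (okE_cons.2 ⟨t_g36_ok, (okE_cons.2 ⟨t_g46_ok, (okE_cons.2 ⟨t_g42_ok, (okE_cons.2 ⟨t_g37_ok, (okE_cons.2 ⟨t_g43_ok, (okE_cons.2 ⟨t_g49_ok, (okE_nil 275)⟩)⟩)⟩)⟩)⟩)⟩)⟩)⟩)⟩)⟩)⟩)⟩)⟩)⟩)⟩)⟩)⟩)⟩)⟩)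

noncomputable def t_G0 : List Net := [t_g4, t_g11, t_g7, t_g8, t_g18, t_g14, t_g15, t_g21, t_g22, t_g23, t_g33, t_g28, t_g29, t_g30, t_g36, t_g46, t_g42, t_g37, t_g43, t_g49]

theorem t_G0_ok : okE 275 t_G0 = true := (okE_cons.2 ⟨t_g4_ok, (okE_cons.2 ⟨t_g11_ok, (okE_cons.2 ⟨t_g7_ok, (okE_cons.2 ⟨t_g8_ok, (okE_cons.2 ⟨t_g18_ok, (okE_cons.2 ⟨t_g14_ok, (okE_cons.2 ⟨t_g15_ok, (okE_cons.2 ⟨t_g21_ok, (okE_cons.2 ⟨t_g22_ok, (okE_cons.2 ⟨t_g23_ok, (okE_cons.2 ⟨t_g33_ok, (okE_cons.2 ⟨t_g28_ok, (okE_cons.2 ⟨t_g29_ok, (okE_cons.2 ⟨t_g30_ok, (okE_cons.2 ⟨t_g36_ok, (okE_cons.2 ⟨t_g46_ok, (okE_cons.2 ⟨t_g42_ok, (okE_cons.2 ⟨t_g37_ok, (okE_cons.2 ⟨t_g43_ok, (okE_cons.2 ⟨t_g49_ok, (okE_nil 275)⟩)⟩)⟩)⟩)⟩)⟩)⟩)⟩)⟩)⟩)⟩)⟩)⟩)⟩)⟩)⟩)⟩)⟩)⟩)⟩)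

noncomputable def t_E0 : List Net := [t_g4, t_g1, t_g2, t_g3, t_g11, t_g7, t_g8, t_g18, t_g14, t_g15, t_g21, t_g22, t_g23, t_g33, t_g28, t_g29, t_g30, t_g36, t_g46, t_g42, t_g37, t_g43, t_g49]

theorem t_E0_ok : okE 275 t_E0 = true := (okE_cons.2 ⟨t_g4_ok, (okE_cons.2 ⟨t_g1_ok, (okE_cons.2 ⟨t_g2_ok, (okE_cons.2 ⟨t_g3_ok, (okE_cons.2 ⟨t_g11_ok, (okE_cons.2 ⟨t_g7_ok, (okE_cons.2 ⟨t_g8_ok, (okE_cons.2 ⟨t_g18_ok, (okE_cons.2 ⟨t_g14_ok, (okE_cons.2 ⟨t_g15_ok, (okE_cons.2 ⟨t_g21_ok, (okE_cons.2 ⟨t_g22_ok, (okE_cons.2 ⟨t_g23_ok, (okE_cons.2 ⟨t_g33_ok, (okE_cons.2 ⟨t_g28_ok, (okE_cons.2 ⟨t_g29_ok, (okE_cons.2 ⟨t_g30_ok, (okE_cons.2 ⟨t_g36_ok, (okE_cons.2 ⟨t_g46_ok, (okE_cons.2 ⟨t_g42_ok, (okE_cons.2 ⟨t_g37_ok, (okE_cons.2 ⟨t_g43_ok, (okE_cons.2 ⟨t_g49_ok, (okE_nil 275)⟩)⟩)⟩)⟩)⟩)⟩)⟩)⟩)⟩)⟩)⟩)⟩)⟩)⟩)⟩)⟩)⟩)⟩)⟩)⟩)⟩)⟩)⟩)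

noncomputable def t_g72 : Net := (Net.cons (nat_lit 1) (nat_lit 0x15505554455140515100441411451055555151145104504115045055141550051144) (Net.cons (nat_lit 2) (nat_lit 0x103201302021103030223121322123030210312320021003302121333113120013012) (Net.cons (nat_lit 4) (nat_lit 0x30100080b04040e070f040e060f0f0d0e0c080e01090505070409040a0e0c010500) (Net.cons (nat_lit 8) (nat_lit 0x6e002900fb00d400ef00cb009c00470092001d0060004e005600da005700d10002) (Net.cons (nat_lit 16) (nat_lit 0x500001814000049820000ef0d00004c92000055b70000a2600000c6070000c430) (Net.cons (nat_lit 32) (nat_lit 0x91c555100000000028d234990000000008440de10000000000021660) (Net.cons (nat_lit 64) (nat_lit 0x8026eaa908648b9100000000000000000000000000003c2d) (Net.cons (nat_lit 128) (nat_lit 0x40d2f1747a077caed1a50f9f15f94398) (Net.cons (nat_lit 256) (nat_lit 524285) (Net.cons (nat_lit 128) (nat_lit 42829) (Net.cons (nat_lit 64) (nat_lit 0xe020f6a1590f47fe00000000000000002d037402679b6191) (Net.cons (nat_lit 32) (nat_lit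 0xc56cd3bc00000000b55447ab00000000de5c04b50000000075f0215c) (Net.cons (nat_lit 16) (nat_lit 0x100007aab0000d9260000dbeb0000192a0000402500006e6500004fb60000a2e4) (Net.cons (nat_lit 8) (nat_lit 0xa400d9007b002f005b00ba00740049004b00cb00fb00cd00c800cf00d900e000c2) (Net.cons (nat_lit 4) (nat_lit 0x9030a0407040f0c0802000b08000f0d07010708080601010b02090f080407090c02) (Net.cons (nat_lit 2) (nat_lit 0x20103131030131102222012233131003200122001021120330200023221030213100) (Net.cons (nat_lit 1) (nat_lit 0x54514404554414554414015401511054050015005140045414055411454055110100) Net.nil)))))))))))))))))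

theorem t_g72_ok : Net.ok 275 t_g72 = true := by decide +kernel

noncomputable def t_g73 : Net := (Net.cons (nat_lit 1) (nat_lit 0x155105441111005014105140141401155404544510505101150040454001514550414) (Net.cons (nat_lit 2) (nat_lit 0x101030222000202212221131322031101012212210330130323130322300030013100) (Net.cons (nat_lit 4) (nat_lit 0x3080801040d030504050d060601010f0f0d070f0f0400060703020d06090a0001) (Net.cons (nat_lit 8) (nat_lit 0x3c004b0045003600a80041007100b5002d00a100150026005100a600bd00170004) (Net.cons (nat_lit 16) (nat_lit 0x44f40000e31b0000fcab0000281d000032520000129b0000b68b00003858) (Net.cons (nat_lit 32) (nat_lit 0xcc4604e900000000838fdab60000000004b420b00000000000048715) (Net.cons (nat_lit 64) (nat_lit 0x16e48584f2a61c97000000000000000000000000000672c8) (Net.cons (nat_lit 128) (nat_lit 0x262190ec0ad1ba5931ce5572f471d390) (Net.cons (nat_lit 256) (nat_lit 524255) (Net.cons (nat_lit 128) (nat_lit 464406) (Net.cons (nat_lit 64) (nat_lit 0x922b113cc14dc23a00000000000000008a13deaf0caeb044)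 (Net.cons (nat_lit 32) (nat_lit 0x75b5cde300000000206bc35f00000000afe1d33000000000b19500ff) (Net.cons (nat_lit 16) (nat_lit 0x1000038390000990c0000ccee00007907000039d3000062e60000babf0000ac02) (Net.cons (nat_lit 8) (nat_lit 0x33001e00c80021000900dd00230090007e0004003d009b0098002700ee007300ed) (Net.cons (nat_lit 4) (nat_lit 0x908050d06090800060804000d0403030f040d050d0d0d040507020502030307080d) (Net.cons (nat_lit 2) (nat_lit 0x102112102132332301221120012210302212112213323221020232101303021101022) (Net.cons (nat_lit 1) (nat_lit 0x140510451155111041454140404101144005155404504410555011050101510541454) Net.nil)))))))))))))))))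

theorem t_g73_ok : Net.ok 275 t_g73 = true := by decide +kernel

noncomputable def t_g74 : Net := (Net.cons (nat_lit 1) (nat_lit 0x111144505501115440110010444115111041104440051554145151554045151114010) (Net.cons (nat_lit 2) (nat_lit 0x3101003333112210311001013223023203310133313032201301331322031130322) (Net.cons (nat_lit 4) (nat_lit 0x80400080e0f030a050b08030c0f040a070408010406000e020800070704040201) (Net.cons (nat_lit 8) (nat_lit 0x290036008b007c001200050050007100f4002700b00036008800b1009800220003) (Net.cons (nat_lit 16) (nat_lit 0x5000018830000fe7e00009a21000052370000cecf000060230000b58600000368) (Net.cons (nat_lit 32) (nat_lit 0x351181ea0000000001ed270f00000000557a0c01000000000006f809) (Net.cons (nat_lit 64) (nat_lit 0x110a245c4a8c6eb00000000000000000000000000019aa4) (Net.cons (nat_lit 128) (nat_lit 0x4eaec25e30e015a4cb7c6893f70cf52b) (Net.cons (nat_lit 256) (nat_lit 524271) (Net.cons (nat_lit 128) (nat_lit 221039) (Net.cons (nat_lit 64) (nat_lit 0xc2805ff41d2fe2f700000000000000006320551aa0f75363)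 (Net.cons (nat_lit 32) (nat_lit 0xc2ac9d9500000000d234955f00000000edb9af9900000000bdc594c7) (Net.cons (nat_lit 16) (nat_lit 0x500009ce70000bc3c0000fe7b0000de490000e83c000013e40000e6870000c4c8) (Net.cons (nat_lit 8) (nat_lit 0xb9004d003400f400a800a400ee00fb0002004b0030006b0002004100e400b80066) (Net.cons (nat_lit 4) (nat_lit 0x20f0e080b00030c070209020e04050e00020f0e080a09060805070b0707000d050d) (Net.cons (nat_lit 2) (nat_lit 0x130010301010323031020021220302330101303303202222203202010300033022300) (Net.cons (nat_lit 1) (nat_lit 0x105111044014501455054451141005110400404054015505045450140010405411404) Net.nil)))))))))))))))))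

theorem t_g74_ok : Net.ok 275 t_g74 = true := by decide +kernel

noncomputable def t_g75 : Net := (Net.cons (nat_lit 1) (nat_lit 0x1515054041151404504014010444114401100111510404451151454544044111011) (Net.cons (nat_lit 2) (nat_lit 0x133221321010212320023021101212030130011221010030223321031302100320110) (Net.cons (nat_lit 4) (nat_lit 0x8090f0f07080003050208020e0c0e0309080b0303040d090a000c090f0903020503) (Net.cons (nat_lit 8) (nat_lit 0xe90004008400cc004000f700a400e8000600c700c200b600c3004600ab00380003) (Net.cons (nat_lit 16) (nat_lit 0x20bd000065a70000b626000068ad00003fa30000034600001ca800001848) (Net.cons (nat_lit 32) (nat_lit 0xfa34abb400000000b90080f4000000000626bcb2000000000000143e) (Net.cons (nat_lit 64) (nat_lit 0xb344987f40c9900200000000000000000000000000041264) (Net.cons (nat_lit 128) (nat_lit 0xf75ebbfafc6a84b30c2206850e91b083) (Net.cons (nat_lit 256) (nat_lit 507647) (Net.cons (nat_lit 128) (nat_lit 429469) (Net.cons (nat_lit 64) (nat_lit 0xc4b9628a198aa5340000000000000000c8a5c25c737a299c)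 (Net.cons (nat_lit 32) (nat_lit 0x9ef859fd00000000b10db5350000000036eb101800000000926f27af) (Net.cons (nat_lit 16) (nat_lit 0x10000d470000073ae0000ae06000000090000af050000e243000046960000020b) (Net.cons (nat_lit 8) (nat_lit 0xbc00ec002900cb005c009600d200da00ff008a004d00e600920050000400d20083) (Net.cons (nat_lit 4) (nat_lit 0x1060f0f0e060b0d0e08080f0304090c060a020800030f030803020601020d0d07) (Net.cons (nat_lit 2) (nat_lit 0x11303331021020021323123233222332003220210203313332202010331002023120) (Net.cons (nat_lit 1) (nat_lit 0x40001105100005155000410401411405114501544010101440051155410004404005) Net.nil)))))))))))))))))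

theorem t_g75_ok : Net.ok 275 t_g75 = true := by decide +kernel

noncomputable def t_g76 : Net := (Net.cons (nat_lit 1) (nat_lit 0x4515055145415440000151514405044555050050101050114054014004515040540) (Net.cons (nat_lit 2) (nat_lit 0x13030223330303323120200222303302332131333200223022232300113002233110) (Net.cons (nat_lit 4) (nat_lit 0x6060104040b050e010c050d060b0709080403060a010a010f08060c0d0402000802) (Net.cons (nat_lit 8) (nat_lit 0x5c002800bb00bd00fb006d0075008b00c300210006007a003400b4001200280002) (Net.cons (nat_lit 16) (nat_lit 0x300004d4f000012280000d5f5000073d80000c62100003c10000019e500008848) (Net.cons (nat_lit 32) (nat_lit 0xc0109e260000000098dd6c94000000004017770800000000000402d1) (Net.cons (nat_lit 64) (nat_lit 0xd935e288506024640000000000000000000000000001162b) (Net.cons (nat_lit 128) (nat_lit 0xa29d6f6beebbd2605de09dd0b45bcc30) (Net.cons (nat_lit 256) (nat_lit 524031) (Net.cons (nat_lit 128) (nat_lit 127165) (Net.cons (nat_lit 64) (nat_lit 0x3e87590c4adaa08c0000000000000000d54257f4dfa4135a)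 (Net.cons (nat_lit 32) (nat_lit 0x37a5aed6000000000bfbccd6000000006c593187000000001ca71bd1) (Net.cons (nat_lit 16) (nat_lit 0x30000c769000087480000c8a40000a4cd0000c67500009a400000e0e30000b1f0) (Net.cons (nat_lit 8) (nat_lit 0x7000600b7007f00a700e200f0008b002200f100a000e600ef003d00a300d10066) (Net.cons (nat_lit 4) (nat_lit 0x804020c07030f0005000d0f0e0e0600050e080e0a0305060d000e08050e06050d08) (Net.cons (nat_lit 2) (nat_lit 0x120230202101110013122021212331003222110312220201103312132213331002010) (Net.cons (nat_lit 1) (nat_lit 0x140401054445050455410451450055101015141540104551114455014144005041550) Net.nil)))))))))))))))))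

theorem t_g76_ok : Net.ok 275 t_g76 = true := by decide +kernel

noncomputable def t_g77 : Net := (Net.cons (nat_lit 1) (nat_lit 0x45150451505040400040414400144110540401010004104110401005440440004100) (Net.cons (nat_lit 2) (nat_lit 0x3131210022232200300021002003310303102121200112023022120120322110020) (Net.cons (nat_lit 4) (nat_lit 0x40106070309040e0009080607030a080a0a0b000602060302020c0900070b010200) (Net.cons (nat_lit 8) (nat_lit 0xa90047000d000b008200d4006000e6001000cc004700450003006b0089000b0004) (Net.cons (nat_lit 16) (nat_lit 0x60000ac0b000015f60000cfe00000e8d40000ff8100001a0b0000b04800001200) (Net.cons (nat_lit 32) (nat_lit 0x181e92f000000000ee060b220000000050258263000000000004a814) (Net.cons (nat_lit 64) (nat_lit 0x1440501481062b1600000000000000000000000000021652) (Net.cons (nat_lit 128) (nat_lit 0x773b88f0880633066a65d8a43125081d) (Net.cons (nat_lit 256) (nat_lit 507487) (Net.cons (nat_lit 128) (nat_lit 333869) (Net.cons (nat_lit 64) (nat_lit 0x6ee472388f0ebbc60000000000000000e3a40a33574f06d2)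 (Net.cons (nat_lit 32) (nat_lit 0x910a97e600000000f6624f12000000001d31da63000000000910a15c) (Net.cons (nat_lit 16) (nat_lit 0x20000a41f000035e30000dfd60000a4f60000f7810000123b0000b84800001a26) (Net.cons (nat_lit 8) (nat_lit 0xb90047001d000b009200ec007100f6009000fc005700550013006b009d002b0014) (Net.cons (nat_lit 4) (nat_lit 0x401070f0309040e00090802070b0a0c0e0a0b000606060f02020c0900070f010200) (Net.cons (nat_lit 2) (nat_lit 0x3131210022232200320021002003310303102121200112023022120120322110020) (Net.cons (nat_lit 1) (nat_lit 0x45150451505040400040414400144110540401010004104110401005440440004100) Net.nil)))))))))))))))))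

theorem t_g77_ok : Net.ok 275 t_g77 = true := by decide +kernel

noncomputable def t_g78 : Net := (Net.cons (nat_lit 1) (nat_lit 0x40014050005001541154400444510510150450145505541501044544555415500104) (Net.cons (nat_lit 2) (nat_lit 0x112232310322310110332000010120331302323222030010303322100132230300020) (Net.cons (nat_lit 4) (nat_lit 0x80e0e0c070308080e0c0209030304070606030d0f05060900000d07020f010300) (Net.cons (nat_lit 8) (nat_lit 0xdd000d00bb00b700fc0053005a0054009c00650040000f002200ef000500b90007) (Net.cons (nat_lit 16) (nat_lit 0x30000edb9000013620000cb210000cd8b0000d3a0000000c100009e8000000018) (Net.cons (nat_lit 32) (nat_lit 0x336480450000000041ae77a400000000a551c3830000000000000d20) (Net.cons (nat_lit 64) (nat_lit 0x27776826187dd68500000000000000000000000000029111) (Net.cons (nat_lit 128) (nat_lit 0x4ca4d294b859b05b6bd32e620326f2b7) (Net.cons (nat_lit 256) (nat_lit 458687) (Net.cons (nat_lit 128) (nat_lit 47097) (Net.cons (nat_lit 64) (nat_lit 0x36173418ddc2c94500000000000000004f9a30559034100b)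 (Net.cons (nat_lit 32) (nat_lit 0x1a94cbc000000000ad4ed1300000000b565e5cb00000000ca4c41c7) (Net.cons (nat_lit 16) (nat_lit 0x60000bf370000ce0900009cda0000034d00004121000061830000d35400000cd3) (Net.cons (nat_lit 8) (nat_lit 0x9007700a900a800b80003005b00db0088007700d6004f0056007e0003002300df) (Net.cons (nat_lit 4) (nat_lit 0x400010a0d0c0d04000201090a03030e0b010b0a0d0500070a040000090d0c090206) (Net.cons (nat_lit 2) (nat_lit 0x130030112020011203323302120303322303033003212111102223220103102201010) (Net.cons (nat_lit 1) (nat_lit 0x41014454011455510455104444550544544451451505414104444555041401414104) Net.nil)))))))))))))))))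

theorem t_g78_ok : Net.ok 275 t_g78 = true := by decide +kernel

noncomputable def t_g79 : Net := (Net.cons (nat_lit 1) (nat_lit 0x104004015454441444441140004050510045400114004441054004544040054104050) (Net.cons (nat_lit 2) (nat_lit 0x121332000112102200333223002301123313111000313023322220030202012302200) (Net.cons (nat_lit 4) (nat_lit 0x20602020306060f060d0303010d030804070f01070d01060c0b0c030900050e0400) (Net.cons (nat_lit 8) (nat_lit 0xd00049000900d900f6000500040000009500c300a500e0001b002100e8002d0000) (Net.cons (nat_lit 16) (nat_lit 0x10000f8e70000c6370000414c000021200000520400006c220000641e00000060) (Net.cons (nat_lit 32) (nat_lit 0x1feb460200000000944403b000000000023610e20000000000064420) (Net.cons (nat_lit 64) (nat_lit 0x3200c20c5871a5200000000000000000000000000041221) (Net.cons (nat_lit 128) (nat_lit 0x7a20131cc19c5ec02552eeb0062661d8) (Net.cons (nat_lit 256) (nat_lit 522235) (Net.cons (nat_lit 128) (nat_lit 369931) (Net.cons (nat_lit 64) (nat_lit 0xafa54ead52f63c240000000000000000e50021e21a736039)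 (Net.cons (nat_lit 32) (nat_lit 0x8a1cc98600000000279e0641000000004bd8227e00000000460d60a4) (Net.cons (nat_lit 16) (nat_lit 0xd55e00005bd3000018c50000944300007a22000004940000128b00003066) (Net.cons (nat_lit 8) (nat_lit 0xde00bf0085003e00f500b900a70092005e00d2007700dc0067003200a5001c0020) (Net.cons (nat_lit 4) (nat_lit 0x608040b0e080008050e0c0d0f0c040a05010d01030e0b00080109060607000c0002) (Net.cons (nat_lit 2) (nat_lit 0x33003310300010202133033331221003310021032332011132311021003201113220) (Net.cons (nat_lit 1) (nat_lit 0x145151554004001445141545014515544510054400401404004444514150141414454) Net.nil)))))))))))))))))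

theorem t_g79_ok : Net.ok 275 t_g79 = true := by decide +kernel

noncomputable def t_g80 : Net := (Net.cons (nat_lit 1) (nat_lit 0x145405045441441400450454111011054000410411014014104510151405550000400) (Net.cons (nat_lit 2) (nat_lit 0x131001311022131301212102210130030221213220012231103200022031002300000) (Net.cons (nat_lit 4) (nat_lit 0xd06030a0b0b0408000e0c0201070009070200040e020b0209030008020d04080000) (Net.cons (nat_lit 8) (nat_lit 0x520034000300450036007600ad00ca00540068002c006800660072001300c30000) (Net.cons (nat_lit 16) (nat_lit 0x5000044bc0000036e000009a3000013c80000220c00001e4d0000052f00003100) (Net.cons (nat_lit 32) (nat_lit 0x2454bf08000000000488050100000000274e97820000000000018100) (Net.cons (nat_lit 64) (nat_lit 0x8006a58424c000100000000000000000000000000062880) (Net.cons (nat_lit 128) (nat_lit 0x4e087796449d6bc5200d0dce06d076e1) (Net.cons (nat_lit 256) (nat_lit 524263) (Net.cons (nat_lit 128) (nat_lit 30433) (Net.cons (nat_lit 64) (nat_lit 0xc848af2d77c008170000000000000000a188ad5594ca38fc)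 (Net.cons (nat_lit 32) (nat_lit 0x7422a34c000000000fa28d1d000000000f46b7ce0000000000238900) (Net.cons (nat_lit 16) (nat_lit 0x1000004b8000077ba000079ab00001bcc000042600000be450000772f0000b1cc) (Net.cons (nat_lit 8) (nat_lit 0x72006800930055006a003e00a500c2006c00f000a40078006e00f6004300c30008) (Net.cons (nat_lit 4) (nat_lit 0xd06030e0b0b040c050e0c0201060009070200040e020b0209070008020d04080000) (Net.cons (nat_lit 2) (nat_lit 0x131001301022133301312102210120030221213220002231103200032131102300000) (Net.cons (nat_lit 1) (nat_lit 0x145405045441441404450454111411054100410411014014104510151405550000400) Net.nil)))))))))))))))))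

theorem t_g80_ok : Net.ok 275 t_g80 = true := by decide +kernel

noncomputable def t_g81 : Net := (Net.cons (nat_lit 1) (nat_lit 0x145054044054041055441054400551440015545554044051515400000545455100400) (Net.cons (nat_lit 2) (nat_lit 0x33300233031222211323210230012020212033233233220211220100220101123112) (Net.cons (nat_lit 4) (nat_lit 0x10a0d0b0e0d0b0905070700090d060902090c0f0f0d00010d0308000e0a000d0401) (Net.cons (nat_lit 8) (nat_lit 0x4f009400c800cb004c000000b80051006500aa003a00b9005c003c001700010000) (Net.cons (nat_lit 16) (nat_lit 0x700007f1500002190000095420000231300005a1a0000546500005b6400000188) (Net.cons (nat_lit 32) (nat_lit 0xc40059e9000000004b26314b00000000a6839e70000000000001a402) (Net.cons (nat_lit 64) (nat_lit 0xc8a111085a04ce6300000000000000000000000000067a2c) (Net.cons (nat_lit 128) (nat_lit 0x1604971b789f8156e8af82d003ad4801) (Net.cons (nat_lit 256) (nat_lit 524207) (Net.cons (nat_lit 128) (nat_lit 468772) (Net.cons (nat_lit 64) (nat_lit 0x88fe1ddbb118da6d00000000000000007819bf13bcf3ebaa)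 (Net.cons (nat_lit 32) (nat_lit 0x9c2068e400000000a8fdc8510000000030cd6fb100000000845abd85) (Net.cons (nat_lit 16) (nat_lit 0x1000067ac0000a5ae00002aae0000975d00001078000086730000febd00002808) (Net.cons (nat_lit 8) (nat_lit 0xa700dd003200e300d00068000b006500be005b003200f3005c00b3008700120080) (Net.cons (nat_lit 4) (nat_lit 0xd00050a070c080e07090000010203000b0e0105060d02040e0d010f0c0e0e08050f) (Net.cons (nat_lit 2) (nat_lit 0x13311002211221001130033001012103202232001030333132230322211122113120) (Net.cons (nat_lit 1) (nat_lit 0x15041145450141504550154000051444450444500505500500500040115104115414) Net.nil)))))))))))))))))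

theorem t_g81_ok : Net.ok 275 t_g81 = true := by decide +kernel

noncomputable def cx_K : List Net := [t_g73, t_g74, t_g75, t_g76, t_g77, t_g78, t_g79, t_g80, t_g81]

theorem cx_K_ok : okE 275 cx_K = true := (okE_cons.2 ⟨t_g73_ok, (okE_cons.2 ⟨t_g74_ok, (okE_cons.2 ⟨t_g75_ok, (okE_cons.2 ⟨t_g76_ok, (okE_cons.2 ⟨t_g77_ok, (okE_cons.2 ⟨t_g78_ok, (okE_cons.2 ⟨t_g79_ok, (okE_cons.2 ⟨t_g80_ok, (okE_cons.2 ⟨t_g81_ok, (okE_nil 275)⟩)⟩)⟩)⟩)⟩)⟩)⟩)⟩)⟩)

noncomputable def t_V83 : List Net := [t_g11, t_g7, t_g8, t_g18, t_g14, t_g15, t_g21, t_g22, t_g23, t_g33, t_g28, t_g29, t_g30, t_g36, t_g46, t_g42, t_g37, t_g43, t_g49]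

theorem t_V83_ok : okE 275 t_V83 = true := (okE_cons.2 ⟨t_g11_ok, (okE_cons.2 ⟨t_g7_ok, (okE_cons.2 ⟨t_g8_ok, (okE_cons.2 ⟨t_g18_ok, (okE_cons.2 ⟨t_g14_ok, (okE_cons.2 ⟨t_g15_ok, (okE_cons.2 ⟨t_g21_ok, (okE_cons.2 ⟨t_g22_ok, (okE_cons.2 ⟨t_g23_ok, (okE_cons.2 ⟨t_g33_ok, (okE_cons.2 ⟨t_g28_ok, (okE_cons.2 ⟨t_g29_ok, (okE_cons.2 ⟨t_g30_ok, (okE_cons.2 ⟨t_g36_ok, (okE_cons.2 ⟨t_g46_ok, (okE_cons.2 ⟨t_g42_ok, (okE_cons.2 ⟨t_g37_ok, (okE_cons.2 ⟨t_g43_ok, (okE_cons.2 ⟨t_g49_ok, (okE_nil 275)⟩)⟩)⟩)⟩)⟩)⟩)⟩)⟩)⟩)⟩)⟩)⟩)⟩)⟩)⟩)⟩)⟩)⟩)⟩)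

noncomputable def t_V84 : List Net := [t_g18, t_g14, t_g15, t_g21, t_g22, t_g23, t_g33, t_g28, t_g29, t_g30, t_g36, t_g46, t_g42, t_g37, t_g43, t_g49]

theorem t_V84_ok : okE 275 t_V84 = true := (okE_cons.2 ⟨t_g18_ok, (okE_cons.2 ⟨t_g14_ok, (okE_cons.2 ⟨t_g15_ok, (okE_cons.2 ⟨t_g21_ok, (okE_cons.2 ⟨t_g22_ok, (okE_cons.2 ⟨t_g23_ok, (okE_cons.2 ⟨t_g33_ok, (okE_cons.2 ⟨t_g28_ok, (okE_cons.2 ⟨t_g29_ok, (okE_cons.2 ⟨t_g30_ok, (okE_cons.2 ⟨t_g36_ok, (okE_cons.2 ⟨t_g46_ok, (okE_cons.2 ⟨t_g42_ok, (okE_cons.2 ⟨t_g37_ok, (okE_cons.2 ⟨t_g43_ok, (okE_cons.2 ⟨t_g49_ok, (okE_nil 275)⟩)⟩)⟩)⟩)⟩)⟩)⟩)⟩)⟩)⟩)⟩)⟩)⟩)⟩)⟩)⟩)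

noncomputable def t_V85 : List Net := [t_g21, t_g22, t_g23, t_g33, t_g28, t_g29, t_g30, t_g36, t_g46, t_g42, t_g37, t_g43, t_g49]

theorem t_V85_ok : okE 275 t_V85 = true := (okE_cons.2 ⟨t_g21_ok, (okE_cons.2 ⟨t_g22_ok, (okE_cons.2 ⟨t_g23_ok, (okE_cons.2 ⟨t_g33_ok, (okE_cons.2 ⟨t_g28_ok, (okE_cons.2 ⟨t_g29_ok, (okE_cons.2 ⟨t_g30_ok, (okE_cons.2 ⟨t_g36_ok, (okE_cons.2 ⟨t_g46_ok, (okE_cons.2 ⟨t_g42_ok, (okE_cons.2 ⟨t_g37_ok, (okE_cons.2 ⟨t_g43_ok, (okE_cons.2 ⟨t_g49_ok, (okE_nil 275)⟩)⟩)⟩)⟩)⟩)⟩)⟩)⟩)⟩)⟩)⟩)⟩)⟩)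

noncomputable def t_V86 : List Net := [t_g33, t_g28, t_g29, t_g30, t_g36, t_g46, t_g42, t_g37, t_g43, t_g49]

theorem t_V86_ok : okE 275 t_V86 = true := (okE_cons.2 ⟨t_g33_ok, (okE_cons.2 ⟨t_g28_ok, (okE_cons.2 ⟨t_g29_ok, (okE_cons.2 ⟨t_g30_ok, (okE_cons.2 ⟨t_g36_ok, (okE_cons.2 ⟨t_g46_ok, (okE_cons.2 ⟨t_g42_ok, (okE_cons.2 ⟨t_g37_ok, (okE_cons.2 ⟨t_g43_ok, (okE_cons.2 ⟨t_g49_ok, (okE_nil 275)⟩)⟩)⟩)⟩)⟩)⟩)⟩)⟩)⟩)⟩)

noncomputable def t_V87 : List Net := [t_g36, t_g46, t_g42, t_g37, t_g43, t_g49]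

theorem t_V87_ok : okE 275 t_V87 = true := (okE_cons.2 ⟨t_g36_ok, (okE_cons.2 ⟨t_g46_ok, (okE_cons.2 ⟨t_g42_ok, (okE_cons.2 ⟨t_g37_ok, (okE_cons.2 ⟨t_g43_ok, (okE_cons.2 ⟨t_g49_ok, (okE_nil 275)⟩)⟩)⟩)⟩)⟩)⟩)

noncomputable def t_V88 : List Net := [t_g46, t_g42, t_g37, t_g43, t_g49]

theorem t_V88_ok : okE 275 t_V88 = true := (okE_cons.2 ⟨t_g46_ok, (okE_cons.2 ⟨t_g42_ok, (okE_cons.2 ⟨t_g37_ok, (okE_cons.2 ⟨t_g43_ok, (okE_cons.2 ⟨t_g49_ok, (okE_nil 275)⟩)⟩)⟩)⟩)⟩)

noncomputable def t_V89 : List Net := [t_g49]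

theorem t_V89_ok : okE 275 t_V89 = true := (okE_cons.2 ⟨t_g49_ok, (okE_nil 275)⟩)

noncomputable def t_V90 : List Net := []

theorem t_V90_ok : okE 275 t_V90 = true := (okE_nil 275)

noncomputable def cx_cnt_EG : List Net := [t_g4, t_g1, t_g2, t_g3, t_g11, t_g7, t_g8, t_g18, t_g14, t_g15, t_g21, t_g22, t_g23, t_g33, t_g28, t_g29, t_g30, t_g36, t_g46, t_g42, t_g37, t_g43, t_g49]

theorem cx_cnt_EG_ok : okE 275 cx_cnt_EG = true := (okE_cons.2 ⟨t_g4_ok, (okE_cons.2 ⟨t_g1_ok, (okE_cons.2 ⟨t_g2_ok, (okE_cons.2 ⟨t_g3_ok, (okE_cons.2 ⟨t_g11_ok, (okE_cons.2 ⟨t_g7_ok, (okE_cons.2 ⟨t_g8_ok, (okE_cons.2 ⟨t_g18_ok, (okE_cons.2 ⟨t_g14_ok, (okE_cons.2 ⟨t_g15_ok, (okE_cons.2 ⟨t_g21_ok, (okE_cons.2 ⟨t_g22_ok, (okE_cons.2 ⟨t_g23_ok, (okE_cons.2 ⟨t_g33_ok, (okE_cons.2 ⟨t_g28_ok, (okE_cons.2 ⟨t_g29_ok, (okE_cons.2 ⟨t_g30_ok, (okE_cons.2 ⟨t_g36_ok, (okE_cons.2 ⟨t_g46_ok, (okE_cons.2 ⟨t_g42_ok, (okE_cons.2 ⟨t_g37_ok, (okE_cons.2 ⟨t_g43_ok, (okE_cons.2 ⟨t_g49_ok, (okE_nil 275)⟩)⟩)⟩)⟩)⟩)⟩)⟩)⟩)⟩)⟩)⟩)⟩)⟩)⟩)⟩)⟩)⟩)⟩)⟩)⟩)⟩)⟩)⟩)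

noncomputable def t_g91 : Net := (Net.cons (nat_lit 1) (nat_lit 0x54514054505140404001504441014410545551000445555151505015451454501440) (Net.cons (nat_lit 2) (nat_lit 0x1333233330213112030211222213313101103001101220003323333211200200302) (Net.cons (nat_lit 4) (nat_lit 0x2080a0500080300040c080b0e0b040b0c0d0708050100060a090501060208040900) (Net.cons (nat_lit 8) (nat_lit 0x12001c005800e400a700de005200f0008c004f004300c500560028000100450000) (Net.cons (nat_lit 16) (nat_lit 0x7000041f000002235000024ed0000536a00006292000082840000a6ca00000328) (Net.cons (nat_lit 32) (nat_lit 0x201836ad000000001bf24cb0000000005b4faa850000000000038fb6) (Net.cons (nat_lit 64) (nat_lit 0x19804b1e632c57340000000000000000000000000001e015) (Net.cons (nat_lit 128) (nat_lit 0xccb9db440f2c35b2b143003afc161df0) (Net.cons (nat_lit 256) (nat_lit 524287) (Net.cons (nat_lit 128) (nat_lit 160276) (Net.cons (nat_lit 64) (nat_lit 0x8f34fdae111fae850000000000000000b046016a479931e3) (Net.cons (nat_lit 32) (nat_lit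 0x5274e69c0000000090a835b600000000bba8cb7300000000691d0e0e) (Net.cons (nat_lit 16) (nat_lit 0x10000d9250000279d000053c500003ac70000121700004bc6000090d00000f228) (Net.cons (nat_lit 8) (nat_lit 0xe0001c002700a7000300e6002b00e900a400a600ca009800e100ec00b400c100ea) (Net.cons (nat_lit 4) (nat_lit 0x50f07000e0b0b0f030e0905050b040506030c040600060a08090807080b050c030c) (Net.cons (nat_lit 2) (nat_lit 0x3323332213132020320021013211212021212011023221003232312103030021300) (Net.cons (nat_lit 1) (nat_lit 0x145510415001015004451505401415445550015440000111550504111541004505010) Net.nil)))))))))))))))))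

theorem t_g91_ok : Net.ok 275 t_g91 = true := by decide +kernel

noncomputable def t_g92 : Net := (Net.cons (nat_lit 1) (nat_lit 0x101514150104404411014455511114014401545515400501511154410100144455505) (Net.cons (nat_lit 2) (nat_lit 0x103101213212202100233323320200222022303033313110020003020223010103010) (Net.cons (nat_lit 4) (nat_lit 0xb02060f0c0e0e00080c04060e0804040f0b0808020507050300020b0c0200070b05) (Net.cons (nat_lit 8) (nat_lit 0x5b0034004f00960087005700e900ea003a00ce009900a20093004a00f100600001) (Net.cons (nat_lit 16) (nat_lit 0x400002360000016460000ef3e000028210000dccf0000848200002414000094d0) (Net.cons (nat_lit 32) (nat_lit 0x9e689b710000000097ce0d67000000005a0412600000000000056012) (Net.cons (nat_lit 64) (nat_lit 0x2e0529968523000c000000000000000000000000000501f3) (Net.cons (nat_lit 128) (nat_lit 0x84576b2722af89eeba20c2b18d825f40) (Net.cons (nat_lit 256) (nat_lit 524287) (Net.cons (nat_lit 128) (nat_lit 52673) (Net.cons (nat_lit 64) (nat_lit 0x12e729ddd66e91c000000000000000071409985088dadaa)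 (Net.cons (nat_lit 32) (nat_lit 0xdb2f796400000000ded1790a00000000402cd1f000000000c0dc37a3) (Net.cons (nat_lit 16) (nat_lit 0x5000004380000df5d000017120000e5a6000064c90000f437000030390000886d) (Net.cons (nat_lit 8) (nat_lit 0x1003e00aa00bc009a0094005500e80001008600a4001d00fa00420086005d000c) (Net.cons (nat_lit 4) (nat_lit 0x10c000b020a04080d030405010b060e0b070b080104060100010b0b09010c020600) (Net.cons (nat_lit 2) (nat_lit 0x121000333001310122133100000230230331221312013203232103123300110322110) (Net.cons (nat_lit 1) (nat_lit 0x114015110505551005004441511450004151115551501401051004441544050415511) Net.nil)))))))))))))))))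

theorem t_g92_ok : Net.ok 275 t_g92 = true := by decide +kernel

noncomputable def t_g93 : Net := (Net.cons (nat_lit 1) (nat_lit 0x45440541154514405054004105110451451145444450110411545515140154051010) (Net.cons (nat_lit 2) (nat_lit 0x123313013000103112222132110222030110111033013132110200323103233222100) (Net.cons (nat_lit 4) (nat_lit 0x4070f01020a0503030a04010700020307030e0e0a0b010e0c0205070101010c0101) (Net.cons (nat_lit 8) (nat_lit 0x1100c2001e0051009900a60005001300020071000500a90006009d001200a70002) (Net.cons (nat_lit 16) (nat_lit 0x710e000074500000cab00000f58b0000a4510000f840000011d500008150) (Net.cons (nat_lit 32) (nat_lit 0x748bed40000000018366c80000000002141b2c60000000000050020) (Net.cons (nat_lit 64) (nat_lit 0x8310e6b78300883000000000000000000000000000197a8) (Net.cons (nat_lit 128) (nat_lit 0xcd32ea2c6a5ad369a585654790ae8973) (Net.cons (nat_lit 256) (nat_lit 524287) (Net.cons (nat_lit 128) (nat_lit 363439) (Net.cons (nat_lit 64) (nat_lit 0x85c5ef9729397cca00000000000000002912a0ffb2491dcc)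 (Net.cons (nat_lit 32) (nat_lit 0xbda9a2d300000000ea4070c10000000075712b0e00000000e562b34a) (Net.cons (nat_lit 16) (nat_lit 0x20000e3340000859d00006ef700007d6c00007663000016de0000b7930000d3d2) (Net.cons (nat_lit 8) (nat_lit 0xd0008b00630073006500810040002a0071003f00ac00da0055001600ca00700081) (Net.cons (nat_lit 4) (nat_lit 0x80504070209030b020b000300030f08050005080002090a04000e07020b010a0805) (Net.cons (nat_lit 2) (nat_lit 0x33200002021321322032123112211213113112222300332132021100201113020332) (Net.cons (nat_lit 1) (nat_lit 0x44041001511015401411150444155101101505001040405511555054440504505044) Net.nil)))))))))))))))))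

theorem t_g93_ok : Net.ok 275 t_g93 = true := by decide +kernel

noncomputable def t_g94 : Net := (Net.cons (nat_lit 1) (nat_lit 0x101401115150105144441511411555054501555050555410104440110545015555514) (Net.cons (nat_lit 2) (nat_lit 0x101331032313131221002101102011202131203102011011000231200220223003320) (Net.cons (nat_lit 4) (nat_lit 0x50a0c0a0a0a000401080806030707090d04030d06000a03020e020f0f0309020206) (Net.cons (nat_lit 8) (nat_lit 0x1001c00d00022000e005e0049004100da00bf0089002100650055000b00c90005) (Net.cons (nat_lit 16) (nat_lit 0x100005ec00000f33d00005d37000005a400004d5c0000cc000000a08d00008a40) (Net.cons (nat_lit 32) (nat_lit 0xf022f08c000000004db10d4700000000a412021300000000000140e0) (Net.cons (nat_lit 64) (nat_lit 0x5e80010143260be30000000000000000000000000004b252) (Net.cons (nat_lit 128) (nat_lit 0xb355c62b5bf5be124de5c76884928bec) (Net.cons (nat_lit 256) (nat_lit 523263) (Net.cons (nat_lit 128) (nat_lit 33553) (Net.cons (nat_lit 64) (nat_lit 0x5a6ba00f6db5f7e30000000000000000b4ac0b29023ac4aa)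 (Net.cons (nat_lit 32) (nat_lit 0xddc849a800000000092cde6200000000770d200600000000818de2a8) (Net.cons (nat_lit 16) (nat_lit 0x100006a670000eba20000f0950000759c0000a4590000f83000003f4e0000cc76) (Net.cons (nat_lit 8) (nat_lit 0x200ec00bd006500540023003b006c007d002800e400d70080007e00c700ca0031) (Net.cons (nat_lit 4) (nat_lit 0xb090b0b06050007080b0c0e050f0d0f01020b01000f07020e020804040209070506) (Net.cons (nat_lit 2) (nat_lit 0x133210112311032013123231331110003001231302113210113031103321121323332) (Net.cons (nat_lit 1) (nat_lit 0x110515400051110504004405101454150110514114154404405441150405005511514) Net.nil)))))))))))))))))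

theorem t_g94_ok : Net.ok 275 t_g94 = true := by decide +kernel

noncomputable def t_g95 : Net := (Net.cons (nat_lit 1) (nat_lit 0x55400511540144055450540544011511054154440014101004110405014004441410) (Net.cons (nat_lit 2) (nat_lit 0x110130020303310210103322123011302011310310102331313221221311011010330) (Net.cons (nat_lit 4) (nat_lit 0xd0d070208070d050307070c000a0206050c0f0f0106060c020e080006040b090405) (Net.cons (nat_lit 8) (nat_lit 0xfa008c009a00da008e000b00240092007400e300c10090007900c9004d00410000) (Net.cons (nat_lit 16) (nat_lit 0x556e000080670000e1c40000510c00008057000022110000ce45000048d0) (Net.cons (nat_lit 32) (nat_lit 0x4e10cd8f00000000c148442e0000000042334100000000000004da26) (Net.cons (nat_lit 64) (nat_lit 0x7c4c56503861165a00000000000000000000000000015040) (Net.cons (nat_lit 128) (nat_lit 0x7a17ce33c7cbd56404e891efbf23162f) (Net.cons (nat_lit 256) (nat_lit 516095) (Net.cons (nat_lit 128) (nat_lit 335026) (Net.cons (nat_lit 64) (nat_lit 0x5cdb6af323fd062f000000000000000048bad0df230b5d49)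 (Net.cons (nat_lit 32) (nat_lit 0xce0ec34a0000000040b0382c00000000bc3183f700000000084c5a45) (Net.cons (nat_lit 16) (nat_lit 0x10000e2660000d6fa0000906400000fbb000097fb0000c44100008b3200007a59) (Net.cons (nat_lit 8) (nat_lit 0x3c008600d8006d007e00ad00df001500b5005d00c10038004b00ec000b00a7000e) (Net.cons (nat_lit 4) (nat_lit 0x209070a0804080e020f010f01080f0b040e030d0102090c0e080601070f0a080c0d) (Net.cons (nat_lit 2) (nat_lit 0x122031012120033332013220103310220320003300023113233003131223300032120) (Net.cons (nat_lit 1) (nat_lit 0x144441501401115555054055501550445404114500154514440411001004111140400) Net.nil)))))))))))))))))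

theorem t_g95_ok : Net.ok 275 t_g95 = true := by decide +kernel

noncomputable def xE : List Net := [t_g72, t_g91, t_g92, t_g93, t_g94, t_g95]

theorem xE_ok : okE 275 xE = true := (okE_cons.2 ⟨t_g72_ok, (okE_cons.2 ⟨t_g91_ok, (okE_cons.2 ⟨t_g92_ok, (okE_cons.2 ⟨t_g93_ok, (okE_cons.2 ⟨t_g94_ok, (okE_cons.2 ⟨t_g95_ok, (okE_nil 275)⟩)⟩)⟩)⟩)⟩)⟩)

noncomputable def t_g96 : Net := (Net.cons (nat_lit 1) (nat_lit 0x50014145155505500101405111000145051141510051455404104540544114510111) (Net.cons (nat_lit 2) (nat_lit 0x33321300130203131110101221302111310233033030130012300330003303320000) (Net.cons (nat_lit 4) (nat_lit 0x705040a0a04050a0b0d050900020c080702010f0e090301040502030f0b05010601) (Net.cons (nat_lit 8) (nat_lit 0x640003003100e100b0000e00a800b9000b00b300b60042009a000000a000040005) (Net.cons (nat_lit 16) (nat_lit 0xf4020000aa16000076c80000112a000066430000c2cf00007389000045a8) (Net.cons (nat_lit 32) (nat_lit 0x60893c510000000063b74021000000002c099c10000000000000a750) (Net.cons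 (nat_lit 64) (nat_lit 0x9678bc5084033081000000000000000000000000000520b8) (Net.cons (nat_lit 128) (nat_lit 0xaded36339306bd1c1a10ca496d8238f9) (Net.cons (nat_lit 256) (nat_lit 524281) (Net.cons (nat_lit 128) (nat_lit 376344) (Net.cons (nat_lit 64) (nat_lit 0x4e28d3cf120a642a0000000000000000302b88db97b16969) (Net.cons (nat_lit 32) (nat_lit 0xeb1ff790000000009cb497e00000000db271ce800000000697aa069) (Net.cons (nat_lit 16) (nat_lit 0x10000026900006827000016a3000010780000d4f800008102000028cd00009de8) (Net.cons (nat_lit 8) (nat_lit 0xea005800e700b9005900b000bd00eb002b00bd004c004f00e9002f004800e500ef) (Net.cons (nat_lit 4) (nat_lit 0xe0b030f090a070402040e02030008080c0b0108040103070e0b06070d0a0d0e0c0b) (Net.cons (nat_lit 2) (nat_lit 0x22230002031110203300102120131301121001323200010202201212203311020001) (Net.cons (nat_lit 1) (nat_lit 0x151451104144444541410111151000054441055550505554101055505410501005105) Net.nil)))))))))))))))))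

theorem t_g96_ok : Net.ok 275 t_g96 = true := by decide +kernel

noncomputable def t_g97 : Net := (Net.cons (nat_lit 1) (nat_lit 0x10104444110454040010514004405104000044405055500054400114041414104400) (Net.cons (nat_lit 2) (nat_lit 0x32122301133110032022032323003232303030320101102031120313312222300120) (Net.cons (nat_lit 4) (nat_lit 0xc060f0202060b090f03020001060a080b0c030d060403040a0e040d00050b040200) (Net.cons (nat_lit 8) (nat_lit 0x110045009a007000db003900ac005b001000d400fb0049002e0093002300420000) (Net.cons (nat_lit 16) (nat_lit 0x62200000acac0000032c00008dc90000407d000050dc0000354400003008) (Net.cons (nat_lit 32) (nat_lit 0xfc5523d1000000006000fd720000000000085f6e000000000000100e) (Net.cons (nat_lit 64) (nat_lit 0x8f058875a029328300000000000000000000000000021404) (Net.cons (nat_lit 128) (nat_lit 0x38e2ec3389d120f9f78d00c43faa4330) (Net.cons (nat_lit 256) (nat_lit 194366) (Net.cons (nat_lit 128) (nat_lit 22114) (Net.cons (nat_lit 64) (nat_lit 0x612c20b903a08bd40000000000000000e4fdd6dde0111dd6)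 (Net.cons (nat_lit 32) (nat_lit 0x32839fd800000000d3a7576500000000f96723ff0000000096dec022) (Net.cons (nat_lit 16) (nat_lit 0x200002b2b0000b0660000072e00005c930000027300000d970000610a00003100) (Net.cons (nat_lit 8) (nat_lit 0xdc0049009600ea00c6003700e700c300c600dc00720074003a00d300b70057000f) (Net.cons (nat_lit 4) (nat_lit 0x50a0f0302070304060202080e030a040f000f09070c06090a070f09000d0a000e08) (Net.cons (nat_lit 2) (nat_lit 0x123033310102301003022020211113003203123331311031320122032303333200221) (Net.cons (nat_lit 1) (nat_lit 0x10104444010414000050514005404144040454404055500454404515041454104400) Net.nil)))))))))))))))))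

theorem t_g97_ok : Net.ok 275 t_g97 = true := by decide +kernel

noncomputable def t_g98 : Net := (Net.cons (nat_lit 1) (nat_lit 0x55145015440114451441140010011411510150500511445150014555054445451410) (Net.cons (nat_lit 2) (nat_lit 0x31202132222200101301231231010022331203133000023323030333322223100202) (Net.cons (nat_lit 4) (nat_lit 0xd05050806010f030c0009040a0e03000e0b0804080c010d0e0b0d0c030707060e01) (Net.cons (nat_lit 8) (nat_lit 0x8b0061006900cf00420000008a002600df00b40036001000d000830054001c0005) (Net.cons (nat_lit 16) (nat_lit 0x60000687700005b410000ca010000008000000f8900003ca00000228000006408) (Net.cons (nat_lit 32) (nat_lit 0x3a55652800000000026d0090000000000ccb04c100000000000021f4) (Net.cons (nat_lit 64) (nat_lit 0x86012872801988600000000000000000000000000024c07) (Net.cons (nat_lit 128) (nat_lit 0x1fa18859204ea48262d6378e986d1860) (Net.cons (nat_lit 256) (nat_lit 523775) (Net.cons (nat_lit 128) (nat_lit 16916) (Net.cons (nat_lit 64) (nat_lit 0xe22b250b2c55c8390000000000000000b65e158c90df4f4b)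 (Net.cons (nat_lit 32) (nat_lit 0x48947ba40000000030118252000000008cdd9836000000007205013a) (Net.cons (nat_lit 16) (nat_lit 0x50000662500009d5e0000f1db0000937b00008b3d0000c5d2000042270000f66e) (Net.cons (nat_lit 8) (nat_lit 0x2c0025005700c70090003b001500c0009800680092003700fd0071004f0029000f) (Net.cons (nat_lit 4) (nat_lit 0x6000d0a0405060a040d090c0608020e0b0f0c0b0b040106020f0b0b0107040a040d) (Net.cons (nat_lit 2) (nat_lit 0x133020013010313001303033130232012321301313323211112300230201003002200) (Net.cons (nat_lit 1) (nat_lit 0x110115005444104455545144501050411105114404150104104555000155145044404) Net.nil)))))))))))))))))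

theorem t_g98_ok : Net.ok 275 t_g98 = true := by decide +kernel

noncomputable def xL : List Net := [t_g96, t_g97, t_g98]

theorem xL_ok : okE 275 xL = true := (okE_cons.2 ⟨t_g96_ok, (okE_cons.2 ⟨t_g97_ok, (okE_cons.2 ⟨t_g98_ok, (okE_nil 275)⟩)⟩)⟩)

noncomputable def t_g99 : Net := (Net.cons (nat_lit 1) (nat_lit 0x154041010115501405145055105504511000451115005014440010041011405550115) (Net.cons (nat_lit 2) (nat_lit 0x310230013221202002312202003032332130032003030000312101013130032032) (Net.cons (nat_lit 4) (nat_lit 0x2020d020e0c03040d020402050d0e0b0a0d05040b070e0e040b0a0c0a03060a0404) (Net.cons (nat_lit 8) (nat_lit 0x4f001e0079009100de00450045008b0051006900c10079007d0066001400860006) (Net.cons (nat_lit 16) (nat_lit 0x40000f0ff00002dd00000c4870000bec9000070a00000888000006a5400004000) (Net.cons (nat_lit 32) (nat_lit 0xb4f3845200000000a084d86e000000000b90b61200000000000124b4) (Net.cons (nat_lit 64) (nat_lit 0xb0a0011a09c0422500000000000000000000000000028e12) (Net.cons (nat_lit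 128) (nat_lit 0xc0f2419d8769e2f0334a84667ea0ed47) (Net.cons (nat_lit 256) (nat_lit 524279) (Net.cons (nat_lit 128) (nat_lit 372932) (Net.cons (nat_lit 64) (nat_lit 0x379eca0f10276e0400000000000000001c120e39950931b2) (Net.cons (nat_lit 32) (nat_lit 0xb560b19d000000004e45ddad000000005b9c05f200000000b530fe00) (Net.cons (nat_lit 16) (nat_lit 0x700009646000050c00000e54c0000cbec000093e7000015440000cb9d00004ce4) (Net.cons (nat_lit 8) (nat_lit 0xd4003600e500ab000f0074000a002000e9003b00200069007e009f007700e20023) (Net.cons (nat_lit 4) (nat_lit 0xb090c0704070301010f020b0b0b06030f0b0d090f040b000108050e0f01040e0001) (Net.cons (nat_lit 2) (nat_lit 0x323221022131133021222113130231323013222031131212133221131103200122) (Net.cons (nat_lit 1) (nat_lit 0x154150055415450001455544150100040014415504050504415454504100404505115) Net.nil)))))))))))))))))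

theorem t_g99_ok : Net.ok 275 t_g99 = true := by decide +kernel

noncomputable def t_g100 : Net := (Net.cons (nat_lit 1) (nat_lit 0x154010551445505444115041500000014150114455014541441111111014051540151) (Net.cons (nat_lit 2) (nat_lit 0x3000200201200120301233303332322001301221120311213220322203020102210) (Net.cons (nat_lit 4) (nat_lit 0x70407090f020b08020f0d0e0a080f010b0a09030c040b0b050c020102050d0f0505) (Net.cons (nat_lit 8) (nat_lit 0xe5008900f20009003f008100db00290055000c0025004000500086004600000001) (Net.cons (nat_lit 16) (nat_lit 0x200008c36000084c50000313000000b260000a7040000f0280000f7040000f048) (Net.cons (nat_lit 32) (nat_lit 0x8df1119200000000053304a0000000002a4680860000000000019415) (Net.cons (nat_lit 64) (nat_lit 0x5b88a001c96be040000000000000000000000000000258ce) (Net.cons (nat_lit 128) (nat_lit 0x396ba514f7c6bc15c4f125e9211efe5) (Net.cons (nat_lit 256) (nat_lit 524287) (Net.cons (nat_lit 128) (nat_lit 153842) (Net.cons (nat_lit 64) (nat_lit 0x740554bbcb0a5a080000000000000000382514838bb5b0af)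 (Net.cons (nat_lit 32) (nat_lit 0x631c956000000000f642d59a0000000045f56617000000004cf3375c) (Net.cons (nat_lit 16) (nat_lit 0x20000174e00007fa100009f890000c86800007f93000055d400004fa200003c65) (Net.cons (nat_lit 8) (nat_lit 0xf9007600a700fd002f00f600fc0024006200ce007f0001001d0017006800ed00b2) (Net.cons (nat_lit 4) (nat_lit 0x30e0c090c0209070c09080e0309060c0b07030f0903030205020007010d09060405) (Net.cons (nat_lit 2) (nat_lit 0x323133111022223032021230231021332032130221223100002111213333310030) (Net.cons (nat_lit 1) (nat_lit 0x450504414054511414504141415444015405411515551145041544454500510154) Net.nil)))))))))))))))))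

theorem t_g100_ok : Net.ok 275 t_g100 = true := by decide +kernel

noncomputable def xJ : List Net := [t_g99, t_g100]

theorem xJ_ok : okE 275 xJ = true := (okE_cons.2 ⟨t_g99_ok, (okE_cons.2 ⟨t_g100_ok, (okE_nil 275)⟩)⟩)

theorem t_le6 : grp 275 t_V5 ≤ grp 275 t_O :=
  grp_le_of_memB t_hn t_hk t_O_ok t_V5_ok (ws := [nat_lit 259]) (by decide +kernel)

theorem t_le10 : grp 275 t_V9 ≤ grp 275 t_O :=
  grp_le_of_memB t_hn t_hk t_O_ok t_V9_ok (ws := [nat_lit 0x50202040601040206020402, nat_lit 0x6020404020405020502060302]) (by decide +kernel)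

theorem t_le13 : grp 275 t_V12 ≤ grp 275 t_V9 :=
  grp_le_of_memB t_hn t_hk t_V9_ok t_V12_ok (ws := [nat_lit 0x20204010303]) (by decide +kernel)

theorem t_le17 : grp 275 t_V16 ≤ grp 275 t_V9 :=
  grp_le_of_memB t_hn t_hk t_V9_ok t_V16_ok (ws := [nat_lit 0x10303010301030202030202, nat_lit 0x301010401030104]) (by decide +kernel)

theorem t_le20 : grp 275 t_V19 ≤ grp 275 t_V16 :=
  grp_le_of_memB t_hn t_hk t_V16_ok t_V19_ok (ws := [nat_lit 0x1030202]) (by decide +kernel)

theorem t_le25 : grp 275 t_V24 ≤ grp 275 t_V16 :=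
  grp_le_of_memB t_hn t_hk t_V16_ok t_V24_ok (ws := [nat_lit 0x202020204, nat_lit 0x20301040202040103020302, nat_lit 0x20303010104020302]) (by decide +kernel)

theorem t_le27 : grp 275 t_V26 ≤ grp 275 t_V24 :=
  grp_le_of_memB t_hn t_hk t_V24_ok t_V26_ok (ws := [nat_lit 1]) (by decide +kernel)

theorem t_le32 : grp 275 t_V31 ≤ grp 275 t_V24 :=
  grp_le_of_memB t_hn t_hk t_V24_ok t_V31_ok (ws := [nat_lit 0x6010401060202050502, nat_lit 0x4020402, nat_lit 0x2020502]) (by decide +kernel)

theorem t_le35 : grp 275 t_V34 ≤ grp 275 t_V31 :=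
  grp_le_of_memB t_hn t_hk t_V31_ok t_V34_ok (ws := [nat_lit 517]) (by decide +kernel)

theorem t_le39 : grp 275 t_V38 ≤ grp 275 t_V31 :=
  grp_le_of_memB t_hn t_hk t_V31_ok t_V38_ok (ws := [nat_lit 0x50202040604060205, nat_lit 0x2060301050406020501]) (by decide +kernel)

theorem t_le41 : grp 275 t_V40 ≤ grp 275 t_V38 :=
  grp_le_of_memB t_hn t_hk t_V38_ok t_V40_ok (ws := [nat_lit 1]) (by decide +kernel)

theorem t_le45 : grp 275 t_V44 ≤ grp 275 t_V38 :=
  grp_le_of_memB t_hn t_hk t_V38_ok t_V44_ok (ws := [nat_lit 1028, nat_lit 0x3010301, nat_lit 514]) (by decide +kernel)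

theorem t_le48 : grp 275 t_V47 ≤ grp 275 t_V44 :=
  grp_le_of_memB t_hn t_hk t_V44_ok t_V47_ok (ws := [nat_lit 773, nat_lit 3]) (by decide +kernel)

theorem t_le51 : grp 275 t_V50 ≤ grp 275 t_V44 :=
  grp_le_of_memB t_hn t_hk t_V44_ok t_V50_ok (ws := [nat_lit 0x10401010504040604, nat_lit 0x105030505040206]) (by decide +kernel)

theorem t_le53 : grp 275 t_V52 ≤ grp 275 t_V50 :=
  grp_le_of_memB t_hn t_hk t_V50_ok t_V52_ok (ws := [nat_lit 1]) (by decide +kernel)

theorem t_card8 : Nat.card (grp 275 t_E8) = 1 :=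
  card_grp_nil 275

theorem t_leO8 : grp 275 t_E8 ≤ grp 275 t_O :=
  grp_nil_le _

theorem t_7_fix : grp 275 t_E8 ≤ MulAction.stabilizer (Equiv.Perm (Fin 275)) (⟨2, by decide⟩ : Fin 275) :=
  grp_le_stab t_E8_ok (by decide : 2 < 275) (by decide +kernel)

noncomputable def t_7_ts : List ℕ := [nat_lit 0, nat_lit 1, nat_lit 2]

noncomputable def t_7_ds : List ℕ := [nat_lit 2, nat_lit 86, nat_lit 184]

theorem t_7_dist : Dist 275 t_E8 t_G7 (⟨2, by decide⟩ : Fin 275) t_7_ts t_7_ds :=
  dist_of_distB (k := 2) t_hn t_E8_ok t_G7_ok (by decide : 2 < 275) (by decide +kernel)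

noncomputable def t_7_sl0 : SL := (SL.cons (nat_lit 1) (nat_lit 86) Ch.nil [] (SL.cons (nat_lit 2) (nat_lit 184) Ch.nil [] SL.nil))

theorem t_7_sc0 : SCs 275 t_E8 t_G7 (⟨2, by decide⟩ : Fin 275) (SL.words t_7_sl0) :=
  scs_of_ok t_hn (det_lab t_hk ⊤) t_E8_ok t_G7_ok le_top le_top (by decide : 2 < 275) t_7_fix t_card8.le (by decide +kernel)

noncomputable def t_7_l : List ℕ := (appL (SL.words t_7_sl0) [])

theorem t_7_scs : SCs 275 t_E8 t_G7 (⟨2, by decide⟩ : Fin 275) t_7_l :=
  (SCs.append t_7_sc0 SCs.nil)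

noncomputable def t_7_rl0_0 : RL := (RL.cons (nat_lit 0) (nat_lit 2) (nat_lit 0) (nat_lit 0) (nat_lit 2) (nat_lit 0) (RL.cons (nat_lit 1) (nat_lit 86) (nat_lit 0) (nat_lit 0) (nat_lit 0) (nat_lit 0) (RL.cons (nat_lit 2) (nat_lit 184) (nat_lit 0) (nat_lit 0) (nat_lit 1) (nat_lit 0) RL.nil)))

theorem t_7_good0_0 : GoodSet 275 t_E8 t_G7 (⟨2, by decide⟩ : Fin 275) t_7_ts (nat_lit 1) (RL.pts t_7_rl0_0) :=
  goodSet_of_ok t_hn (det_lab t_hk ⊤) t_E8_ok t_G7_ok le_top le_top (by decide : 2 < 275) (sepAt_lab t_hk _) (by decide +kernel)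

theorem t_7_step0 : Step 275 t_E8 t_G7 t_7_ts (2 * 0 + 1) :=
  step_of_cover t_E8_ok t_7_dist (by decide +kernel) t_7_scs (by decide +kernel) t_7_good0_0 (kw := [])
    (conj_mem_of_scs t_E8_ok t_G7_ok (by decide : 2 < 275) t_7_scs (c := 0) (d := 86) (by decide +kernel)) (by decide +kernel)

theorem t_7_lev : grp 275 t_G7 ⊓ MulAction.stabilizer (Equiv.Perm (Fin 275)) (⟨2, by decide⟩ : Fin 275) = grp 275 t_E8 :=
  sims_level (gs := t_V52) rfl (by decide) t_7_fix t_7_dist (forall_lt_one t_7_step0)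

theorem t_7_cardG : Nat.card (grp 275 t_G7) = 3 :=
  card_of_level t_hn t_G7_ok (by decide : 2 < 275) t_7_lev t_card8 (m := 3) (by decide +kernel)

theorem t_le54 : grp 275 t_E7 ≤ grp 275 t_G7 :=
  grp_le_of_memB t_hn t_hk t_G7_ok t_E7_ok (ws := [nat_lit 1]) (by decide +kernel)

theorem t_le55 : grp 275 t_G7 ≤ grp 275 t_E7 :=
  grp_le_of_memB t_hn t_hk t_E7_ok t_G7_ok (ws := [nat_lit 1]) (by decide +kernel)

theorem t_7_eq : grp 275 t_E7 = grp 275 t_G7 :=
  le_antisymm t_le54 t_le55

theorem t_card7 : Nat.card (grp 275 t_E7) = 3 :=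
  by rw [t_7_eq]; exact t_7_cardG

theorem t_stab7 : grp 275 t_E7 ⊓ MulAction.stabilizer (Equiv.Perm (Fin 275)) (⟨2, by decide⟩ : Fin 275) = grp 275 t_E8 :=
  by rw [t_7_eq]; exact t_7_lev

theorem t_leO7 : grp 275 t_E7 ≤ grp 275 t_O :=
  t_7_eq.le.trans (grp_cons_le ((t_le51.trans (t_le45.trans (t_le39.trans (t_le32.trans (t_le25.trans (t_le17.trans (t_le10.trans (le_refl (grp 275 t_O))))))))) (t_le53 (toPerm_mem_grp (E := t_V52) (by simp [t_V52])))) t_leO8)

theorem t_6_fix : grp 275 t_E7 ≤ MulAction.stabilizer (Equiv.Perm (Fin 275)) (⟨12, by decide⟩ : Fin 275) :=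
  grp_le_stab t_E7_ok (by decide : 12 < 275) (by decide +kernel)

noncomputable def t_6_ts : List ℕ := [nat_lit 0, nat_lit 1, nat_lit 2, nat_lit 3, nat_lit 259, nat_lit 515]

noncomputable def t_6_ds : List ℕ := [nat_lit 12, nat_lit 72, nat_lit 223, nat_lit 45, nat_lit 119, nat_lit 196]

theorem t_6_dist : Dist 275 t_E7 t_G6 (⟨12, by decide⟩ : Fin 275) t_6_ts t_6_ds :=
  dist_of_distB (k := 3) t_hn t_E7_ok t_G6_ok (by decide : 12 < 275) (by decide +kernel)

noncomputable def t_6_sl0 : SL := (SL.cons (nat_lit 1) (nat_lit 72) (Ch.cons (nat_lit 2) [nat_lit 2] Ch.nil) [nat_lit 2] (SL.cons (nat_lit 2) (nat_lit 223) (Ch.cons (nat_lit 2) [nat_lit 1] Ch.nil) [nat_lit 1] (SL.cons (nat_lit 3) (nat_lit 45) (Ch.cons (nat_lit 2) [nat_lit 2] Ch.nil) [nat_lit 1] (SL.cons (nat_lit 259) (nat_lit 119) (Ch.cons (nat_lit 2) [nat_lit 1] Ch.nil) [nat_lit 2] (SL.cons (nat_lit 515) (nat_lit 196) (Ch.cons (nat_lit 2) [nat_lit 2] Ch.nil) [nat_lit 1] SL.nil)))))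

theorem t_6_sc0 : SCs 275 t_E7 t_G6 (⟨12, by decide⟩ : Fin 275) (SL.words t_6_sl0) :=
  scs_of_ok t_hn (det_lab t_hk ⊤) t_E7_ok t_G6_ok le_top le_top (by decide : 12 < 275) t_6_fix t_card7.le (by decide +kernel)

noncomputable def t_6_l : List ℕ := (appL (SL.words t_6_sl0) [])

theorem t_6_scs : SCs 275 t_E7 t_G6 (⟨12, by decide⟩ : Fin 275) t_6_l :=
  (SCs.append t_6_sc0 SCs.nil)

noncomputable def t_6_rl0_0 : RL := (RL.cons (nat_lit 0) (nat_lit 12) (nat_lit 0) (nat_lit 0) (nat_lit 2) (nat_lit 0) (RL.cons (nat_lit 1) (nat_lit 72) (nat_lit 0) (nat_lit 0) (nat_lit 0) (nat_lit 0) (RL.cons (nat_lit 2) (nat_lit 223) (nat_lit 0) (nat_lit 0) (nat_lit 1) (nat_lit 0) (RL.cons (nat_lit 3) (nat_lit 45) (nat_lit 0) (nat_lit 0) (nat_lit 4) (nat_lit 0) (RL.cons (nat_lit 4) (nat_lit 119) (nat_lit 0) (nat_lit 0) (nat_lit 5) (nat_lit 0) (RL.cons (nat_lit 5) (nat_lit 196) (nat_lit 0) (nat_lit 0) (nat_lit 3) (nat_lit 0) RL.nil))))))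

theorem t_6_good0_0 : GoodSet 275 t_E7 t_G6 (⟨12, by decide⟩ : Fin 275) t_6_ts (nat_lit 1) (RL.pts t_6_rl0_0) :=
  goodSet_of_ok t_hn (det_lab t_hk ⊤) t_E7_ok t_G6_ok le_top le_top (by decide : 12 < 275) (sepAt_lab t_hk _) (by decide +kernel)

theorem t_6_step0 : Step 275 t_E7 t_G6 t_6_ts (2 * 0 + 1) :=
  step_of_cover t_E7_ok t_6_dist (by decide +kernel) t_6_scs (by decide +kernel) t_6_good0_0 (kw := [nat_lit 2])
    (conj_mem_of_scs t_E7_ok t_G6_ok (by decide : 12 < 275) t_6_scs (c := 0) (d := 72) (by decide +kernel)) (by decide +kernel)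

noncomputable def t_6_rl1_0 : RL := (RL.cons (nat_lit 0) (nat_lit 12) (nat_lit 0) (nat_lit 0) (nat_lit 3) (nat_lit 0) (RL.cons (nat_lit 1) (nat_lit 72) (nat_lit 0) (nat_lit 0) (nat_lit 4) (nat_lit 0) (RL.cons (nat_lit 2) (nat_lit 223) (nat_lit 0) (nat_lit 0) (nat_lit 5) (nat_lit 0) (RL.cons (nat_lit 3) (nat_lit 45) (nat_lit 0) (nat_lit 0) (nat_lit 0) (nat_lit 0) (RL.cons (nat_lit 4) (nat_lit 119) (nat_lit 0) (nat_lit 0) (nat_lit 1) (nat_lit 0) (RL.cons (nat_lit 5) (nat_lit 196) (nat_lit 0) (nat_lit 0) (nat_lit 2) (nat_lit 0) RL.nil))))))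

theorem t_6_good1_0 : GoodSet 275 t_E7 t_G6 (⟨12, by decide⟩ : Fin 275) t_6_ts (nat_lit 3) (RL.pts t_6_rl1_0) :=
  goodSet_of_ok t_hn (det_lab t_hk ⊤) t_E7_ok t_G6_ok le_top le_top (by decide : 12 < 275) (sepAt_lab t_hk _) (by decide +kernel)

theorem t_6_step1 : Step 275 t_E7 t_G6 t_6_ts (2 * 1 + 1) :=
  step_of_cover t_E7_ok t_6_dist (by decide +kernel) t_6_scs (by decide +kernel) t_6_good1_0 (kw := [nat_lit 2])
    (conj_mem_of_scs t_E7_ok t_G6_ok (by decide : 12 < 275) t_6_scs (c := 2) (d := 45) (by decide +kernel)) (by decide +kernel)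

theorem t_6_lev : grp 275 t_G6 ⊓ MulAction.stabilizer (Equiv.Perm (Fin 275)) (⟨12, by decide⟩ : Fin 275) = grp 275 t_E7 :=
  sims_level (gs := t_V47) rfl (by decide) t_6_fix t_6_dist (forall_lt_succ' (forall_lt_one t_6_step0) t_6_step1)

theorem t_6_cardG : Nat.card (grp 275 t_G6) = 18 :=
  card_of_level t_hn t_G6_ok (by decide : 12 < 275) t_6_lev t_card7 (m := 6) (by decide +kernel)

theorem t_le56 : grp 275 t_E6 ≤ grp 275 t_G6 :=
  grp_le_of_memB t_hn t_hk t_G6_ok t_E6_ok (ws := [nat_lit 1, nat_lit 3, nat_lit 6, nat_lit 515, nat_lit 5]) (by decide +kernel)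

theorem t_le57 : grp 275 t_G6 ≤ grp 275 t_E6 :=
  grp_le_of_memB t_hn t_hk t_E6_ok t_G6_ok (ws := [nat_lit 1, nat_lit 3, nat_lit 9]) (by decide +kernel)

theorem t_6_eq : grp 275 t_E6 = grp 275 t_G6 :=
  le_antisymm t_le56 t_le57

theorem t_card6 : Nat.card (grp 275 t_E6) = 18 :=
  by rw [t_6_eq]; exact t_6_cardG

theorem t_stab6 : grp 275 t_E6 ⊓ MulAction.stabilizer (Equiv.Perm (Fin 275)) (⟨12, by decide⟩ : Fin 275) = grp 275 t_E7 :=
  by rw [t_6_eq]; exact t_6_lev

theorem t_leO6 : grp 275 t_E6 ≤ grp 275 t_O :=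
  t_6_eq.le.trans (grp_cons_le ((t_le45.trans (t_le39.trans (t_le32.trans (t_le25.trans (t_le17.trans (t_le10.trans (le_refl (grp 275 t_O)))))))) (t_le48 (toPerm_mem_grp (E := t_V47) (by simp [t_V47])))) (grp_cons_le ((t_le45.trans (t_le39.trans (t_le32.trans (t_le25.trans (t_le17.trans (t_le10.trans (le_refl (grp 275 t_O)))))))) (t_le48 (toPerm_mem_grp (E := t_V47) (by simp [t_V47])))) t_leO7))

theorem t_5_fix : grp 275 t_E6 ≤ MulAction.stabilizer (Equiv.Perm (Fin 275)) (⟨82, by decide⟩ : Fin 275) :=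
  grp_le_stab t_E6_ok (by decide : 82 < 275) (by decide +kernel)

noncomputable def t_5_ts : List ℕ := [nat_lit 0, nat_lit 1]

noncomputable def t_5_ds : List ℕ := [nat_lit 82, nat_lit 215]

theorem t_5_dist : Dist 275 t_E6 t_G5 (⟨82, by decide⟩ : Fin 275) t_5_ts t_5_ds :=
  dist_of_distB (k := 1) t_hn t_E6_ok t_G5_ok (by decide : 82 < 275) (by decide +kernel)

noncomputable def t_5_sl0 : SL := (SL.cons (nat_lit 1) (nat_lit 215) (Ch.cons (nat_lit 2) [nat_lit 3, nat_lit 2567] (Ch.cons (nat_lit 3) [nat_lit 2563] Ch.nil)) [nat_lit 2563, nat_lit 2307, nat_lit 259] SL.nil)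

theorem t_5_sc0 : SCs 275 t_E6 t_G5 (⟨82, by decide⟩ : Fin 275) (SL.words t_5_sl0) :=
  scs_of_ok t_hn (det_lab t_hk ⊤) t_E6_ok t_G5_ok le_top le_top (by decide : 82 < 275) t_5_fix t_card6.le (by decide +kernel)

noncomputable def t_5_l : List ℕ := (appL (SL.words t_5_sl0) [])

theorem t_5_scs : SCs 275 t_E6 t_G5 (⟨82, by decide⟩ : Fin 275) t_5_l :=
  (SCs.append t_5_sc0 SCs.nil)

noncomputable def t_5_rl0_0 : RL := (RL.cons (nat_lit 0) (nat_lit 82) (nat_lit 0) (nat_lit 0) (nat_lit 1) (nat_lit 7) (RL.cons (nat_lit 1) (nat_lit 215) (nat_lit 0) (nat_lit 0) (nat_lit 0) (nat_lit 0) RL.nil))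

theorem t_5_good0_0 : GoodSet 275 t_E6 t_G5 (⟨82, by decide⟩ : Fin 275) t_5_ts (nat_lit 1) (RL.pts t_5_rl0_0) :=
  goodSet_of_ok t_hn (det_lab t_hk ⊤) t_E6_ok t_G5_ok le_top le_top (by decide : 82 < 275) (sepAt_lab t_hk _) (by decide +kernel)

theorem t_5_step0 : Step 275 t_E6 t_G5 t_5_ts (2 * 0 + 1) :=
  step_of_cover t_E6_ok t_5_dist (by decide +kernel) t_5_scs (by decide +kernel) t_5_good0_0 (kw := [nat_lit 3, nat_lit 2567, nat_lit 2563])
    (conj_mem_of_scs t_E6_ok t_G5_ok (by decide : 82 < 275) t_5_scs (c := 0) (d := 215) (by decide +kernel)) (by decide +kernel)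

theorem t_5_lev : grp 275 t_G5 ⊓ MulAction.stabilizer (Equiv.Perm (Fin 275)) (⟨82, by decide⟩ : Fin 275) = grp 275 t_E6 :=
  sims_level (gs := t_V40) rfl (by decide) t_5_fix t_5_dist (forall_lt_one t_5_step0)

theorem t_5_cardG : Nat.card (grp 275 t_G5) = 36 :=
  card_of_level t_hn t_G5_ok (by decide : 82 < 275) t_5_lev t_card6 (m := 2) (by decide +kernel)

theorem t_le58 : grp 275 t_E5 ≤ grp 275 t_G5 :=
  grp_le_of_memB t_hn t_hk t_G5_ok t_E5_ok (ws := [nat_lit 1, nat_lit 3, nat_lit 5, nat_lit 7, nat_lit 9, nat_lit 11]) (by decide +kernel)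

theorem t_le59 : grp 275 t_G5 ≤ grp 275 t_E5 :=
  grp_le_of_memB t_hn t_hk t_E5_ok t_G5_ok (ws := [nat_lit 1, nat_lit 3, nat_lit 5, nat_lit 7, nat_lit 9, nat_lit 11]) (by decide +kernel)

theorem t_5_eq : grp 275 t_E5 = grp 275 t_G5 :=
  le_antisymm t_le58 t_le59

theorem t_card5 : Nat.card (grp 275 t_E5) = 36 :=
  by rw [t_5_eq]; exact t_5_cardG

theorem t_stab5 : grp 275 t_E5 ⊓ MulAction.stabilizer (Equiv.Perm (Fin 275)) (⟨82, by decide⟩ : Fin 275) = grp 275 t_E6 :=
  by rw [t_5_eq]; exact t_5_lev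

theorem t_leO5 : grp 275 t_E5 ≤ grp 275 t_O :=
  t_5_eq.le.trans (grp_cons_le ((t_le39.trans (t_le32.trans (t_le25.trans (t_le17.trans (t_le10.trans (le_refl (grp 275 t_O))))))) (t_le41 (toPerm_mem_grp (E := t_V40) (by simp [t_V40])))) t_leO6)

theorem t_4_fix : grp 275 t_E5 ≤ MulAction.stabilizer (Equiv.Perm (Fin 275)) (⟨1, by decide⟩ : Fin 275) :=
  grp_le_stab t_E5_ok (by decide : 1 < 275) (by decide +kernel)

noncomputable def t_4_ts : List ℕ := [nat_lit 0, nat_lit 1, nat_lit 66305, nat_lit 66818]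

noncomputable def t_4_ds : List ℕ := [nat_lit 1, nat_lit 223, nat_lit 200, nat_lit 215]

theorem t_4_dist : Dist 275 t_E5 t_G4 (⟨1, by decide⟩ : Fin 275) t_4_ts t_4_ds :=
  dist_of_distB (k := 2) t_hn t_E5_ok t_G4_ok (by decide : 1 < 275) (by decide +kernel)

noncomputable def t_4_sl0 : SL := (SL.cons (nat_lit 1) (nat_lit 223) (Ch.cons (nat_lit 2) [nat_lit 11] Ch.nil) [nat_lit 11] (SL.cons (nat_lit 66305) (nat_lit 200) (Ch.cons (nat_lit 2) [nat_lit 4] Ch.nil) [nat_lit 2820] (SL.cons (nat_lit 66818) (nat_lit 215) (Ch.cons (nat_lit 2) [nat_lit 773, nat_lit 4] (Ch.cons (nat_lit 3) [nat_lit 3077] Ch.nil)) [nat_lit 5, nat_lit 4, nat_lit 3081] SL.nil)))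

theorem t_4_sc0 : SCs 275 t_E5 t_G4 (⟨1, by decide⟩ : Fin 275) (SL.words t_4_sl0) :=
  scs_of_ok t_hn (det_lab t_hk ⊤) t_E5_ok t_G4_ok le_top le_top (by decide : 1 < 275) t_4_fix t_card5.le (by decide +kernel)

noncomputable def t_4_l : List ℕ := (appL (SL.words t_4_sl0) [])

theorem t_4_scs : SCs 275 t_E5 t_G4 (⟨1, by decide⟩ : Fin 275) t_4_l :=
  (SCs.append t_4_sc0 SCs.nil)

noncomputable def t_4_rl0_0 : RL := (RL.cons (nat_lit 0) (nat_lit 1) (nat_lit 0) (nat_lit 9) (nat_lit 1) (nat_lit 9) (RL.cons (nat_lit 1) (nat_lit 223) (nat_lit 0) (nat_lit 0) (nat_lit 0) (nat_lit 0) (RL.cons (nat_lit 1) (nat_lit 61) (nat_lit 1) (nat_lit 1) (nat_lit 2) (nat_lit 2305) (RL.cons (nat_lit 1) (nat_lit 177) (nat_lit 2) (nat_lit 5) (nat_lit 2) (nat_lit 2820) (RL.cons (nat_lit 1) (nat_lit 12) (nat_lit 3) (nat_lit 0) (nat_lit 3) (nat_lit 0) (RL.cons (nat_lit 1) (nat_lit 72) (nat_lit 4) (nat_lit 1) (nat_lit 3) (nat_lit 788737) (RL.cons (nat_lit 1) (nat_lit 196) (nat_lit 5) (nat_lit 3)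 (nat_lit 1) (nat_lit 773) (RL.cons (nat_lit 1) (nat_lit 119) (nat_lit 9) (nat_lit 0) (nat_lit 1) (nat_lit 9) (RL.cons (nat_lit 1) (nat_lit 45) (nat_lit 773) (nat_lit 4) (nat_lit 1) (nat_lit 5) (RL.cons (nat_lit 2) (nat_lit 200) (nat_lit 0) (nat_lit 1) (nat_lit 1) (nat_lit 0) (RL.cons (nat_lit 2) (nat_lit 15) (nat_lit 1) (nat_lit 0) (nat_lit 2) (nat_lit 1) (RL.cons (nat_lit 2) (nat_lit 148) (nat_lit 2) (nat_lit 2) (nat_lit 1) (nat_lit 1) (RL.cons (nat_lit 2) (nat_lit 214) (nat_lit 5) (nat_lit 2) (nat_lit 2) (nat_lit 787713) (RL.cons (nat_lit 3) (nat_lit 215) (nat_lit 0) (nat_lit 5) (nat_lit 1) (nat_lit 773) (RL.cons (nat_lit 3) (nat_lit 82) (nat_lit 1) (nat_lit 773) (nat_lit 1) (nat_lit 723201) RL.nil)))))))))))))))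

theorem t_4_good0_0 : GoodSet 275 t_E5 t_G4 (⟨1, by decide⟩ : Fin 275) t_4_ts (nat_lit 1) (RL.pts t_4_rl0_0) :=
  goodSet_of_ok t_hn (det_lab t_hk ⊤) t_E5_ok t_G4_ok le_top le_top (by decide : 1 < 275) (sepAt_lab t_hk _) (by decide +kernel)

theorem t_4_step0 : Step 275 t_E5 t_G4 t_4_ts (2 * 0 + 1) :=
  step_of_cover t_E5_ok t_4_dist (by decide +kernel) t_4_scs (by decide +kernel) t_4_good0_0 (kw := [nat_lit 11])
    (conj_mem_of_scs t_E5_ok t_G4_ok (by decide : 1 < 275) t_4_scs (c := 0) (d := 223) (by decide +kernel)) (by decide +kernel)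

theorem t_4_lev : grp 275 t_G4 ⊓ MulAction.stabilizer (Equiv.Perm (Fin 275)) (⟨1, by decide⟩ : Fin 275) = grp 275 t_E5 :=
  sims_level (gs := t_V34) rfl (by decide) t_4_fix t_4_dist (forall_lt_one t_4_step0)

theorem t_4_cardG : Nat.card (grp 275 t_G4) = 972 :=
  card_of_level t_hn t_G4_ok (by decide : 1 < 275) t_4_lev t_card5 (m := 27) (by decide +kernel)

theorem t_le60 : grp 275 t_E4 ≤ grp 275 t_G4 :=
  grp_le_of_memB t_hn t_hk t_G4_ok t_E4_ok (ws := [nat_lit 1, nat_lit 0xd06030106, nat_lit 0xd050301030205, nat_lit 197125, nat_lit 3, nat_lit 5, nat_lit 7, nat_lit 9, nat_lit 11, nat_lit 13]) (by decide +kernel)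

theorem t_le61 : grp 275 t_G4 ≤ grp 275 t_E4 :=
  grp_le_of_memB t_hn t_hk t_E4_ok t_G4_ok (ws := [nat_lit 1, nat_lit 9, nat_lit 11, nat_lit 13, nat_lit 15, nat_lit 17, nat_lit 19]) (by decide +kernel)

theorem t_4_eq : grp 275 t_E4 = grp 275 t_G4 :=
  le_antisymm t_le60 t_le61

theorem t_card4 : Nat.card (grp 275 t_E4) = 972 :=
  by rw [t_4_eq]; exact t_4_cardG

theorem t_stab4 : grp 275 t_E4 ⊓ MulAction.stabilizer (Equiv.Perm (Fin 275)) (⟨1, by decide⟩ : Fin 275) = grp 275 t_E5 :=
  by rw [t_4_eq]; exact t_4_lev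

theorem t_leO4 : grp 275 t_E4 ≤ grp 275 t_O :=
  t_4_eq.le.trans (grp_cons_le ((t_le32.trans (t_le25.trans (t_le17.trans (t_le10.trans (le_refl (grp 275 t_O)))))) (t_le35 (toPerm_mem_grp (E := t_V34) (by simp [t_V34])))) t_leO5)

theorem t_3_fix : grp 275 t_E4 ≤ MulAction.stabilizer (Equiv.Perm (Fin 275)) (⟨113, by decide⟩ : Fin 275) :=
  grp_le_stab t_E4_ok (by decide : 113 < 275) (by decide +kernel)

noncomputable def t_3_ts : List ℕ := [nat_lit 0, nat_lit 1]

noncomputable def t_3_ds : List ℕ := [nat_lit 113, nat_lit 117]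

theorem t_3_dist : Dist 275 t_E4 t_G3 (⟨113, by decide⟩ : Fin 275) t_3_ts t_3_ds :=
  dist_of_distB (k := 1) t_hn t_E4_ok t_G3_ok (by decide : 113 < 275) (by decide +kernel)

noncomputable def t_3_sl0 : SL := (SL.cons (nat_lit 1) (nat_lit 117) (Ch.cons (nat_lit 1) [nat_lit 4353] (Ch.cons (nat_lit 4) [nat_lit 5137, nat_lit 4873] (Ch.cons (nat_lit 2) [nat_lit 13] Ch.nil))) [nat_lit 788743, nat_lit 0x140c090109, nat_lit 0x140b0d09030a, nat_lit 5137] SL.nil)

theorem t_3_sc0 : SCs 275 t_E4 t_G3 (⟨113, by decide⟩ : Fin 275) (SL.words t_3_sl0) :=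
  scs_of_ok t_hn (det_lab t_hk ⊤) t_E4_ok t_G3_ok le_top le_top (by decide : 113 < 275) t_3_fix t_card4.le (by decide +kernel)

noncomputable def t_3_l : List ℕ := (appL (SL.words t_3_sl0) [])

theorem t_3_scs : SCs 275 t_E4 t_G3 (⟨113, by decide⟩ : Fin 275) t_3_l :=
  (SCs.append t_3_sc0 SCs.nil)

noncomputable def t_3_rl0_0 : RL := (RL.cons (nat_lit 0) (nat_lit 113) (nat_lit 0) (nat_lit 0) (nat_lit 1) (nat_lit 0x140d09080c) (RL.cons (nat_lit 1) (nat_lit 117) (nat_lit 0) (nat_lit 0) (nat_lit 0) (nat_lit 0) RL.nil))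

theorem t_3_good0_0 : GoodSet 275 t_E4 t_G3 (⟨113, by decide⟩ : Fin 275) t_3_ts (nat_lit 1) (RL.pts t_3_rl0_0) :=
  goodSet_of_ok t_hn (det_lab t_hk ⊤) t_E4_ok t_G3_ok le_top le_top (by decide : 113 < 275) (sepAt_lab t_hk _) (by decide +kernel)

theorem t_3_step0 : Step 275 t_E4 t_G3 t_3_ts (2 * 0 + 1) :=
  step_of_cover t_E4_ok t_3_dist (by decide +kernel) t_3_scs (by decide +kernel) t_3_good0_0 (kw := [nat_lit 4353, nat_lit 5137, nat_lit 4873, nat_lit 13])
    (conj_mem_of_scs t_E4_ok t_G3_ok (by decide : 113 < 275) t_3_scs (c := 0) (d := 117) (by decide +kernel)) (by decide +kernel)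

theorem t_3_lev : grp 275 t_G3 ⊓ MulAction.stabilizer (Equiv.Perm (Fin 275)) (⟨113, by decide⟩ : Fin 275) = grp 275 t_E4 :=
  sims_level (gs := t_V26) rfl (by decide) t_3_fix t_3_dist (forall_lt_one t_3_step0)

theorem t_3_cardG : Nat.card (grp 275 t_G3) = 1944 :=
  card_of_level t_hn t_G3_ok (by decide : 113 < 275) t_3_lev t_card4 (m := 2) (by decide +kernel)

theorem t_le62 : grp 275 t_E3 ≤ grp 275 t_G3 :=
  grp_le_of_memB t_hn t_hk t_G3_ok t_E3_ok (ws := [nat_lit 1, nat_lit 0xd0f0a0e01, nat_lit 0xf0b03060b01, nat_lit 3, nat_lit 5, nat_lit 7, nat_lit 9, nat_lit 11, nat_lit 13, nat_lit 15, nat_lit 17, nat_lit 19, nat_lit 21]) (by decide +kernel)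

theorem t_le63 : grp 275 t_G3 ≤ grp 275 t_E3 :=
  grp_le_of_memB t_hn t_hk t_E3_ok t_G3_ok (ws := [nat_lit 1, nat_lit 7, nat_lit 9, nat_lit 11, nat_lit 13, nat_lit 15, nat_lit 17, nat_lit 19, nat_lit 21, nat_lit 23, nat_lit 25]) (by decide +kernel)

theorem t_3_eq : grp 275 t_E3 = grp 275 t_G3 :=
  le_antisymm t_le62 t_le63

theorem t_card3 : Nat.card (grp 275 t_E3) = 1944 :=
  by rw [t_3_eq]; exact t_3_cardG

theorem t_stab3 : grp 275 t_E3 ⊓ MulAction.stabilizer (Equiv.Perm (Fin 275)) (⟨113, by decide⟩ : Fin 275) = grp 275 t_E4 :=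
  by rw [t_3_eq]; exact t_3_lev

theorem t_leO3 : grp 275 t_E3 ≤ grp 275 t_O :=
  t_3_eq.le.trans (grp_cons_le ((t_le25.trans (t_le17.trans (t_le10.trans (le_refl (grp 275 t_O))))) (t_le27 (toPerm_mem_grp (E := t_V26) (by simp [t_V26])))) t_leO4)

theorem t_2_fix : grp 275 t_E3 ≤ MulAction.stabilizer (Equiv.Perm (Fin 275)) (⟨48, by decide⟩ : Fin 275) :=
  grp_le_stab t_E3_ok (by decide : 48 < 275) (by decide +kernel)

noncomputable def t_2_ts : List ℕ := [nat_lit 0, nat_lit 1, nat_lit 66818]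

noncomputable def t_2_ds : List ℕ := [nat_lit 48, nat_lit 150, nat_lit 113]

theorem t_2_dist : Dist 275 t_E3 t_G2 (⟨48, by decide⟩ : Fin 275) t_2_ts t_2_ds :=
  dist_of_distB (k := 2) t_hn t_E3_ok t_G2_ok (by decide : 48 < 275) (by decide +kernel)

noncomputable def t_2_sl0 : SL := (SL.cons (nat_lit 1) (nat_lit 150) (Ch.cons (nat_lit 2) [nat_lit 0x11130709, nat_lit 0x170b01] (Ch.cons (nat_lit 1) [nat_lit 0x120f0d] Ch.nil)) [nat_lit 0x19110f090901, nat_lit 0x19130a0e01, nat_lit 0x19110713] (SL.cons (nat_lit 66818) (nat_lit 113) (Ch.cons (nat_lit 1) [nat_lit 7, nat_lit 9, nat_lit 11, nat_lit 13] (Ch.cons (nat_lit 82) [nat_lit 15] (Ch.cons (nat_lit 12) [nat_lit 17, nat_lit 19, nat_lit 21, nat_lit 23] (Ch.cons (nat_lit 2) [nat_lit 25] Ch.nil)))) [nat_lit 0x170f0d, nat_lit 0x170b0f, nat_lit 0x19170b13, nat_lit 0x1a11130f0a0e, nat_lit 0x19120f090e, nat_lit 0x1a12090e, nat_lit 0x110713, nat_lit 0x1a130a0e, nat_lit 11, nat_lit 0x1911130b] SL.nil))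

theorem t_2_sc0 : SCs 275 t_E3 t_G2 (⟨48, by decide⟩ : Fin 275) (SL.words t_2_sl0) :=
  scs_of_ok t_hn (det_lab t_hk ⊤) t_E3_ok t_G2_ok le_top le_top (by decide : 48 < 275) t_2_fix t_card3.le (by decide +kernel)

noncomputable def t_2_l : List ℕ := (appL (SL.words t_2_sl0) [])

theorem t_2_scs : SCs 275 t_E3 t_G2 (⟨48, by decide⟩ : Fin 275) t_2_l :=
  (SCs.append t_2_sc0 SCs.nil)

noncomputable def t_2_rl0_0 : RL := (RL.cons (nat_lit 0) (nat_lit 48) (nat_lit 0) (nat_lit 272) (nat_lit 1) (nat_lit 0x1911130f0b1201) (RL.cons (nat_lit 1) (nat_lit 150) (nat_lit 0) (nat_lit 0) (nat_lit 0) (nat_lit 0) (RL.cons (nat_lit 1) (nat_lit 210) (nat_lit 1) (nat_lit 774) (nat_lit 1) (nat_lit 0x1a120809) (RL.cons (nat_lit 1) (nat_lit 272) (nat_lit 3) (nat_lit 0) (nat_lit 2) (nat_lit 0) (RL.cons (nat_lit 2) (nat_lit 113) (nat_lit 0) (nat_lit 7) (nat_lit 1) (nat_lit 0x1912080d01) RL.nil)))))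

theorem t_2_good0_0 : GoodSet 275 t_E3 t_G2 (⟨48, by decide⟩ : Fin 275) t_2_ts (nat_lit 1) (RL.pts t_2_rl0_0) :=
  goodSet_of_ok t_hn (det_lab t_hk ⊤) t_E3_ok t_G2_ok le_top le_top (by decide : 48 < 275) (sepAt_lab t_hk _) (by decide +kernel)

theorem t_2_step0 : Step 275 t_E3 t_G2 t_2_ts (2 * 0 + 1) :=
  step_of_cover t_E3_ok t_2_dist (by decide +kernel) t_2_scs (by decide +kernel) t_2_good0_0 (kw := [nat_lit 0x11130709, nat_lit 0x170b01, nat_lit 0x120f0d])
    (conj_mem_of_scs t_E3_ok t_G2_ok (by decide : 48 < 275) t_2_scs (c := 0) (d := 150) (by decide +kernel)) (by decide +kernel)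

theorem t_2_lev : grp 275 t_G2 ⊓ MulAction.stabilizer (Equiv.Perm (Fin 275)) (⟨48, by decide⟩ : Fin 275) = grp 275 t_E3 :=
  sims_level (gs := t_V19) rfl (by decide) t_2_fix t_2_dist (forall_lt_one t_2_step0)

theorem t_2_cardG : Nat.card (grp 275 t_G2) = 58320 :=
  card_of_level t_hn t_G2_ok (by decide : 48 < 275) t_2_lev t_card3 (m := 30) (by decide +kernel)

theorem t_le64 : grp 275 t_E2 ≤ grp 275 t_G2 :=
  grp_le_of_memB t_hn t_hk t_G2_ok t_E2_ok (ws := [nat_lit 1, nat_lit 0x1b190b0b0302, nat_lit 0x14090c1103, nat_lit 3, nat_lit 5, nat_lit 7, nat_lit 9, nat_lit 11, nat_lit 13, nat_lit 15, nat_lit 17, nat_lit 19, nat_lit 21, nat_lit 23, nat_lit 25, nat_lit 27]) (by decide +kernel)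

theorem t_le65 : grp 275 t_G2 ≤ grp 275 t_E2 :=
  grp_le_of_memB t_hn t_hk t_E2_ok t_G2_ok (ws := [nat_lit 1, nat_lit 7, nat_lit 9, nat_lit 11, nat_lit 13, nat_lit 15, nat_lit 17, nat_lit 19, nat_lit 21, nat_lit 23, nat_lit 25, nat_lit 27, nat_lit 29, nat_lit 31]) (by decide +kernel)

theorem t_2_eq : grp 275 t_E2 = grp 275 t_G2 :=
  le_antisymm t_le64 t_le65

theorem t_card2 : Nat.card (grp 275 t_E2) = 58320 :=
  by rw [t_2_eq]; exact t_2_cardG

theorem t_stab2 : grp 275 t_E2 ⊓ MulAction.stabilizer (Equiv.Perm (Fin 275)) (⟨48, by decide⟩ : Fin 275) = grp 275 t_E3 :=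
  by rw [t_2_eq]; exact t_2_lev

theorem t_leO2 : grp 275 t_E2 ≤ grp 275 t_O :=
  t_2_eq.le.trans (grp_cons_le ((t_le17.trans (t_le10.trans (le_refl (grp 275 t_O)))) (t_le20 (toPerm_mem_grp (E := t_V19) (by simp [t_V19])))) t_leO3)

theorem t_1_fix : grp 275 t_E2 ≤ MulAction.stabilizer (Equiv.Perm (Fin 275)) (⟨249, by decide⟩ : Fin 275) :=
  grp_le_stab t_E2_ok (by decide : 249 < 275) (by decide +kernel)

noncomputable def t_1_ts : List ℕ := [nat_lit 0, nat_lit 1, nat_lit 66305]

noncomputable def t_1_ds : List ℕ := [nat_lit 249, nat_lit 48, nat_lit 69]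

theorem t_1_dist : Dist 275 t_E2 t_G1 (⟨249, by decide⟩ : Fin 275) t_1_ts t_1_ds :=
  dist_of_distB (k := 2) t_hn t_E2_ok t_G1_ok (by decide : 249 < 275) (by decide +kernel)

noncomputable def t_1_sl0 : SL := (SL.cons (nat_lit 1) (nat_lit 48) (Ch.cons (nat_lit 113) [nat_lit 7, nat_lit 9, nat_lit 11] (Ch.cons (nat_lit 1) [nat_lit 13, nat_lit 15, nat_lit 17, nat_lit 19] (Ch.cons (nat_lit 82) [nat_lit 21] (Ch.cons (nat_lit 12) [nat_lit 23, nat_lit 25, nat_lit 27, nat_lit 29] (Ch.cons (nat_lit 2) [nat_lit 31] Ch.nil))))) [nat_lit 0x1f18150d101507010a02, nat_lit 0x201d150d1507010a02, nat_lit 0x2017190d101507010a02, nat_lit 0x1f180d17, nat_lit 0x1f170d10, nat_lit 0x1f181513, nat_lit 0x2019150d, nat_lit 16, nat_lit 0x201d1313, nat_lit 4883, nat_lit 14, nat_lit 3855, nat_lit 13] (SL.cons (nat_lit 66305) (nat_lit 69) (Ch.cons (nat_lit 8) [nat_lit 0x1d0f11070114] (Ch.cons (nat_lit 3) [nat_lit 0x14180205, nat_lit 0x20171914180205] Ch.nil)) [nat_lit 0x1714010c, nat_lit 0x151118070208,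 nat_lit 0x151119070208] SL.nil))

theorem t_1_sc0 : SCs 275 t_E2 t_G1 (⟨249, by decide⟩ : Fin 275) (SL.words t_1_sl0) :=
  scs_of_ok t_hn (det_lab t_hk ⊤) t_E2_ok t_G1_ok le_top le_top (by decide : 249 < 275) t_1_fix t_card2.le (by decide +kernel)

noncomputable def t_1_l : List ℕ := (appL (SL.words t_1_sl0) [])

theorem t_1_scs : SCs 275 t_E2 t_G1 (⟨249, by decide⟩ : Fin 275) t_1_l :=
  (SCs.append t_1_sc0 SCs.nil)

noncomputable def t_1_rl0_0 : RL := (RL.cons (nat_lit 0) (nat_lit 249) (nat_lit 0) (nat_lit 67842) (nat_lit 1) (nat_lit 0x1f17190f14010902) (RL.cons (nat_lit 1) (nat_lit 48) (nat_lit 0) (nat_lit 0) (nat_lit 0) (nat_lit 0) (RL.cons (nat_lit 1) (nat_lit 150) (nat_lit 1) (nat_lit 4098) (nat_lit 2) (nat_lit 0x1f17150e0f070115) (RL.cons (nat_lit 1) (nat_lit 113) (nat_lit 67842) (nat_lit 68098) (nat_lit 1) (nat_lit 0x19111907010902) (RL.cons (nat_lit 2) (nat_lit 69) (nat_lit 0) (nat_lit 1) (nat_lit 1) (nat_lit 0) (RL.cons (nat_lit 2) (nat_lit 203) (nat_lit 1)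 (nat_lit 6) (nat_lit 2) (nat_lit 0x20171911070101) RL.nil))))))

theorem t_1_good0_0 : GoodSet 275 t_E2 t_G1 (⟨249, by decide⟩ : Fin 275) t_1_ts (nat_lit 1) (RL.pts t_1_rl0_0) :=
  goodSet_of_ok t_hn (det_lab t_hk ⊤) t_E2_ok t_G1_ok le_top le_top (by decide : 249 < 275) (sepAt_lab t_hk _) (by decide +kernel)

theorem t_1_step0 : Step 275 t_E2 t_G1 t_1_ts (2 * 0 + 1) :=
  step_of_cover t_E2_ok t_1_dist (by decide +kernel) t_1_scs (by decide +kernel) t_1_good0_0 (kw := [nat_lit 7, nat_lit 9, nat_lit 11, nat_lit 13, nat_lit 15, nat_lit 17, nat_lit 19, nat_lit 21, nat_lit 23, nat_lit 25, nat_lit 27, nat_lit 29, nat_lit 31])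
    (conj_mem_of_scs t_E2_ok t_G1_ok (by decide : 249 < 275) t_1_scs (c := 0) (d := 48) (by decide +kernel)) (by decide +kernel)

theorem t_1_lev : grp 275 t_G1 ⊓ MulAction.stabilizer (Equiv.Perm (Fin 275)) (⟨249, by decide⟩ : Fin 275) = grp 275 t_E2 :=
  sims_level (gs := t_V12) rfl (by decide) t_1_fix t_1_dist (forall_lt_one t_1_step0)

theorem t_1_cardG : Nat.card (grp 275 t_G1) = 6531840 :=
  card_of_level t_hn t_G1_ok (by decide : 249 < 275) t_1_lev t_card2 (m := 112) (by decide +kernel)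

theorem t_le66 : grp 275 t_E1 ≤ grp 275 t_G1 :=
  grp_le_of_memB t_hn t_hk t_G1_ok t_E1_ok (ws := [nat_lit 1, nat_lit 0x191b171009030b0401030107, nat_lit 0x22191b0f1b03031001031f, nat_lit 3, nat_lit 5, nat_lit 7, nat_lit 9, nat_lit 11, nat_lit 13, nat_lit 15, nat_lit 17, nat_lit 19, nat_lit 21, nat_lit 23, nat_lit 25, nat_lit 27, nat_lit 29, nat_lit 31, nat_lit 33]) (by decide +kernel)

theorem t_le67 : grp 275 t_G1 ≤ grp 275 t_E1 :=
  grp_le_of_memB t_hn t_hk t_E1_ok t_G1_ok (ws := [nat_lit 1, nat_lit 7, nat_lit 9, nat_lit 11, nat_lit 13, nat_lit 15, nat_lit 17, nat_lit 19, nat_lit 21, nat_lit 23, nat_lit 25, nat_lit 27, nat_lit 29, nat_lit 31, nat_lit 33, nat_lit 35, nat_lit 37]) (by decide +kernel)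

theorem t_1_eq : grp 275 t_E1 = grp 275 t_G1 :=
  le_antisymm t_le66 t_le67

theorem t_card1 : Nat.card (grp 275 t_E1) = 6531840 :=
  by rw [t_1_eq]; exact t_1_cardG

theorem t_stab1 : grp 275 t_E1 ⊓ MulAction.stabilizer (Equiv.Perm (Fin 275)) (⟨249, by decide⟩ : Fin 275) = grp 275 t_E2 :=
  by rw [t_1_eq]; exact t_1_lev

theorem t_leO1 : grp 275 t_E1 ≤ grp 275 t_O :=
  t_1_eq.le.trans (grp_cons_le ((t_le10.trans (le_refl (grp 275 t_O))) (t_le13 (toPerm_mem_grp (E := t_V12) (by simp [t_V12])))) t_leO2)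

theorem t_0_fix : grp 275 t_E1 ≤ MulAction.stabilizer (Equiv.Perm (Fin 275)) (⟨0, by decide⟩ : Fin 275) :=
  grp_le_stab t_E1_ok (by decide : 0 < 275) (by decide +kernel)

noncomputable def t_0_ts : List ℕ := [nat_lit 0, nat_lit 1, nat_lit 257]

noncomputable def t_0_ds : List ℕ := [nat_lit 0, nat_lit 249, nat_lit 192]

theorem t_0_dist : Dist 275 t_E1 t_G0 (⟨0, by decide⟩ : Fin 275) t_0_ts t_0_ds :=
  dist_of_distB (k := 2) t_hn t_E1_ok t_G0_ok (by decide : 0 < 275) (by decide +kernel)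

noncomputable def t_0_sl0 : SL := (SL.cons (nat_lit 1) (nat_lit 249) (Ch.cons (nat_lit 48) [nat_lit 7, nat_lit 9, nat_lit 11] (Ch.cons (nat_lit 113) [nat_lit 13, nat_lit 15, nat_lit 17] (Ch.cons (nat_lit 1) [nat_lit 19, nat_lit 21, nat_lit 23, nat_lit 25] (Ch.cons (nat_lit 82) [nat_lit 27] (Ch.cons (nat_lit 12) [nat_lit 29, nat_lit 31, nat_lit 33, nat_lit 35] (Ch.cons (nat_lit 2) [nat_lit 37] Ch.nil)))))) [nat_lit 0x261f1515070e031b, nat_lit 0x2523161a0d071d010106, nat_lit 0x1b151a0611, nat_lit 0x251d1b151c071d0101, nat_lit 0x251d1f1b170d081a060d, nat_lit 0x251d161a0d071a020623, nat_lit 0x261d1f1b1316070e0305, nat_lit 0x251d1b170d0703, nat_lit 0x261d1b15170d080803010e, nat_lit 0x1e1b1a071008020507, nat_lit 0x1e1b151a0d0712010105, nat_lit 0x25231b160808010105, nat_lit 0x261b131b07160303, nat_lit 0x25151907230305, nat_lit 0x261d1b13160d080314, nat_lit 0x1b1a0d07230314] (SL.cons (nat_lit 257) (nat_lit 192) (Ch.cons (nat_lit 1) [nat_lit 0x1b1315070e010104] (Ch.cons (nat_lit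 2) [nat_lit 0x261e14190709, nat_lit 0x262314190714031c] (Ch.cons (nat_lit 3) [nat_lit 0x2614081e030e, nat_lit 0x251d1a070714010106] Ch.nil))) [nat_lit 0x251e131d0d080803010e, nat_lit 0x261d1b1a0714050e, nat_lit 0x251d1f151a0d080b0205, nat_lit 0x1b14190d080e0313, nat_lit 0x2623151c0d071a020613] SL.nil))

theorem t_0_sc0 : SCs 275 t_E1 t_G0 (⟨0, by decide⟩ : Fin 275) (SL.words t_0_sl0) :=
  scs_of_ok t_hn (det_lab t_hk ⊤) t_E1_ok t_G0_ok le_top le_top (by decide : 0 < 275) t_0_fix t_card1.le (by decide +kernel)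

noncomputable def t_0_l : List ℕ := (appL (SL.words t_0_sl0) [])

theorem t_0_scs : SCs 275 t_E1 t_G0 (⟨0, by decide⟩ : Fin 275) t_0_l :=
  (SCs.append t_0_sc0 SCs.nil)

noncomputable def t_0_rl0_0 : RL := (RL.cons (nat_lit 0) (nat_lit 0) (nat_lit 0) (nat_lit 782) (nat_lit 1) (nat_lit 0x262313160713030e) (RL.cons (nat_lit 1) (nat_lit 249) (nat_lit 0) (nat_lit 0) (nat_lit 0) (nat_lit 0) (RL.cons (nat_lit 1) (nat_lit 48) (nat_lit 1) (nat_lit 1540) (nat_lit 1) (nat_lit 0x26231b131f0d071502060b) (RL.cons (nat_lit 1) (nat_lit 21) (nat_lit 3) (nat_lit 65822) (nat_lit 2) (nat_lit 0x251f1b1419071002) (RL.cons (nat_lit 2) (nat_lit 192) (nat_lit 0) (nat_lit 0) (nat_lit 1) (nat_lit 0) (RL.cons (nat_lit 2) (nat_lit 168) (nat_lit 2) (nat_lit 518) (nat_lit 2) (nat_lit 0x23171e080e0206) RL.nil))))))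

theorem t_0_good0_0 : GoodSet 275 t_E1 t_G0 (⟨0, by decide⟩ : Fin 275) t_0_ts (nat_lit 1) (RL.pts t_0_rl0_0) :=
  goodSet_of_ok t_hn (det_lab t_hk ⊤) t_E1_ok t_G0_ok le_top le_top (by decide : 0 < 275) (sepAt_lab t_hk _) (by decide +kernel)

theorem t_0_step0 : Step 275 t_E1 t_G0 t_0_ts (2 * 0 + 1) :=
  step_of_cover t_E1_ok t_0_dist (by decide +kernel) t_0_scs (by decide +kernel) t_0_good0_0 (kw := [nat_lit 7, nat_lit 9, nat_lit 11, nat_lit 13, nat_lit 15, nat_lit 17, nat_lit 19, nat_lit 21, nat_lit 23, nat_lit 25, nat_lit 27, nat_lit 29, nat_lit 31, nat_lit 33, nat_lit 35, nat_lit 37])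
    (conj_mem_of_scs t_E1_ok t_G0_ok (by decide : 0 < 275) t_0_scs (c := 0) (d := 249) (by decide +kernel)) (by decide +kernel)

theorem t_0_lev : grp 275 t_G0 ⊓ MulAction.stabilizer (Equiv.Perm (Fin 275)) (⟨0, by decide⟩ : Fin 275) = grp 275 t_E1 :=
  sims_level (gs := t_V5) rfl (by decide) t_0_fix t_0_dist (forall_lt_one t_0_step0)

theorem t_0_cardG : Nat.card (grp 275 t_G0) = 1796256000 :=
  card_of_level t_hn t_G0_ok (by decide : 0 < 275) t_0_lev t_card1 (m := 275) (by decide +kernel)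

theorem t_le68 : grp 275 t_E0 ≤ grp 275 t_G0 :=
  grp_le_of_memB t_hn t_hk t_G0_ok t_E0_ok (ws := [nat_lit 1, nat_lit 0x281d17091d070b01010805, nat_lit 0x2725151d09091604070a0101050e, nat_lit 0x271f1d17190f0912040a05, nat_lit 3, nat_lit 5, nat_lit 7, nat_lit 9, nat_lit 11, nat_lit 13, nat_lit 15, nat_lit 17, nat_lit 19, nat_lit 21, nat_lit 23, nat_lit 25, nat_lit 27, nat_lit 29, nat_lit 31, nat_lit 33, nat_lit 35, nat_lit 37, nat_lit 39]) (by decide +kernel)

theorem t_le69 : grp 275 t_G0 ≤ grp 275 t_E0 :=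
  grp_le_of_memB t_hn t_hk t_E0_ok t_G0_ok (ws := [nat_lit 1, nat_lit 9, nat_lit 11, nat_lit 13, nat_lit 15, nat_lit 17, nat_lit 19, nat_lit 21, nat_lit 23, nat_lit 25, nat_lit 27, nat_lit 29, nat_lit 31, nat_lit 33, nat_lit 35, nat_lit 37, nat_lit 39, nat_lit 41, nat_lit 43, nat_lit 45]) (by decide +kernel)

theorem t_0_eq : grp 275 t_E0 = grp 275 t_G0 :=
  le_antisymm t_le68 t_le69

theorem t_card0 : Nat.card (grp 275 t_E0) = 1796256000 :=
  by rw [t_0_eq]; exact t_0_cardG

theorem t_stab0 : grp 275 t_E0 ⊓ MulAction.stabilizer (Equiv.Perm (Fin 275)) (⟨0, by decide⟩ : Fin 275) = grp 275 t_E1 :=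
  by rw [t_0_eq]; exact t_0_lev

theorem t_leO0 : grp 275 t_E0 ≤ grp 275 t_O :=
  t_0_eq.le.trans (grp_cons_le ((le_refl (grp 275 t_O)) (t_le6 (toPerm_mem_grp (E := t_V5) (by simp [t_V5])))) t_leO1)

theorem t_le70 : grp 275 t_O ≤ grp 275 t_E0 :=
  grp_le_of_memB t_hn t_hk t_E0_ok t_O_ok (ws := [nat_lit 3, nat_lit 5, nat_lit 7]) (by decide +kernel)

theorem t_eq : grp 275 t_O = grp 275 t_E0 :=
  le_antisymm t_le70 t_leO0

theorem t_card : Nat.card (grp 275 t_O) = 1796256000 :=
  by rw [t_eq]; exact t_card0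

noncomputable def t_ch : Ch := (Ch.cons (nat_lit 0) [nat_lit 1, nat_lit 3, nat_lit 5, nat_lit 7] (Ch.cons (nat_lit 249) [nat_lit 9, nat_lit 11, nat_lit 13] (Ch.cons (nat_lit 48) [nat_lit 15, nat_lit 17, nat_lit 19] (Ch.cons (nat_lit 113) [nat_lit 21, nat_lit 23, nat_lit 25] (Ch.cons (nat_lit 1) [nat_lit 27, nat_lit 29, nat_lit 31, nat_lit 33] (Ch.cons (nat_lit 82) [nat_lit 35] (Ch.cons (nat_lit 12) [nat_lit 37, nat_lit 39, nat_lit 41, nat_lit 43] (Ch.cons (nat_lit 2) [nat_lit 45] Ch.nil))))))))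

theorem t_exact : Ch.Exact 275 t_E0 t_ch (grp 275 t_E0) :=
  Ch.exact (k := 9) (L := (lab 275 9)) t_hn t_E0_ok (by decide +kernel) (wgrp_le_grp _ _ _) t_card0.le

theorem t_T71_s0 : Stab 275 (grp 275 t_E0) [] t_E0 1796256000 :=
  Stab.root t_E0_ok t_card0

theorem t_le82 : grp 275 cx_K ≤ grp 275 t_E0 :=
  grp_le_of_memB t_hn t_hk t_E0_ok cx_K_ok (ws := [nat_lit 0x2b231e100a0b09010710, nat_lit 0x2e25271d2410100d16, nat_lit 0x2527231f0f250b24, nat_lit 0x2d2b231b230f0b11, nat_lit 0x2e231b10260a0d1e, nat_lit 0x2d251b1e23150f160d0b, nat_lit 0x271f270f230b18, nat_lit 0x2d27231f270f0f220b11, nat_lit 0x2e2527231e0f1e0c17]) (by decide +kernel)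

theorem cx_le : grp 275 cx_K ≤ (grp 275 t_E0) :=
  (t_le82.trans t_T71_s0.le)

theorem cx_mem : Net.toPerm 275 t_g72 ∈ (grp 275 t_E0) :=
  cx_le (mem_grp_of_memB t_hn t_hk cx_K_ok t_g72_ok (w := (nat_lit 0xd090d09)) (by decide +kernel))

theorem cx_sym : Sym 275 (grp 275 t_E0) [t_g72] cx_K 0 :=
  Sym.of_lab t_hn t_hk (okE_cons.2 ⟨t_g72_ok, okE_nil _⟩) cx_K_ok cx_le (kT := 0) (by decide +kernel)

theorem t_T71_s1 : Stab 275 (grp 275 t_E0) [nat_lit 0] t_V83 6531840 :=
  Stab.step (k := 9) (L := (lab 275 9)) t_hn t_T71_s0 t_V83_ok (grp_mono (List.subset_append_right [t_g4, t_g1, t_g2, t_g3] _)) (c := (Ch.cons (nat_lit 249) [nat_lit 1, nat_lit 3, nat_lit 5] (Ch.cons (nat_lit 48) [nat_lit 7, nat_lit 9, nat_lit 11] (Ch.cons (nat_lit 113) [nat_lit 13, nat_lit 15, nat_lit 17] (Ch.cons (nat_lit 1) [nat_lit 19, nat_lit 21, nat_lit 23, nat_lit 25] (Ch.cons (nat_lit 82) [nat_lit 27] (Ch.cons (nat_lit 12) [nat_lit 29, nat_lit 31, nat_lit 33, nat_lit 35] (Ch.cons (nat_lit 2) [nat_lit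 37] Ch.nil)))))))) (by decide +kernel)

theorem t_T71_s2 : Stab 275 (grp 275 t_E0) [nat_lit 249, nat_lit 0] t_V84 58320 :=
  Stab.step (k := 9) (L := (lab 275 9)) t_hn t_T71_s1 t_V84_ok (grp_mono (List.subset_append_right [t_g11, t_g7, t_g8] _)) (c := (Ch.cons (nat_lit 48) [nat_lit 1, nat_lit 3, nat_lit 5] (Ch.cons (nat_lit 113) [nat_lit 7, nat_lit 9, nat_lit 11] (Ch.cons (nat_lit 1) [nat_lit 13, nat_lit 15, nat_lit 17, nat_lit 19] (Ch.cons (nat_lit 82) [nat_lit 21] (Ch.cons (nat_lit 12) [nat_lit 23, nat_lit 25, nat_lit 27, nat_lit 29] (Ch.cons (nat_lit 2) [nat_lit 31] Ch.nil))))))) (by decide +kernel)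

theorem t_T71_s3 : Stab 275 (grp 275 t_E0) [nat_lit 48, nat_lit 249, nat_lit 0] t_V85 1944 :=
  Stab.step (k := 9) (L := (lab 275 9)) t_hn t_T71_s2 t_V85_ok (grp_mono (List.subset_append_right [t_g18, t_g14, t_g15] _)) (c := (Ch.cons (nat_lit 113) [nat_lit 1, nat_lit 3, nat_lit 5] (Ch.cons (nat_lit 1) [nat_lit 7, nat_lit 9, nat_lit 11, nat_lit 13] (Ch.cons (nat_lit 82) [nat_lit 15] (Ch.cons (nat_lit 12) [nat_lit 17, nat_lit 19, nat_lit 21, nat_lit 23] (Ch.cons (nat_lit 2) [nat_lit 25] Ch.nil)))))) (by decide +kernel)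

theorem t_T71_s4 : Stab 275 (grp 275 t_E0) [nat_lit 113, nat_lit 48, nat_lit 249, nat_lit 0] t_V86 972 :=
  Stab.step (k := 9) (L := (lab 275 9)) t_hn t_T71_s3 t_V86_ok (grp_mono (List.subset_append_right [t_g21, t_g22, t_g23] _)) (c := (Ch.cons (nat_lit 1) [nat_lit 1, nat_lit 3, nat_lit 5, nat_lit 7] (Ch.cons (nat_lit 82) [nat_lit 9] (Ch.cons (nat_lit 12) [nat_lit 11, nat_lit 13, nat_lit 15, nat_lit 17] (Ch.cons (nat_lit 2) [nat_lit 19] Ch.nil))))) (by decide +kernel)

theorem t_T71_s5 : Stab 275 (grp 275 t_E0) [nat_lit 1, nat_lit 113, nat_lit 48, nat_lit 249, nat_lit 0] t_V87 36 :=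
  Stab.step (k := 9) (L := (lab 275 9)) t_hn t_T71_s4 t_V87_ok (grp_mono (List.subset_append_right [t_g33, t_g28, t_g29, t_g30] _)) (c := (Ch.cons (nat_lit 82) [nat_lit 1] (Ch.cons (nat_lit 12) [nat_lit 3, nat_lit 5, nat_lit 7, nat_lit 9] (Ch.cons (nat_lit 2) [nat_lit 11] Ch.nil)))) (by decide +kernel)

theorem t_T71_s6 : Stab 275 (grp 275 t_E0) [nat_lit 82, nat_lit 1, nat_lit 113, nat_lit 48, nat_lit 249, nat_lit 0] t_V88 18 :=
  Stab.step (k := 9) (L := (lab 275 9)) t_hn t_T71_s5 t_V88_ok (grp_mono (List.subset_append_right [t_g36] _)) (c := (Ch.cons (nat_lit 12) [nat_lit 1, nat_lit 3, nat_lit 5, nat_lit 7] (Ch.cons (nat_lit 2) [nat_lit 9] Ch.nil))) (by decide +kernel)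

theorem t_T71_s7 : Stab 275 (grp 275 t_E0) [nat_lit 12, nat_lit 82, nat_lit 1, nat_lit 113, nat_lit 48, nat_lit 249, nat_lit 0] t_V89 3 :=
  Stab.step (k := 9) (L := (lab 275 9)) t_hn t_T71_s6 t_V89_ok (grp_mono (List.subset_append_right [t_g46, t_g42, t_g37, t_g43] _)) (c := (Ch.cons (nat_lit 2) [nat_lit 1] Ch.nil)) (by decide +kernel)

theorem t_T71_s8 : Stab 275 (grp 275 t_E0) [nat_lit 2, nat_lit 12, nat_lit 82, nat_lit 1, nat_lit 113, nat_lit 48, nat_lit 249, nat_lit 0] t_V90 1 :=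
  Stab.step (k := 9) (L := (lab 275 9)) t_hn t_T71_s7 t_V90_ok (grp_mono (List.subset_append_right [t_g49] _)) (c := Ch.nil) (by decide +kernel)

theorem t_g4_t_T71 : Net.toPerm 275 t_g4 ∈ (grp 275 t_E0) :=
  t_T71_s0.le (toPerm_mem_grp (E := t_E0) (List.Mem.head _))

theorem t_g1_t_T71 : Net.toPerm 275 t_g1 ∈ (grp 275 t_E0) :=
  t_T71_s0.le (toPerm_mem_grp (E := t_E0) (List.Mem.tail _ (List.Mem.head _)))

theorem t_g2_t_T71 : Net.toPerm 275 t_g2 ∈ (grp 275 t_E0) :=
  t_T71_s0.le (toPerm_mem_grp (E := t_E0) (List.Mem.tail _ (List.Mem.tail _ (List.Mem.head _))))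

theorem t_g3_t_T71 : Net.toPerm 275 t_g3 ∈ (grp 275 t_E0) :=
  t_T71_s0.le (toPerm_mem_grp (E := t_E0) (List.Mem.tail _ (List.Mem.tail _ (List.Mem.tail _ (List.Mem.head _)))))

theorem t_g11_t_T71 : Net.toPerm 275 t_g11 ∈ (grp 275 t_E0) :=
  t_T71_s0.le (toPerm_mem_grp (E := t_E0) (List.Mem.tail _ (List.Mem.tail _ (List.Mem.tail _ (List.Mem.tail _ (List.Mem.head _))))))

theorem t_g7_t_T71 : Net.toPerm 275 t_g7 ∈ (grp 275 t_E0) :=
  t_T71_s0.le (toPerm_mem_grp (E := t_E0) (List.Mem.tail _ (List.Mem.tail _ (List.Mem.tail _ (List.Mem.tail _ (List.Mem.tail _ (List.Mem.head _)))))))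

theorem t_g8_t_T71 : Net.toPerm 275 t_g8 ∈ (grp 275 t_E0) :=
  t_T71_s0.le (toPerm_mem_grp (E := t_E0) (List.Mem.tail _ (List.Mem.tail _ (List.Mem.tail _ (List.Mem.tail _ (List.Mem.tail _ (List.Mem.tail _ (List.Mem.head _))))))))

theorem t_g18_t_T71 : Net.toPerm 275 t_g18 ∈ (grp 275 t_E0) :=
  t_T71_s0.le (toPerm_mem_grp (E := t_E0) (List.Mem.tail _ (List.Mem.tail _ (List.Mem.tail _ (List.Mem.tail _ (List.Mem.tail _ (List.Mem.tail _ (List.Mem.tail _ (List.Mem.head _)))))))))

theorem t_g14_t_T71 : Net.toPerm 275 t_g14 ∈ (grp 275 t_E0) :=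
  t_T71_s0.le (toPerm_mem_grp (E := t_E0) (List.Mem.tail _ (List.Mem.tail _ (List.Mem.tail _ (List.Mem.tail _ (List.Mem.tail _ (List.Mem.tail _ (List.Mem.tail _ (List.Mem.tail _ (List.Mem.head _))))))))))

theorem t_g15_t_T71 : Net.toPerm 275 t_g15 ∈ (grp 275 t_E0) :=
  t_T71_s0.le (toPerm_mem_grp (E := t_E0) (List.Mem.tail _ (List.Mem.tail _ (List.Mem.tail _ (List.Mem.tail _ (List.Mem.tail _ (List.Mem.tail _ (List.Mem.tail _ (List.Mem.tail _ (List.Mem.tail _ (List.Mem.head _)))))))))))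

theorem t_g21_t_T71 : Net.toPerm 275 t_g21 ∈ (grp 275 t_E0) :=
  t_T71_s0.le (toPerm_mem_grp (E := t_E0) (List.Mem.tail _ (List.Mem.tail _ (List.Mem.tail _ (List.Mem.tail _ (List.Mem.tail _ (List.Mem.tail _ (List.Mem.tail _ (List.Mem.tail _ (List.Mem.tail _ (List.Mem.tail _ (List.Mem.head _))))))))))))

theorem t_g22_t_T71 : Net.toPerm 275 t_g22 ∈ (grp 275 t_E0) :=
  t_T71_s0.le (toPerm_mem_grp (E := t_E0) (List.Mem.tail _ (List.Mem.tail _ (List.Mem.tail _ (List.Mem.tail _ (List.Mem.tail _ (List.Mem.tail _ (List.Mem.tail _ (List.Mem.tail _ (List.Mem.tail _ (List.Mem.tail _ (List.Mem.tail _ (List.Mem.head _)))))))))))))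

theorem t_g23_t_T71 : Net.toPerm 275 t_g23 ∈ (grp 275 t_E0) :=
  t_T71_s0.le (toPerm_mem_grp (E := t_E0) (List.Mem.tail _ (List.Mem.tail _ (List.Mem.tail _ (List.Mem.tail _ (List.Mem.tail _ (List.Mem.tail _ (List.Mem.tail _ (List.Mem.tail _ (List.Mem.tail _ (List.Mem.tail _ (List.Mem.tail _ (List.Mem.tail _ (List.Mem.head _))))))))))))))

theorem t_g33_t_T71 : Net.toPerm 275 t_g33 ∈ (grp 275 t_E0) :=
  t_T71_s0.le (toPerm_mem_grp (E := t_E0) (List.Mem.tail _ (List.Mem.tail _ (List.Mem.tail _ (List.Mem.tail _ (List.Mem.tail _ (List.Mem.tail _ (List.Mem.tail _ (List.Mem.tail _ (List.Mem.tail _ (List.Mem.tail _ (List.Mem.tail _ (List.Mem.tail _ (List.Mem.tail _ (List.Mem.head _)))))))))))))))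

theorem t_g28_t_T71 : Net.toPerm 275 t_g28 ∈ (grp 275 t_E0) :=
  t_T71_s0.le (toPerm_mem_grp (E := t_E0) (List.Mem.tail _ (List.Mem.tail _ (List.Mem.tail _ (List.Mem.tail _ (List.Mem.tail _ (List.Mem.tail _ (List.Mem.tail _ (List.Mem.tail _ (List.Mem.tail _ (List.Mem.tail _ (List.Mem.tail _ (List.Mem.tail _ (List.Mem.tail _ (List.Mem.tail _ (List.Mem.head _))))))))))))))))

theorem t_g29_t_T71 : Net.toPerm 275 t_g29 ∈ (grp 275 t_E0) :=
  t_T71_s0.le (toPerm_mem_grp (E := t_E0) (List.Mem.tail _ (List.Mem.tail _ (List.Mem.tail _ (List.Mem.tail _ (List.Mem.tail _ (List.Mem.tail _ (List.Mem.tail _ (List.Mem.tail _ (List.Mem.tail _ (List.Mem.tail _ (List.Mem.tail _ (List.Mem.tail _ (List.Mem.tail _ (List.Mem.tail _ (List.Mem.tail _ (List.Mem.head _)))))))))))))))))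

theorem t_g30_t_T71 : Net.toPerm 275 t_g30 ∈ (grp 275 t_E0) :=
  t_T71_s0.le (toPerm_mem_grp (E := t_E0) (List.Mem.tail _ (List.Mem.tail _ (List.Mem.tail _ (List.Mem.tail _ (List.Mem.tail _ (List.Mem.tail _ (List.Mem.tail _ (List.Mem.tail _ (List.Mem.tail _ (List.Mem.tail _ (List.Mem.tail _ (List.Mem.tail _ (List.Mem.tail _ (List.Mem.tail _ (List.Mem.tail _ (List.Mem.tail _ (List.Mem.head _))))))))))))))))))

theorem t_g36_t_T71 : Net.toPerm 275 t_g36 ∈ (grp 275 t_E0) :=
  t_T71_s0.le (toPerm_mem_grp (E := t_E0) (List.Mem.tail _ (List.Mem.tail _ (List.Mem.tail _ (List.Mem.tail _ (List.Mem.tail _ (List.Mem.tail _ (List.Mem.tail _ (List.Mem.tail _ (List.Mem.tail _ (List.Mem.tail _ (List.Mem.tail _ (List.Mem.tail _ (List.Mem.tail _ (List.Mem.tail _ (List.Mem.tail _ (List.Mem.tail _ (List.Mem.tail _ (List.Mem.head _)))))))))))))))))))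

theorem t_g46_t_T71 : Net.toPerm 275 t_g46 ∈ (grp 275 t_E0) :=
  t_T71_s0.le (toPerm_mem_grp (E := t_E0) (List.Mem.tail _ (List.Mem.tail _ (List.Mem.tail _ (List.Mem.tail _ (List.Mem.tail _ (List.Mem.tail _ (List.Mem.tail _ (List.Mem.tail _ (List.Mem.tail _ (List.Mem.tail _ (List.Mem.tail _ (List.Mem.tail _ (List.Mem.tail _ (List.Mem.tail _ (List.Mem.tail _ (List.Mem.tail _ (List.Mem.tail _ (List.Mem.tail _ (List.Mem.head _))))))))))))))))))))

theorem t_g42_t_T71 : Net.toPerm 275 t_g42 ∈ (grp 275 t_E0) :=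
  t_T71_s0.le (toPerm_mem_grp (E := t_E0) (List.Mem.tail _ (List.Mem.tail _ (List.Mem.tail _ (List.Mem.tail _ (List.Mem.tail _ (List.Mem.tail _ (List.Mem.tail _ (List.Mem.tail _ (List.Mem.tail _ (List.Mem.tail _ (List.Mem.tail _ (List.Mem.tail _ (List.Mem.tail _ (List.Mem.tail _ (List.Mem.tail _ (List.Mem.tail _ (List.Mem.tail _ (List.Mem.tail _ (List.Mem.tail _ (List.Mem.head _)))))))))))))))))))))

theorem t_g37_t_T71 : Net.toPerm 275 t_g37 ∈ (grp 275 t_E0) :=
  t_T71_s0.le (toPerm_mem_grp (E := t_E0) (List.Mem.tail _ (List.Mem.tail _ (List.Mem.tail _ (List.Mem.tail _ (List.Mem.tail _ (List.Mem.tail _ (List.Mem.tail _ (List.Mem.tail _ (List.Mem.tail _ (List.Mem.tail _ (List.Mem.tail _ (List.Mem.tail _ (List.Mem.tail _ (List.Mem.tail _ (List.Mem.tail _ (List.Mem.tail _ (List.Mem.tail _ (List.Mem.tail _ (List.Mem.tail _ (List.Mem.tail _ (List.Mem.head _))))))))))))))))))))))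

theorem t_g43_t_T71 : Net.toPerm 275 t_g43 ∈ (grp 275 t_E0) :=
  t_T71_s0.le (toPerm_mem_grp (E := t_E0) (List.Mem.tail _ (List.Mem.tail _ (List.Mem.tail _ (List.Mem.tail _ (List.Mem.tail _ (List.Mem.tail _ (List.Mem.tail _ (List.Mem.tail _ (List.Mem.tail _ (List.Mem.tail _ (List.Mem.tail _ (List.Mem.tail _ (List.Mem.tail _ (List.Mem.tail _ (List.Mem.tail _ (List.Mem.tail _ (List.Mem.tail _ (List.Mem.tail _ (List.Mem.tail _ (List.Mem.tail _ (List.Mem.tail _ (List.Mem.head _)))))))))))))))))))))))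

theorem t_g49_t_T71 : Net.toPerm 275 t_g49 ∈ (grp 275 t_E0) :=
  t_T71_s0.le (toPerm_mem_grp (E := t_E0) (List.Mem.tail _ (List.Mem.tail _ (List.Mem.tail _ (List.Mem.tail _ (List.Mem.tail _ (List.Mem.tail _ (List.Mem.tail _ (List.Mem.tail _ (List.Mem.tail _ (List.Mem.tail _ (List.Mem.tail _ (List.Mem.tail _ (List.Mem.tail _ (List.Mem.tail _ (List.Mem.tail _ (List.Mem.tail _ (List.Mem.tail _ (List.Mem.tail _ (List.Mem.tail _ (List.Mem.tail _ (List.Mem.tail _ (List.Mem.tail _ (List.Mem.head _))))))))))))))))))))))))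

noncomputable def t_T71_s8_O : ℕ := (nat_lit 0x7ffff000000000000000000000000000000000000000000000000000000000000000000001fffffffffffffffffffffffffffffffe0000000000000000000000000000000000003fffffffffffffffc0000000000000003fffffffffffffffc000000000000000000007fffffff800000007fffffff800000007fffffff800000007fffffff8000000070000ffff0000ffff0000ffff0000ffff0000ffff0000ffff0000ffff0000ffff00001fe01fe01fe01fe01fe01fe01fe01fe01fe01fe01fe01fe01fe01fe01fe01fe01fe003c3c3c3c3c3c3c3c3c3c3c3c3c3c3c3c3c3c3c3c3c3c3c3c3c3c3c3c3c3c3c3c3c3c2666666666666666666666666666666666666666666666666666666666666666666662aaaaaaaaaaaaaaaaaaaaaaaaaaaaaaaaaaaaaaaaaaaaaaaaaaaaaaaaaaaaaaaaaaaa0000000000000000000000000000000000000000000000000000000000000000000020000008000000000000000000000000000000000000000000000000000000000000000000000000000000000000000000000000000000000000000000000080000000000000000000000000000000000000000000000000002000000000000000000000000000000000000000000000000000000000000000000000000000000000000000000000000400000000000000000000000000000000000000000000000100000000000000000000000000000000000000000000000000000000000000000000000000000000000000800000000000000000000000000000000000000000000000000000000000000000000004)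

theorem t_T71_s8_F : Frame 275 (grp 275 t_E0) 8 17 t_T71_s8_O 1 1 :=
  IsBase.frame t_T71_s8.isBase (by decide +kernel)

noncomputable def t_T71_s7_O : ℕ := (nat_lit 0x7a039c332812cec80faa341c5c1d049a26348ad213f000000080000010000000000010a98859124da0007c0298282438496c18284e210c01fa7b9fcfe8e7cdc00000000003844108271e5769be54797976a9f72d86460c81d3a01f8c779a92200447ef7fe0000044cade6461b3b2fb754e0501e9c1634e174f8e381203eeec8861bf9880edb003fa0036bc1b89571e750f0a573f07b478018bbf02b73aae507b605e00b5c0e51f41f0782e030655542e222c024fe778fcccb270d3aa2ca22fd1ad9ca3893c17271a735d70ccc7305efecb9ba43c548a56bf72c432dd122be54900cd8b295705575c989a8d524d1554d500000000000000000000000000000000000000000000000000000000000000000000040000010000000000000000000000000000000000000000000000000000000000000000000000000000000000000000000000000000000000000000000000100000000000000000000000000000000000000000000000000004000000000000000000000000000000000000000000000000000000000000000000000000000000000000000000000000800000000000000000000000000000000000000000000000200000000000000000000000000000000000000000000000000000000000000000000000000000000000001000)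

theorem t_T71_s7_F : Frame 275 (grp 275 t_E0) 7 14 t_T71_s7_O 0 1 :=
  Stab.frame t_hn t_T71_s7 (by decide +kernel)

noncomputable def t_T71_s6_O : ℕ := (nat_lit 0x1000000000000000000000000000000000000000000000000000000340fee01a483a25257c52faff985464e336bfc38304dc962d44b8c88beedb00124000ec83c45b96fade3a0f8a301b2815077e842e29fe8880af1862ccf02c1320afbbd8006381a44d966da0243e58282c60ec436988a06aa79da47603b3cf7a478cfc956ecc5c044aba62fe1b8f6690ceb1e881438daf499dc15bcacba590702a851245e4b83f24ae60c39a070a37ce2809ce3fb525e63925e0a8a7f16c608f618653d44c2a2d5cce7545aa00000000000000000000000000000000000000000000000000000000000000000000080000020000000000000000000000000000000000000000000000000000000000000000000000000000000000000000000000000000000000000000000000200000000000000000000000000000000000000000000000000008000000000000000000000000000000000000000000000000000000000000000000000000000000000000000000000001000000000000000000000000000000000000000000000000400000000000000000000)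

theorem t_T71_s6_F : Frame 275 (grp 275 t_E0) 6 12 t_T71_s6_O 0 1 :=
  Stab.frame t_hn t_T71_s6 (by decide +kernel)

noncomputable def t_T71_s5_O : ℕ := (nat_lit 0x1000000000000000000000000000000000000000000008000000000000000000000000000000004000000000000000000000000000000410000200000100000000000004000100080002000000000200000000000008000024000000000000004000000000004000000800000000040000088000000000000000000000000000004040008800000800000000000c00000010000004000000000000000004000000000000000000068000000001000000100400000000401000000000000002201800000000000000000000000000000000080400001000000000c00000000000008024008000000100000000000000000400000000000000000000002440000000000000000002080000000000040020800000000000080040002000000000001000002000000000000000020000000000002200000000008000002000080000020000008001000000000080000002020000000000200000000000008000000008000000001008040080000000001001400000000000060200001000000000000000000080100020000000000000000400000080003000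00000000200400000800000801000100000020800000050806000400001a04201000000020000840000100040040000000000000000000000202000000400008000280100000200010040008024000020040000a02000000000000000200800000000000080018000000000008204000800802900140220000800000008010000000888400000000100100022230000200000400000000010002000100001080000000030002400000000102000000010001000000200001100080401004100000401000800000040000010080000820010001100000800010000000410010000082003000210010000200802080081200020000000400008000000202000000000000002020220200000000000402400000000500000000200040040001000020000000004013000000000000000000000000000000000000000000000000000000000000000000000100000040000000000000000000000000000000000000000000000000000000000000000000000000000000000000000000000000000000000000000000000400000000000000000000000000000000000000000000000000010000000000000000000000000000000000000000000000000000000000000000000000000000000000000000000000002)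

theorem t_T71_s5_F : Frame 275 (grp 275 t_E0) 5 26 t_T71_s5_O 0 1 :=
  Stab.frame t_hn t_T71_s5 (by decide +kernel)

noncomputable def t_T71_s4_O : ℕ := (nat_lit 0x100000000000000000000000000000000050806040400001a042010000006a000084001010004104400000000401000000000000010044100002000005000c0000000004041120084006014800a01300004000000040080000004442000002020804c0011158000100000260000000808001200080000840000000018021a000000000814002080080008000009004008a00402008020900002008005100c0020000008040000410008000880000404028000080208008060041001800108409200500401048040900010000000220004000000101000000000122001008008004224000000080000004070100000804000092800000010064000088020010420320200000000000403400000000500110000200040440001100024000001004013400090100000024000400115008000010010802000401200401002000450100000080400000000000000000000000000000000000000000000000000000000000000000000200000080000000000000000000000000000000000000000000000000000000000000000000000000000000000000000000000000000000000000000000000800000000000000000000000000000000000000000000000000020000000000000000000000000000)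

theorem t_T71_s4_F : Frame 275 (grp 275 t_E0) 4 14 t_T71_s4_O 0 1 :=
  Stab.frame t_hn t_T71_s4 (by decide +kernel)

noncomputable def t_T71_s3_O : ℕ := (nat_lit 0x110000000000000000000000000000000000080220800010000028006000000000202089004200300a400500980002000000020040000002221000001010402600088ac00008000013000000040400090004000042000000000c010d00000000040a0010400400040000048020045002010040104800100100084480000001000000080e02000010080001250000000200c800011004002080200d085704c402001a04a050000416a08008c80101404438440080208048160041001812128409204d0048106aa4190001200210062008424008030140008a0201220110800000000000000000000000000000000000000000000000000000000000000000000400000100000000000000000000000000000000000000000000000000000000000000000000000000000000000000000000000000000000000000000000001000000000000)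

theorem t_T71_s3_F : Frame 275 (grp 275 t_E0) 3 10 t_T71_s3_O 0 1 :=
  Stab.frame t_hn t_T71_s3 (by decide +kernel)

noncomputable def t_T71_s2_O : ℕ := (nat_lit 0x1080000000030043400000000102800410010003200001200801140090401004120000401a11ae4d980402340945a00c082d41001594132288c876894900e113902c40820030642d081240de429020d74a3a04c24115780c411084827006028081940522448221000000000000000000000000000000000000000000000000000000000000000000000800000200000000000000000000000000000000000000000000000000000000000000)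

theorem t_T71_s2_F : Frame 275 (grp 275 t_E0) 2 5 t_T71_s2_O 0 1 :=
  Stab.frame t_hn t_T71_s2 (by decide +kernel)

noncomputable def t_T71_s1_O : ℕ := (nat_lit 0x9406856b937e031a8d0251680b160b70c00d651dc8a23b1de25ae03cc6e48b30b080000000000000000000000000000000000000000000000000000000000000000000001)

theorem t_T71_s1_F : Frame 275 (grp 275 t_E0) 1 2 t_T71_s1_O 0 1 :=
  Stab.frame t_hn t_T71_s1 (by decide +kernel)

noncomputable def cx_cnt_L : List ℕ := [1, 2, t_T71_s1_O, 0, 0, 2, 5, t_T71_s2_O, 0, 0, 3, 10, t_T71_s3_O, 0, 0, 4, 14, t_T71_s4_O, 0, 0, 5, 26, t_T71_s5_O, 0, 0, 6, 12, t_T71_s6_O, 0, 0, 7, 14, t_T71_s7_O, 0, 0, 8, 17, t_T71_s8_O, 1, 0]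

theorem cx_cnt_P : Prob 275 9 (grp 275 t_E0) cx_cnt_EG [t_g72] [t_g72] cx_K cx_cnt_L 0 0 :=
  Sym.prob t_hn t_hk cx_sym cx_cnt_EG_ok (grp_cons_le t_g4_t_T71 (grp_cons_le t_g1_t_T71 (grp_cons_le t_g2_t_T71 (grp_cons_le t_g3_t_T71 (grp_cons_le t_g11_t_T71 (grp_cons_le t_g7_t_T71 (grp_cons_le t_g8_t_T71 (grp_cons_le t_g18_t_T71 (grp_cons_le t_g14_t_T71 (grp_cons_le t_g15_t_T71 (grp_cons_le t_g21_t_T71 (grp_cons_le t_g22_t_T71 (grp_cons_le t_g23_t_T71 (grp_cons_le t_g33_t_T71 (grp_cons_le t_g28_t_T71 (grp_cons_le t_g29_t_T71 (grp_cons_le t_g30_t_T71 (grp_cons_le t_g36_t_T71 (grp_cons_le t_g46_t_T71 (grp_cons_le t_g42_t_T71 (grp_cons_le t_g37_t_T71 (grp_cons_le t_g43_t_T71 (grp_cons_le t_g49_t_T71 (grp_nil_le _)))))))))))))))))))))))) (Frames.cons t_T71_s1_F (Frames.cons t_T71_s2_F (Frames.cons t_T71_s3_F (Frames.cons t_T71_s4_F (Frames.cons t_T71_s5_F (Frames.cons t_T71_s6_F (Frames.cons t_T71_s7_F (Frames.cons t_T71_s8_F Frames.nil)))))))) (okE_cons.2 ⟨t_g72_ok, okE_nil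 _⟩) _

noncomputable def cx_cnt_t : BT := (BT.fix (nat_lit 1) (BT.br (nat_lit 0) (nat_lit 0) [nat_lit 1, nat_lit 3] (BT.kid (nat_lit 0) (nat_lit 11664) (BT.dif (nat_lit 1) (nat_lit 0) (BT.br (nat_lit 0) (nat_lit 8) [nat_lit 3, nat_lit 5] (BT.kid (nat_lit 8) (nat_lit 2916) (BT.frm (nat_lit 1) (nat_lit 658972) (nat_lit 658972) [nat_lit 0, nat_lit 2] (BT.pln (nat_lit 0) (nat_lit 4) (BT.and (nat_lit 5) (nat_lit 0) (BT.br (nat_lit 0) (nat_lit 62) [nat_lit 5] (BT.kid (nat_lit 62) (nat_lit 972) (BT.dif (nat_lit 1) (nat_lit 0) (BT.br (nat_lit 0) (nat_lit 108) [nat_lit 7] (BT.kid (nat_lit 108) (nat_lit 486) (BT.frm (nat_lit 0) (nat_lit 0) (nat_lit 0) [nat_lit 8] (BT.pln (nat_lit 0) (nat_lit 1) (BT.dif (nat_lit 14) (nat_lit 0) (BT.pln (nat_lit 8) (nat_lit 2) (BT.dif (nat_lit 1) (nat_lit 0) (BT.frm (nat_lit 2) (nat_lit 658972) (nat_lit 658972) [nat_lit 7, nat_lit 11, nat_lit 13] (BT.pln (nat_lit 0) (nat_lit 5) (BT.dif (nat_lit 2) (nat_lit 0) (BT.frm (nat_lit 3) (nat_lit 0x150a0e1c)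 (nat_lit 0x150a0e1c) [nat_lit 8, nat_lit 10, nat_lit 14, nat_lit 16] (BT.pln (nat_lit 0) (nat_lit 5) (BT.dif (nat_lit 2) (nat_lit 0) (BT.dif (nat_lit 0) (nat_lit 20) (BT.br (nat_lit 0) (nat_lit 9) [nat_lit 9, nat_lit 11, nat_lit 15] (BT.kid (nat_lit 9) (nat_lit 18) (BT.frm (nat_lit 4) (nat_lit 0x1f27150a0e1c) (nat_lit 0x1f27150a0e1c) [nat_lit 0, nat_lit 13, nat_lit 15, nat_lit 19, nat_lit 21] (BT.pln (nat_lit 0) (nat_lit 13) (BT.and (nat_lit 4) (nat_lit 0) (BT.img (nat_lit 1) (nat_lit 3) (BT.frm (nat_lit 5) (nat_lit 0x1f27150a0e1c) (nat_lit 0x1f27150a0e1c) [nat_lit 0, nat_lit 4, nat_lit 17, nat_lit 19, nat_lit 23, nat_lit 25] (BT.pln (nat_lit 0) (nat_lit 7) (BT.and (nat_lit 3) (nat_lit 0) (BT.br (nat_lit 0) (nat_lit 262) [nat_lit 13, nat_lit 15] (BT.kid (nat_lit 262) (nat_lit 3) (BT.dif (nat_lit 17) (nat_lit 2) (BT.pln (nat_lit 4) (nat_lit 10) (BT.dif (nat_lit 1) (nat_lit 0) (BT.pln (nat_lit 6) (nat_lit 6) (BT.dif (nat_lit 1) (nat_lit 0) (BT.frm (nat_lit 6) (nat_lit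 0x251f27150a0e1c) (nat_lit 0x251f27150a0e1c) [nat_lit 5, nat_lit 9, nat_lit 13, nat_lit 26, nat_lit 28, nat_lit 32, nat_lit 34] (BT.pln (nat_lit 0) (nat_lit 7) (BT.dif (nat_lit 2) (nat_lit 0) (BT.pln (nat_lit 2) (nat_lit 10) (BT.dif (nat_lit 1) (nat_lit 0) (BT.br (nat_lit 0) (nat_lit 95) [nat_lit 17] (BT.kid (nat_lit 95) (nat_lit 1) (BT.one (nat_lit 7) (nat_lit 0x2d251f27150a0e1c) (nat_lit 0x2d251f27150a0e1c) [nat_lit 0, nat_lit 11, nat_lit 15, nat_lit 19, nat_lit 32, nat_lit 34, nat_lit 38, nat_lit 40]) BT.nil)))))))))))) BT.nil))))))))) BT.nil)))))))))))))) BT.nil))) BT.nil))))) BT.nil))) BT.nil)))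

theorem cx_cnt : Cnt 275 (grp 275 t_E0) [t_g72] [t_g72] 0 0 0 0 58320 :=
  BT.sound cx_cnt_P Known.nil (t := cx_cnt_t) (d := 0) (by decide +kernel)

theorem cx_ge : 58320 ≤ Nat.card (grp 275 cx_K) :=
  Ch.le_card_grp (k := 9) (L := (lab 275 9)) t_hn cx_K_ok (c := (Ch.cons (nat_lit 0) [nat_lit 1] (Ch.cons (nat_lit 8) [nat_lit 3] (Ch.cons (nat_lit 62) [nat_lit 5] (Ch.cons (nat_lit 108) [nat_lit 7] (Ch.cons (nat_lit 9) [nat_lit 9, nat_lit 11] (Ch.cons (nat_lit 262) [nat_lit 13, nat_lit 15] (Ch.cons (nat_lit 95) [nat_lit 17] Ch.nil)))))))) (by decide +kernel)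

theorem cx_eq : (grp 275 t_E0) ⊓ Subgroup.centralizer {Net.toPerm 275 t_g72} = grp 275 cx_K :=
  cent_eq cx_sym cx_cnt cx_ge

theorem cx_card : Nat.card ↥((grp 275 t_E0) ⊓ Subgroup.centralizer {Net.toPerm 275 t_g72}) = 58320 :=
  card_cent cx_sym cx_cnt cx_ge

theorem t_le101 : grp 275 xE ≤ grp 275 t_E0 :=
  grp_le_of_memB t_hn t_hk t_E0_ok xE_ok (ws := [nat_lit 0x27231f150f1e0d10, nat_lit 0x2e23212110160e0e, nat_lit 0x2d26231b2715102209100c, nat_lit 0x25231c1509, nat_lit 0x2e2527231d2410100a0d1c, nat_lit 0x26231b15101309090d]) (by decide +kernel)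

theorem xE_le : grp 275 xE ≤ (grp 275 t_E0) :=
  (t_le101.trans t_T71_s0.le)

theorem t_le102 : grp 275 xL ≤ grp 275 t_E0 :=
  grp_le_of_memB t_hn t_hk t_E0_ok xL_ok (ws := [nat_lit 0x26231d150f1b0a0c12020e07, nat_lit 0x2e262321150f160b16020e07, nat_lit 0x2d26231e150f1e0d10]) (by decide +kernel)

theorem xL_le : grp 275 xL ≤ (grp 275 t_E0) :=
  (t_le102.trans t_T71_s0.le)

theorem t_le103 : grp 275 xJ ≤ grp 275 t_E0 :=
  grp_le_of_memB t_hn t_hk t_E0_ok xJ_ok (ws := [nat_lit 0x2d251f27150d1b, nat_lit 0x271d1d150f230a0e020e07]) (by decide +kernel)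

theorem xJ_le : grp 275 xJ ≤ (grp 275 t_E0) :=
  (t_le103.trans t_T71_s0.le)

theorem h0 : pB 275 9 xE 0 1 = false :=
  by decide +kernel

theorem h1 : ∀ j, pB 275 9 xE j 3 = true :=
  by decide +kernel

theorem h2 : ∀ i j : Fin 6, cB 275 9 xE (getN xE i) j (co9 (g9 i * g9 j * (g9 i)⁻¹)) = true :=
  by decide +kernel

theorem h3 : ∀ i : Fin (Lg 1).length, ∀ j, cB 275 9 xE (getN xL i) j (co9 (l9f ((Lg 1).get i) (g9 j))) = true :=
  by decide +kernel

theorem h4 : ∀ j < 4, cB 275 9 xE t_g99 j (co9 (wJ (g9 j))) = true :=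
  by decide +kernel

theorem h5 : ∀ j ≠ 3, cB 275 9 xE t_g100 j (co9 (qe (sg 1 (wv (g9 j))) (![1, 0, 2, 0, 2, 1] j))) = true :=
  by decide +kernel

theorem raw3_1 : Raw3 1 :=
  raw3_of t_hn t_hk 1 (G := (grp 275 t_E0)) ![1, 0, 2, 0, 2, 1] xE_ok xL_ok t_g99_ok t_g100_ok xE_le xL_le
    (xJ_le (toPerm_mem_grp (E := xJ) (List.Mem.head _))) (xJ_le (toPerm_mem_grp (E := xJ) (List.Mem.tail _ (List.Mem.head _))))
    (by rw [t_card0]; decide) cx_card.le h0 h1 h2 h3 h4 h5

end Cfsg.Agent.H76.U4Raw1
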